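import Cfsg.Agent.Omega.PushUp.Last

/-!
# SQ1: `b = 1` implies the matching of the blocks

Input: `k` blocks `L i` over the same group `B` (index type `ι`), each with the pushing up data
`Dat A T (L i) B (Q i) (V i) Z (D i)`, permuted transitively by `T`; `s ∈ A ∖ T`.
Output: for every `i` there is exactly one `j` such that `V i` and `s (V j) s⁻¹` do not commute;
`B = P P^s` where `P = C_B(V i : i)` and `P`, `P^s` are elementary abelian, `P ∩ P^s = Z = Z(B)`,
`P` is generated by the `V i`.  Involutions of `B` and elementary abelian subgroups of `B`.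

(blueprints/OMEGA-SQ1-helper603.md, section 4; bb OMEGA #11812 (4.1)-(4.3).)
-/

set_option autoImplicit false

namespace Cfsg.Agent.Omega.SQ1.Match

open Cfsg.Agent.MinSimple.PushUp Cfsg.Agent.Omega.PushUp

variable {G : Type*} [Group G] {ι : Type*}

/-- input of the matching -/
structure MIn (A T B Z P : Subgroup G) (s : G) (L Q V D : ι → Subgroup G) : Prop where
  dat : ∀ i, Dat A T (L i) B (Q i) (V i) Z (D i)
  sA : s ∈ A
  sT : s ∉ T
  Pmem : ∀ x, x ∈ P ↔ x ∈ B ∧ ∀ i, x ∈ Q i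
  comm : ∀ i j, ∀ v ∈ V i, ∀ w ∈ V j, v * w = w * v
  perm : ∀ t ∈ T, ∀ i, ∃ j, (∀ v ∈ V i, t * v * t⁻¹ ∈ V j) ∧ ∀ d ∈ D i, t * d * t⁻¹ ∈ D j
  trans : ∀ i j, ∃ t ∈ T, ∀ d ∈ D i, t * d * t⁻¹ ∈ D j
  Dinj : ∀ i j, D i ≤ D j → i = j
  LP : ∀ i, ∀ l ∈ L i, ∀ x ∈ P, l * x * l⁻¹ ∈ P
  cross : ∀ i j, i ≠ j → ∀ l ∈ L j, ∀ d ∈ D i, l * d = d * l

/-- the blocks `i` and `j^s` are matched -/
def Par (s : G) (V : ι → Subgroup G) (i j : ι) : Prop :=
  ∃ v ∈ V i, ∃ u ∈ V j, v * cj s u ≠ cj s u * v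

theorem closure_comm2 {S S' : Set G} {F : Subgroup G} (hSF : ∀ s ∈ S, ∀ f ∈ F, s * f = f * s)
    (hSF' : ∀ s ∈ S', ∀ f ∈ F, s * f = f * s)
    (hS : ∀ s ∈ S, ∀ t ∈ S', ∃ f ∈ F, cj s t = f * t) :
    ∀ x ∈ Subgroup.closure S, ∀ y ∈ Subgroup.closure S', ∃ f ∈ F, cj x y = f * y := by
  have h1 : ∀ s ∈ S, ∀ y ∈ Subgroup.closure S', ∃ f ∈ F, cj s y = f * y := fun s hs =>
    closure_left hSF' (hS s hs)
  intro x hx y hy
  let K : Subgroup G :=
    { carrier := {x | (∀ f ∈ F, x * f = f * x) ∧ ∃ f ∈ F, cj x y = f * y}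
      one_mem' := ⟨fun f _ => by simp, 1, F.one_mem, by simp [cj]⟩
      mul_mem' := by
        rintro a b ⟨ha, f₁, hf₁, h₁⟩ ⟨hb, f₂, hf₂, h₂⟩
        refine ⟨fun f hf => ?_, f₂ * f₁, F.mul_mem hf₂ hf₁, ?_⟩
        · rw [mul_assoc, hb f hf, ← mul_assoc, ha f hf, mul_assoc]
        · rw [cj_mul, h₂, cj_prod, h₁, cj_eq_self.2 (ha f₂ hf₂), mul_assoc]
      inv_mem' := by
        rintro a ⟨ha, f, hf, h₁⟩
        have ha' : ∀ f ∈ F, a⁻¹ * f = f * a⁻¹ := by
          intro f hf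
          have : Commute a⁻¹ f := Commute.inv_left (ha f hf)
          exact this
        refine ⟨ha', f⁻¹, F.inv_mem hf, ?_⟩
        have h2 := congrArg (cj a⁻¹) h₁
        rw [cj_inv_cj, cj_prod, cj_eq_self.2 (ha' f hf)] at h2
        rw [eq_inv_mul_iff_mul_eq, ← h2] }
  have hle : Subgroup.closure S ≤ K := by
    rw [Subgroup.closure_le]
    intro s hs
    exact ⟨hSF s hs, h1 s hs y hy⟩
  exact (hle hx).2

/-- everything outside the index `i` -/
def Out (V : ι → Subgroup G) (i : ι) : Subgroup G :=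
  Subgroup.closure (⋃ j ∈ {j | j ≠ i}, (V j : Set G))

theorem mem_out_gen {V : ι → Subgroup G} {i : ι} {x : G} :
    x ∈ (⋃ j ∈ {j | j ≠ i}, (V j : Set G)) ↔ ∃ j, j ≠ i ∧ x ∈ V j := by
  simp only [Set.mem_iUnion, Set.mem_ofPred_eq, SetLike.mem_coe, exists_prop]

theorem out_le {V : ι → Subgroup G} {i : ι} : Out V i ≤ ⨆ j, V j := by
  rw [Out, Subgroup.closure_le]
  intro x hx
  obtain ⟨j, -, hj⟩ := mem_out_gen.1 hx
  exact Subgroup.mem_iSup_of_mem j hj

variable {A T B Z P : Subgroup G} {s : G} {L Q V D : ι → Subgroup G}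

namespace MIn

variable (h : MIn A T B Z P s L Q V D)

include h

theorem TA (i : ι) : T ≤ A := (h.dat i).TA

theorem perm_eq {t : G} (ht : t ∈ T) {i j : ι} (hij : ∀ d ∈ D i, t * d * t⁻¹ ∈ D j) :
    (∀ v ∈ V i, t * v * t⁻¹ ∈ V j) ∧ (∀ v ∈ V j, t⁻¹ * v * t ∈ V i) ∧
      (∀ d ∈ D j, t⁻¹ * d * t ∈ D i) := by
  obtain ⟨i', h1, h2⟩ := h.perm t⁻¹ (T.inv_mem ht) j
  have hi : i = i' := by
    apply h.Dinj
    intro d hd
    have := h2 _ (hij d hd)
    simpa [mul_assoc] using this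
  subst hi
  obtain ⟨j', k1, k2⟩ := h.perm t ht i
  have hj : j = j' := by
    apply h.Dinj
    intro d hd
    have := k2 _ (h2 d hd)
    simpa [mul_assoc] using this
  subst hj
  exact ⟨k1, fun v hv => by simpa using h1 v hv, fun d hd => by simpa using h2 d hd⟩

/-- the data with `s⁻¹` instead of `s` -/
theorem inv : MIn A T B Z P s⁻¹ L Q V D :=
  ⟨h.dat, A.inv_mem h.sA, fun hs => h.sT (by simpa using T.inv_mem hs), h.Pmem, h.comm, h.perm,
    h.trans, h.Dinj, h.LP, h.cross⟩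

omit h in
theorem par_symm {i j : ι} (hp : Par s V i j) : Par s⁻¹ V j i := by
  obtain ⟨v, hv, u, hu, hne⟩ := hp
  refine ⟨u, hu, v, hv, fun he => hne ?_⟩
  have := (cj_comm (g := s)).2 he
  rw [cj_cj_inv] at this
  exact this.symm

omit h in
theorem par_symm' {i j : ι} (hp : Par s⁻¹ V j i) : Par s V i j := by
  obtain ⟨v, hv, u, hu, hne⟩ := hp
  refine ⟨u, hu, v, hv, fun he => hne ?_⟩
  have := (cj_comm (g := s⁻¹)).2 he
  rw [cj_inv_cj] at this
  exact this.symm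

/-- translation of a matched pair to the block `i` -/
theorem par_word {i j : ι} (hp : Par s V i j) :
    ∃ t ∈ T, (∀ v ∈ V i, cj t v ∈ V j) ∧ (∀ v ∈ V j, cj t⁻¹ v ∈ V i) ∧
      (∀ d ∈ D i, cj t d ∈ D j) ∧ (∀ d ∈ D j, cj t⁻¹ d ∈ D i) ∧
      ∃ v ∈ V i, ∃ u ∈ V i, v * ((s * t) * u * (s * t)⁻¹) ≠ ((s * t) * u * (s * t)⁻¹) * v := by
  obtain ⟨t, ht, h1⟩ := h.trans i j
  obtain ⟨k1, k2, k3⟩ := h.perm_eq ht h1
  obtain ⟨v, hv, u, hu, hne⟩ := hp
  refine ⟨t, ht, k1, fun v hv => by simpa [cj] using k2 v hv, h1,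
    fun v hv => by simpa [cj] using k3 v hv, v, hv, cj t⁻¹ u, by simpa [cj] using k2 u hu, ?_⟩
  have e : (s * t) * (cj t⁻¹ u) * (s * t)⁻¹ = cj s u := by simp [cj, mul_assoc]
  rw [e]; exact hne

theorem par_D [Finite G] {i j : ι} (hp : Par s V i j) {d : G} (hd : d ∈ D j) : cj s d ∈ D i := by
  obtain ⟨t, ht, -, -, -, k4, v, hv, u, hu, hne⟩ := h.par_word hp
  have h1 := (h.dat i).noncomm_D (A.mul_mem h.sA (h.TA i ht)) hv hu hne (k4 d hd)
  have e : (s * t) * (cj t⁻¹ d) * (s * t)⁻¹ = cj s d := by simp [cj, mul_assoc]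
  rwa [e] at h1

theorem par_D' [Finite G] {i j : ι} (hp : Par s V i j) {d : G} (hd : d ∈ D i) :
    cj s⁻¹ d ∈ D j := h.inv.par_D (par_symm hp) hd

theorem par_unique [Finite G] {i j j' : ι} (hp : Par s V i j) (hp' : Par s V i j') : j = j' := by
  apply h.Dinj
  intro d hd
  have := h.par_D' hp' (h.par_D hp hd)
  rwa [cj_inv_cj] at this

theorem par_inj [Finite G] {i i' j : ι} (hp : Par s V i j) (hp' : Par s V i' j) : i = i' := by
  apply h.Dinj
  intro d hd
  have := h.par_D hp' (h.par_D' hp hd)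
  rwa [cj_cj_inv] at this

theorem par_exists [Finite G] (i : ι) : ∃ j, Par s V i j := by
  obtain ⟨t, ht, v, hv, u, hu, hne⟩ := (h.dat i).exists_noncommuting
  have htT : t ∉ T := by
    intro htT
    obtain ⟨j, h1, -⟩ := h.perm t htT i
    exact hne (h.comm i j v hv _ (h1 u hu))
  have ht' : s⁻¹ * t ∈ T := (h.dat i).idx s h.sA t ht h.sT htT
  obtain ⟨j, h1, -⟩ := h.perm _ ht' i
  refine ⟨j, v, hv, _, h1 u hu, ?_⟩
  have e : cj s (s⁻¹ * t * u * (s⁻¹ * t)⁻¹) = t * u * t⁻¹ := by simp [cj, mul_assoc]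
  rw [e]; exact hne

theorem par_exists' [Finite G] (j : ι) : ∃ i, Par s V i j := by
  obtain ⟨i, hi⟩ := h.inv.par_exists j
  exact ⟨i, par_symm' hi⟩

/-- `B = (V j)^s * Q i` for matched `i`, `j` -/
theorem par_B [Finite G] {i j : ι} (hp : Par s V i j) {b : G} (hb : b ∈ B) :
    ∃ v ∈ V j, ∃ q ∈ Q i, b = cj s v * q := by
  obtain ⟨t, ht, k1, -, -, -, v, hv, u, hu, hne⟩ := h.par_word hp
  obtain ⟨v', hv', q, hq, he⟩ :=
    (h.dat i).noncomm_B (A.mul_mem h.sA (h.TA i ht)) hv hu hne hb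
  refine ⟨cj t v', k1 v' hv', q, hq, ?_⟩
  rw [he]; simp [cj, mul_assoc]

theorem par_Z {i j : ι} (hp : Par s V i j) {x : G} (hx : x ∈ V i)
    (hxc : ∀ u ∈ V j, x * cj s u = cj s u * x) : x ∈ Z := by
  obtain ⟨t, ht, k1, -, -, -, v, hv, u, hu, hne⟩ := h.par_word hp
  apply (h.dat i).noncomm_Z (A.mul_mem h.sA (h.TA i ht)) hv hu hne hx
  intro u hu
  have := hxc _ (k1 u hu)
  simpa [cj, mul_assoc] using this

/-- commutators of matched blocks lie in `D i` -/
theorem comm_D {i : ι} {v : G} (hv : v ∈ V i) {b : G} (hb : b ∈ B) : ∃ d ∈ D i, cj b v = d * v :=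
  (h.dat i).commB hv hb

omit h in
theorem not_par {i j : ι} (hp : ¬ Par s V i j) {v u : G} (hv : v ∈ V i) (hu : u ∈ V j) :
    v * cj s u = cj s u * v := by
  by_contra hne
  exact hp ⟨v, hv, u, hu, hne⟩

theorem cjsB {b : G} (i : ι) (hb : b ∈ B) : cj s b ∈ B := (h.dat i).cjB h.sA hb

theorem cjsB' {b : G} (i : ι) (hb : b ∈ B) : cj s⁻¹ b ∈ B := (h.dat i).cjB (A.inv_mem h.sA) hb

theorem VP {i : ι} {v : G} (hv : v ∈ V i) : v ∈ P := by
  rw [h.Pmem]
  refine ⟨(h.dat i).VB hv, fun j => (h.dat j).QcV v ((h.dat i).VB hv) fun w hw => h.comm i j v hv w hw⟩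

theorem PV {i : ι} {x v : G} (hx : x ∈ P) (hv : v ∈ V i) : x * v = v * x :=
  (h.dat i).VcQ x (((h.Pmem x).1 hx).2 i) v hv

theorem Y_le : (⨆ i, V i) ≤ P := iSup_le fun _ _ hv => h.VP hv

theorem PY {x y : G} (hx : x ∈ P) (hy : y ∈ ⨆ i, V i) : x * y = y * x := by
  have hle : (⨆ i, V i) ≤ Subgroup.centralizer {x} := by
    apply iSup_le
    intro i v hv
    rw [Subgroup.mem_centralizer_iff]
    intro z hz
    rw [Set.mem_singleton_iff] at hz
    rw [hz]; exact h.PV hx hv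
  exact Subgroup.mem_centralizer_iff.1 (hle hy) x rfl

theorem Ysq {y : G} (hy : y ∈ ⨆ i, V i) : y * y = 1 := by
  rw [Subgroup.iSup_eq_closure] at hy
  have h1 := closure_sq (S := ⋃ i, (V i : Set G)) (F := (⊥ : Subgroup G))
    (fun s _ f hf => by rw [Subgroup.mem_bot.1 hf]; simp)
    (by
      intro s hs t ht
      obtain ⟨i, hi⟩ := Set.mem_iUnion.1 hs
      obtain ⟨j, hj⟩ := Set.mem_iUnion.1 ht
      refine ⟨1, Subgroup.one_mem _, ?_⟩
      rw [one_mul]
      exact cj_eq_self.2 (h.comm i j s hi t hj))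
    (by
      intro s hs
      obtain ⟨i, hi⟩ := Set.mem_iUnion.1 hs
      rw [(h.dat i).Vsq s hi]
      exact Subgroup.one_mem _) y hy
  simpa using h1

/-- `B = Y^s P` -/
theorem cover [Finite ι] [Finite G] {b : G} (hb : b ∈ B) :
    ∃ y ∈ ⨆ i, V i, ∃ p ∈ P, b = cj s y * p := by
  classical
  have := Fintype.ofFinite ι
  have key : ∀ F : Finset ι, ∃ y ∈ ⨆ i, V i, (cj s y)⁻¹ * b ∈ B ∧ ∀ i ∈ F, (cj s y)⁻¹ * b ∈ Q i := by
    intro F
    induction F using Finset.induction_on with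
    | empty => exact ⟨1, Subgroup.one_mem _, by simpa [cj] using hb, by simp⟩
    | insert i F hi ih =>
      obtain ⟨y, hy, hyB, hyQ⟩ := ih
      obtain ⟨j, hj⟩ := h.par_exists i
      obtain ⟨v, hv, q, hq, he⟩ := h.par_B hj hyB
      have hvB : cj s v ∈ B := h.cjsB i ((h.dat j).VB hv)
      have e : (cj s (y * v))⁻¹ * b = (cj s v)⁻¹ * ((cj s y)⁻¹ * b) := by
        rw [cj_prod]; simp [mul_assoc]
      refine ⟨y * v, Subgroup.mul_mem _ hy (Subgroup.mem_iSup_of_mem j hv), ?_, ?_⟩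
      · rw [e]; exact B.mul_mem (B.inv_mem hvB) hyB
      · intro i' hi'
        rw [e]
        rw [Finset.mem_insert] at hi'
        by_cases hii : i' = i
        · subst hii
          rw [he]; simpa using hq
        · have hi'F : i' ∈ F := by
            rcases hi' with h1 | h1
            · exact absurd h1 hii
            · exact h1
          apply (Q i').mul_mem _ (hyQ i' hi'F)
          apply (Q i').inv_mem
          apply (h.dat i').QcV _ hvB
          intro w hw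
          have hnp : ¬ Par s V i' j := fun hp => hii (h.par_inj hp hj)
          exact (not_par hnp hw hv).symm
  obtain ⟨y, hy, hyB, hyQ⟩ := key Finset.univ
  exact ⟨y, hy, (cj s y)⁻¹ * b, (h.Pmem _).2 ⟨hyB, fun i => hyQ i (Finset.mem_univ i)⟩, by simp⟩

theorem cover' [Finite ι] [Finite G] {b : G} (i₀ : ι) (hb : b ∈ B) :
    ∃ y ∈ ⨆ i, V i, ∃ p ∈ P, b = y * cj s p := by
  obtain ⟨y, hy, p, hp, he⟩ := h.inv.cover (h.cjsB' i₀ hb)
  refine ⟨y, hy, p, hp, ?_⟩
  have := congrArg (cj s) he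
  rw [cj_cj_inv, cj_prod, cj_cj_inv] at this
  exact this

theorem T_P {t x : G} (i₀ : ι) (ht : t ∈ T) (hx : x ∈ P) : cj t x ∈ P := by
  have hxB := ((h.Pmem x).1 hx).1
  have hB : cj t x ∈ B := (h.dat i₀).cjB (h.TA i₀ ht) hxB
  rw [h.Pmem]
  refine ⟨hB, fun i => (h.dat i).QcV _ hB fun v hv => ?_⟩
  obtain ⟨j, h1, -⟩ := h.perm t⁻¹ (T.inv_mem ht) i
  have h2 := h.PV hx (h1 v hv)
  have h3 := (cj_comm (g := t)).2 h2
  have e : cj t (t⁻¹ * v * t⁻¹⁻¹) = v := by simp [cj, mul_assoc]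
  rwa [e] at h3

/-- squares of elements of `P` are conjugates of squares of elements of `P` -/
theorem sq_eq [Finite ι] [Finite G] (i₀ : ι) {x : G} (hx : x ∈ P) :
    ∃ p ∈ P, x * x = cj s (p * p) := by
  obtain ⟨y, hy, p, hp, he⟩ := h.cover' i₀ ((h.Pmem x).1 hx).1
  refine ⟨p, hp, ?_⟩
  have h1 : cj s p = y⁻¹ * x := by rw [he]; simp
  have h2 : Commute x y := h.PY hx hy
  rw [cj_prod, h1]
  have h3 : y * y = 1 := h.Ysq hy
  have h4 : y⁻¹ = y := inv_eq_of_mul_eq_one_left h3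
  rw [h4]
  calc x * x = y * y * (x * x) := by rw [h3, one_mul]
    _ = y * (y * x) * x := by simp [mul_assoc]
    _ = y * (x * y) * x := by rw [h2.eq]
    _ = y * x * (y * x) := by simp [mul_assoc]

/-- `P` is elementary abelian -/
theorem Psq [Finite ι] [Finite G] (i₀ : ι) {x : G} (hx : x ∈ P) : x * x = 1 := by
  let R : Subgroup G := Subgroup.closure {y | ∃ x ∈ P, y = x * x}
  have hRB : R ≤ B := by
    rw [Subgroup.closure_le]
    rintro y ⟨x, hx, rfl⟩
    exact B.mul_mem ((h.Pmem x).1 hx).1 ((h.Pmem x).1 hx).1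
  have hT : ∀ t ∈ T, ∀ r ∈ R, cj t r ∈ R := by
    intro t ht
    apply Data.closure_conj
    rintro y ⟨x, hx, rfl⟩
    exact Subgroup.subset_closure ⟨cj t x, h.T_P i₀ ht hx, cj_prod _ _ _⟩
  have hs : ∀ r ∈ R, cj s r ∈ R := by
    apply Data.closure_conj
    rintro y ⟨x, hx, rfl⟩
    obtain ⟨p, hp, he⟩ := h.inv.sq_eq i₀ hx
    refine Subgroup.subset_closure ⟨p, hp, ?_⟩
    rw [he, cj_cj_inv]
  have h1 : R = ⊥ := by
    apply (h.dat i₀).core R hRB
    · intro l hl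
      apply Data.closure_conj
      rintro y ⟨x, hx, rfl⟩
      exact Subgroup.subset_closure ⟨cj l x, h.LP i₀ l hl x hx, cj_prod _ _ _⟩
    · intro a ha r hr
      by_cases haT : a ∈ T
      · exact hT a haT r hr
      · have h2 : s⁻¹ * a ∈ T := (h.dat i₀).idx s h.sA a ha h.sT haT
        have h3 := hs _ (hT _ h2 r hr)
        have e : cj s (cj (s⁻¹ * a) r) = a * r * a⁻¹ := by simp [cj, mul_assoc]
        rwa [e] at h3
  have h2 : x * x ∈ R := Subgroup.subset_closure ⟨x, hx, rfl⟩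
  rw [h1] at h2
  simpa using h2

theorem Pcomm [Finite ι] [Finite G] (i₀ : ι) {x y : G} (hx : x ∈ P) (hy : y ∈ P) :
    x * y = y * x := by
  have h1 := h.Psq i₀ (P.mul_mem hx hy)
  have h2 := h.Psq i₀ hx
  have h3 := h.Psq i₀ hy
  have hx' : x⁻¹ = x := inv_eq_of_mul_eq_one_left h2
  have hy' : y⁻¹ = y := inv_eq_of_mul_eq_one_left h3
  have h4 : (x * y)⁻¹ = x * y := inv_eq_of_mul_eq_one_left h1
  rw [← h4, mul_inv_rev, hx', hy']

/-- `P ∩ P^s` is central in `B` -/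
theorem inter_central [Finite ι] [Finite G] (i₀ : ι) {x b : G} (hx : x ∈ P) (hxs : cj s⁻¹ x ∈ P)
    (hb : b ∈ B) : x * b = b * x := by
  obtain ⟨y, hy, p, hp, rfl⟩ := h.cover hb
  have h1 : Commute x p := h.Pcomm i₀ hx hp
  have h2 : Commute (cj s⁻¹ x) y := h.Pcomm i₀ hxs (h.Y_le hy)
  have h3 : Commute x (cj s y) := by
    have := (cj_comm (g := s)).2 h2.eq
    rwa [cj_cj_inv] at this
  exact (h3.mul_right h1).eq

/-- with `Z = Ω₁ Z(J(T))`: `P ∩ P^s = Z` and `P` is generated by the `V i` -/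
theorem inter_Z [Finite ι] [Finite G] (i₀ : ι)
    (hZ : ∀ x ∈ B, x * x = 1 → (∀ b ∈ B, x * b = b * x) → x ∈ Z) {x : G} (hx : x ∈ P)
    (hxs : cj s⁻¹ x ∈ P) : x ∈ Z :=
  hZ x ((h.Pmem x).1 hx).1 (h.Psq i₀ hx) fun _ hb => h.inter_central i₀ hx hxs hb

theorem P_eq [Finite ι] [Finite G] (i₀ : ι)
    (hZ : ∀ x ∈ B, x * x = 1 → (∀ b ∈ B, x * b = b * x) → x ∈ Z) : P = ⨆ i, V i := by
  apply le_antisymm _ h.Y_le
  intro x hx
  obtain ⟨y, hy, p, hp, he⟩ := h.cover' i₀ ((h.Pmem x).1 hx).1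
  have h1 : cj s p ∈ P := by
    have : cj s p = y⁻¹ * x := by rw [he]; simp
    rw [this]; exact P.mul_mem (P.inv_mem (h.Y_le hy)) hx
  have h2 : cj s p ∈ Z := h.inter_Z i₀ hZ h1 (by rwa [cj_inv_cj])
  rw [he]
  exact Subgroup.mul_mem _ hy (Subgroup.mem_iSup_of_mem i₀ ((h.dat i₀).ZV h2))

/-! ### Involutions and elementary abelian subgroups of `B` -/

/-- the product of the `D j`, `j ≠ i`, meets `D i` trivially -/
theorem indep [Finite G] {i : ι} {d : G} (hd : d ∈ D i)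
    (hd' : d ∈ Subgroup.closure (⋃ j ∈ {j | j ≠ i}, (D j : Set G))) : d = 1 := by
  -- general statement for both sides
  have key : ∀ i : ι, ∀ d ∈ D i, d ∈ Subgroup.closure (⋃ j ∈ {j | j ≠ i}, (D j : Set G)) →
      ∀ k, ∀ l ∈ L k, l * d = d * l := by
    intro i d hd hd' k l hl
    by_cases hki : k = i
    · subst hki
      have hle : Subgroup.closure (⋃ j ∈ {j | j ≠ k}, (D j : Set G)) ≤
          Subgroup.centralizer {l} := by
        rw [Subgroup.closure_le]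
        intro x hx
        simp only [Set.mem_iUnion] at hx
        obtain ⟨j, hj, hx⟩ := hx
        rw [SetLike.mem_coe, Subgroup.mem_centralizer_iff]
        intro z hz
        rw [Set.mem_singleton_iff] at hz
        rw [hz]
        exact h.cross j k hj l hl x hx
      exact Subgroup.mem_centralizer_iff.1 (hle hd') l rfl
    · exact h.cross i k (Ne.symm hki) l hl d hd
  -- the invariant subgroup
  let C : Subgroup G :=
    { carrier := {x | x ∈ Z ∧ ∀ t ∈ T, ∀ k, ∀ l ∈ L k, l * cj t x = cj t x * l}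
      one_mem' := ⟨Z.one_mem, fun t _ k l _ => by simp [cj]⟩
      mul_mem' := by
        rintro x y ⟨hx, hx'⟩ ⟨hy, hy'⟩
        refine ⟨Z.mul_mem hx hy, fun t ht k l hl => ?_⟩
        rw [cj_prod]
        have k1 : Commute l (cj t x) := hx' t ht k l hl
        have k2 : Commute l (cj t y) := hy' t ht k l hl
        exact (k1.mul_right k2).eq
      inv_mem' := by
        rintro x ⟨hx, hx'⟩
        refine ⟨Z.inv_mem hx, fun t ht k l hl => ?_⟩
        rw [cj_inv]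
        have k1 : Commute l (cj t x) := hx' t ht k l hl
        exact k1.inv_right.eq }
  have hCmem : ∀ x, x ∈ C ↔ x ∈ Z ∧ ∀ t ∈ T, ∀ k, ∀ l ∈ L k, l * cj t x = cj t x * l :=
    fun x => Iff.rfl
  have hCT : ∀ t ∈ T, ∀ x ∈ C, cj t x ∈ C := by
    intro t ht x hx
    rw [hCmem] at hx ⊢
    refine ⟨(h.dat i).cjZ (h.TA i ht) hx.1, fun t' ht' k l hl => ?_⟩
    rw [← cj_mul]
    exact hx.2 _ (T.mul_mem ht' ht) k l hl
  -- elements of `D i` which lie in the product of the others belong to `C`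
  have hDC : ∀ i : ι, ∀ d ∈ D i, d ∈ Subgroup.closure (⋃ j ∈ {j | j ≠ i}, (D j : Set G)) →
      d ∈ C := by
    intro i d hd hd'
    refine (hCmem d).2 ⟨(h.dat i).DZ hd, fun t ht k l hl => ?_⟩
    obtain ⟨i', -, h2⟩ := h.perm t ht i
    refine key i' _ (h2 d hd) ?_ k l hl
    have hle : ∀ x ∈ Subgroup.closure (⋃ j ∈ {j | j ≠ i}, (D j : Set G)),
        cj t x ∈ Subgroup.closure (⋃ k ∈ {k | k ≠ i'}, (D k : Set G)) := by
      apply Data.closure_conj
      intro x hx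
      simp only [Set.mem_iUnion] at hx
      obtain ⟨j, hj, hx⟩ := hx
      obtain ⟨j', -, h3⟩ := h.perm t ht j
      apply Subgroup.subset_closure
      simp only [Set.mem_iUnion]
      refine ⟨j', ?_, h3 x hx⟩
      rintro rfl
      apply hj
      obtain ⟨-, -, h4⟩ := h.perm_eq ht h2
      apply h.Dinj
      intro y hy
      have := h4 _ (h3 y hy)
      simpa [mul_assoc] using this
    exact hle d hd'
  let R : Subgroup G := C ⊓ C.map (MulAut.conj s).toMonoidHom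
  have hRmem : ∀ x, x ∈ R ↔ x ∈ C ∧ cj s⁻¹ x ∈ C := by
    intro x
    have : C.map (MulAut.conj s).toMonoidHom = Dm C s := rfl
    simp only [R, Subgroup.mem_inf, this, mem_Dm]
  have hss : s * s ∈ T := by
    have := (h.dat i).idx s⁻¹ (A.inv_mem h.sA) s h.sA (fun hs => h.sT (by simpa using T.inv_mem hs))
      h.sT
    simpa using this
  have hTs : ∀ t ∈ T, s⁻¹ * t * s ∈ T := by
    intro t ht
    have := (h.dat i).idx s h.sA (t * s) (A.mul_mem (h.TA i ht) h.sA) h.sT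
      (fun hts => h.sT (by simpa using T.mul_mem (T.inv_mem ht) hts))
    simpa [mul_assoc] using this
  have hRT : ∀ t ∈ T, ∀ x ∈ R, cj t x ∈ R := by
    intro t ht x hx
    rw [hRmem] at hx ⊢
    refine ⟨hCT t ht x hx.1, ?_⟩
    have := hCT _ (hTs t ht) _ hx.2
    have e : cj (s⁻¹ * t * s) (cj s⁻¹ x) = cj s⁻¹ (cj t x) := by simp [cj, mul_assoc]
    rwa [e] at this
  have hRs : ∀ x ∈ R, cj s x ∈ R := by
    intro x hx
    rw [hRmem] at hx ⊢
    refine ⟨?_, by rw [cj_inv_cj]; exact hx.1⟩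
    have := hCT _ hss _ hx.2
    have e : cj (s * s) (cj s⁻¹ x) = cj s x := by simp [cj, mul_assoc]
    rwa [e] at this
  have hR : R = ⊥ := by
    apply (h.dat i).core R
    · intro x hx
      exact (h.dat i).VB ((h.dat i).ZV ((hCmem x).1 ((hRmem x).1 hx).1).1)
    · intro l hl x hx
      have h1 := ((hCmem x).1 ((hRmem x).1 hx).1).2 1 T.one_mem i l hl
      rw [cj_one] at h1
      have : l * x * l⁻¹ = x := by rw [h1]; simp
      rw [this]; exact hx
    · intro a ha r hr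
      by_cases haT : a ∈ T
      · exact hRT a haT r hr
      · have h2 : s⁻¹ * a ∈ T := (h.dat i).idx s h.sA a ha h.sT haT
        have h3 := hRs _ (hRT _ h2 r hr)
        have e : cj s (cj (s⁻¹ * a) r) = a * r * a⁻¹ := by simp [cj, mul_assoc]
        rwa [e] at h3
  have hdR : d ∈ R := by
    rw [hRmem]
    obtain ⟨j, hj⟩ := h.par_exists i
    have hdj := h.par_D' hj hd
    refine ⟨hDC i d hd hd', hDC j _ hdj ?_⟩
    have hle : ∀ x ∈ Subgroup.closure (⋃ j ∈ {j | j ≠ i}, (D j : Set G)),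
        cj s⁻¹ x ∈ Subgroup.closure (⋃ k ∈ {k | k ≠ j}, (D k : Set G)) := by
      apply Data.closure_conj
      intro x hx
      simp only [Set.mem_iUnion] at hx
      obtain ⟨k, hk, hx⟩ := hx
      obtain ⟨j', hj'⟩ := h.par_exists k
      apply Subgroup.subset_closure
      simp only [Set.mem_iUnion]
      refine ⟨j', ?_, h.par_D' hj' hx⟩
      rintro rfl
      exact hk (h.par_inj hj' hj)
    exact hle d hd'
  rw [hR] at hdR
  simpa using hdR

theorem Y_dec (i : ι) {y : G} (hy : y ∈ ⨆ j, V j) : ∃ v ∈ V i, ∃ u ∈ Out V i, y = v * u := by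
  rw [Subgroup.iSup_eq_closure] at hy
  refine Subgroup.closure_induction (p := fun y _ => ∃ v ∈ V i, ∃ u ∈ Out V i, y = v * u)
    ?_ ?_ ?_ ?_ hy
  · intro y hy
    obtain ⟨j, hj⟩ := Set.mem_iUnion.1 hy
    by_cases hji : j = i
    · subst hji
      exact ⟨y, hj, 1, Subgroup.one_mem _, by simp⟩
    · exact ⟨1, Subgroup.one_mem _, y, Subgroup.subset_closure (mem_out_gen.2 ⟨j, hji, hj⟩), by simp⟩
  · exact ⟨1, Subgroup.one_mem _, 1, Subgroup.one_mem _, by simp⟩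
  · rintro x y - - ⟨v, hv, u, hu, rfl⟩ ⟨v', hv', u', hu', rfl⟩
    refine ⟨v * v', mul_mem hv hv', u * u', mul_mem hu hu', ?_⟩
    have h1 : v' * u = u * v' := h.PY (h.VP hv') (out_le hu)
    calc v * u * (v' * u') = v * (u * v') * u' := by simp [mul_assoc]
      _ = v * (v' * u) * u' := by rw [h1]
      _ = v * v' * (u * u') := by simp [mul_assoc]
  · rintro x - ⟨v, hv, u, hu, rfl⟩
    refine ⟨v⁻¹, inv_mem hv, u⁻¹, inv_mem hu, ?_⟩
    have h1 : Commute v u := h.PY (h.VP hv) (out_le hu)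
    rw [mul_inv_rev]
    exact (h1.inv_inv).eq.symm

/-- `V i` commutes with the rest of the other side -/
theorem comm_out [Finite G] {i j : ι} (hp : Par s V i j) {v u : G} (hv : v ∈ V i)
    (hu : u ∈ Out V j) : v * cj s u = cj s u * v := by
  have hle : ∀ u ∈ Out V j, cj s u ∈ Subgroup.centralizer {v} := by
    apply Data.closure_conj
    intro x hx
    obtain ⟨k, hk, hxk⟩ := mem_out_gen.1 hx
    rw [Subgroup.mem_centralizer_iff]
    intro z hz
    rw [Set.mem_singleton_iff] at hz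
    rw [hz]
    exact not_par (fun hp' => hk (h.par_unique hp' hp)) hv hxk
  exact Subgroup.mem_centralizer_iff.1 (hle u hu) v rfl

/-- the rest commutes with `(V j)^s` -/
theorem comm_out' [Finite G] {i j : ι} (hp : Par s V i j) {v u : G} (hv : v ∈ V j)
    (hu : u ∈ Out V i) : u * cj s v = cj s v * u := by
  have h1 := h.inv.comm_out (par_symm hp) hv hu
  have h2 := (cj_comm (g := s)).2 h1
  rw [cj_cj_inv] at h2
  exact h2.symm

theorem comm_rest {i j : ι} {u u' : G} (hu : u ∈ Out V i)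
    (hu' : u' ∈ Out V j) : ∃ f ∈ Out D i, cj u (cj s u') = f * cj s u' := by
  have hF : ∀ f ∈ Out D i, ∀ b ∈ B, b * f = f * b := by
    intro f hf b hb
    have hle : Out D i ≤ Subgroup.centralizer {b} := by
      rw [Out, Subgroup.closure_le]
      intro x hx
      obtain ⟨k, -, hxk⟩ := mem_out_gen.1 hx
      rw [SetLike.mem_coe, Subgroup.mem_centralizer_iff]
      intro z hz
      rw [Set.mem_singleton_iff] at hz
      rw [hz]
      exact (h.dat k).BcZ b hb x ((h.dat k).DZ hxk)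
    exact Subgroup.mem_centralizer_iff.1 (hle hf) b rfl
  have key := closure_comm2 (F := Out D i) (S := ⋃ k ∈ {k | k ≠ i}, (V k : Set G))
    (S' := {x | ∃ k, k ≠ j ∧ ∃ v ∈ V k, x = cj s v}) ?_ ?_ ?_ u hu (cj s u') ?_
  · exact key
  · intro x hx f hf
    obtain ⟨k, -, hxk⟩ := mem_out_gen.1 hx
    exact hF f hf x ((h.dat k).VB hxk)
  · rintro _ ⟨k, -, v, hv, rfl⟩ f hf
    exact hF f hf _ (h.cjsB k ((h.dat k).VB hv))
  · rintro x hx _ ⟨m, hm, v, hv, rfl⟩
    obtain ⟨k, hk, hxk⟩ := mem_out_gen.1 hx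
    by_cases hkm : Par s V k m
    · obtain ⟨d, hd, he⟩ := (h.dat k).comm' hxk (h.cjsB m ((h.dat m).VB hv))
      exact ⟨d, Subgroup.subset_closure (mem_out_gen.2 ⟨k, hk, hd⟩), he⟩
    · refine ⟨1, Subgroup.one_mem _, ?_⟩
      rw [one_mul]
      exact cj_eq_self.2 (not_par hkm hxk hv)
  · refine Data.closure_conj ?_ u' hu'
    intro x hx
    obtain ⟨k, hk, hxk⟩ := mem_out_gen.1 hx
    exact Subgroup.subset_closure ⟨k, hk, x, hxk, rfl⟩

/-- an involution of `B` centralises one member of every matched pair -/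
theorem inv_dich [Finite ι] [Finite G]
    (hZ : ∀ x ∈ B, x * x = 1 → (∀ b ∈ B, x * b = b * x) → x ∈ Z) {i j : ι} (hp : Par s V i j)
    {b : G} (hb : b ∈ B) (hbb : b * b = 1) : b ∈ Q i ∨ cj s⁻¹ b ∈ Q j := by
  obtain ⟨y, hy, p, hpP, hbe⟩ := h.cover hb
  have hpY : p ∈ ⨆ i, V i := by rw [← h.P_eq i hZ]; exact hpP
  obtain ⟨v, hv, u, hu, hpe⟩ := h.Y_dec i hpY
  obtain ⟨v₁, hv₁, u₁, hu₁, hye⟩ := h.Y_dec j hy
  obtain ⟨d, hd, h1⟩ := (h.dat i).comm' hv (h.cjsB j ((h.dat j).VB hv₁))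
  obtain ⟨f, hf, h2⟩ := h.comm_rest hu hu₁
  have h3 : cj v (cj s u₁) = cj s u₁ := cj_eq_self.2 (h.comm_out hp hv hu₁)
  have h4 : cj u (cj s v₁) = cj s v₁ := cj_eq_self.2 (h.comm_out' hp hv₁ hu)
  have hfZ : ∀ x ∈ B, x * f = f * x := by
    intro x hx
    have hle : Out D i ≤ Subgroup.centralizer {x} := by
      rw [Out, Subgroup.closure_le]
      intro z hz
      obtain ⟨k, -, hzk⟩ := mem_out_gen.1 hz
      rw [SetLike.mem_coe, Subgroup.mem_centralizer_iff]
      intro w hw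
      rw [Set.mem_singleton_iff] at hw
      rw [hw]
      exact (h.dat k).BcZ x hx z ((h.dat k).DZ hzk)
    exact Subgroup.mem_centralizer_iff.1 (hle hf) x rfl
  have hvB := (h.dat i).VB hv
  have hv₁B := h.cjsB j ((h.dat j).VB hv₁)
  have h5 : cj v f = f := cj_eq_self.2 (hfZ v hvB)
  -- the commutator of `p` and `cj s y`
  have h6 : cj p (cj s y) = d * f * cj s y := by
    rw [hye, cj_prod s, hpe, cj_mul v u, cj_prod u, h4, h2, cj_prod v, cj_prod v, h1, h5, h3]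
    have h7 : cj s v₁ * f = f * cj s v₁ := hfZ _ hv₁B
    calc d * cj s v₁ * (f * cj s u₁) = d * (cj s v₁ * f) * cj s u₁ := by simp [mul_assoc]
      _ = d * (f * cj s v₁) * cj s u₁ := by rw [h7]
      _ = d * f * (cj s v₁ * cj s u₁) := by simp [mul_assoc]
  have hyy : cj s y * cj s y = 1 := by
    rw [← cj_prod, h.Ysq hy]; simp [cj]
  have hpp : p * p = 1 := h.Psq i hpP
  have h8 : p * cj s y = cj s y * p := by
    have k1 : (p * cj s y)⁻¹ = cj s y * p := by
      rw [mul_inv_rev, inv_eq_of_mul_eq_one_left hpp, inv_eq_of_mul_eq_one_left hyy]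
    have k2 : (cj s y * p)⁻¹ = cj s y * p := by
      apply inv_eq_of_mul_eq_one_left
      rw [← hbe]; exact hbb
    have k3 : p * cj s y = (cj s y * p)⁻¹ := by rw [← k1, inv_inv]
    rw [k3, k2]
  have h9 : d * f = 1 := by
    have := cj_eq_self.2 h8
    rw [h6] at this
    simpa using this
  have hd1 : d = 1 := by
    apply h.indep hd
    have : d = f⁻¹ := eq_inv_of_mul_eq_one_left h9
    rw [this]; exact Subgroup.inv_mem _ hf
  rw [hd1, one_mul] at h1
  have h10 : v * cj s v₁ = cj s v₁ * v := cj_eq_self.1 h1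
  by_cases hvZ : v ∈ Z
  · right
    apply (h.dat j).QcV _ (h.cjsB' j hb)
    intro w hw
    have k1 : Commute (cj s y) (cj s w) :=
      cj_comm.2 (h.PY (h.Y_le hy) (Subgroup.mem_iSup_of_mem j hw))
    have k2 : Commute v (cj s w) := ((h.dat i).BcZ _ (h.cjsB j ((h.dat j).VB hw)) v hvZ).symm
    have k3 : Commute u (cj s w) := h.comm_out' hp hw hu
    have k4 : Commute b (cj s w) := by
      rw [hbe, hpe]; exact k1.mul_left (k2.mul_left k3)
    have := (cj_comm (g := s⁻¹)).2 k4.eq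
    rwa [cj_inv_cj] at this
  · left
    have hv₁Q : cj s v₁ ∈ Q i := by
      by_contra hq
      exact (h.dat i).ncomm v hv hvZ _ hv₁B hq h10
    have hu₁Q : cj s u₁ ∈ Q i := by
      have huP : u₁ ∈ P := h.Y_le (out_le hu₁)
      apply (h.dat i).QcV _ (h.cjsB i ((h.Pmem _).1 huP).1)
      intro w hw
      exact (h.comm_out hp hw hu₁).symm
    rw [hbe, hye, cj_prod]
    exact mul_mem (mul_mem hv₁Q hu₁Q) (((h.Pmem p).1 hpP).2 i)

/-- an elementary abelian subgroup of `B` centralises one member of every matched pair -/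
theorem elem_dich [Finite ι] [Finite G]
    (hZ : ∀ x ∈ B, x * x = 1 → (∀ b ∈ B, x * b = b * x) → x ∈ Z) {i j : ι} (hp : Par s V i j)
    {E : Subgroup G} (hE : E ≤ B) (hEE : ∀ e ∈ E, e * e = 1) :
    (∀ e ∈ E, e ∈ Q i) ∨ ∀ e ∈ E, cj s⁻¹ e ∈ Q j := by
  by_contra hcon
  push Not at hcon
  obtain ⟨⟨e, he, heQ⟩, f, hf, hfQ⟩ := hcon
  have h1 : cj s⁻¹ e ∈ Q j := (h.inv_dich hZ hp (hE he) (hEE e he)).resolve_left heQ
  have h2 : f ∈ Q i := (h.inv_dich hZ hp (hE hf) (hEE f hf)).resolve_right hfQ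
  rcases h.inv_dich hZ hp (hE (E.mul_mem he hf)) (hEE _ (E.mul_mem he hf)) with h3 | h3
  · apply heQ
    have := mul_mem h3 (inv_mem h2)
    simpa using this
  · apply hfQ
    rw [cj_prod] at h3
    have := mul_mem (inv_mem h1) h3
    simpa using this

end MIn

end Cfsg.Agent.Omega.SQ1.Match
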