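import Mathlib.GroupTheory.Sylow
import Mathlib.Tactic

/-!
# SQ1: there are no twists for `q ≥ 4`

An element `x ∈ N_G(B)` which centralises `[x, Q]` normalises `Q` (bb OMEGA #12483).
-/

set_option autoImplicit false

namespace Cfsg.Agent.Omega.SQ1.NoTwist

open Subgroup

variable {G : Type*} [Group G]

/-- Input: `Q = ∏ V i` is elementary abelian, self-centralising and normal in `B`. -/
structure In {ι : Type*} (B Z Q : Subgroup G) (V D F : ι → Subgroup G) : Prop where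
  QB : Q ≤ B
  Qsq : ∀ v ∈ Q, v * v = 1
  Qab : ∀ v ∈ Q, ∀ w ∈ Q, v * w = w * v
  BnQ : ∀ b ∈ B, ∀ v ∈ Q, b * v * b⁻¹ ∈ Q
  ZV : ∀ i, Z ≤ V i
  VQ : ∀ i, V i ≤ Q
  Qgen : Q ≤ ⨆ i, V i
  QcV : ∀ b ∈ B, (∀ i, ∀ v ∈ V i, b * v = v * b) → b ∈ Q
  DZ : ∀ i, D i ≤ Z
  BcZ : ∀ b ∈ B, ∀ z ∈ Z, b * z = z * b
  nc : ∀ i, ∀ v ∈ V i, v ∉ Z → ∀ b ∈ B, b * v = v * b → ∀ w ∈ V i, b * w = w * b
  star : ∀ i, ∀ v ∈ V i, v ∉ Z → ∀ b ∈ B, v * b * v⁻¹ * b⁻¹ ∈ F i → ∀ w ∈ V i, b * w = w * b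
  comm : ∀ i, ∀ v ∈ V i, ∀ b ∈ B, v * b * v⁻¹ * b⁻¹ ∈ D i
  DF : ∀ i j, i ≠ j → D j ≤ F i
  big : ∀ i, ∃ v ∈ V i, ∃ w ∈ V i, v ∉ Z ∧ w ∉ Z ∧ v * w ∉ Z

theorem sw [Finite G] {ι : Type*} {B Z Q : Subgroup G} {V D F : ι → Subgroup G}
    (h : In B Z Q V D F)
    {x : G} (hxB : ∀ b ∈ B, x * b * x⁻¹ ∈ B) (hxZ : ∀ z ∈ Z, x * z * x⁻¹ ∈ Z)
    (hc : ∀ v ∈ Q, x * (x * v * x⁻¹ * v⁻¹) = (x * v * x⁻¹ * v⁻¹) * x)
    (jc : (∀ v ∈ Q, x * x * v * (x * x)⁻¹ ∈ Q) → (∀ z ∈ Z, x * x * z = z * (x * x)) → x * x ∈ B) :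
    x ∈ normalizer (Q : Set G) := by
  -- the action of `x²`
  have hact : ∀ v ∈ Q, x * x * v * (x * x)⁻¹ = (x * v * x⁻¹) * v * (x * v * x⁻¹)⁻¹ := by
    intro v hv
    have h1 := hc v hv
    have hvi : v⁻¹ = v := inv_eq_of_mul_eq_one_left (h.Qsq v hv)
    have h2 : x * (x * v * x⁻¹ * v⁻¹) * x⁻¹ = x * v * x⁻¹ * v⁻¹ := by rw [h1]; group
    rw [hvi] at h2
    have e1 : x * (x * v * x⁻¹ * v) * x⁻¹ = (x * x * v * (x * x)⁻¹) * (x * v * x⁻¹) := by group
    rw [e1] at h2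
    exact eq_mul_inv_of_mul_eq h2
  have hyB : ∀ v ∈ Q, x * v * x⁻¹ ∈ B := fun v hv => hxB v (h.QB hv)
  have hZQ : ∀ i, Z ≤ Q := fun i => (h.ZV i).trans (h.VQ i)
  by_cases hne : Nonempty ι
  swap
  · have hbot : Q ≤ ⊥ := by
      refine h.Qgen.trans ?_
      exact iSup_le fun i => absurd ⟨i⟩ hne
    have hQ : Q = ⊥ := le_bot_iff.1 hbot
    rw [hQ]
    rw [mem_normalizer_iff]
    intro g
    simp
  obtain ⟨i₀⟩ := hne
  have hb : x * x ∈ B := by
    apply jc
    · intro v hv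
      rw [hact v hv]
      exact h.BnQ _ (hyB v hv) v hv
    · intro z hz
      have h1 := hact z (hZQ i₀ hz)
      have h2 : (x * z * x⁻¹) * z = z * (x * z * x⁻¹) := by
        have := h.BcZ _ (hyB z (hZQ i₀ hz)) z hz
        exact this
      rw [h2] at h1
      have h3 : x * x * z * (x * x)⁻¹ = z := by rw [h1]; group
      exact (mul_inv_eq_iff_eq_mul).1 h3
  set b := x * x with hbdef
  -- `y_v⁻¹ b` commutes with `v`
  have hcomm : ∀ v ∈ Q, ((x * v * x⁻¹)⁻¹ * b) * v = v * ((x * v * x⁻¹)⁻¹ * b) := by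
    intro v hv
    have h1 := hact v hv
    set y := x * v * x⁻¹
    have h2 : b * v = y * v * y⁻¹ * b := (mul_inv_eq_iff_eq_mul).1 h1
    calc (y⁻¹ * b) * v = y⁻¹ * (b * v) := by group
      _ = y⁻¹ * (y * v * y⁻¹ * b) := by rw [h2]
      _ = v * (y⁻¹ * b) := by group
  have hVZ : ∀ i, ∀ v ∈ V i, ∀ c ∈ B, c * v * c⁻¹ ∈ V i := by
    intro i v hv c hcB
    have h1 := h.comm i v hv c hcB
    have h2 : c * v * c⁻¹ = (v * c * v⁻¹ * c⁻¹)⁻¹ * v := by group
    rw [h2]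
    exact mul_mem (inv_mem (h.ZV i (h.DZ i h1))) hv
  -- the centraliser of `V i` in `B`
  have key : ∀ i, (∀ w ∈ V i, b * w = w * b) ∧
      ∀ v ∈ V i, ∀ w ∈ V i, (x * v * x⁻¹) * w = w * (x * v * x⁻¹) := by
    intro i
    have hnc : ∀ v ∈ V i, v ∉ Z → ∀ w ∈ V i,
        ((x * v * x⁻¹)⁻¹ * b) * w = w * ((x * v * x⁻¹)⁻¹ * b) := by
      intro v hv hvZ
      exact h.nc i v hv hvZ _ (mul_mem (inv_mem (hyB v (h.VQ i hv))) hb) (hcomm v (h.VQ i hv))
    obtain ⟨v, hv, w, hw, hvZ, hwZ, hvwZ⟩ := h.big i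
    have c1 := hnc v hv hvZ
    have c2 := hnc w hw hwZ
    have c3 := hnc (v * w) (mul_mem hv hw) hvwZ
    have e3 : x * (v * w) * x⁻¹ = (x * v * x⁻¹) * (x * w * x⁻¹) := by group
    rw [e3] at c3
    set y := x * v * x⁻¹ with hy
    set y' := x * w * x⁻¹ with hy'
    -- `b⁻¹ y b` centralises `V i`
    have c4 : ∀ u ∈ V i, (b⁻¹ * y * b) * u = u * (b⁻¹ * y * b) := by
      intro u hu
      have d3 : Commute ((y * y')⁻¹ * b) u := c3 u hu
      have d2 : Commute (y'⁻¹ * b) u := c2 u hu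
      have d := d3.inv_left.mul_left d2
      have e : ((y * y')⁻¹ * b)⁻¹ * (y'⁻¹ * b) = b⁻¹ * y * b := by group
      rw [e] at d
      exact d
    have hyV : ∀ u ∈ V i, y * u = u * y := by
      intro u hu
      have hu' := hVZ i u hu b⁻¹ (inv_mem hb)
      have d : Commute (b⁻¹ * y * b) (b⁻¹ * u * b⁻¹⁻¹) := c4 _ hu'
      have e1 : (b⁻¹ * y * b) * (b⁻¹ * u * b⁻¹⁻¹) = b⁻¹ * (y * u) * b := by group
      have e2 : (b⁻¹ * u * b⁻¹⁻¹) * (b⁻¹ * y * b) = b⁻¹ * (u * y) * b := by group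
      have d' := d.eq
      rw [e1, e2] at d'
      exact mul_left_cancel (mul_right_cancel d')
    have hbV : ∀ u ∈ V i, b * u = u * b := by
      intro u hu
      have d1 : Commute y u := hyV u hu
      have d2 : Commute (y⁻¹ * b) u := c1 u hu
      have d := d1.mul_left d2
      have e : y * (y⁻¹ * b) = b := by group
      rw [e] at d
      exact d
    refine ⟨hbV, ?_⟩
    intro v' hv' w' hw'
    by_cases hv'Z : v' ∈ Z
    · have h1 : x * v' * x⁻¹ ∈ Z := hxZ v' hv'Z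
      exact (h.BcZ w' (h.QB (h.VQ i hw')) _ h1).symm
    · have d1 : Commute b w' := hbV w' hw'
      have d2 : Commute ((x * v' * x⁻¹)⁻¹ * b) w' := hnc v' hv' hv'Z w' hw'
      have d := d1.mul_left d2.inv_left
      have e : b * ((x * v' * x⁻¹)⁻¹ * b)⁻¹ = x * v' * x⁻¹ := by group
      rw [e] at d
      exact d
  -- `b` centralises `Q`
  have hbQ : ∀ u ∈ Q, b * u = u * b := by
    have h1 : b ∈ Q := h.QcV b hb fun i v hv => (key i).1 v hv
    exact fun u hu => h.Qab b h1 u hu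
  have hself : ∀ u ∈ Q, (x * u * x⁻¹) * u = u * (x * u * x⁻¹) := by
    intro u hu
    have d1 : Commute b u := hbQ u hu
    have d2 : Commute ((x * u * x⁻¹)⁻¹ * b) u := hcomm u hu
    have d := d1.mul_left d2.inv_left
    have e : b * ((x * u * x⁻¹)⁻¹ * b)⁻¹ = x * u * x⁻¹ := by group
    rw [e] at d
    exact d
  -- the other components
  have hcross : ∀ i j, ∀ w ∈ V i, ∀ u ∈ V j, (x * w * x⁻¹) * u = u * (x * w * x⁻¹) := by
    intro i j w hw
    by_cases hij : j = i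
    · subst hij; exact (key j).2 w hw
    obtain ⟨v, hv, -, -, hvZ, -, -⟩ := h.big j
    apply h.star j v hv hvZ _ (hyB w (h.VQ i hw))
    set y := x * v * x⁻¹ with hy
    set y' := x * w * x⁻¹ with hy'
    have hyB' : y ∈ B := hyB v (h.VQ j hv)
    have hyB'' : y' ∈ B := hyB w (h.VQ i hw)
    -- polarise
    have s1 : y * v = v * y := hself v (h.VQ j hv)
    have s2 : y' * w = w * y' := hself w (h.VQ i hw)
    have s3 : (y * y') * (v * w) = (v * w) * (y * y') := by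
      have := hself (v * w) (mul_mem (h.VQ j hv) (h.VQ i hw))
      have e3 : x * (v * w) * x⁻¹ = y * y' := by rw [hy, hy']; group
      rwa [e3] at this
    set d := v * y' * v⁻¹ * y'⁻¹ with hd
    set e := w * y * w⁻¹ * y⁻¹ with he
    have hdD : d ∈ D j := h.comm j v hv y' hyB''
    have heD : e ∈ D i := h.comm i w hw y hyB'
    have hdZ := h.DZ j hdD
    have heZ := h.DZ i heD
    have r1 : v * y' = d * (y' * v) := by rw [hd]; group
    have r2 : w * y = e * (y * w) := by rw [he]; group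
    have cB : ∀ g ∈ B, g * d = d * g := fun g hg => h.BcZ g hg d hdZ
    have cE : ∀ g ∈ B, g * e = e * g := fun g hg => h.BcZ g hg e heZ
    have hvB : v ∈ B := h.QB (h.VQ j hv)
    have hwB : w ∈ B := h.QB (h.VQ i hw)
    -- compute `(v w)(y y')`
    have s4 : (v * w) * (y * y') = (d * e) * ((y * y') * (v * w)) := by
      calc (v * w) * (y * y') = v * (w * y) * y' := by group
        _ = v * (e * (y * w)) * y' := by rw [r2]
        _ = (v * e) * y * w * y' := by group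
        _ = (e * v) * y * w * y' := by rw [cE v hvB]
        _ = e * (v * y) * (w * y') := by group
        _ = e * (y * v) * (y' * w) := by rw [s1, s2]
        _ = e * y * (v * y') * w := by group
        _ = e * y * (d * (y' * v)) * w := by rw [r1]
        _ = e * (y * d) * y' * v * w := by group
        _ = e * (d * y) * y' * v * w := by rw [cB y hyB']
        _ = (e * d) * ((y * y') * (v * w)) := by group
        _ = (d * e) * ((y * y') * (v * w)) := by rw [cE d (h.QB (hZQ i hdZ))]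
    rw [s3] at s4
    have hde : d * e = 1 := by
      have := s4
      exact (mul_eq_right.1 this.symm)
    have hde' : d = e⁻¹ := eq_inv_of_mul_eq_one_left hde
    show d ∈ F j
    rw [hde']
    exact h.DF j i hij (inv_mem heD)
  have hQx : ∀ u ∈ Q, x * u * x⁻¹ ∈ Q := by
    intro u hu
    have hle : (⨆ i, V i) ≤ Q.comap (MulAut.conj x).toMonoidHom := by
      refine iSup_le fun i w hw => ?_
      rw [mem_comap]
      have : (MulAut.conj x).toMonoidHom w = x * w * x⁻¹ := by simp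
      rw [this]
      exact h.QcV _ (hyB w (h.VQ i hw)) fun j v hv => hcross i j w hw v hv
    have := hle (h.Qgen hu)
    simpa using this
  rw [mem_normalizer_iff]
  intro g
  refine ⟨hQx g, fun hg => ?_⟩
  -- finiteness
  have hfin : Function.Bijective (fun u : Q => (⟨x * u * x⁻¹, hQx u u.2⟩ : Q)) := by
    apply Finite.injective_iff_bijective.1
    intro u v huv
    have := congrArg Subtype.val huv
    simp only at this
    exact Subtype.ext (mul_left_cancel (mul_right_cancel this))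
  obtain ⟨u, hu⟩ := hfin.2 ⟨x * g * x⁻¹, hg⟩
  have h1 := congrArg Subtype.val hu
  simp only at h1
  have h2 : (u : G) = g := mul_left_cancel (mul_right_cancel h1)
  rw [← h2]; exact u.2

end Cfsg.Agent.Omega.SQ1.NoTwist
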