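import Cfsg.Agent.Omega.SQ1.FFKB
import Cfsg.Agent.Omega.FFThm

/-!
# SQ1, L1 for `k` blocks: from the statement of the FF-theorem (`FFThm.NatK`) to `FFK`

* `NatKB.cent_of_stab`: elements acting trivially on `V / D` and on `D` centralise `V`;
* `NatKB.cent_N`: elements inducing `A ∈ SL₂(F)^k`, `A i = 1`, centralise the preimage of the `i`-th
  summand;
* `NatKB.toFFK : FFK (Fin k) F H T V D`;
* `exists_inK`: for a minimal parabolic `H` with `J(T) ≰ O₂(H)`: `InK`.
-/

set_option autoImplicit false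
set_option linter.unusedSectionVars false
set_option linter.unusedVariables false

namespace Cfsg.Agent.Omega.SQ1.FFOne

open Subgroup Cfsg Cfsg.Agent.PLocal.ThompsonJ Cfsg.Agent.ZN Cfsg.Agent.ZN.ChoiceBase
open Cfsg.Agent.ZN.ChoiceSit
open Cfsg.Agent.Omega.NatPair Cfsg.Agent.Lib.SL2Mat
open Cfsg.Agent.PLocal.ElemAbSup
open Cfsg.Agent.Omega.SQ1.Bau (mem_AA_of_comm zj_le_AA elem_comm elem_sq mem_sup_comm card_sup_comm
  mem_sup_norm Mv not_mv_iff mv_inv)
open Cfsg.Agent.Omega.FFThm (NatK ActsSL Off)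
open Cfsg.Agent.Omega.FrameFF (cv)
open Cfsg.Agent.MinSimple.MinParabolic (IsMinPar)
open scoped Pointwise

universe u

variable {G : Type u} [Group G]

/-- The data of `NatK` together with the elementary facts on `V`. -/
structure NatKB (F : Type) [Field F] (T H V D : Subgroup G) (k : ℕ) where
  nat : NatK F T H V D k
  DV : D ≤ V
  Vn : ∀ h ∈ H, ∀ v ∈ V, h * v * h⁻¹ ∈ V
  VQ : V ≤ o2 H
  Vsq : ∀ v ∈ V, v ^ 2 = 1
  VcQ : ∀ x ∈ o2 H, ∀ v ∈ V, x * v = v * x
  nle : ¬ jj T ≤ o2 H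
  pos : 0 < k

namespace NatKB

variable {F : Type} [Field F] {T H V D : Subgroup G} {k : ℕ} (M : NatKB F T H V D k)

include M

theorem Vcomm {v w : G} (hv : v ∈ V) (hw : w ∈ V) : v * w = w * v := M.VcQ v (M.VQ hv) w hw

theorem map_one : M.nat.e 1 = 0 := by
  have := M.nat.mul 1 (one_mem V) 1 (one_mem V)
  rw [one_mul] at this
  exact left_eq_add.1 this

theorem map_inv {v : G} (hv : v ∈ V) : M.nat.e v⁻¹ = - M.nat.e v := by
  have := M.nat.mul v hv v⁻¹ (inv_mem hv)
  rw [mul_inv_cancel, M.map_one] at this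
  exact (neg_eq_of_add_eq_zero_right this.symm).symm

theorem map_div {v w : G} (hv : v ∈ V) (hw : w ∈ V) :
    M.nat.e (v * w⁻¹) = M.nat.e v - M.nat.e w := by
  rw [M.nat.mul v hv _ (inv_mem hw), M.map_inv hw, sub_eq_add_neg]

theorem Dn : ∀ h ∈ H, ∀ d ∈ D, h * d * h⁻¹ ∈ D := by
  intro h hh d hd
  obtain ⟨σ, hσ⟩ := M.nat.perm h hh
  rw [← M.nat.ker _ (M.Vn h hh d (M.DV hd))]
  funext j
  obtain ⟨i, rfl⟩ := σ.surjective j
  rw [Pi.zero_apply, hσ d (M.DV hd) i, (M.nat.ker d (M.DV hd)).2 hd]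
  rfl

/-- `g` acts on the coordinates as `A`. -/
def Acts (M : NatKB F T H V D k) (g : G) (A : Fin k → Matrix.SpecialLinearGroup (Fin 2) F) : Prop :=
  ∀ v ∈ V, ∀ i, M.nat.e (g * v * g⁻¹) i = ap (A i) (M.nat.e v i)

omit M in
theorem acts_mul {M : NatKB F T H V D k} {g h : G}
    {A B : Fin k → Matrix.SpecialLinearGroup (Fin 2) F} (hh : h ∈ H)
    (hA : M.Acts g A) (hB : M.Acts h B) : M.Acts (g * h) (A * B) := by
  intro v hv i
  have e : g * h * v * (g * h)⁻¹ = g * (h * v * h⁻¹) * g⁻¹ := by group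
  rw [e, hA _ (M.Vn h hh v hv) i, hB v hv i, Pi.mul_apply, ap_mul]

omit M in
theorem acts_inv {M : NatKB F T H V D k} {g : G}
    {A : Fin k → Matrix.SpecialLinearGroup (Fin 2) F} (hg : g ∈ H)
    (hA : M.Acts g A) : M.Acts g⁻¹ A⁻¹ := by
  intro v hv i
  have h1 := hA _ (M.Vn g⁻¹ (inv_mem hg) v hv) i
  have e : g * (g⁻¹ * v * g⁻¹⁻¹) * g⁻¹ = v := by group
  rw [e] at h1
  rw [h1, Pi.inv_apply, ap_inv_ap]

omit M in
theorem acts_one {M : NatKB F T H V D k} : M.Acts 1 1 := by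
  intro v hv i
  rw [one_mul, inv_one, mul_one, Pi.one_apply, ap_one]

omit M in
theorem acts_unique {M : NatKB F T H V D k} {g : G}
    {A B : Fin k → Matrix.SpecialLinearGroup (Fin 2) F} (hA : M.Acts g A) (hB : M.Acts g B) :
    A = B := by
  funext i
  apply ap_inj
  intro x
  obtain ⟨v, hv, e⟩ := M.nat.surj fun _ => x
  have h1 := hA v hv i
  rw [hB v hv i, e] at h1
  exact h1.symm

/-- the stability group of `V ≥ D ≥ 1` -/
def stab (M : NatKB F T H V D k) : Subgroup G where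
  carrier := {x | x ∈ H ∧ M.Acts x 1 ∧ ∀ d ∈ D, x * d = d * x}
  mul_mem' := by
    rintro a b ⟨ha, ha', ha2⟩ ⟨hb, hb', hb2⟩
    refine ⟨mul_mem ha hb, ?_, fun d hd => ?_⟩
    · have := acts_mul hb ha' hb'
      rwa [mul_one] at this
    · have e1 : Commute a d := ha2 d hd
      have e2 : Commute b d := hb2 d hd
      exact (e1.mul_left e2).eq
  one_mem' := ⟨one_mem H, acts_one, fun d _ => by simp⟩
  inv_mem' := by
    rintro a ⟨ha, ha', ha2⟩
    refine ⟨inv_mem ha, ?_, fun d hd => ?_⟩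
    · have := acts_inv ha ha'
      rwa [inv_one] at this
    · have e1 : Commute a d := ha2 d hd
      exact e1.inv_left.eq

theorem stab_norm : ∀ g ∈ H, ∀ x ∈ M.stab, g * x * g⁻¹ ∈ M.stab := by
  rintro g hg x ⟨hx, hx1, hx2⟩
  refine ⟨mul_mem (mul_mem hg hx) (inv_mem hg), fun v hv i => ?_, fun d hd => ?_⟩
  · have hv' : g⁻¹ * v * g ∈ V := by
      have := M.Vn g⁻¹ (inv_mem hg) v hv
      rwa [inv_inv] at this
    set w := g⁻¹ * v * g with hw
    have hxw := M.Vn x hx w hv'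
    have h1 : x * w * x⁻¹ * w⁻¹ ∈ D := by
      rw [← M.nat.ker _ (mul_mem hxw (inv_mem hv')), M.map_div hxw hv']
      funext j
      rw [Pi.sub_apply, hx1 w hv' j, Pi.one_apply, ap_one, sub_self]
      rfl
    have h2 := (M.nat.ker _ (M.DV (M.Dn g hg _ h1))).2 (M.Dn g hg _ h1)
    have e1 : g * (x * w * x⁻¹ * w⁻¹) * g⁻¹ = (g * x * g⁻¹ * v * (g * x * g⁻¹)⁻¹) * v⁻¹ := by
      rw [hw]; group
    have h3 : g * x * g⁻¹ * v * (g * x * g⁻¹)⁻¹ ∈ V :=
      M.Vn _ (mul_mem (mul_mem hg hx) (inv_mem hg)) v hv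
    rw [e1, M.map_div h3 hv, sub_eq_zero] at h2
    rw [h2, Pi.one_apply, ap_one]
  · have hd' : g⁻¹ * d * g ∈ D := by
      have := M.Dn g⁻¹ (inv_mem hg) d hd
      rwa [inv_inv] at this
    have h1 := hx2 _ hd'
    calc g * x * g⁻¹ * d = g * (x * (g⁻¹ * d * g)) * g⁻¹ := by group
      _ = g * (g⁻¹ * d * g * x) * g⁻¹ := by rw [h1]
      _ = d * (g * x * g⁻¹) := by group

theorem stab_sup_ne [CharP F 2] (hT : Syl T H) : M.stab ⊔ T ≠ H := by
  intro e
  have hneg : (-1 : F) = 1 := CharTwo.neg_eq 1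
  set A : Matrix.SpecialLinearGroup (Fin 2) F :=
    Cfsg.Agent.Lib.SL2Mat.mk 0 1 1 1 (by rw [zero_mul, one_mul, zero_sub]; exact hneg) with hA
  have hA3 : A ^ 3 = 1 := by
    have h1 : (1 : F) + 1 = 0 := CharTwo.add_self_eq_zero 1
    rw [pow_succ, pow_two]
    apply ext_ent
    · rw [ent_mul, ent_mul, ent_mul]; simp [hA, h1]
    · rw [ent_mul, ent_mul, ent_mul]; simp [hA, h1]
    · rw [ent_mul, ent_mul, ent_mul]; simp [hA, h1]
    · rw [ent_mul, ent_mul, ent_mul]; simp [hA, h1]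
  have hA1 : A ≠ 1 := by
    intro h
    have h2 : ent A 0 0 = ent (1 : Matrix.SpecialLinearGroup (Fin 2) F) 0 0 := by rw [h]
    rw [ent_one_00, hA, mk_00] at h2
    exact zero_ne_one h2
  obtain ⟨g, hg, hgA, -⟩ := M.nat.lift fun _ => A
  have hg' : g ∈ M.stab ⊔ T := by rw [e]; exact hg
  obtain ⟨t, ht, x, hx, rfl⟩ : ∃ t ∈ T, ∃ x ∈ M.stab, g = t * x := by
    refine mem_sup_norm (fun t ht => ?_) (by rwa [sup_comm] at hg')
    rw [mem_normalizer_iff]
    refine fun x => ⟨M.stab_norm t (hT.1 ht) x, fun hx => ?_⟩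
    have := M.stab_norm t⁻¹ (inv_mem (hT.1 ht)) _ hx
    have e : t⁻¹ * (t * x * t⁻¹) * t⁻¹⁻¹ = x := by group
    rwa [e] at this
  have htH := hT.1 ht
  have htA : M.Acts t fun _ => A := by
    have h1 := acts_mul (inv_mem hx.1) (show M.Acts (t * x) (fun _ => A) from hgA)
      (acts_inv hx.1 hx.2.1)
    rwa [mul_inv_cancel_right, inv_one, mul_one] at h1
  obtain ⟨n, hn⟩ := hT.2.1 ⟨t, ht⟩
  have hn' : t ^ 2 ^ n = 1 := by simpa using congrArg Subtype.val hn
  have hpow : ∀ m : ℕ, M.Acts (t ^ m) ((fun _ => A) ^ m) := by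
    intro m
    induction m with
    | zero => rw [pow_zero, pow_zero]; exact acts_one
    | succ m ih => rw [pow_succ, pow_succ]; exact acts_mul htH ih htA
  have h2 := hpow (2 ^ n)
  rw [hn'] at h2
  have h3 := congrFun (acts_unique h2 acts_one) ⟨0, M.pos⟩
  rw [Pi.pow_apply, Pi.one_apply] at h3
  have h4 : orderOf A ∣ 2 ^ n := orderOf_dvd_of_pow_eq_one h3
  have h5 : orderOf A ∣ 3 := orderOf_dvd_of_pow_eq_one hA3
  have h6 : Nat.Coprime (2 ^ n) 3 := Nat.Coprime.pow_left _ (by norm_num)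
  have h7 : orderOf A = 1 := Nat.eq_one_of_dvd_coprimes h6 h4 h5
  exact hA1 (orderOf_eq_one_iff.1 h7)

/-- Elements acting trivially on `V / D` and on `D` centralise `V`. -/
theorem cent_of_stab [Finite G] [CharP F 2] (hm : MinH H T) {x : G} (hx : x ∈ M.stab) {v : G}
    (hv : v ∈ V) : x * v = v * x := by
  have hTs : T ⊓ M.stab ≤ o2 H := hm.inf_le (fun _ h => h.1) M.stab_norm (M.stab_sup_ne hm.syl)
  -- 2-elements of the stability group
  have h2el : ∀ y ∈ M.stab, (∃ n : ℕ, y ^ 2 ^ n = 1) → ∀ v ∈ V, y * v = v * y := by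
    rintro y hy ⟨n, hn⟩ v hv
    have hp : IsPGroup 2 (zpowers y) := by
      rintro ⟨z, hz⟩
      obtain ⟨m, rfl⟩ := mem_zpowers_iff.1 hz
      refine ⟨n, Subtype.ext ?_⟩
      show (y ^ m) ^ 2 ^ n = 1
      rw [← zpow_natCast, ← zpow_mul, mul_comm, zpow_mul, zpow_natCast, hn, one_zpow]
    obtain ⟨S, hS, hyS⟩ := exists_syl hp ((zpowers_le (H := H)).2 hy.1)
    obtain ⟨g, hg, e⟩ := syl_conj hS hm.syl
    have h1 : g * y * g⁻¹ ∈ T := by
      rw [← e]
      exact ⟨y, hyS (mem_zpowers y), rfl⟩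
    have h3 := hTs ⟨h1, M.stab_norm g hg y hy⟩
    have hv' := M.Vn g hg v hv
    have h4 := M.VcQ _ h3 _ hv'
    have e1 : g * y * g⁻¹ * (g * v * g⁻¹) = g * (y * v) * g⁻¹ := by group
    have e2 : g * v * g⁻¹ * (g * y * g⁻¹) = g * (v * y) * g⁻¹ := by group
    rw [e1, e2] at h4
    exact mul_left_cancel (mul_right_cancel h4)
  -- squares centralise `V`
  have hsq : ∀ v ∈ V, x ^ 2 * v = v * x ^ 2 := by
    intro v hv
    have hxv := M.Vn x hx.1 v hv
    set d := x * v * x⁻¹ * v⁻¹ with hd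
    have hdD : d ∈ D := by
      rw [← M.nat.ker _ (mul_mem hxv (inv_mem hv)), M.map_div hxv hv]
      funext j
      rw [Pi.sub_apply, hx.2.1 v hv j, Pi.one_apply, ap_one, sub_self]
      rfl
    have e1 : x * v * x⁻¹ = d * v := by rw [hd]; group
    have e2 : x * d * x⁻¹ = d := by rw [hx.2.2 d hdD]; group
    have hdd : d * d = 1 := by
      have := M.Vsq d (M.DV hdD); rwa [pow_two] at this
    have e3 : x ^ 2 * v * (x ^ 2)⁻¹ = x * (x * v * x⁻¹) * x⁻¹ := by
      simp only [pow_two, mul_inv_rev, mul_assoc]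
    have e4 : x * (d * v) * x⁻¹ = (x * d * x⁻¹) * (x * v * x⁻¹) := by group
    have e5 : x ^ 2 * v * (x ^ 2)⁻¹ = v := by
      rw [e3, e1, e4, e1, e2, ← mul_assoc, hdd, one_mul]
    calc x ^ 2 * v = x ^ 2 * v * (x ^ 2)⁻¹ * x ^ 2 := by group
      _ = v * x ^ 2 := by rw [e5]
  -- the odd part
  obtain ⟨a, m, hm1, hm2⟩ := Nat.exists_eq_two_pow_mul_odd (isOfFinOrder_of_finite x).orderOf_pos.ne'
  obtain ⟨r, hr⟩ := hm1
  have h1 : ∀ v ∈ V, x ^ m * v = v * x ^ m := by
    refine h2el _ (pow_mem hx m) ⟨a, ?_⟩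
    rw [← pow_mul, mul_comm, ← hm2, pow_orderOf_eq_one]
  have h3 : Commute (x ^ m) v := h1 v hv
  have h4 : Commute ((x ^ 2) ^ r) v := (show Commute (x ^ 2) v from hsq v hv).pow_left r
  have h5 : x = ((x ^ 2) ^ r)⁻¹ * x ^ m := by
    rw [← pow_mul, hr, pow_succ, inv_mul_cancel_left]
  rw [h5]
  exact (h4.inv_left.mul_left h3).eq

/-- Elements inducing `A ∈ SL₂(F)^k`, `A i = 1`, centralise the preimage of the `i`-th summand. -/
theorem cent_N [Finite G] [CharP F 2] (hm : MinH H T) {h : G} (hh : h ∈ H)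
    {A : Fin k → Matrix.SpecialLinearGroup (Fin 2) F} (hA : M.Acts h A)
    (hD : ∀ d ∈ D, h * d = d * h) {i : Fin k} (hi : A i = 1) {n : G} (hn : n ∈ V)
    (hn0 : ∀ j, j ≠ i → M.nat.e n j = 0) : h * n = n * h := by
  classical
  have hneg : (-1 : F) = 1 := CharTwo.neg_eq 1
  set B0 : Matrix.SpecialLinearGroup (Fin 2) F :=
    Cfsg.Agent.Lib.SL2Mat.mk 0 1 1 1 (by rw [zero_mul, one_mul, zero_sub]; exact hneg) with hB0
  set U : Fin k → Matrix.SpecialLinearGroup (Fin 2) F := Function.update 1 i B0 with hU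
  obtain ⟨g, hg, hgA, hgD⟩ := M.nat.lift U
  have hgA' : M.Acts g U := hgA
  -- the commutator centralises `V`
  set x := g * h * g⁻¹ * h⁻¹ with hx
  have hxs : x ∈ M.stab := by
    refine ⟨mul_mem (mul_mem (mul_mem hg hh) (inv_mem hg)) (inv_mem hh), ?_, fun d hd => ?_⟩
    · have h1 := acts_mul (inv_mem hh) (acts_mul (inv_mem hg) (acts_mul hh hgA' hA)
        (acts_inv hg hgA')) (acts_inv hh hA)
      have e : U * A * U⁻¹ * A⁻¹ = 1 := by
        funext j
        show U j * A j * (U j)⁻¹ * (A j)⁻¹ = 1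
        by_cases hj : j = i
        · rw [hj, hi]
          group
        · have : U j = 1 := by rw [hU, Function.update_of_ne hj]; rfl
          rw [this]
          group
      rwa [e] at h1
    · have e1 : Commute g d := hgD d hd
      have e2 : Commute h d := hD d hd
      exact (((e1.mul_left e2).mul_left e1.inv_left).mul_left e2.inv_left).eq
  have hxc : ∀ v ∈ V, x * v = v * x := fun v hv => M.cent_of_stab hm hxs hv
  -- choose `v`
  set y : Fin k → Fin 2 → F := Function.update 0 i ![M.nat.e n i 1, M.nat.e n i 0 + M.nat.e n i 1]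
    with hy
  obtain ⟨v, hv, hev⟩ := M.nat.surj y
  have hgv := M.Vn g hg v hv
  have hhv := M.Vn h hh v hv
  -- `δ(v)`
  set δ := h * v * h⁻¹ * v⁻¹ with hδ
  have hδD : δ ∈ D := by
    rw [← M.nat.ker _ (mul_mem hhv (inv_mem hv)), M.map_div hhv hv]
    funext j
    rw [Pi.sub_apply, hA v hv j, hev]
    by_cases hj : j = i
    · subst hj
      rw [hi, ap_one, sub_self]; rfl
    · have : y j = 0 := by rw [hy, Function.update_of_ne hj]; rfl
      rw [this]
      have e0 : ap (A j) 0 = 0 := by apply ext2 <;> simp [ap_zero', ap_one']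
      rw [e0, sub_self]; rfl
  have e1 : h * (g * v * g⁻¹) * h⁻¹ = δ * (g * v * g⁻¹) := by
    have e2 : h * (g * v * g⁻¹) * h⁻¹ = x⁻¹ * (g * (h * v * h⁻¹) * g⁻¹) * x := by
      rw [hx]; group
    have e3 : h * v * h⁻¹ = δ * v := by rw [hδ]; group
    have h4 : g * (h * v * h⁻¹) * g⁻¹ ∈ V := M.Vn g hg _ hhv
    have e5 : x⁻¹ * (g * (h * v * h⁻¹) * g⁻¹) * x = g * (h * v * h⁻¹) * g⁻¹ := by
      rw [mul_assoc, ← hxc _ h4, inv_mul_cancel_left]
    rw [e2, e5, e3]
    have e6 : g * (δ * v) * g⁻¹ = (g * δ * g⁻¹) * (g * v * g⁻¹) := by group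
    rw [e6, hgD δ hδD, mul_inv_cancel_right]
  -- `h` commutes with `g v g⁻¹ v⁻¹`
  set c := g * v * g⁻¹ * v⁻¹ with hc
  have hcV : c ∈ V := mul_mem hgv (inv_mem hv)
  have h6 : h * c * h⁻¹ = c := by
    have e7 : h * c * h⁻¹ = (h * (g * v * g⁻¹) * h⁻¹) * (h * v * h⁻¹)⁻¹ := by rw [hc]; group
    have e3 : h * v * h⁻¹ = δ * v := by rw [hδ]; group
    rw [e7, e1, e3, mul_inv_rev]
    have e8 : δ * (g * v * g⁻¹) * (v⁻¹ * δ⁻¹) = δ * c * δ⁻¹ := by rw [hc]; group
    rw [e8, M.Vcomm (M.DV hδD) hcV, mul_inv_cancel_right]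
  -- `n = c d`
  have hd : c⁻¹ * n ∈ D := by
    rw [← M.nat.ker _ (mul_mem (inv_mem hcV) hn), M.nat.mul _ (inv_mem hcV) n hn, M.map_inv hcV, hc,
      M.map_div hgv hv]
    funext j
    rw [Pi.add_apply, Pi.neg_apply, Pi.sub_apply, hgA' v hv j, hev]
    by_cases hj : j = i
    · subst hj
      rw [hU, Function.update_self]
      have hyj : y j = ![M.nat.e n j 1, M.nat.e n j 0 + M.nat.e n j 1] := by
        rw [hy, Function.update_self]
      have hB : ∀ z : Fin 2 → F, ap B0 z = ![z 1, z 0 + z 1] := by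
        intro z
        apply ext2
        · rw [ap_zero', hB0, mk_00, mk_01, zero_mul, one_mul, zero_add]; rfl
        · rw [ap_one', hB0, mk_10, mk_11, one_mul, one_mul]; rfl
      rw [hyj, hB]
      apply ext2
      · show -((M.nat.e n j 0 + M.nat.e n j 1) - M.nat.e n j 1) + M.nat.e n j 0 = 0
        ring
      · show -((M.nat.e n j 1 + (M.nat.e n j 0 + M.nat.e n j 1)) -
          (M.nat.e n j 0 + M.nat.e n j 1)) + M.nat.e n j 1 = 0
        ring
    · rw [hU, Function.update_of_ne hj]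
      have : y j = 0 := by rw [hy, Function.update_of_ne hj]; rfl
      rw [this, hn0 j hj, Pi.one_apply, ap_one]
      simp
  have e9 : n = c * (c⁻¹ * n) := by group
  have h7 : Commute h c := by
    show h * c = c * h
    calc h * c = h * c * h⁻¹ * h := by group
      _ = c * h := by rw [h6]
  have h8 : Commute h (c⁻¹ * n) := hD _ hd
  rw [e9]
  exact (h7.mul_right h8).eq

/-- Elements of `H` inducing `(1, .., A, .., 1)` centralise the kernel of the `i`-th coordinate. -/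
theorem act1 [Finite G] [CharP F 2] (hm : MinH H T) {h : G} (hh : h ∈ H) {i : Fin k}
    {A : Matrix.SpecialLinearGroup (Fin 2) F} {A' : Fin k → Matrix.SpecialLinearGroup (Fin 2) F}
    (hA : ActsSL M.nat.e V D h A') (hi : A' i = A) (ho : ∀ j, j ≠ i → A' j = 1) :
    Act1 (fun i g => M.nat.e g i) V i h A := by
  classical
  obtain ⟨h1, h2⟩ := hA
  refine ⟨fun v hv => by rw [h1 v hv i, hi], fun j hj v hv => ?_, fun v hv hv0 => ?_⟩
  · show M.nat.e (h * v * h⁻¹) j = M.nat.e v j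
    rw [h1 v hv j, ho j hj, ap_one]
  · have key : ∀ s : Finset (Fin k), i ∉ s → ∀ v ∈ V, (∀ j, j ∉ s → M.nat.e v j = 0) →
        h * v = v * h := by
      intro s
      induction s using Finset.induction_on with
      | empty =>
        intro _ v hv h0
        refine h2 v ((M.nat.ker v hv).1 ?_)
        funext j
        exact h0 j (by simp)
      | insert j s hj ih =>
        intro hi' v hv h0
        obtain ⟨n, hn, en⟩ := M.nat.surj (Function.update 0 j (M.nat.e v j))
        have hij : j ≠ i := by rintro rfl; simp at hi'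
        have h3 : Commute h n := M.cent_N hm hh (show M.Acts h A' from h1) h2 (ho j hij) hn
          fun l hl => by rw [en, Function.update_of_ne hl]; rfl
        have h4 : Commute h (n⁻¹ * v) := by
          refine ih (fun h => hi' (by simp [h])) _ (mul_mem (inv_mem hn) hv) fun l hl => ?_
          rw [M.nat.mul _ (inv_mem hn) v hv, M.map_inv hn, en, Pi.add_apply, Pi.neg_apply]
          by_cases hlj : l = j
          · subst hlj
            rw [Function.update_self, neg_add_cancel]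
          · rw [Function.update_of_ne hlj, h0 l (by simp [hlj, hl])]
            simp
        have e : v = n * (n⁻¹ * v) := by group
        rw [e]
        exact (h3.mul_right h4).eq
    exact key (Finset.univ.erase i) (by simp) v hv (by
      intro j hj
      have : j = i := by
        by_contra hji
        exact hj (Finset.mem_erase.2 ⟨hji, Finset.mem_univ j⟩)
      subst this
      exact hv0)

theorem off_AA [Finite G] (hm : MinH H T) {A : Subgroup G} (hA : A ∈ AA T)
    (hne : ¬ A ≤ centralizer (V : Set G)) : Off V A := by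
  refine ⟨hA.1, hne, ?_⟩
  have hVT : V ≤ T := M.VQ.trans (o2_le_syl hm.syl)
  have hVe : IsElementaryAbelian 2 V :=
    isElementaryAbelian_iff.2 ⟨fun v hv w hw => M.Vcomm hv hw, M.Vsq⟩
  have hc : ∀ a ∈ A ⊓ centralizer (V : Set G), ∀ v ∈ V, a * v = v * a := fun a ha v hv =>
    (mem_centralizer_iff.1 ha.2 v hv).symm
  have h1 : IsElementaryAbelian 2 ((A ⊓ centralizer (V : Set G)) ⊔ V : Subgroup G) :=
    isElementaryAbelian_sup (isElementaryAbelian_mono hA.1 inf_le_left) hVe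
      fun v hv => mem_centralizer_iff.2 fun a ha => hc a ha v hv
  have h2 := hA.2.2 _ h1 (sup_le (inf_le_left.trans hA.2.1) hVT)
  have h3 := card_sup_comm hc
  have h4 : Nat.card ↥((A ⊓ centralizer (V : Set G)) ⊓ V) ≤
      Nat.card ↥(V ⊓ centralizer (A : Set G)) := by
    refine Subgroup.card_le_of_le ?_
    rintro v ⟨⟨hvA, -⟩, hvV⟩
    exact ⟨hvV, mem_centralizer_iff.2 fun a ha => elem_comm hA.1 a ha v hvA⟩
  calc Nat.card V * Nat.card ↥(A ⊓ centralizer (V : Set G))
      = Nat.card ↥((A ⊓ centralizer (V : Set G)) ⊔ V) *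
        Nat.card ↥((A ⊓ centralizer (V : Set G)) ⊓ V) := by rw [h3, mul_comm]
    _ ≤ Nat.card A * Nat.card ↥(V ⊓ centralizer (A : Set G)) := Nat.mul_le_mul h2 h4

/-- `NatK` gives `FFK`. -/
def toFFK [Finite G] [CharP F 2] (hm : MinH H T) (M : NatKB F T H V D k) :
    FFK (Fin k) F H T V D where
  π i g := M.nat.e g i
  map_mul i v hv w hw := by rw [M.nat.mul v hv w hw]; rfl
  V0V := M.DV
  ker v hv := by
    rw [← M.nat.ker v hv]
    exact ⟨fun h => funext h, fun h i => by rw [h]; rfl⟩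
  surj i x := by
    classical
    obtain ⟨v, hv, e⟩ := M.nat.surj (Function.update 0 i x)
    exact ⟨v, hv, by rw [e, Function.update_self], fun j hj => by
      rw [e, Function.update_of_ne hj]; rfl⟩
  Vn := M.Vn
  perm h hh i := by
    obtain ⟨σ, hσ⟩ := M.nat.perm h hh
    exact ⟨σ i, fun v hv h0 => (hσ v hv i).2 h0⟩
  lift i A := by
    classical
    obtain ⟨h, hh, hA⟩ := M.nat.lift (Function.update 1 i A)
    exact ⟨h, hh, M.act1 hm hh hA (Function.update_self ..) fun j hj => by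
      rw [Function.update_of_ne hj]; rfl⟩
  norm i g hg _ h hh A hA := by
    classical
    obtain ⟨B, hB⟩ := M.nat.norm g hg h hh (Function.update 1 i A) (by
      intro v hv j
      by_cases hj : j = i
      · subst hj
        rw [Function.update_self]
        exact hA.act v hv
      · rw [Function.update_of_ne hj, Pi.one_apply, ap_one]
        exact hA.oth j hj v hv)
    exact ⟨B i, fun v hv => hB v hv i⟩
  off1 A hA a ha i := by
    by_cases hne : A ≤ centralizer (V : Set G)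
    · refine ⟨0, fun v hv => ?_⟩
      rw [up_zero, ap_one, ← mem_centralizer_iff.1 (hne ha) v hv, mul_inv_cancel_right]
    · obtain ⟨I, h1, -⟩ := M.nat.off A hA.2.1 (M.off_AA hm hA hne)
      obtain ⟨b, -, hb⟩ := h1 a ha
      exact ⟨b i, fun v hv => hb.1 v hv i⟩
  off2 A hA i hi c := by
    classical
    by_cases hne : A ≤ centralizer (V : Set G)
    · exfalso
      apply hi
      intro a ha v hv
      show M.nat.e (a * v * a⁻¹) i = M.nat.e v i
      rw [← mem_centralizer_iff.1 (hne ha) v hv, mul_inv_cancel_right]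
    · obtain ⟨I, h1, h2⟩ := M.nat.off A hA.2.1 (M.off_AA hm hA hne)
      have hiI : i ∈ I := by
        by_contra hiI
        apply hi
        intro a ha v hv
        obtain ⟨b, hb0, hb⟩ := h1 a ha
        show M.nat.e (a * v * a⁻¹) i = M.nat.e v i
        rw [hb.1 v hv i]
        show ap (up (b i)) _ = _
        rw [hb0 i hiI, up_zero, ap_one]
      obtain ⟨a, ha, hac⟩ := h2 (Pi.single i c) fun j hj => by
        have hji : j ≠ i := by rintro rfl; exact hj hiI
        rw [Pi.single_eq_of_ne hji]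
      refine ⟨a, ha, M.act1 hm (hm.syl.1 (hA.2.1 ha)) hac (by rw [Pi.single_eq_same]) ?_⟩
      intro j hj
      rw [Pi.single_eq_of_ne hj, up_zero]
  trans i j := by
    obtain ⟨t, ht, h⟩ := M.nat.trans i j
    exact ⟨t, ht, fun v hv h0 => (h v hv).2 h0⟩
  VQ := M.VQ
  Vsq := M.Vsq
  VcQ := M.VcQ
  nle := M.nle

end NatKB

/-! ### Minimal parabolics -/

theorem minH_of [Finite G] {T H : Subgroup G} (hT : Syl T H) (hP : IsMinPar T H)
    (hc : H ⊓ centralizer (o2 H : Set G) ≤ o2 H) : MinH H T where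
  syl := hT
  uniq := by
    obtain ⟨M, hM, h⟩ := hP.exists_max
    exact ⟨M, fun hle => hM.2 hle, fun X h1 h2 h3 => h X h1 (lt_of_le_of_ne h2 h3)⟩
  self_cent := hc

/-- The data for a minimal parabolic. -/
def natKB_of [Finite G] {F : Type} [Field F] {T H : Subgroup G} {k : ℕ} (hT : Syl T H)
    (hc : H ⊓ centralizer (o2 H : Set G) ≤ o2 H) (hJ : ¬ jj T ≤ o2 H) (hk : 0 < k)
    (M : NatK F T H (zl T H) (cv T H) k) : NatKB F T H (zl T H) (cv T H) k where
  nat := M
  DV := inf_le_left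
  Vn h hh v hv := (mem_normalizer_iff.1 (MinSimple.VModule.le_normalizer_zl T H hh) v).1 hv
  VQ := (MinSimple.VModule.zl_le_zc hT.1 hT.2.1 (syl_not_dvd hT) hc).trans fun x hx =>
    (mem_zc.1 hx).1
  Vsq v hv := (mem_zc.1 (MinSimple.VModule.zl_le_zc hT.1 hT.2.1 (syl_not_dvd hT) hc hv)).2.1
  VcQ x hx v hv := by
    have := (mem_zc.1 (MinSimple.VModule.zl_le_zc hT.1 hT.2.1 (syl_not_dvd hT) hc hv)).2.2 x hx
    first
      | exact this
      | exact this.symm
  nle := hJ
  pos := hk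

/-- **L1 (`k` blocks)** for a minimal parabolic. -/
theorem exists_inK [Finite G] {F : Type} [Field F] [Finite F] [CharP F 2] {T H : Subgroup G} {k : ℕ}
    (hT : Syl T H) (hP : IsMinPar T H) (hc : H ⊓ centralizer (o2 H : Set G) ≤ o2 H)
    (hJ : ¬ jj T ≤ o2 H) (hk : 0 < k) (M : NatK F T H (zl T H) (cv T H) k) :
    ∃ N E : Fin k → Subgroup G, BauK.InK H T (o2 H) (zl T H) (cv T H) N E (Nat.card F) := by
  have : Nonempty (Fin k) := ⟨⟨0, hk⟩⟩
  have hm := minH_of hT hP hc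
  exact ⟨_, FFK.toInK hm ((natKB_of hT hc hJ hk M).toFFK hm)⟩

end Cfsg.Agent.Omega.SQ1.FFOne
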