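import Cfsg.Agent.ZN.ChoiceBase
import Cfsg.Agent.PLocal.ElemAbSup
import Cfsg.Agent.Lib.ProductSet

/-!
# SQ1.3: Baumann blocks (one block, natural `SL₂(q)`-module)

`T` is a Sylow 2-subgroup of `H`, `Q = C_T(V)` is normal in `H`, `V` is an elementary abelian normal
subgroup of `H` such that `V / V0` is a natural `SL₂(q)`-module for `⟨J(T)^H⟩`; `V1 = C_V(J(T))`.
With `Z = Ω₁(Z(J(T)))`, `B = C_T(Z)`, `Y = V Z`, `B ∩ Q = C_T(Y)` the Baumann argument gives: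
`Y` is normal in `H`, `C_Y(b) = Z` for `b ∈ B - Q`, `|Y : Z| = |B : B ∩ Q| = q`, `B ∩ Q` is normal in
`H`, `Y = V (Z ∩ Z^h)` for every `h ∈ H` which moves `V1`.
-/

set_option autoImplicit false

namespace Cfsg.Agent.Omega.SQ1.Bau

open Subgroup Cfsg Cfsg.Agent.PLocal.ThompsonJ Cfsg.Agent.ZN Cfsg.Agent.ZN.ChoiceBase
open Cfsg.Agent.PLocal.ElemAbSup
open scoped Pointwise

universe u

variable {G : Type u} [Group G]

/-- Input of the Baumann argument. -/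
structure In (H T Q V V1 V0 : Subgroup G) (q : ℕ) : Prop where
  TH : T ≤ H
  QT : Q ≤ T
  VQ : V ≤ Q
  Qn : ∀ h ∈ H, ∀ x ∈ Q, h * x * h⁻¹ ∈ Q
  Vn : ∀ h ∈ H, ∀ x ∈ V, h * x * h⁻¹ ∈ V
  Vsq : ∀ v ∈ V, v ^ 2 = 1
  VcQ : ∀ x ∈ Q, ∀ v ∈ V, x * v = v * x
  cT : ∀ t ∈ T, (∀ v ∈ V, t * v = v * t) → t ∈ Q
  V1V : V1 ≤ V
  V01 : V0 ≤ V1
  V0n : ∀ h ∈ H, ∀ x ∈ V0, h * x * h⁻¹ ∈ V0
  cardV : Nat.card V = Nat.card V1 * q
  cardV1 : Nat.card V1 = Nat.card V0 * q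
  one_lt : 1 < q
  JcV1 : ∀ a ∈ jj T, ∀ v ∈ V1, a * v = v * a
  cb : ∀ b ∈ jj T, b ∉ Q → ∀ v ∈ V, b * v = v * b → v ∈ V1
  quad : ∀ b ∈ jj T, ∀ v ∈ V, b * v * b⁻¹ * v⁻¹ ∈ V1
  faith : ∀ b ∈ jj T, b ∉ Q → ∃ v ∈ V, b * v * b⁻¹ * v⁻¹ ∉ V0
  field : ∀ t ∈ T, (∀ v ∈ V1, t * v = v * t) → t ∈ jj T ⊔ Q
  off : ∀ A ∈ AA T, ¬ A ≤ Q → Nat.card A = Nat.card ↥(A ⊓ Q) * q ∧ jj T ≤ A ⊔ Q
  nle : ¬ jj T ≤ Q
  opp : ∀ h ∈ H, (∃ v ∈ V1, h * v * h⁻¹ ∉ V1) →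
    ∀ v ∈ V1, h * v * h⁻¹ ∈ V1 → h * v * h⁻¹ ∈ V0
  ne : ∃ h ∈ H, ∃ v ∈ V1, h * v * h⁻¹ ∉ V1
  max : ∀ X : Subgroup G, T ≤ X → X ≤ H → (∃ x ∈ X, ∃ v ∈ V1, x * v * x⁻¹ ∉ V1) → H ≤ X

/-! ### General lemmas -/

theorem mem_AA_of_comm [Finite G] {T A : Subgroup G} (hA : A ∈ AA T) {x : G} (hxT : x ∈ T)
    (hx2 : x ^ 2 = 1) (hc : ∀ a ∈ A, a * x = x * a) : x ∈ A := by
  have hle : zpowers x ≤ centralizer (A : Set G) := by
    rw [zpowers_le, mem_centralizer_iff]; exact hc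
  have h1 := isElementaryAbelian_sup hA.1 (isElementaryAbelian_zpowers hx2) hle
  have h2 := hA.2.2 _ h1 (sup_le hA.2.1 (by rwa [zpowers_le]))
  have h3 : A = A ⊔ zpowers x := Subgroup.eq_of_le_of_card_ge le_sup_left h2
  rw [h3]
  exact mem_sup_right (mem_zpowers x)

theorem zj_le_AA [Finite G] {T A : Subgroup G} (hA : A ∈ AA T) : zj T ≤ A := by
  intro z hz
  have hz' := mem_zj.1 hz
  exact mem_AA_of_comm hA (jj_le T hz'.1) hz'.2.1 fun a ha => hz'.2.2 a (le_jj hA ha)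

theorem elem_comm {A : Subgroup G} (hA : IsElementaryAbelian 2 A) :
    ∀ a ∈ A, ∀ b ∈ A, a * b = b * a := (isElementaryAbelian_iff.1 hA).1

theorem elem_sq {A : Subgroup G} (hA : IsElementaryAbelian 2 A) : ∀ a ∈ A, a ^ 2 = 1 :=
  (isElementaryAbelian_iff.1 hA).2

/-- The elements of `A ⊔ B` for commuting `A`, `B`. -/
theorem mem_sup_comm {A B : Subgroup G} (h : ∀ a ∈ A, ∀ b ∈ B, a * b = b * a) {x : G}
    (hx : x ∈ A ⊔ B) : ∃ a ∈ A, ∃ b ∈ B, x = a * b := by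
  have hle : B ≤ centralizer (A : Set G) := fun b hb =>
    mem_centralizer_iff.2 fun a ha => h a ha b hb
  have h1 : x ∈ (A : Set G) * (B : Set G) := by
    rw [← coe_sup_of_le_centralizer hle]; exact hx
  obtain ⟨a, ha, b, hb, rfl⟩ := Set.mem_mul.1 h1
  exact ⟨a, ha, b, hb, rfl⟩

theorem card_sup_comm {A B : Subgroup G} (h : ∀ a ∈ A, ∀ b ∈ B, a * b = b * a) :
    Nat.card ↥(A ⊔ B) * Nat.card ↥(A ⊓ B) = Nat.card A * Nat.card B :=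
  card_sup_mul_card_inf fun b hb => mem_centralizer_iff.2 fun a ha => h a ha b hb

theorem mem_sup_norm {A B : Subgroup G} (h : A ≤ normalizer (B : Set G)) {x : G}
    (hx : x ∈ A ⊔ B) : ∃ a ∈ A, ∃ b ∈ B, x = a * b := by
  have h1 : x ∈ (A : Set G) * (B : Set G) := by
    rw [← Subgroup.coe_mul_of_left_le_normalizer_right A B h]; exact hx
  obtain ⟨a, ha, b, hb, rfl⟩ := Set.mem_mul.1 h1
  exact ⟨a, ha, b, hb, rfl⟩

namespace In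

variable {H T Q V V1 V0 : Subgroup G} {q : ℕ}

theorem Vcomm (h : In H T Q V V1 V0 q) : ∀ v ∈ V, ∀ w ∈ V, v * w = w * v :=
  fun v hv w hw => h.VcQ v (h.VQ hv) w hw

theorem Velem (h : In H T Q V V1 V0 q) : IsElementaryAbelian 2 V :=
  isElementaryAbelian_iff.2 ⟨h.Vcomm, h.Vsq⟩

theorem T_norm (h : In H T Q V V1 V0 q) [Finite G] : H ≤ normalizer (Q : Set G) := fun g hg =>
  mem_normalizer_of_cj_le (by
    intro x hx
    rw [mem_cj] at hx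
    have := h.Qn g hg _ hx
    have e : g * (g⁻¹ * x * g) * g⁻¹ = x := by group
    rwa [e] at this)

theorem card_V1_pos (h : In H T Q V V1 V0 q) [Finite G] : 0 < Nat.card V1 := Nat.card_pos

/-- An offender outside `Q`. -/
theorem exists_off (h : In H T Q V V1 V0 q) : ∃ A ∈ AA T, ¬ A ≤ Q := by
  by_contra hc
  push Not at hc
  apply h.nle
  rw [jj_eq]
  exact sSup_le hc

theorem V1_le (h : In H T Q V V1 V0 q) [Finite G] {A : Subgroup G} (hA : A ∈ AA T) : V1 ≤ A :=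
  fun v hv => mem_AA_of_comm hA (h.QT (h.VQ (h.V1V hv))) (h.Vsq v (h.V1V hv))
    fun a ha => h.JcV1 a (le_jj hA ha) v hv

theorem inf_V (h : In H T Q V V1 V0 q) [Finite G] {A : Subgroup G} (hA : A ∈ AA T)
    (hAQ : ¬ A ≤ Q) : (A ⊓ Q) ⊓ V = V1 := by
  apply le_antisymm
  · rintro v ⟨⟨hvA, -⟩, hvV⟩
    obtain ⟨b, hb, hbQ⟩ := SetLike.not_le_iff_exists.1 hAQ
    exact h.cb b (le_jj hA hb) hbQ v hvV (elem_comm hA.1 b hb v hvA)
  · exact fun v hv => ⟨⟨h.V1_le hA hv, h.VQ (h.V1V hv)⟩, h.V1V hv⟩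

/-- `(A ∩ Q) V` is again a member of `A(T)`. -/
theorem replace (h : In H T Q V V1 V0 q) [Finite G] {A : Subgroup G} (hA : A ∈ AA T)
    (hAQ : ¬ A ≤ Q) : (A ⊓ Q) ⊔ V ∈ AA T := by
  have hc : ∀ a ∈ A ⊓ Q, ∀ v ∈ V, a * v = v * a := fun a ha v hv => h.VcQ a ha.2 v hv
  have h1 : IsElementaryAbelian 2 ((A ⊓ Q) ⊔ V : Subgroup G) :=
    isElementaryAbelian_sup (isElementaryAbelian_mono hA.1 inf_le_left) h.Velem
      fun v hv => mem_centralizer_iff.2 fun a ha => hc a ha v hv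
  rw [mem_AA_iff]
  refine ⟨h1, sup_le (inf_le_right.trans h.QT) (h.VQ.trans h.QT), ?_⟩
  have h2 := card_sup_comm hc
  rw [h.inf_V hA hAQ, h.cardV] at h2
  have h3 : Nat.card ↥((A ⊓ Q) ⊔ V : Subgroup G) = Nat.card ↥(A ⊓ Q) * q := by
    have hp := h.card_V1_pos
    have e : Nat.card ↥((A ⊓ Q) ⊔ V : Subgroup G) * Nat.card V1 =
      Nat.card ↥(A ⊓ Q) * q * Nat.card V1 := by rw [h2]; ring
    exact Nat.eq_of_mul_eq_mul_right hp e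
  rw [h3, ← (h.off A hA hAQ).1, mm_eq hA]

theorem exists_AQ (h : In H T Q V V1 V0 q) [Finite G] : ∃ A ∈ AA T, A ≤ Q ∧ V ≤ A := by
  obtain ⟨A, hA, hAQ⟩ := h.exists_off
  exact ⟨_, h.replace hA hAQ, sup_le inf_le_right h.VQ, le_sup_right⟩

theorem Z_le_Q (h : In H T Q V V1 V0 q) [Finite G] : zj T ≤ Q := by
  obtain ⟨A, hA, hAQ, -⟩ := h.exists_AQ
  exact (zj_le_AA hA).trans hAQ

theorem mm_le (h : In H T Q V V1 V0 q) [Finite G] : mm T ≤ mm Q := by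
  obtain ⟨A, hA, hAQ, -⟩ := h.exists_AQ
  rw [mm_eq hA]
  exact card_le_mm hA.1 hAQ

theorem AA_of_le (h : In H T Q V V1 V0 q) [Finite G] {A : Subgroup G} (hA : A ∈ AA T)
    (hAQ : A ≤ Q) : A ∈ AA Q :=
  ⟨hA.1, hAQ, fun B hB hBQ => hA.2.2 B hB (hBQ.trans h.QT)⟩

theorem jjQ_le (h : In H T Q V V1 V0 q) [Finite G] : jj Q ≤ jj T := jj_mono h.QT h.mm_le

theorem Z_le_zjQ (h : In H T Q V V1 V0 q) [Finite G] : zj T ≤ zj Q := by
  intro z hz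
  obtain ⟨A, hA, hAQ, -⟩ := h.exists_AQ
  have hz' := mem_zj.1 hz
  exact mem_zj.2 ⟨le_jj (h.AA_of_le hA hAQ) (zj_le_AA hA hz), hz'.2.1,
    fun y hy => hz'.2.2 y (h.jjQ_le hy)⟩

theorem V_le_zjQ (h : In H T Q V V1 V0 q) [Finite G] : V ≤ zj Q := by
  intro v hv
  obtain ⟨A, hA, hAQ, hVA⟩ := h.exists_AQ
  exact mem_zj.2 ⟨le_jj (h.AA_of_le hA hAQ) (hVA hv), h.Vsq v hv,
    fun y hy => h.VcQ y (jj_le Q hy) v hv⟩

theorem zj_elem (U : Subgroup G) : IsElementaryAbelian 2 (zj U) :=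
  isElementaryAbelian_iff.2 ⟨fun a ha b hb => (mem_zj.1 hb).2.2 a (mem_zj.1 ha).1,
    fun a ha => (mem_zj.1 ha).2.1⟩

theorem zj_le (U : Subgroup G) : zj U ≤ U := fun _ hx => jj_le U (mem_zj.1 hx).1

/-- `zj Q = V C_{zj Q}(A)`. -/
theorem split_A (h : In H T Q V V1 V0 q) [Finite G] {A : Subgroup G} (hA : A ∈ AA T)
    (hAQ : ¬ A ≤ Q) {y : G} (hy : y ∈ zj Q) :
    ∃ v ∈ V, ∃ c ∈ zj Q, (∀ a ∈ A, a * c = c * a) ∧ y = v * c := by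
  have hA' := h.replace hA hAQ
  have hA'Q : (A ⊓ Q) ⊔ V ≤ Q := sup_le inf_le_right h.VQ
  have hAj : A ⊓ Q ≤ jj Q := le_sup_left.trans (le_jj (h.AA_of_le hA' hA'Q))
  have hc : ∀ a ∈ A ⊓ Q, ∀ z ∈ zj Q, a * z = z * a := fun a ha z hz =>
    (mem_zj.1 hz).2.2 a (hAj ha)
  have h1 : IsElementaryAbelian 2 ((A ⊓ Q) ⊔ zj Q : Subgroup G) :=
    isElementaryAbelian_sup (isElementaryAbelian_mono hA.1 inf_le_left) (zj_elem Q)
      fun v hv => mem_centralizer_iff.2 fun a ha => hc a ha v hv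
  have h2 := hA.2.2 _ h1 (sup_le (inf_le_right.trans h.QT) ((zj_le Q).trans h.QT))
  have h3 := card_sup_comm hc
  rw [(h.off A hA hAQ).1] at h2
  set C := (A ⊓ Q) ⊓ zj Q with hC
  have h4 : Nat.card (zj Q) ≤ q * Nat.card C := by
    have hp : 0 < Nat.card ↥(A ⊓ Q) := Nat.card_pos
    have e : Nat.card ↥(A ⊓ Q) * Nat.card (zj Q) ≤ Nat.card ↥(A ⊓ Q) * (q * Nat.card C) := by
      rw [← h3]
      calc _ ≤ Nat.card ↥(A ⊓ Q) * q * Nat.card C := Nat.mul_le_mul_right _ h2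
        _ = _ := by ring
    exact Nat.le_of_mul_le_mul_left e hp
  have hVC : ∀ v ∈ V, ∀ c ∈ C, v * c = c * v := fun v hv c hc' => (h.VcQ c hc'.1.2 v hv).symm
  have h5 := card_sup_comm hVC
  have h6 : V ⊓ C = V1 := by
    rw [hC, inf_comm, inf_right_comm, h.inf_V hA hAQ]
    exact inf_eq_left.2 (h.V1V.trans h.V_le_zjQ)
  rw [h6, h.cardV] at h5
  have h7 : Nat.card ↥(V ⊔ C) = q * Nat.card C := by
    have hp := h.card_V1_pos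
    have e : Nat.card ↥(V ⊔ C) * Nat.card V1 = q * Nat.card C * Nat.card V1 := by rw [h5]; ring
    exact Nat.eq_of_mul_eq_mul_right hp e
  have h8 : V ⊔ C = zj Q :=
    Subgroup.eq_of_le_of_card_ge (sup_le h.V_le_zjQ inf_le_right) (by rw [h7]; exact h4)
  rw [← h8] at hy
  obtain ⟨v, hv, c, hc', rfl⟩ := mem_sup_comm hVC hy
  exact ⟨v, hv, c, hc'.2, fun a ha => elem_comm hA.1 a ha c hc'.1.1, rfl⟩

/-- The elements of `H` which act trivially on `zj Q / V`. -/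
def S (H Q V : Subgroup G) : Set G := {g | g ∈ H ∧ ∀ y ∈ zj Q, g * y * g⁻¹ * y⁻¹ ∈ V}

theorem zjQ_norm (h : In H T Q V V1 V0 q) [Finite G] {g : G} (hg : g ∈ H) {y : G}
    (hy : y ∈ zj Q) : g * y * g⁻¹ ∈ zj Q :=
  (mem_normalizer_iff.1 (normalizer_le_of_cj (F := zj) zj_cj Q (h.T_norm hg)) y).1 hy

theorem jj_act (h : In H T Q V V1 V0 q) [Finite G] : ∀ j ∈ jj T, ∀ y ∈ zj Q,
    j * y * j⁻¹ * y⁻¹ ∈ V := by
  let S : Subgroup G :=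
    { carrier := {g | g ∈ H ∧ ∀ y ∈ zj Q, g * y * g⁻¹ * y⁻¹ ∈ V}
      mul_mem' := by
        rintro a b ⟨ha, ha'⟩ ⟨hb, hb'⟩
        refine ⟨mul_mem ha hb, fun y hy => ?_⟩
        have e : a * b * y * (a * b)⁻¹ * y⁻¹ =
          (a * (b * y * b⁻¹ * y⁻¹) * a⁻¹) * (a * y * a⁻¹ * y⁻¹) := by group
        rw [e]
        exact mul_mem (h.Vn a ha _ (hb' y hy)) (ha' y hy)
      one_mem' := ⟨one_mem _, fun y _ => by simp⟩
      inv_mem' := by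
        rintro a ⟨ha, ha'⟩
        refine ⟨inv_mem ha, fun y hy => ?_⟩
        have e : a⁻¹ * y * a⁻¹⁻¹ * y⁻¹ = a⁻¹ * (a * y * a⁻¹ * y⁻¹)⁻¹ * a⁻¹⁻¹ := by group
        rw [e]
        exact h.Vn _ (inv_mem ha) _ (inv_mem (ha' y hy)) }
  have hS : jj T ≤ S := by
    rw [jj_eq]
    refine sSup_le fun A hA => fun a ha => ⟨h.TH (hA.2.1 ha), fun y hy => ?_⟩
    by_cases hAQ : A ≤ Q
    · have h1 : a * y = y * a := (mem_zj.1 hy).2.2 a (le_jj (h.AA_of_le hA hAQ) ha)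
      rw [h1]
      simp
    · obtain ⟨v, hv, c, hc, hac, rfl⟩ := h.split_A hA hAQ hy
      have e : a * (v * c) * a⁻¹ * (v * c)⁻¹ = a * v * a⁻¹ * (a * c * a⁻¹) * c⁻¹ * v⁻¹ := by group
      have e2 : a * c * a⁻¹ = c := by rw [hac a ha]; group
      rw [e, e2]
      have e3 : a * v * a⁻¹ * c * c⁻¹ * v⁻¹ = (a * v * a⁻¹) * v⁻¹ := by group
      rw [e3]
      exact mul_mem (h.Vn a (h.TH (hA.2.1 ha)) v hv) (inv_mem hv)
  exact fun j hj => (hS hj).2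

/-! ### Conjugates of `V1` -/

theorem conj_inter (h : In H T Q V V1 V0 q) {g : G} (hg : g ∈ H)
    (hne : ∃ v ∈ V1, g * v * g⁻¹ ∉ V1) : V1 ⊓ cj g V1 = V0 := by
  apply le_antisymm
  · intro v hv
    obtain ⟨hv1, hv2⟩ := mem_inf.1 hv
    rw [mem_cj] at hv2
    have := h.opp g hg hne (g⁻¹ * v * g) hv2 (by
      have e : g * (g⁻¹ * v * g) * g⁻¹ = v := by group
      rwa [e])
    have e : g * (g⁻¹ * v * g) * g⁻¹ = v := by group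
    rwa [e] at this
  · intro v hv
    refine mem_inf.2 ⟨h.V01 hv, ?_⟩
    rw [mem_cj]
    have := h.V0n g⁻¹ (inv_mem hg) v hv
    rw [inv_inv] at this
    exact h.V01 this

theorem cj_le_V (h : In H T Q V V1 V0 q) {g : G} (hg : g ∈ H) : cj g V1 ≤ V := by
  intro v hv
  rw [mem_cj] at hv
  have := h.Vn g hg _ (h.V1V hv)
  have e : g * (g⁻¹ * v * g) * g⁻¹ = v := by group
  rwa [e] at this

theorem sup_conj (h : In H T Q V V1 V0 q) [Finite G] {g : G} (hg : g ∈ H)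
    (hne : ∃ v ∈ V1, g * v * g⁻¹ ∉ V1) : V1 ⊔ cj g V1 = V := by
  have hc : ∀ a ∈ V1, ∀ b ∈ cj g V1, a * b = b * a := fun a ha b hb =>
    h.Vcomm a (h.V1V ha) b (h.cj_le_V hg hb)
  have h1 := card_sup_comm hc
  rw [h.conj_inter hg hne, card_cj] at h1
  refine Subgroup.eq_of_le_of_card_ge (sup_le h.V1V (h.cj_le_V hg)) ?_
  have hp : 0 < Nat.card V0 := Nat.card_pos
  have e : Nat.card ↥(V1 ⊔ cj g V1) * Nat.card V0 = Nat.card V * Nat.card V0 := by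
    rw [h1, h.cardV]
    nth_rw 2 [h.cardV1]
    ring
  exact (Nat.eq_of_mul_eq_mul_right hp e).ge

theorem split_V (h : In H T Q V V1 V0 q) [Finite G] {g : G} (hg : g ∈ H)
    (hne : ∃ v ∈ V1, g * v * g⁻¹ ∉ V1) {v : G} (hv : v ∈ V) :
    ∃ a ∈ V1, ∃ b ∈ V1, v = a * (g * b * g⁻¹) := by
  rw [← h.sup_conj hg hne] at hv
  obtain ⟨a, ha, b, hb, rfl⟩ := mem_sup_comm (fun a ha b hb =>
    h.Vcomm a (h.V1V ha) b (h.cj_le_V hg hb)) hv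
  rw [mem_cj] at hb
  exact ⟨a, ha, _, hb, by group⟩

/-- An element acting like a member of `J(T) - Q` does not normalise another conjugate of `V1`. -/
theorem moves_gen (h : In H T Q V V1 V0 q) [Finite G] {g b : G} (hg : g ∈ H)
    (hne : ∃ v ∈ V1, g * v * g⁻¹ ∉ V1) (hb1 : ∀ v ∈ V, b * v * b⁻¹ * v⁻¹ ∈ V1)
    (hb2 : ∀ v ∈ V1, b * v = v * b) (hb3 : ∃ v ∈ V, b * v * b⁻¹ * v⁻¹ ∉ V0) :
    ∃ v ∈ V1, (g * b * g⁻¹) * v * (g * b * g⁻¹)⁻¹ ∉ V1 := by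
  by_contra hcon
  push Not at hcon
  set x := g * b * g⁻¹ with hx
  have key : ∀ v ∈ V, x * v * x⁻¹ * v⁻¹ = g * (b * (g⁻¹ * v * g) * b⁻¹ * (g⁻¹ * v * g)⁻¹) * g⁻¹ := by
    intro v _
    rw [hx]; group
  have hgV : ∀ v ∈ V, g⁻¹ * v * g ∈ V := fun v hv => by
    have := h.Vn g⁻¹ (inv_mem hg) v hv
    rwa [inv_inv] at this
  have h1 : ∀ v ∈ V1, x * v * x⁻¹ * v⁻¹ ∈ V0 := by
    intro v hv
    have h2 : x * v * x⁻¹ * v⁻¹ ∈ V1 := mul_mem (hcon v hv) (inv_mem hv)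
    rw [key v (h.V1V hv)] at h2 ⊢
    exact h.opp g hg hne _ (hb1 _ (hgV v (h.V1V hv))) h2
  have h3 : ∀ v ∈ V, x * v * x⁻¹ * v⁻¹ ∈ V0 := by
    intro v hv
    obtain ⟨a, ha, c, hc, rfl⟩ := h.split_V hg hne hv
    have e1 : x * (g * c * g⁻¹) * x⁻¹ = g * c * g⁻¹ := by
      have : x * (g * c * g⁻¹) * x⁻¹ = g * (b * c * b⁻¹) * g⁻¹ := by rw [hx]; group
      rw [this, hb2 c hc]; group
    have e2 : x * (a * (g * c * g⁻¹)) * x⁻¹ * (a * (g * c * g⁻¹))⁻¹ =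
        x * a * x⁻¹ * (x * (g * c * g⁻¹) * x⁻¹) * (g * c * g⁻¹)⁻¹ * a⁻¹ := by group
    rw [e2, e1]
    have e3 : x * a * x⁻¹ * (g * c * g⁻¹) * (g * c * g⁻¹)⁻¹ * a⁻¹ = x * a * x⁻¹ * a⁻¹ := by group
    rw [e3]
    exact h1 a ha
  obtain ⟨v, hv, hv0⟩ := hb3
  apply hv0
  have h4 := h3 (g * v * g⁻¹) (h.Vn g hg v hv)
  rw [key _ (h.Vn g hg v hv)] at h4
  have h5 := h.V0n g⁻¹ (inv_mem hg) _ h4
  have e : g⁻¹ * (g * (b * (g⁻¹ * (g * v * g⁻¹) * g) * b⁻¹ * (g⁻¹ * (g * v * g⁻¹) * g)⁻¹) * g⁻¹) *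
      g⁻¹⁻¹ = b * v * b⁻¹ * v⁻¹ := by group
  rwa [e] at h5

theorem moves_jj (h : In H T Q V V1 V0 q) [Finite G] {g b : G} (hg : g ∈ H)
    (hne : ∃ v ∈ V1, g * v * g⁻¹ ∉ V1) (hb : b ∈ jj T) (hbQ : b ∉ Q) :
    ∃ v ∈ V1, (g * b * g⁻¹) * v * (g * b * g⁻¹)⁻¹ ∉ V1 :=
  h.moves_gen hg hne (h.quad b hb) (h.JcV1 b hb) (h.faith b hb hbQ)

/-! ### The group `Y = V Z` -/

/-- `Y = Z V`. -/
def Y (T V : Subgroup G) : Subgroup G := zj T ⊔ V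

theorem Z_le_Y (T V : Subgroup G) : zj T ≤ Y T V := le_sup_left

theorem V_le_Y (T V : Subgroup G) : V ≤ Y T V := le_sup_right

theorem ZcV (h : In H T Q V V1 V0 q) [Finite G] : ∀ z ∈ zj T, ∀ v ∈ V, z * v = v * z :=
  fun z hz v hv => h.VcQ z (h.Z_le_Q hz) v hv

theorem mem_Y (h : In H T Q V V1 V0 q) [Finite G] {y : G} (hy : y ∈ Y T V) :
    ∃ z ∈ zj T, ∃ v ∈ V, y = z * v := mem_sup_comm h.ZcV hy

theorem Y_le_Q (h : In H T Q V V1 V0 q) [Finite G] : Y T V ≤ Q := sup_le h.Z_le_Q h.VQ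

theorem Y_elem (h : In H T Q V V1 V0 q) [Finite G] : IsElementaryAbelian 2 (Y T V) :=
  isElementaryAbelian_sup (zj_elem T) h.Velem
    fun v hv => mem_centralizer_iff.2 fun z hz => h.ZcV z hz v hv

theorem V1_le_Z (h : In H T Q V V1 V0 q) [Finite G] : V1 ≤ zj T := by
  intro v hv
  have hvT : v ∈ T := h.QT (h.VQ (h.V1V hv))
  have hc : ∀ y ∈ jj T, y * v = v * y := fun y hy => h.JcV1 y hy v hv
  exact mem_zj.2 ⟨mem_jj_of_comm hvT (h.Vsq v (h.V1V hv)) hc, h.Vsq v (h.V1V hv), hc⟩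

theorem T_norm_Z (T : Subgroup G) {t : G} (ht : t ∈ T) {z : G} (hz : z ∈ zj T) :
    t * z * t⁻¹ ∈ zj T :=
  (mem_normalizer_iff.1 (normalizer_le_of_cj (F := zj) zj_cj T (le_normalizer ht)) z).1 hz

/-- `Y` is normal in `H`. -/
theorem Y_norm (h : In H T Q V V1 V0 q) [Finite G] : ∀ g ∈ H, ∀ y ∈ Y T V, g * y * g⁻¹ ∈ Y T V := by
  let N : Subgroup G := H ⊓ normalizer ((Y T V : Subgroup G) : Set G)
  have hTN : T ≤ N := by
    intro t ht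
    refine ⟨h.TH ht, mem_normalizer_of_cj_le ?_⟩
    rw [cj, Y, Subgroup.map_sup]
    refine sup_le ?_ ?_
    · rintro _ ⟨z, hz, rfl⟩
      exact Z_le_Y T V (T_norm_Z T ht hz)
    · rintro _ ⟨v, hv, rfl⟩
      exact V_le_Y T V (h.Vn t (h.TH ht) v hv)
  obtain ⟨g, hg, hne⟩ := h.ne
  obtain ⟨j, hj, hjQ⟩ := SetLike.not_le_iff_exists.1 h.nle
  have hjH : j ∈ H := h.TH (jj_le T hj)
  have hx : g * j * g⁻¹ ∈ N := by
    have hxH : g * j * g⁻¹ ∈ H := mul_mem (mul_mem hg hjH) (inv_mem hg)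
    refine ⟨hxH, mem_normalizer_of_cj_le ?_⟩
    rw [cj, Y, Subgroup.map_sup]
    refine sup_le ?_ ?_
    · rintro _ ⟨z, hz, rfl⟩
      simp only [MulEquiv.toMonoidHom_eq_coe, MonoidHom.coe_coe, MulAut.conj_apply]
      have hz1 : g⁻¹ * z * g ∈ zj Q := by
        have := h.zjQ_norm (inv_mem hg) (h.Z_le_zjQ hz)
        rwa [inv_inv] at this
      have h2 := h.Vn g hg _ (h.jj_act j hj _ hz1)
      have e : g * j * g⁻¹ * z * (g * j * g⁻¹)⁻¹ =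
        g * (j * (g⁻¹ * z * g) * j⁻¹ * (g⁻¹ * z * g)⁻¹) * g⁻¹ * z := by group
      rw [e]
      exact mul_mem (V_le_Y T V h2) (Z_le_Y T V hz)
    · rintro _ ⟨v, hv, rfl⟩
      exact V_le_Y T V (h.Vn _ hxH v hv)
  have hH := h.max N hTN inf_le_left ⟨_, hx, h.moves_jj hg hne hj hjQ⟩
  exact fun g hg y hy => (mem_normalizer_iff.1 (hH hg).2 y).1 hy

theorem bau_le_sup (h : In H T Q V V1 V0 q) [Finite G] {b : G} (hb : b ∈ bau T) :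
    ∃ j ∈ jj T, ∃ x ∈ Q, b = j * x := by
  have h1 := h.field b (bau_le T hb) fun v hv => ((mem_bau.1 hb).2 v (h.V1_le_Z hv)).symm
  exact mem_sup_norm (fun j hj => h.T_norm (h.TH (jj_le T hj))) h1

/-- The action of `b ∈ B` on `V` is the action of an element of `J(T)`. -/
theorem bau_act (h : In H T Q V V1 V0 q) [Finite G] {b : G} (hb : b ∈ bau T) :
    ∃ j ∈ jj T, (b ∉ Q → j ∉ Q) ∧ ∀ v ∈ V, b * v * b⁻¹ = j * v * j⁻¹ := by
  obtain ⟨j, hj, x, hx, rfl⟩ := h.bau_le_sup hb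
  refine ⟨j, hj, fun h1 h2 => h1 (mul_mem h2 hx), fun v hv => ?_⟩
  have e : j * x * v * (j * x)⁻¹ = j * (x * v * x⁻¹) * j⁻¹ := by group
  have e2 : x * v * x⁻¹ = v := by rw [h.VcQ x hx v hv]; group
  rw [e, e2]

theorem bau_moves (h : In H T Q V V1 V0 q) [Finite G] {g b : G} (hg : g ∈ H)
    (hne : ∃ v ∈ V1, g * v * g⁻¹ ∉ V1) (hb : b ∈ bau T) (hbQ : b ∉ Q) :
    ∃ v ∈ V1, (g * b * g⁻¹) * v * (g * b * g⁻¹)⁻¹ ∉ V1 := by
  obtain ⟨j, hj, hjQ, hact⟩ := h.bau_act hb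
  refine h.moves_gen hg hne (fun v hv => ?_) (fun v hv => ?_) ?_
  · rw [hact v hv]; exact h.quad j hj v hv
  · exact ((mem_bau.1 hb).2 v (h.V1_le_Z hv)).symm
  · obtain ⟨v, hv, hv0⟩ := h.faith j hj (hjQ hbQ)
    exact ⟨v, hv, by rwa [hact v hv]⟩

/-- `C_Y(b) = Z` for `b ∈ B - Q`. -/
theorem cent_Y (h : In H T Q V V1 V0 q) [Finite G] {b y : G} (hb : b ∈ bau T) (hbQ : b ∉ Q)
    (hy : y ∈ Y T V) (hby : b * y = y * b) : y ∈ zj T := by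
  obtain ⟨z, hz, v, hv, rfl⟩ := h.mem_Y hy
  refine mul_mem hz (h.V1_le_Z ?_)
  obtain ⟨j, hj, hjQ, hact⟩ := h.bau_act hb
  have hbz : z * b = b * z := (mem_bau.1 hb).2 z hz
  have h1 : b * v * b⁻¹ = v := by
    have e : b * (z * v) * b⁻¹ = z * v := by rw [hby]; group
    have e2 : b * (z * v) * b⁻¹ = z * (b * v * b⁻¹) := by
      calc b * (z * v) * b⁻¹ = (b * z) * v * b⁻¹ := by group
        _ = (z * b) * v * b⁻¹ := by rw [hbz]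
        _ = _ := by group
    rw [e2] at e
    exact mul_left_cancel e
  rw [hact v hv] at h1
  refine h.cb j hj (hjQ hbQ) v hv ?_
  calc j * v = (j * v * j⁻¹) * j := by group
    _ = v * j := by rw [h1]

theorem Z_inf_V (h : In H T Q V V1 V0 q) [Finite G] : zj T ⊓ V = V1 := by
  apply le_antisymm
  · rintro z ⟨hz, hv⟩
    obtain ⟨j, hj, hjQ⟩ := SetLike.not_le_iff_exists.1 h.nle
    exact h.cb j hj hjQ z hv ((mem_zj.1 hz).2.2 j hj)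
  · exact fun v hv => ⟨h.V1_le_Z hv, h.V1V hv⟩

theorem card_Y (h : In H T Q V V1 V0 q) [Finite G] :
    Nat.card (Y T V) = Nat.card (zj T) * q := by
  have h1 := card_sup_comm h.ZcV
  rw [h.Z_inf_V, h.cardV] at h1
  have hp := h.card_V1_pos
  have e : Nat.card (Y T V) * Nat.card V1 = Nat.card (zj T) * q * Nat.card V1 := by
    rw [Y, h1]; ring
  exact Nat.eq_of_mul_eq_mul_right hp e

/-! ### `Q* = B ∩ Q = C_T(Y)` -/

theorem mem_star_iff (h : In H T Q V V1 V0 q) [Finite G] {x : G} :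
    x ∈ bau T ⊓ Q ↔ x ∈ T ∧ ∀ y ∈ Y T V, x * y = y * x := by
  constructor
  · rintro ⟨h1, h2⟩
    refine ⟨bau_le T h1, fun y hy => ?_⟩
    obtain ⟨z, hz, v, hv, rfl⟩ := h.mem_Y hy
    have e1 : z * x = x * z := (mem_bau.1 h1).2 z hz
    have e2 : x * v = v * x := h.VcQ x h2 v hv
    calc x * (z * v) = (x * z) * v := by group
      _ = z * (x * v) := by rw [← e1]; group
      _ = z * v * x := by rw [e2]; group
  · rintro ⟨h1, h2⟩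
    exact ⟨mem_bau.2 ⟨h1, fun z hz => (h2 z (Z_le_Y T V hz)).symm⟩,
      h.cT x h1 fun v hv => h2 v (V_le_Y T V hv)⟩

/-- `Q* = B ∩ Q` is normal in `H`. -/
theorem star_norm (h : In H T Q V V1 V0 q) [Finite G] :
    ∀ g ∈ H, ∀ x ∈ bau T ⊓ Q, g * x * g⁻¹ ∈ bau T ⊓ Q := by
  intro g hg x hx
  have h1 := h.mem_star_iff.1 hx
  refine h.mem_star_iff.2 ⟨h.QT (h.Qn g hg x hx.2), fun y hy => ?_⟩
  have hy' : g⁻¹ * y * g ∈ Y T V := by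
    have := h.Y_norm g⁻¹ (inv_mem hg) y hy
    rwa [inv_inv] at this
  have h2 := h1.2 _ hy'
  calc g * x * g⁻¹ * y = g * (x * (g⁻¹ * y * g)) * g⁻¹ := by group
    _ = g * (g⁻¹ * y * g * x) * g⁻¹ := by rw [h2]
    _ = y * (g * x * g⁻¹) := by group

/-- `B = A Q*` for every `A ∈ A(T)` outside `Q`. -/
theorem bau_eq (h : In H T Q V V1 V0 q) [Finite G] {A : Subgroup G} (hA : A ∈ AA T)
    (hAQ : ¬ A ≤ Q) {b : G} (hb : b ∈ bau T) : ∃ a ∈ A, ∃ x ∈ bau T ⊓ Q, b = a * x := by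
  have h1 := h.field b (bau_le T hb) fun v hv => ((mem_bau.1 hb).2 v (h.V1_le_Z hv)).symm
  have h2 : b ∈ A ⊔ Q := (sup_le (h.off A hA hAQ).2 le_sup_right : jj T ⊔ Q ≤ A ⊔ Q) h1
  obtain ⟨a, ha, x, hx, rfl⟩ := mem_sup_norm
    (fun a ha => h.T_norm (h.TH (hA.2.1 ha)) : A ≤ normalizer (Q : Set G)) h2
  have haB : a ∈ bau T := jj_le_bau T (le_jj hA ha)
  refine ⟨a, ha, x, ⟨?_, hx⟩, rfl⟩
  have : a⁻¹ * (a * x) ∈ bau T := mul_mem (inv_mem haB) hb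
  rwa [inv_mul_cancel_left] at this

theorem card_bau (h : In H T Q V V1 V0 q) [Finite G] :
    Nat.card (bau T) = Nat.card ↥(bau T ⊓ Q) * q := by
  obtain ⟨A, hA, hAQ⟩ := h.exists_off
  have hAB : A ≤ bau T := (le_jj hA).trans (jj_le_bau T)
  have h1 := Cfsg.Agent.Lib.ProductSet.card_mul_card_inf A (bau T ⊓ Q)
  have h2 : (A : Set G) * ((bau T ⊓ Q : Subgroup G) : Set G) = ((bau T : Subgroup G) : Set G) := by
    ext b
    constructor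
    · rintro ⟨a, ha, x, hx, rfl⟩
      exact mul_mem (hAB ha) hx.1
    · intro hb
      obtain ⟨a, ha, x, hx, rfl⟩ := h.bau_eq hA hAQ hb
      exact ⟨a, ha, x, hx, rfl⟩
  have h3 : A ⊓ (bau T ⊓ Q) = A ⊓ Q := by
    rw [← inf_assoc, inf_eq_left.2 hAB]
  rw [h3, (h.off A hA hAQ).1] at h1
  have hp : 0 < Nat.card ↥(A ⊓ Q) := Nat.card_pos
  have e : Nat.card ((A : Set G) * ((bau T ⊓ Q : Subgroup G) : Set G) : Set G) =
    Nat.card (bau T) := by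
    rw [h2]; rfl
  rw [e] at h1
  have e2 : Nat.card (bau T) * Nat.card ↥(A ⊓ Q) =
      Nat.card ↥(bau T ⊓ Q) * q * Nat.card ↥(A ⊓ Q) := by
    rw [h1]; ring
  exact Nat.eq_of_mul_eq_mul_right hp e2

end In

end Cfsg.Agent.Omega.SQ1.Bau
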