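import Cfsg.Agent.Omega.SQ1.FFOne

/-!
# SQ1, L1: `FF.toIn`
-/

set_option autoImplicit false
set_option linter.unusedSectionVars false
set_option linter.unusedVariables false

namespace Cfsg.Agent.Omega.SQ1.FFOne

open Subgroup Cfsg Cfsg.Agent.PLocal.ThompsonJ Cfsg.Agent.ZN Cfsg.Agent.ZN.ChoiceBase
open Cfsg.Agent.ZN.ChoiceSit
open Cfsg.Agent.Omega.NatPair Cfsg.Agent.Lib.SL2Mat
open Cfsg.Agent.PLocal.ElemAbSup
open Cfsg.Agent.Omega.SQ1.Bau
open scoped Pointwise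

universe u

variable {G : Type u} [Group G]

/-- `|V| = |K| |F|` if `f : V → F` is additive, onto, with kernel `K`. -/
theorem card_of_map [Finite G] {K V : Subgroup G} {F : Type*} [AddGroup F] (f : G → F)
    (hm : ∀ v ∈ V, ∀ w ∈ V, f (v * w) = f v + f w) (hKV : K ≤ V)
    (hk : ∀ v ∈ V, f v = 0 ↔ v ∈ K) (hs : ∀ c : F, ∃ v ∈ V, f v = c) :
    Nat.card V = Nat.card K * Nat.card F := by
  let φ : V →* Multiplicative F :=
    MonoidHom.mk' (fun v => Multiplicative.ofAdd (f v)) (fun v w => by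
      rw [← ofAdd_add]
      exact congrArg Multiplicative.ofAdd (hm v v.2 w w.2))
  have hφ : Function.Surjective φ := by
    intro c
    obtain ⟨v, hv, e⟩ := hs (Multiplicative.toAdd c)
    exact ⟨⟨v, hv⟩, by
      change Multiplicative.ofAdd (f v) = c
      rw [e]; rfl⟩
  have hker : φ.ker = K.subgroupOf V := by
    ext v
    rw [MonoidHom.mem_ker, mem_subgroupOf, ← hk v v.2]
    exact ofAdd_eq_one
  have h1 := Subgroup.card_eq_card_quotient_mul_card_subgroup φ.ker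
  rw [Nat.card_congr (QuotientGroup.quotientKerEquivOfSurjective φ hφ).toEquiv, hker,
    Nat.card_congr (Subgroup.subgroupOfEquivOfLe hKV).toEquiv] at h1
  rw [h1, mul_comm]
  rfl

/-- The output of the FF-theorem (one block). -/
structure FF (F : Type*) [Field F] (H T V V0 : Subgroup G) extends NatSec F H V V0 where
  off1 : ∀ A ∈ AA T, ∀ a ∈ A, ∃ c : F, ∀ v ∈ V, π (a * v * a⁻¹) = ap (up c) (π v)
  off2 : ∀ A ∈ AA T, ¬ (∀ a ∈ A, ∀ v ∈ V, π (a * v * a⁻¹) = π v) →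
    ∀ c : F, ∃ a ∈ A, ∀ v ∈ V, π (a * v * a⁻¹) = ap (up c) (π v)
  VQ : V ≤ o2 H
  Vsq : ∀ v ∈ V, v ^ 2 = 1
  VcQ : ∀ x ∈ o2 H, ∀ v ∈ V, x * v = v * x
  nle : ¬ jj T ≤ o2 H

namespace FF

variable {F : Type*} [Field F] {H T V V0 : Subgroup G}

/-- the preimage of the line `F e₁` -/
def V1 (M : FF F H T V V0) : Subgroup G where
  carrier := {v | v ∈ V ∧ M.π v 1 = 0}
  mul_mem' := by
    rintro a b ⟨ha, ha'⟩ ⟨hb, hb'⟩
    refine ⟨mul_mem ha hb, ?_⟩
    rw [M.map_mul a ha b hb, Pi.add_apply, ha', hb', add_zero]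
  one_mem' := ⟨one_mem V, by rw [M.map_one]; rfl⟩
  inv_mem' := by
    rintro a ⟨ha, ha'⟩
    refine ⟨inv_mem ha, ?_⟩
    rw [M.map_inv ha, Pi.neg_apply, ha', neg_zero]

variable (M : FF F H T V V0)

include M

theorem mem_V1 {v : G} : v ∈ M.V1 ↔ v ∈ V ∧ M.π v 1 = 0 := Iff.rfl

theorem V1V : M.V1 ≤ V := fun _ h => h.1

theorem V01 : V0 ≤ M.V1 := fun v hv => ⟨M.V0V hv, by rw [(M.ker v (M.V0V hv)).2 hv]; rfl⟩

theorem cardV [Finite G] : Nat.card V = Nat.card M.V1 * Nat.card F := by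
  refine card_of_map (fun v => M.π v 1) ?_ M.V1V ?_ ?_
  · intro v hv w hw
    show M.π (v * w) 1 = _
    rw [M.map_mul v hv w hw]; rfl
  · intro v hv
    exact ⟨fun h => ⟨hv, h⟩, fun h => h.2⟩
  · intro c
    obtain ⟨v, hv, e⟩ := M.surj ![0, c]
    exact ⟨v, hv, by show M.π v 1 = c; rw [e]; rfl⟩

theorem cardV1 [Finite G] : Nat.card M.V1 = Nat.card V0 * Nat.card F := by
  refine card_of_map (fun v => M.π v 0) ?_ M.V01 ?_ ?_
  · intro v hv w hw
    show M.π (v * w) 0 = _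
    rw [M.map_mul v hv.1 w hw.1]; rfl
  · intro v hv
    rw [← M.ker v hv.1]
    constructor
    · intro h
      exact ext2 h hv.2
    · intro h
      show M.π v 0 = 0
      rw [h]; rfl
  · intro c
    obtain ⟨v, hv, e⟩ := M.surj ![c, 0]
    exact ⟨v, ⟨hv, by rw [e]; rfl⟩, by show M.π v 0 = c; rw [e]; rfl⟩

theorem Velem : IsElementaryAbelian 2 V :=
  isElementaryAbelian_iff.2 ⟨fun v hv w hw => M.VcQ v (M.VQ hv) w hw, M.Vsq⟩

/-- every element of `J(T)` acts as an upper unitriangular matrix -/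
theorem jj_up (hm : MinH H T) {j : G} (hj : j ∈ jj T) : ∃ c : F, M.Ind j (up c) := by
  let S : Subgroup G :=
    { carrier := {g | g ∈ H ∧ ∃ c : F, M.Ind g (up c)}
      mul_mem' := by
        rintro a b ⟨ha, c, hc⟩ ⟨hb, d, hd⟩
        exact ⟨mul_mem ha hb, c + d, by rw [← up_mul]; exact M.ind_mul ha hb hc hd⟩
      one_mem' := ⟨one_mem H, 0, by rw [up_zero]; exact M.ind_one⟩
      inv_mem' := by
        rintro a ⟨ha, c, hc⟩
        exact ⟨inv_mem ha, -c, by rw [← up_inv]; exact M.ind_inv ha hc⟩ }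
  have hle : jj T ≤ S := by
    rw [jj_eq]
    exact sSup_le fun A hA a ha => ⟨hm.syl.1 (hA.2.1 ha), M.off1 A hA a ha⟩
  exact (hle hj).2

theorem Q_kern (hm : MinH H T) {x : G} (hx : x ∈ o2 H) : x ∈ M.kern := by
  rw [M.mem_kern_iff (o2_le H hx)]
  intro v hv
  rw [M.VcQ x hx v hv, mul_inv_cancel_right, mul_inv_cancel]
  exact one_mem _

theorem mem_Q_iff [Finite G] [CharP F 2] (hm : MinH H T) {x : G} (hx : x ∈ T) :
    x ∈ o2 H ↔ x ∈ M.kern :=
  ⟨M.Q_kern hm, fun h => M.inf_kern_le hm ⟨hx, h⟩⟩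

theorem ind_zero_iff [Finite G] [CharP F 2] (hm : MinH H T) {x : G} (hx : x ∈ T) {c : F}
    (hc : M.Ind x (up c)) : x ∈ o2 H ↔ c = 0 := by
  have hxH := hm.syl.1 hx
  rw [M.mem_Q_iff hm hx, ← M.ind_one_iff hxH]
  constructor
  · intro h
    have := M.ind_unique hxH hc h
    rw [← up_zero] at this
    exact up_inj this
  · rintro rfl
    rwa [up_zero] at hc

/-- an `A ∈ A(T)` not in `Q` induces all `up c` -/
theorem off2' [Finite G] [CharP F 2] (hm : MinH H T) {A : Subgroup G} (hA : A ∈ AA T)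
    (hAQ : ¬ A ≤ o2 H) (c : F) : ∃ a ∈ A, M.Ind a (up c) := by
  refine M.off2 A hA ?_ c
  intro hall
  apply hAQ
  intro a ha
  have haH := hm.syl.1 (hA.2.1 ha)
  rw [M.mem_Q_iff hm (hA.2.1 ha), ← M.ind_one_iff haH]
  intro v hv
  rw [hall a ha v hv, ap_one]

theorem card_A [Finite G] [CharP F 2] (hm : MinH H T) {A : Subgroup G} (hA : A ∈ AA T)
    (hAQ : ¬ A ≤ o2 H) : Nat.card A = Nat.card ↥(A ⊓ o2 H) * Nat.card F := by
  classical
  let f : G → F := fun a => if h : ∃ c : F, M.Ind a (up c) then h.choose else 0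
  have hf : ∀ a ∈ A, M.Ind a (up (f a)) := by
    intro a ha
    have h : ∃ c : F, M.Ind a (up c) := M.off1 A hA a ha
    have e : f a = h.choose := dif_pos h
    rw [e]
    exact h.choose_spec
  have hH : ∀ a ∈ A, a ∈ H := fun a ha => hm.syl.1 (hA.2.1 ha)
  have hu : ∀ a ∈ A, ∀ c, M.Ind a (up c) → f a = c := fun a ha c hc =>
    up_inj (M.ind_unique (hH a ha) (hf a ha) hc)
  refine card_of_map f ?_ inf_le_left ?_ ?_
  · intro v hv w hw
    refine hu _ (mul_mem hv hw) _ ?_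
    rw [← up_mul]
    exact M.ind_mul (hH v hv) (hH w hw) (hf v hv) (hf w hw)
  · intro v hv
    rw [mem_inf, M.ind_zero_iff hm (hA.2.1 hv) (hf v hv)]
    exact ⟨fun h => ⟨hv, h⟩, fun h => h.2⟩
  · intro c
    obtain ⟨a, ha, hac⟩ := M.off2' hm hA hAQ c
    exact ⟨a, ha, hu a ha c hac⟩

/-- `C_V(a)` for an element acting nontrivially -/
theorem mem_V1_of_comm [CharP F 2] {a v : G} {c : F} (hc : M.Ind a (up c)) (hc0 : c ≠ 0) (hv : v ∈ V)
    (hav : a * v = v * a) : v ∈ M.V1 := by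
  refine ⟨hv, ?_⟩
  have h1 := hc v hv
  rw [hav, mul_inv_cancel_right] at h1
  have h2 := congrFun h1 0
  rw [ap_zero', up_00, up_01, one_mul] at h2
  have h3 : c * M.π v 1 = 0 := by
    have := h2.symm
    rwa [add_eq_left] at this
  exact (mul_eq_zero.1 h3).resolve_left hc0

/-- `J(T)` centralises `V1`. -/
theorem AcV1 [Finite G] [Finite F] [CharP F 2] (hm : MinH H T) {A : Subgroup G} (hA : A ∈ AA T) :
    ∀ a ∈ A, ∀ v ∈ M.V1, a * v = v * a := by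
  by_cases hAQ : A ≤ o2 H
  · exact fun a ha v hv => M.VcQ a (hAQ ha) v hv.1
  · have hQT : o2 H ≤ T := o2_le_syl hm.syl
    have hc : ∀ a ∈ A ⊓ o2 H, ∀ v ∈ V, a * v = v * a := fun a ha v hv => M.VcQ a ha.2 v hv
    have h1 : IsElementaryAbelian 2 ((A ⊓ o2 H) ⊔ V : Subgroup G) :=
      isElementaryAbelian_sup (isElementaryAbelian_mono hA.1 inf_le_left) M.Velem
        fun v hv => mem_centralizer_iff.2 fun a ha => hc a ha v hv
    have h2 := hA.2.2 _ h1 (sup_le (inf_le_right.trans hQT) (M.VQ.trans hQT))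
    have h3 := card_sup_comm hc
    have h4 : (A ⊓ o2 H) ⊓ V = A ⊓ V := by
      apply le_antisymm
      · exact le_inf (inf_le_left.trans inf_le_left) inf_le_right
      · exact le_inf (le_inf inf_le_left (inf_le_right.trans M.VQ)) inf_le_right
    rw [h4] at h3
    rw [M.card_A hm hA hAQ] at h2
    have hp : 0 < Nat.card ↥(A ⊓ o2 H) := Nat.card_pos
    have h5 : Nat.card V ≤ Nat.card F * Nat.card ↥(A ⊓ V) := by
      have e : Nat.card ↥(A ⊓ o2 H) * Nat.card V ≤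
          Nat.card ↥(A ⊓ o2 H) * (Nat.card F * Nat.card ↥(A ⊓ V)) := by
        rw [← h3]
        calc _ ≤ Nat.card ↥(A ⊓ o2 H) * Nat.card F * Nat.card ↥(A ⊓ V) := Nat.mul_le_mul_right _ h2
          _ = _ := by ring
      exact Nat.le_of_mul_le_mul_left e hp
    rw [M.cardV, mul_comm] at h5
    have hF : 0 < Nat.card F := Nat.card_pos
    have h6 : Nat.card M.V1 ≤ Nat.card ↥(A ⊓ V) := Nat.le_of_mul_le_mul_left h5 hF
    have h7 : A ⊓ V ≤ M.V1 := by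
      rintro v ⟨hvA, hvV⟩
      obtain ⟨a, ha, hac⟩ := M.off2' hm hA hAQ 1
      exact M.mem_V1_of_comm hac one_ne_zero hvV (elem_comm hA.1 a ha v hvA)
    have h8 : A ⊓ V = M.V1 := Subgroup.eq_of_le_of_card_ge h7 h6
    intro a ha v hv
    rw [← h8] at hv
    exact elem_comm hA.1 a ha v (mem_inf.1 hv).1

theorem JcV1 [Finite G] [Finite F] [CharP F 2] (hm : MinH H T) :
    ∀ a ∈ jj T, ∀ v ∈ M.V1, a * v = v * a := by
  have hle : jj T ≤ centralizer (M.V1 : Set G) := by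
    rw [jj_eq]
    exact sSup_le fun A hA a ha => mem_centralizer_iff.2 fun v hv => (M.AcV1 hm hA a ha v hv).symm
  exact fun a ha v hv => (mem_centralizer_iff.1 (hle ha) v hv).symm

theorem exists_off [Finite G] (hm : MinH H T) : ∃ A ∈ AA T, ¬ A ≤ o2 H := by
  by_contra hc
  push Not at hc
  apply M.nle
  rw [jj_eq]
  exact sSup_le hc

theorem exists_j [Finite G] [CharP F 2] (hm : MinH H T) (c : F) : ∃ j ∈ jj T, M.Ind j (up c) := by
  obtain ⟨A, hA, hAQ⟩ := M.exists_off hm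
  obtain ⟨a, ha, hac⟩ := M.off2' hm hA hAQ c
  exact ⟨a, le_jj hA ha, hac⟩

/-- `C_V(J(T)) = V1` -/
theorem mem_V1_iff [Finite G] [Finite F] [CharP F 2] (hm : MinH H T) {v : G} :
    v ∈ M.V1 ↔ v ∈ V ∧ ∀ j ∈ jj T, j * v = v * j := by
  constructor
  · intro h
    exact ⟨h.1, fun j hj => M.JcV1 hm j hj v h⟩
  · rintro ⟨h1, h2⟩
    obtain ⟨j, hj, hc⟩ := M.exists_j hm 1
    exact M.mem_V1_of_comm hc one_ne_zero h1 (h2 j hj)

theorem T_norm [Finite G] [Finite F] [CharP F 2] (hm : MinH H T) {t v : G} (ht : t ∈ T)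
    (hv : v ∈ M.V1) : t * v * t⁻¹ ∈ M.V1 := by
  rw [M.mem_V1_iff hm] at hv ⊢
  refine ⟨M.Vn t (hm.syl.1 ht) v hv.1, fun j hj => ?_⟩
  have h1 : t⁻¹ * j * t ∈ jj T := by
    rw [← mem_cj, cj_eq_of_mem_normalizer
      (normalizer_le_of_cj (F := fun K => jj K) jj_cj T (le_normalizer ht))]
    exact hj
  have h2 := hv.2 _ h1
  calc j * (t * v * t⁻¹) = t * ((t⁻¹ * j * t) * v) * t⁻¹ := by group
    _ = t * (v * (t⁻¹ * j * t)) * t⁻¹ := by rw [h2]
    _ = _ := by group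

omit M in
theorem eq_one_of_pow' [CharP F 2] {γ : F} {k : ℕ} (h : γ ^ 2 ^ k = 1) : γ = 1 := by
  have h1 : (γ - 1) ^ 2 ^ k = 0 := by
    rw [sub_pow_char_pow γ 1, h, one_pow, sub_self]
  exact sub_eq_zero.1 (pow_eq_zero_iff (pow_ne_zero k two_ne_zero) |>.1 h1)

/-- elements of `V1` are multiples of `e₁` -/
theorem π_V1 {v : G} (hv : v ∈ M.V1) : M.π v = M.π v 0 • ![1, 0] := by
  apply ext2
  · simp
  · rw [hv.2]; simp

/-- The image of `V1` under `g ∈ H`. -/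
theorem act_V1 [Finite F] {g : G} (hg : g ∈ H) : ∃ s : F ≃+* F, ∀ v ∈ M.V1,
    M.π (g * v * g⁻¹) = s (M.π v 0) • M.act g ![1, 0] := by
  obtain ⟨s, hs⟩ := M.exists_semi hg
  refine ⟨s, fun v hv => ?_⟩
  rw [← M.act_π hg hv.1, ← hs, ← M.π_V1 hv]

theorem mem_norm_V1 [Finite G] [Finite F] {g : G} (hg : g ∈ H) :
    g ∈ normalizer (M.V1 : Set G) ↔ M.act g ![1, 0] 1 = 0 := by
  obtain ⟨s, hs⟩ := M.act_V1 hg
  constructor
  · intro h
    obtain ⟨v, hv, e⟩ := M.surj ![1, 0]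
    have hv1 : v ∈ M.V1 := ⟨hv, by rw [e]; rfl⟩
    have h1 := (conj_mem_of_norm h hv1).2
    rwa [← M.act_π hg hv, e] at h1
  · intro h
    refine mem_norm_of fun v hv => ⟨M.Vn g hg v hv.1, ?_⟩
    rw [hs v hv, Pi.smul_apply, h, smul_zero]

theorem exists_moves [Finite G] [Finite F] : ∃ h ∈ H, ∃ v ∈ M.V1, h * v * h⁻¹ ∉ M.V1 := by
  obtain ⟨h, hh, hl⟩ := M.lift (lo 1)
  obtain ⟨v, hv, e⟩ := M.surj ![1, 0]
  refine ⟨h, hh, v, ⟨hv, by rw [e]; rfl⟩, fun hc => ?_⟩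
  have h1 := hc.2
  rw [hl v hv, e, ap_one'] at h1
  simp at h1

theorem opp [Finite G] [Finite F] : ∀ h ∈ H, (∃ v ∈ M.V1, h * v * h⁻¹ ∉ M.V1) →
    ∀ v ∈ M.V1, h * v * h⁻¹ ∈ M.V1 → h * v * h⁻¹ ∈ V0 := by
  rintro h hh ⟨v₀, hv₀, hm⟩ v hv hv'
  obtain ⟨s, hs⟩ := M.act_V1 hh
  have h0 : M.act h ![1, 0] 1 ≠ 0 := by
    intro h0
    apply hm
    exact ⟨M.Vn h hh v₀ hv₀.1, by rw [hs v₀ hv₀, Pi.smul_apply, h0, smul_zero]⟩
  rw [← M.ker _ (M.Vn h hh v hv.1), hs v hv]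
  have h1 := hv'.2
  rw [hs v hv, Pi.smul_apply, smul_eq_mul] at h1
  rw [(mul_eq_zero.1 h1).resolve_right h0, zero_smul]

/-- an element of `T` centralising `V1` induces an `up c`. -/
theorem up_of_comm [Finite G] [Finite F] [CharP F 2] (hm : MinH H T) {t : G} (ht : t ∈ T)
    (hc : ∀ v ∈ M.V1, M.π (t * v * t⁻¹) = M.π v) : ∃ c : F, M.Ind t (up c) := by
  have hH := hm.syl.1 ht
  obtain ⟨s, hs⟩ := M.exists_semi hH
  have h1 : ∀ c : F, M.act t (c • ![1, 0]) = c • ![1, 0] := by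
    intro c
    obtain ⟨v, hv, e⟩ := M.surj (c • ![1, 0])
    have hv1 : v ∈ M.V1 := ⟨hv, by rw [e]; simp⟩
    rw [← e, M.act_π hH hv, hc v hv1]
  have h2 : ∀ c : F, s c = c := by
    intro c
    have h3 := hs c ![1, 0]
    have h4 := h1 1
    rw [one_smul] at h4
    rw [h1, h4] at h3
    have h5 := congrFun h3 0
    simp at h5
    exact h5.symm
  have h3 : ∀ (c : F) x, M.act t (c • x) = c • M.act t x := fun c x => by rw [hs, h2]
  set y := M.act t ![0, 1] with hy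
  have h4 : ∀ x, M.act t x = ![x 0 + x 1 * y 0, x 1 * y 1] := by
    intro x
    have hx : x = x 0 • ![1, 0] + x 1 • ![0, 1] := by apply ext2 <;> simp
    have h5 := M.act_add hH (x 0 • ![1, 0]) (x 1 • ![0, 1])
    rw [← hx, h1, h3, ← hy] at h5
    rw [h5]
    apply ext2 <;> simp
  have h5 : ∀ n : ℕ, M.act (t ^ n) ![0, 1] 1 = y 1 ^ n := by
    intro n
    induction n with
    | zero => rw [pow_zero, M.act_one]; simp
    | succ n ih =>
      rw [pow_succ', M.act_mul hH (pow_mem hH n), h4]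
      simp only [Matrix.cons_val_one]
      rw [ih, pow_succ]
      rfl
  obtain ⟨n, hn⟩ := hm.syl.2.1 ⟨t, ht⟩
  have hn' : t ^ 2 ^ n = 1 := by simpa using congrArg Subtype.val hn
  have h6 := h5 (2 ^ n)
  rw [hn', M.act_one] at h6
  have h7 : y 1 = 1 := eq_one_of_pow' (k := n) (by rw [← h6]; rfl)
  refine ⟨y 0, ?_⟩
  rw [M.ind_iff hH]
  intro x
  rw [h4, h7]
  apply ext2
  · rw [ap_zero']; simp [mul_comm]
  · rw [ap_one']; simp

theorem field [Finite G] [Finite F] [CharP F 2] (hm : MinH H T) :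
    ∀ t ∈ T, (∀ v ∈ M.V1, t * v = v * t) → t ∈ jj T ⊔ o2 H := by
  intro t ht hc
  obtain ⟨c, hcc⟩ := M.up_of_comm hm ht fun v hv => by rw [hc v hv, mul_inv_cancel_right]
  obtain ⟨j, hj, hjc⟩ := M.exists_j hm c
  have hjT := jj_le T hj
  have h1 := M.kern_of_ind (hm.syl.1 hjT) (hm.syl.1 ht) hjc hcc
  have h2 : j⁻¹ * t ∈ o2 H := (M.mem_Q_iff hm (mul_mem (inv_mem hjT) ht)).2 h1
  have e : t = j * (j⁻¹ * t) := by group
  rw [e]
  exact mul_mem (mem_sup_left hj) (mem_sup_right h2)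

theorem jj_le_sup [Finite G] [CharP F 2] (hm : MinH H T) {A : Subgroup G} (hA : A ∈ AA T)
    (hAQ : ¬ A ≤ o2 H) : jj T ≤ A ⊔ o2 H := by
  intro j hj
  obtain ⟨c, hc⟩ := M.jj_up hm hj
  obtain ⟨a, ha, hac⟩ := M.off2' hm hA hAQ c
  have haT := hA.2.1 ha
  have h1 := M.kern_of_ind (hm.syl.1 haT) (hm.syl.1 (jj_le T hj)) hac hc
  have h2 : a⁻¹ * j ∈ o2 H := (M.mem_Q_iff hm (mul_mem (inv_mem haT) (jj_le T hj))).2 h1
  have e : j = a * (a⁻¹ * j) := by group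
  rw [e]
  exact mul_mem (mem_sup_left ha) (mem_sup_right h2)

theorem max [Finite G] [Finite F] [CharP F 2] (hm : MinH H T) :
    ∀ X : Subgroup G, T ≤ X → X ≤ H → (∃ x ∈ X, ∃ v ∈ M.V1, x * v * x⁻¹ ∉ M.V1) → H ≤ X := by
  rintro X hTX hXH ⟨x, hx, v, hv, hxv⟩
  by_contra hne
  obtain ⟨M₀, hM, huniq⟩ := hm.uniq
  have h1 : X ≤ M₀ := huniq X hTX hXH fun e => hne e.ge
  set N : Subgroup G := H ⊓ normalizer (M.V1 : Set G) with hN
  have hTN : T ≤ N := fun t ht => ⟨hm.syl.1 ht, mem_norm_of fun v hv => M.T_norm hm ht hv⟩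
  have h2 : N ≤ M₀ := by
    refine huniq N hTN inf_le_left ?_
    intro e
    obtain ⟨h, hh, v, hv, hv'⟩ := M.exists_moves
    rw [← e] at hh
    exact hv' (conj_mem_of_norm hh.2 hv)
  apply hM
  intro h hh
  by_cases hhN : h ∈ normalizer (M.V1 : Set G)
  · exact h2 ⟨hh, hhN⟩
  have hxH := hXH hx
  have hxN : x ∉ normalizer (M.V1 : Set G) := fun hc => hxv (conj_mem_of_norm hc hv)
  rw [M.mem_norm_V1 hh] at hhN
  rw [M.mem_norm_V1 hxH] at hxN
  set p := M.act x ![1, 0] with hp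
  set r := M.act h ![1, 0] with hr
  obtain ⟨j, hj, hjc⟩ := M.exists_j hm (r 0 / r 1 - p 0 / p 1)
  have hjH := hm.syl.1 (jj_le T hj)
  have h3 : M.act (j * x) ![1, 0] = (p 1 / r 1) • r := by
    rw [M.act_mul hjH hxH, (M.ind_iff hjH).1 hjc]
    apply ext2
    · rw [ap_zero', up_00, up_01, Pi.smul_apply, smul_eq_mul]
      field_simp
      ring
    · rw [ap_one', up_10, up_11, Pi.smul_apply, smul_eq_mul]
      field_simp
      ring
  have hgH : h⁻¹ * (j * x) ∈ H := mul_mem (inv_mem hh) (mul_mem hjH hxH)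
  have h4 : h⁻¹ * (j * x) ∈ normalizer (M.V1 : Set G) := by
    rw [M.mem_norm_V1 hgH, M.act_mul (inv_mem hh) (mul_mem hjH hxH), h3]
    obtain ⟨s, hs⟩ := M.exists_semi (inv_mem hh)
    rw [hs, hr, M.act_inv_act hh]
    simp
  have h5 : h⁻¹ * (j * x) ∈ M₀ := h2 ⟨hgH, h4⟩
  have h6 : j * x ∈ M₀ := mul_mem (h2 (hTN (jj_le T hj))) (h1 hx)
  have h7 := mul_mem h6 (inv_mem h5)
  have e : j * x * (h⁻¹ * (j * x))⁻¹ = h := by group
  rwa [e] at h7

/-- **L1 (one block).** The output of the FF-theorem gives the Baumann data. -/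
theorem toIn [Finite G] [Finite F] [CharP F 2] (hm : MinH H T) :
    In H T (o2 H) V M.V1 V0 (Nat.card F) where
  TH := hm.syl.1
  QT := o2_le_syl hm.syl
  VQ := M.VQ
  Qn := fun h hh x hx => conj_mem_of_norm (le_normalizer_o2 H hh) hx
  Vn := M.Vn
  Vsq := M.Vsq
  VcQ := M.VcQ
  cT := by
    intro t ht hc
    rw [M.mem_Q_iff hm ht, M.mem_kern_iff (hm.syl.1 ht)]
    intro v hv
    rw [hc v hv, mul_inv_cancel_right, mul_inv_cancel]
    exact one_mem _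
  V1V := M.V1V
  V01 := M.V01
  V0n := M.V0n
  cardV := M.cardV
  cardV1 := M.cardV1
  one_lt := Finite.one_lt_card
  JcV1 := M.JcV1 hm
  cb := by
    intro b hb hbQ v hv hbv
    obtain ⟨c, hc⟩ := M.jj_up hm hb
    exact M.mem_V1_of_comm hc (fun h0 => hbQ ((M.ind_zero_iff hm (jj_le T hb) hc).2 h0)) hv hbv
  quad := by
    intro b hb v hv
    obtain ⟨c, hc⟩ := M.jj_up hm hb
    have hbH := hm.syl.1 (jj_le T hb)
    refine ⟨mul_mem (M.Vn b hbH v hv) (inv_mem hv), ?_⟩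
    rw [M.map_div (M.Vn b hbH v hv) hv, hc v hv, Pi.sub_apply, ap_one']
    simp
  faith := by
    intro b hb hbQ
    by_contra hcon
    push Not at hcon
    have hbH := hm.syl.1 (jj_le T hb)
    exact hbQ ((M.mem_Q_iff hm (jj_le T hb)).2 ((M.mem_kern_iff hbH).2 hcon))
  field := M.field hm
  off := fun A hA hAQ => ⟨M.card_A hm hA hAQ, M.jj_le_sup hm hA hAQ⟩
  nle := M.nle
  opp := M.opp
  ne := M.exists_moves
  max := M.max hm

end FF

end Cfsg.Agent.Omega.SQ1.FFOne
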