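import Cfsg.Agent.Omega.SQ1.BauMin
import Cfsg.Agent.Omega.SQ1.FFIn

/-!
# SQ1, L1 for `k` blocks: the output of the FF-theorem, basic facts

`FFK ι F H T V V0`: `V / V0` is the direct sum of natural `SL₂(F)`-modules (index set `ι`), permuted
by `H`, transitively by `T`; each `A ∈ A(T)` acts as a product of full root groups.
-/

set_option autoImplicit false
set_option linter.unusedSectionVars false
set_option linter.unusedVariables false

namespace Cfsg.Agent.Omega.SQ1.FFOne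

open Subgroup Cfsg Cfsg.Agent.PLocal.ThompsonJ Cfsg.Agent.ZN Cfsg.Agent.ZN.ChoiceBase
open Cfsg.Agent.ZN.ChoiceSit
open Cfsg.Agent.Omega.NatPair Cfsg.Agent.Lib.SL2Mat
open Cfsg.Agent.PLocal.ElemAbSup
open Cfsg.Agent.Omega.SQ1.Bau (mem_AA_of_comm zj_le_AA elem_comm elem_sq mem_sup_comm card_sup_comm
  mem_sup_norm Mv not_mv_iff mv_inv)
open scoped Pointwise

universe u

variable {G : Type u} [Group G]

/-! ### More on natural sections -/

namespace NatSec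

variable {F : Type*} [Field F] {H V V0 : Subgroup G} (M : NatSec F H V V0)

/-- The image of the line under `g ∈ H`. -/
theorem act_line [Finite F] {g : G} (hg : g ∈ H) : ∃ s : F ≃+* F, ∀ v ∈ V, M.π v 1 = 0 →
    M.π (g * v * g⁻¹) = s (M.π v 0) • M.act g ![1, 0] := by
  obtain ⟨s, hs⟩ := M.exists_semi hg
  refine ⟨s, fun v hv h1 => ?_⟩
  have e : M.π v = M.π v 0 • ![1, 0] := by
    apply ext2
    · simp
    · rw [h1]; simp
  rw [← M.act_π hg hv, ← hs, ← e]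

/-- `g` moves the line `F e₁` iff ... -/
theorem opp' [Finite F] {g : G} (hg : g ∈ H) (hm : ∃ v ∈ V, M.π v 1 = 0 ∧ M.π (g * v * g⁻¹) 1 ≠ 0)
    {v : G} (hv : v ∈ V) (hv1 : M.π v 1 = 0) (hv2 : M.π (g * v * g⁻¹) 1 = 0) :
    M.π (g * v * g⁻¹) = 0 := by
  obtain ⟨s, hs⟩ := M.act_line hg
  obtain ⟨w, hw, hw1, hw2⟩ := hm
  have h0 : M.act g ![1, 0] 1 ≠ 0 := by
    intro h0
    apply hw2
    rw [hs w hw hw1, Pi.smul_apply, h0, smul_zero]
  rw [hs v hv hv1, Pi.smul_apply, smul_eq_mul] at hv2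
  rw [hs v hv hv1, (mul_eq_zero.1 hv2).resolve_right h0, zero_smul]

/-- a 2-element acting trivially on the line induces an `up c`. -/
theorem up_of_line [Finite G] [Finite F] [CharP F 2] {t : G} (hH : t ∈ H) {n : ℕ}
    (hn' : t ^ 2 ^ n = 1)
    (hc : ∀ v ∈ V, M.π v 1 = 0 → M.π (t * v * t⁻¹) = M.π v) : ∃ c : F, M.Ind t (up c) := by
  obtain ⟨s, hs⟩ := M.exists_semi hH
  have h1 : ∀ c : F, M.act t (c • ![1, 0]) = c • ![1, 0] := by
    intro c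
    obtain ⟨v, hv, e⟩ := M.surj (c • ![1, 0])
    rw [← e, M.act_π hH hv, hc v hv (by rw [e]; simp)]
  have h2 : ∀ c : F, s c = c := by
    intro c
    have h3 := hs c ![1, 0]
    have h4 := h1 1
    rw [one_smul] at h4
    rw [h1, h4] at h3
    have h5 := congrFun h3 0
    simp at h5
    exact h5.symm
  have h3 : ∀ (c : F) x, M.act t (c • x) = c • M.act t x := fun c x => by rw [hs, h2]
  set y := M.act t ![0, 1] with hy
  have h4 : ∀ x, M.act t x = ![x 0 + x 1 * y 0, x 1 * y 1] := by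
    intro x
    have hx : x = x 0 • ![1, 0] + x 1 • ![0, 1] := by apply ext2 <;> simp
    have h5 := M.act_add hH (x 0 • ![1, 0]) (x 1 • ![0, 1])
    rw [← hx, h1, h3, ← hy] at h5
    rw [h5]
    apply ext2 <;> simp
  have h5 : ∀ n : ℕ, M.act (t ^ n) ![0, 1] 1 = y 1 ^ n := by
    intro n
    induction n with
    | zero => rw [pow_zero, M.act_one]; simp
    | succ n ih =>
      rw [pow_succ', M.act_mul hH (pow_mem hH n), h4]
      simp only [Matrix.cons_val_one]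
      rw [ih, pow_succ]
      rfl
  have h6 := h5 (2 ^ n)
  rw [hn', M.act_one] at h6
  have h7 : y 1 = 1 := FF.eq_one_of_pow' (k := n) (by rw [← h6]; rfl)
  refine ⟨y 0, ?_⟩
  rw [M.ind_iff hH]
  intro x
  rw [h4, h7]
  apply ext2
  · rw [ap_zero']; simp [mul_comm]
  · rw [ap_one']; simp

end NatSec

/-! ### The output of the FF-theorem, `k` blocks -/

/-- `h` acts as `A` on the `i`-th coordinate, trivially on the others and centralises `ker π i`. -/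
structure Act1 {ι : Type} {F : Type*} [Field F] (π : ι → G → Fin 2 → F) (V : Subgroup G) (i : ι)
    (h : G) (A : Matrix.SpecialLinearGroup (Fin 2) F) : Prop where
  act : ∀ v ∈ V, π i (h * v * h⁻¹) = ap A (π i v)
  oth : ∀ j, j ≠ i → ∀ v ∈ V, π j (h * v * h⁻¹) = π j v
  cent : ∀ v ∈ V, π i v = 0 → h * v = v * h

/-- The output of the FF-theorem: `V / V0` is the direct sum of natural `SL₂(F)`-modules. -/
structure FFK (ι : Type) (F : Type*) [Field F] (H T V V0 : Subgroup G) where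
  π : ι → G → Fin 2 → F
  map_mul : ∀ i, ∀ v ∈ V, ∀ w ∈ V, π i (v * w) = π i v + π i w
  V0V : V0 ≤ V
  ker : ∀ v ∈ V, (∀ i, π i v = 0) ↔ v ∈ V0
  surj : ∀ i, ∀ x : Fin 2 → F, ∃ v ∈ V, π i v = x ∧ ∀ j, j ≠ i → π j v = 0
  Vn : ∀ h ∈ H, ∀ v ∈ V, h * v * h⁻¹ ∈ V
  perm : ∀ h ∈ H, ∀ i, ∃ j, ∀ v ∈ V, π i v = 0 → π j (h * v * h⁻¹) = 0
  lift : ∀ i, ∀ A : Matrix.SpecialLinearGroup (Fin 2) F, ∃ h ∈ H, Act1 π V i h A
  norm : ∀ i, ∀ g ∈ H, (∀ v ∈ V, π i v = 0 → π i (g * v * g⁻¹) = 0) → ∀ h ∈ H,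
    ∀ A : Matrix.SpecialLinearGroup (Fin 2) F, Act1 π V i h A →
    ∃ B : Matrix.SpecialLinearGroup (Fin 2) F,
      ∀ v ∈ V, π i (g * h * g⁻¹ * v * (g * h * g⁻¹)⁻¹) = ap B (π i v)
  off1 : ∀ A ∈ AA T, ∀ a ∈ A, ∀ i, ∃ c : F, ∀ v ∈ V, π i (a * v * a⁻¹) = ap (up c) (π i v)
  off2 : ∀ A ∈ AA T, ∀ i, ¬ (∀ a ∈ A, ∀ v ∈ V, π i (a * v * a⁻¹) = π i v) → ∀ c : F, ∃ a ∈ A,
    Act1 π V i a (up c)
  trans : ∀ i j, ∃ t ∈ T, ∀ v ∈ V, π i v = 0 → π j (t * v * t⁻¹) = 0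
  VQ : V ≤ o2 H
  Vsq : ∀ v ∈ V, v ^ 2 = 1
  VcQ : ∀ x ∈ o2 H, ∀ v ∈ V, x * v = v * x
  nle : ¬ jj T ≤ o2 H

namespace FFK

variable {ι : Type} {F : Type*} [Field F] {H T V V0 : Subgroup G} (M : FFK ι F H T V V0)

theorem map_one (i : ι) : M.π i 1 = 0 := by
  have := M.map_mul i 1 (one_mem V) 1 (one_mem V)
  rw [one_mul] at this
  exact left_eq_add.1 this

theorem map_inv (i : ι) {v : G} (hv : v ∈ V) : M.π i v⁻¹ = - M.π i v := by
  have := M.map_mul i v hv v⁻¹ (inv_mem hv)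
  rw [mul_inv_cancel, M.map_one] at this
  exact (neg_eq_of_add_eq_zero_right this.symm).symm

theorem map_div (i : ι) {v w : G} (hv : v ∈ V) (hw : w ∈ V) :
    M.π i (v * w⁻¹) = M.π i v - M.π i w := by
  rw [M.map_mul i v hv _ (inv_mem hw), M.map_inv i hw, sub_eq_add_neg]

/-- the kernel of `π i` -/
def W (i : ι) : Subgroup G where
  carrier := {v | v ∈ V ∧ M.π i v = 0}
  mul_mem' := by
    rintro a b ⟨ha, ha'⟩ ⟨hb, hb'⟩
    exact ⟨mul_mem ha hb, by rw [M.map_mul i a ha b hb, ha', hb', add_zero]⟩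
  one_mem' := ⟨one_mem V, M.map_one i⟩
  inv_mem' := by
    rintro a ⟨ha, ha'⟩
    exact ⟨inv_mem ha, by rw [M.map_inv i ha, ha', neg_zero]⟩

/-- the preimage of the `i`-th summand -/
def N (i : ι) : Subgroup G where
  carrier := {v | v ∈ V ∧ ∀ j, j ≠ i → M.π j v = 0}
  mul_mem' := by
    rintro a b ⟨ha, ha'⟩ ⟨hb, hb'⟩
    exact ⟨mul_mem ha hb, fun j hj => by rw [M.map_mul j a ha b hb, ha' j hj, hb' j hj, add_zero]⟩
  one_mem' := ⟨one_mem V, fun j _ => M.map_one j⟩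
  inv_mem' := by
    rintro a ⟨ha, ha'⟩
    exact ⟨inv_mem ha, fun j hj => by rw [M.map_inv j ha, ha' j hj, neg_zero]⟩

theorem mem_W {i : ι} {v : G} : v ∈ M.W i ↔ v ∈ V ∧ M.π i v = 0 := Iff.rfl

theorem mem_N {i : ι} {v : G} : v ∈ M.N i ↔ v ∈ V ∧ ∀ j, j ≠ i → M.π j v = 0 := Iff.rfl

theorem NV (i : ι) : M.N i ≤ V := fun _ h => h.1

theorem WV (i : ι) : M.W i ≤ V := fun _ h => h.1

theorem N_le_W {i j : ι} (h : j ≠ i) : M.N i ≤ M.W j := fun _ hv => ⟨hv.1, hv.2 j h⟩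

theorem V0_le_W (i : ι) : V0 ≤ M.W i := fun v hv => ⟨M.V0V hv, (M.ker v (M.V0V hv)).2 hv i⟩

theorem V0_le_N (i : ι) : V0 ≤ M.N i := fun v hv => ⟨M.V0V hv, fun j _ =>
  (M.ker v (M.V0V hv)).2 hv j⟩

/-- decomposition `V = N_i W_i` -/
theorem split (i : ι) {v : G} (hv : v ∈ V) :
    ∃ n ∈ M.N i, ∃ w ∈ M.W i, v = n * w ∧ M.π i n = M.π i v := by
  obtain ⟨n, hn, e, hj⟩ := M.surj i (M.π i v)
  refine ⟨n, ⟨hn, hj⟩, n⁻¹ * v, ⟨mul_mem (inv_mem hn) hv, ?_⟩, by group, e⟩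
  rw [M.map_mul i _ (inv_mem hn) v hv, M.map_inv i hn, e, neg_add_cancel]

theorem W_inj {i j : ι} (h : M.W i ≤ M.W j) : i = j := by
  by_contra hne
  obtain ⟨v, hv, e, hj⟩ := M.surj j ![1, 0]
  have h1 := (h ⟨hv, hj i hne⟩).2
  rw [e] at h1
  have := congrFun h1 0
  simp at this

theorem N_inj {i j : ι} (h : M.N i ≤ M.N j) : i = j := by
  by_contra hne
  obtain ⟨v, hv, e, hj⟩ := M.surj i ![1, 0]
  have h1 := (h ⟨hv, hj⟩).2 i hne
  rw [e] at h1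
  have := congrFun h1 0
  simp at this

theorem card_W [Finite G] (i : ι) : Nat.card V = Nat.card (M.W i) * Nat.card (Fin 2 → F) := by
  refine card_of_map (M.π i) (M.map_mul i) (M.WV i) ?_ ?_
  · intro v hv
    exact ⟨fun h => ⟨hv, h⟩, fun h => h.2⟩
  · intro c
    obtain ⟨v, hv, e, -⟩ := M.surj i c
    exact ⟨v, hv, e⟩

theorem card_W_eq [Finite G] [Finite F] (i j : ι) : Nat.card (M.W i) = Nat.card (M.W j) := by
  have h1 := M.card_W i
  rw [M.card_W j] at h1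
  exact (Nat.eq_of_mul_eq_mul_right Nat.card_pos h1).symm

theorem W_cj [Finite G] [Finite F] {h : G} (hh : h ∈ H) (i : ι) : ∃ j, cj h (M.W i) = M.W j := by
  obtain ⟨j, hj⟩ := M.perm h hh i
  refine ⟨j, Subgroup.eq_of_le_of_card_ge ?_ ?_⟩
  · rintro _ ⟨v, hv, rfl⟩
    exact ⟨M.Vn h hh v hv.1, hj v hv.1 hv.2⟩
  · rw [card_cj]; exact (M.card_W_eq j i).le

theorem W_trans [Finite G] [Finite F] (hTH : T ≤ H) (i j : ι) : ∃ t ∈ T, cj t (M.W i) = M.W j := by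
  obtain ⟨t, ht, hj⟩ := M.trans i j
  refine ⟨t, ht, Subgroup.eq_of_le_of_card_ge ?_ ?_⟩
  · rintro _ ⟨v, hv, rfl⟩
    exact ⟨M.Vn t (hTH ht) v hv.1, hj v hv.1 hv.2⟩
  · rw [card_cj]; exact (M.card_W_eq j i).le

include M in
theorem cj_V {h : G} (hh : h ∈ H) : cj h V = V := by
  ext v
  rw [mem_cj]
  constructor
  · intro hv
    have := M.Vn h hh _ hv
    have e : h * (h⁻¹ * v * h) * h⁻¹ = v := by group
    rwa [e] at this
  · intro hv
    have := M.Vn h⁻¹ (inv_mem hh) v hv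
    rwa [inv_inv] at this

theorem N_cj [Finite G] [Finite F] {h : G} (hh : h ∈ H) {i j : ι} (e : cj h (M.W i) = M.W j) :
    cj h (M.N i) = M.N j := by
  have key : ∀ h ∈ H, ∀ i j, cj h (M.W i) = M.W j → cj h (M.N i) ≤ M.N j := by
    intro h hh i j e
    rintro _ ⟨v, hv, rfl⟩
    refine ⟨M.Vn h hh v hv.1, fun k hk => ?_⟩
    obtain ⟨k', hk'⟩ := M.W_cj (inv_mem hh) k
    have hne : k' ≠ i := by
      rintro rfl
      apply hk
      apply M.W_inj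
      rw [← e, ← hk', cj_cj_inv]
    have h1 : v ∈ M.W k' := M.N_le_W hne hv
    rw [← hk', mem_cj, inv_inv] at h1
    exact h1.2
  apply le_antisymm (key h hh i j e)
  have h1 := key h⁻¹ (inv_mem hh) j i (by rw [← e, cj_inv_cj])
  have h2 := cj_mono h h1
  rwa [cj_cj_inv] at h2

theorem W_cj_of_N [Finite G] [Finite F] {h : G} (hh : h ∈ H) {i : ι}
    (e : cj h (M.N i) = M.N i) : cj h (M.W i) = M.W i := by
  obtain ⟨j, hj⟩ := M.W_cj hh i
  have h1 := M.N_cj hh hj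
  rw [e] at h1
  rw [hj, M.N_inj h1.le]

include M in
theorem V0n [Finite G] [Finite F] : ∀ h ∈ H, ∀ v ∈ V0, h * v * h⁻¹ ∈ V0 := by
  intro h hh v hv
  rw [← M.ker _ (M.Vn h hh v (M.V0V hv))]
  intro i
  obtain ⟨j, hj⟩ := M.W_cj (inv_mem hh) i
  have h1 := M.V0_le_W j hv
  rw [← hj, mem_cj, inv_inv] at h1
  exact h1.2

/-- The stabiliser of the summand `i`. -/
def St (M : FFK ι F H T V V0) (i : ι) : Subgroup G := H ⊓ normalizer (M.W i : Set G)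

theorem mem_St {i : ι} {h : G} : h ∈ M.St i ↔ h ∈ H ∧ cj h (M.W i) = M.W i := by
  rw [St, mem_inf, mem_normalizer_iff_cj]

theorem act1_mem_St {i : ι} {h : G} [Finite G] {A : Matrix.SpecialLinearGroup (Fin 2) F}
    (hA : Act1 M.π V i h A) (hh : h ∈ H) : h ∈ M.St i := by
  refine ⟨hh, mem_norm_of fun v hv => ?_⟩
  rw [hA.cent v hv.1 hv.2, mul_inv_cancel_right]
  exact hv

/-- The natural section `V / W i`. -/
def sec [Finite G] (i : ι) : NatSec F (M.St i) V (M.W i) where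
  π := M.π i
  map_mul := M.map_mul i
  V0V := M.WV i
  ker v hv := ⟨fun h => ⟨hv, h⟩, fun h => h.2⟩
  surj x := by
    obtain ⟨v, hv, e, -⟩ := M.surj i x
    exact ⟨v, hv, e⟩
  Vn h hh v hv := M.Vn h hh.1 v hv
  V0n h hh v hv := conj_mem_of_norm hh.2 hv
  lift A := by
    obtain ⟨h, hh, h1⟩ := M.lift i A
    exact ⟨h, M.act1_mem_St h1 hh, h1.act⟩
  norm := by
    intro g hg h hh A hA
    obtain ⟨x, hx, h1⟩ := M.lift i A
    obtain ⟨B, hB⟩ := M.norm i g hg.1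
      (fun v hv hv0 => (conj_mem_of_norm hg.2 (show v ∈ M.W i from ⟨hv, hv0⟩)).2) x hx A h1
    refine ⟨B, fun v hv => ?_⟩
    rw [← hB v hv]
    -- `h` and `x` act in the same way on `V / W i`
    have hv' : g⁻¹ * v * g ∈ V := by
      have := M.Vn g⁻¹ (inv_mem hg.1) v hv
      rwa [inv_inv] at this
    set w := g⁻¹ * v * g with hw
    have e1 : g * h * g⁻¹ * v * (g * h * g⁻¹)⁻¹ = g * (h * w * h⁻¹) * g⁻¹ := by rw [hw]; group
    have e2 : g * x * g⁻¹ * v * (g * x * g⁻¹)⁻¹ = g * (x * w * x⁻¹) * g⁻¹ := by rw [hw]; group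
    have hhV := M.Vn h hh.1 w hv'
    have hxV := M.Vn x hx w hv'
    have h3 : (h * w * h⁻¹) * (x * w * x⁻¹)⁻¹ ∈ M.W i := by
      refine ⟨mul_mem hhV (inv_mem hxV), ?_⟩
      rw [M.map_div i hhV hxV, hA w hv', h1.act w hv', sub_self]
    have h4 := (conj_mem_of_norm hg.2 h3).2
    have e3 : g * (h * w * h⁻¹ * (x * w * x⁻¹)⁻¹) * g⁻¹ =
      (g * (h * w * h⁻¹) * g⁻¹) * (g * (x * w * x⁻¹) * g⁻¹)⁻¹ := by group
    rw [e3, M.map_div i (M.Vn g hg.1 _ hhV) (M.Vn g hg.1 _ hxV), sub_eq_zero] at h4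
    rw [e1, e2, h4]

/-! ### The kernel of the action on `V / V0` -/

/-- the kernel of the action on `V / V0` -/
def kern [Finite G] [Finite F] (M : FFK ι F H T V V0) : Subgroup G where
  carrier := {g | g ∈ H ∧ ∀ v ∈ V, ∀ i, M.π i (g * v * g⁻¹) = M.π i v}
  mul_mem' := by
    rintro a b ⟨ha, ha'⟩ ⟨hb, hb'⟩
    refine ⟨mul_mem ha hb, fun v hv i => ?_⟩
    have e : a * b * v * (a * b)⁻¹ = a * (b * v * b⁻¹) * a⁻¹ := by group
    rw [e, ha' _ (M.Vn b hb v hv), hb' v hv]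
  one_mem' := ⟨one_mem H, fun v _ i => by rw [one_mul, inv_one, mul_one]⟩
  inv_mem' := by
    rintro a ⟨ha, ha'⟩
    refine ⟨inv_mem ha, fun v hv i => ?_⟩
    rw [← ha' _ (M.Vn a⁻¹ (inv_mem ha) v hv)]
    congr 1
    group

theorem mem_kern [Finite G] [Finite F] {g : G} :
    g ∈ M.kern ↔ g ∈ H ∧ ∀ v ∈ V, ∀ i, M.π i (g * v * g⁻¹) = M.π i v := Iff.rfl

theorem kern_norm [Finite G] [Finite F] {g k : G} (hg : g ∈ H) (hk : k ∈ M.kern) :
    g * k * g⁻¹ ∈ M.kern := by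
  refine ⟨mul_mem (mul_mem hg hk.1) (inv_mem hg), fun v hv i => ?_⟩
  have hv' : g⁻¹ * v * g ∈ V := by
    have := M.Vn g⁻¹ (inv_mem hg) v hv
    rwa [inv_inv] at this
  set w := g⁻¹ * v * g with hw
  have h1 : (k * w * k⁻¹) * w⁻¹ ∈ V0 := by
    rw [← M.ker _ (mul_mem (M.Vn k hk.1 w hv') (inv_mem hv'))]
    intro j
    rw [M.map_div j (M.Vn k hk.1 w hv') hv', hk.2 w hv', sub_self]
  have h2 := (M.ker _ (M.V0V (M.V0n g hg _ h1))).2 (M.V0n g hg _ h1) i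
  have e1 : g * (k * w * k⁻¹ * w⁻¹) * g⁻¹ = (g * k * g⁻¹ * v * (g * k * g⁻¹)⁻¹) * v⁻¹ := by
    rw [hw]; group
  have h3 : g * k * g⁻¹ * v * (g * k * g⁻¹)⁻¹ ∈ V :=
    M.Vn _ (mul_mem (mul_mem hg hk.1) (inv_mem hg)) v hv
  rw [e1, M.map_div i h3 hv, sub_eq_zero] at h2
  exact h2

theorem kern_sup_ne [Finite G] [Finite F] [CharP F 2] [Nonempty ι] (hT : Syl T H) :
    M.kern ⊔ T ≠ H := by
  intro e
  obtain ⟨i⟩ := ‹Nonempty ι›
  have hle : T ≤ normalizer (M.kern : Set G) := fun t ht => mem_norm_of fun k hk =>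
    M.kern_norm (hT.1 ht) hk
  have hkS : M.kern ≤ M.St i := by
    intro k hk
    refine ⟨hk.1, mem_norm_of fun v hv => ⟨M.Vn k hk.1 v hv.1, ?_⟩⟩
    rw [hk.2 v hv.1, hv.2]
  have hkk : M.kern ≤ (M.sec i).kern := by
    intro k hk
    rw [← (M.sec i).ind_one_iff (hkS hk)]
    intro v hv
    rw [ap_one]
    exact hk.2 v hv i
  obtain ⟨T', hT', hle'⟩ := exists_syl (hT.2.1.to_le (inf_le_left : T ⊓ M.St i ≤ T))
    (inf_le_right : T ⊓ M.St i ≤ M.St i)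
  apply (M.sec i).kern_sup_ne hT'
  apply le_antisymm (sup_le (M.sec i).kern_le hT'.1)
  intro h hh
  have hh' : h ∈ M.kern ⊔ T := by rw [e]; exact hh.1
  have h1 : h ∈ (M.kern : Set G) * (T : Set G) := by
    rw [← Subgroup.coe_mul_of_right_le_normalizer_left _ _ hle]; exact hh'
  obtain ⟨k, hk, t, ht, rfl⟩ := Set.mem_mul.1 h1
  have ht' : t ∈ M.St i := by
    have := mul_mem (inv_mem (hkS hk)) hh
    rwa [inv_mul_cancel_left] at this
  exact mul_mem (mem_sup_left (hkk hk)) (mem_sup_right (hle' ⟨ht, ht'⟩))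

theorem inf_kern_le [Finite G] [Finite F] [CharP F 2] [Nonempty ι] (hm : MinH H T) :
    T ⊓ M.kern ≤ o2 H :=
  hm.inf_le (fun _ h => h.1) (fun h hh n hn => M.kern_norm hh hn) (M.kern_sup_ne hm.syl)

theorem Q_kern [Finite G] [Finite F] {x : G} (hx : x ∈ o2 H) : x ∈ M.kern :=
  ⟨o2_le H hx, fun v hv i => by rw [M.VcQ x hx v hv, mul_inv_cancel_right]⟩

theorem mem_Q_iff [Finite G] [Finite F] [CharP F 2] [Nonempty ι] (hm : MinH H T) {x : G}
    (hx : x ∈ T) : x ∈ o2 H ↔ ∀ v ∈ V, ∀ i, M.π i (x * v * x⁻¹) = M.π i v :=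
  ⟨fun h => (M.Q_kern h).2, fun h => M.inf_kern_le hm ⟨hx, hm.syl.1 hx, h⟩⟩

end FFK

end Cfsg.Agent.Omega.SQ1.FFOne
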