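import Cfsg.Agent.Omega.SQ1.BauDat
import Cfsg.Agent.Omega.SQ1.Match

/-!
# SQ1.3: the blocks `L_i` are canonical; input of the matching

`T` is transitive on the summands.  If `C_H(V) = Q` then the minimal block over `B` acting on `N i`
is unique, so `T` permutes the blocks.  Main result:
`InK.min_in : ∃ L, (∀ i, BlkK H T V N i (L i)) ∧ Match.MIn ..`.
-/

set_option autoImplicit false

namespace Cfsg.Agent.Omega.SQ1.BauK

open Subgroup Cfsg Cfsg.Agent.PLocal.ThompsonJ Cfsg.Agent.ZN Cfsg.Agent.ZN.ChoiceBase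
open Cfsg.Agent.PLocal.ElemAbSup
open Cfsg.Agent.Omega.SQ1.Bau (mem_AA_of_comm zj_le_AA elem_comm elem_sq mem_sup_comm card_sup_comm
  mem_sup_norm Mv not_mv_iff mv_inv exists_min)
open scoped Pointwise commutatorElement

universe u

variable {G : Type u} [Group G]

/-! ### Covering for planes -/

namespace Pl

variable {P W W1 W0 B C : Subgroup G} {q : ℕ}

/-- Every element of `W - W1` lies in a `B`-conjugate of `W1^g`. -/
theorem cover (h : Pl P W W1 W0 q) [Finite G] (hBP : B ≤ P) (hCB : C ≤ B)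
    (hcard : Nat.card B = Nat.card C * q) (hBc : ∀ b ∈ B, ∀ v ∈ W1, b * v = v * b)
    (hmv : ∀ g ∈ P, Mv W1 g → ∀ b ∈ B, b ∉ C → Mv W1 (g * b * g⁻¹)) {g : G} (hg : g ∈ P)
    (hm : Mv W1 g) {v : G} (hv : v ∈ W) (hv1 : v ∉ W1) :
    ∃ b ∈ B, ∃ w ∈ W1, v = b * (g * w * g⁻¹) * b⁻¹ := by
  classical
  let U : Subgroup G := cj g W1
  have hUV : U ≤ W := h.cj_le hg
  have hUV1 : W1 ⊓ U = W0 := h.inter hg hm
  have hV0U : W0 ≤ U := by rw [← hUV1]; exact inf_le_right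
  have key : ∀ b ∈ B, ∀ w ∈ U, ∀ w' ∈ U, b * w * b⁻¹ = w' → w ∉ W0 → b ∈ C := by
    intro b hb w hw w' hw' e hw0
    by_contra hbQ
    have hm1 : Mv W1 (g⁻¹ * b * g) := by
      have := hmv g⁻¹ (inv_mem hg) (mv_inv.2 hm) b hb hbQ
      rwa [inv_inv] at this
    have hH : g⁻¹ * b * g ∈ P := mul_mem (mul_mem (inv_mem hg) (hBP hb)) hg
    have h1 := h.opp _ hH hm1 (g⁻¹ * w * g) (mem_cj.1 hw) (by
      have e1 : g⁻¹ * b * g * (g⁻¹ * w * g) * (g⁻¹ * b * g)⁻¹ = g⁻¹ * (b * w * b⁻¹) * g := by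
        group
      rw [e1, e]; exact mem_cj.1 hw')
    have e1 : g⁻¹ * b * g * (g⁻¹ * w * g) * (g⁻¹ * b * g)⁻¹ = g⁻¹ * (b * w * b⁻¹) * g := by group
    rw [e1] at h1
    have h2 := h.W0n g hg _ h1
    have e2 : g * (g⁻¹ * (b * w * b⁻¹) * g) * g⁻¹ = b * w * b⁻¹ := by group
    rw [e2] at h2
    have h3 := h.W0n b⁻¹ (inv_mem (hBP hb)) _ h2
    have e3 : b⁻¹ * (b * w * b⁻¹) * b⁻¹⁻¹ = w := by group
    rw [e3] at h3
    exact hw0 h3
  let Qs : Subgroup ↥B := C.subgroupOf B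
  let F : (↥B ⧸ Qs) × {w : G // w ∈ U ∧ w ∉ W0} → {v : G // v ∈ W ∧ v ∉ W1} :=
    fun p => ⟨(p.1.out : G) * p.2.1 * (p.1.out : G)⁻¹, by
      refine ⟨h.Wn _ (hBP p.1.out.2) _ (hUV p.2.2.1), fun h1 => p.2.2.2 ?_⟩
      have h2 := hBc _ p.1.out.2 _ h1
      have h3 : p.2.1 = (p.1.out : G) * p.2.1 * (p.1.out : G)⁻¹ := by
        have : (p.1.out : G)⁻¹ * ((p.1.out : G) * p.2.1 * (p.1.out : G)⁻¹) * (p.1.out : G) =
          (p.1.out : G) * p.2.1 * (p.1.out : G)⁻¹ := by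
          rw [mul_assoc, ← h2]; group
        rw [← this]; group
      rw [← h3] at h1
      exact hUV1.le (mem_inf.2 ⟨h1, p.2.2.1⟩)⟩
  have hF : Function.Injective F := by
    rintro ⟨c, w⟩ ⟨c', w'⟩ hcc
    have h1 : (c.out : G) * w.1 * (c.out : G)⁻¹ = (c'.out : G) * w'.1 * (c'.out : G)⁻¹ :=
      congrArg Subtype.val hcc
    have h2 : ((c'.out : G)⁻¹ * (c.out : G)) * w.1 * ((c'.out : G)⁻¹ * (c.out : G))⁻¹ = w'.1 := by
      have : ((c'.out : G)⁻¹ * (c.out : G)) * w.1 * ((c'.out : G)⁻¹ * (c.out : G))⁻¹ =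
        (c'.out : G)⁻¹ * ((c.out : G) * w.1 * (c.out : G)⁻¹) * (c'.out : G) := by group
      rw [this, h1]; group
    have hB : (c'.out : G)⁻¹ * (c.out : G) ∈ B := mul_mem (inv_mem c'.out.2) c.out.2
    have h3 := key _ hB w.1 w.2.1 w'.1 w'.2.1 h2 w.2.2
    have h4 : c = c' := by
      rw [← c.out_eq, ← c'.out_eq, eq_comm]
      refine QuotientGroup.eq.2 ?_
      exact mem_subgroupOf.2 h3
    subst h4
    have h5 : w = w' := by
      apply Subtype.ext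
      rw [← h2]; group
    rw [h5]
  have c1 : Nat.card (↥B ⧸ Qs) = q := by
    have e1 : Nat.card (↥B ⧸ Qs) * Nat.card Qs = Nat.card B :=
      (Subgroup.card_eq_card_quotient_mul_card_subgroup Qs).symm
    have e2 : Nat.card Qs = Nat.card C :=
      Nat.card_congr (Subgroup.subgroupOfEquivOfLe hCB).toEquiv
    rw [e2, hcard, Nat.mul_comm (Nat.card C) q] at e1
    exact Nat.eq_of_mul_eq_mul_right Nat.card_pos e1
  have diff : ∀ X U : Subgroup G, U ≤ X →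
      Nat.card {x : G // x ∈ X ∧ x ∉ U} + Nat.card U = Nat.card X := by
    intro X U hUX
    have hf : (X : Set G).Finite := Set.toFinite _
    have e1 : Nat.card {x : G // x ∈ X ∧ x ∉ U} = ((X : Set G) \ (U : Set G)).ncard := rfl
    have e2 : Nat.card U = (U : Set G).ncard := rfl
    have e3 : Nat.card X = (X : Set G).ncard := rfl
    rw [e1, e2, e3]
    exact Set.ncard_sdiff_add_ncard_of_subset hUX
  have c2 := diff U W0 hV0U
  have c3 := diff W W1 h.W1W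
  have c4 : Nat.card U = Nat.card W1 := card_cj g W1
  rw [c4, h.card1] at c2
  rw [h.card, h.card1] at c3
  have c5 : Nat.card ((↥B ⧸ Qs) × {w : G // w ∈ U ∧ w ∉ W0}) =
      Nat.card {v : G // v ∈ W ∧ v ∉ W1} := by
    rw [Nat.card_prod, c1]
    have e : q * Nat.card {w : G // w ∈ U ∧ w ∉ W0} + Nat.card W0 * q =
      Nat.card {v : G // v ∈ W ∧ v ∉ W1} + Nat.card W0 * q := by
      rw [c3]
      calc _ = q * (Nat.card {w : G // w ∈ U ∧ w ∉ W0} + Nat.card W0) := by ring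
        _ = _ := by rw [c2]; ring
    omega
  have hsur : Function.Surjective F := ((Nat.bijective_iff_injective_and_card F).2 ⟨hF, c5⟩).2
  obtain ⟨⟨c, w⟩, hcw⟩ := hsur ⟨v, hv, hv1⟩
  refine ⟨c.out, c.out.2, g⁻¹ * w.1 * g, mem_cj.1 w.2.1, ?_⟩
  have h6 : (c.out : G) * w.1 * (c.out : G)⁻¹ = v := congrArg Subtype.val hcw
  rw [← h6]
  group

/-- `B` is transitive on the conjugates of `W1` different from `W1`. -/
theorem line_conj (h : Pl P W W1 W0 q) [Finite G] (hq : 1 < q) (hBP : B ≤ P) (hCB : C ≤ B)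
    (hcard : Nat.card B = Nat.card C * q) (hBc : ∀ b ∈ B, ∀ v ∈ W1, b * v = v * b)
    (hmv : ∀ g ∈ P, Mv W1 g → ∀ b ∈ B, b ∉ C → Mv W1 (g * b * g⁻¹)) {g g' : G} (hg : g ∈ P)
    (hm : Mv W1 g) (hg' : g' ∈ P) (hm' : Mv W1 g') : ∃ b ∈ B, cj (b * g) W1 = cj g' W1 := by
  obtain ⟨w, hw, hw0⟩ : ∃ w ∈ W1, w ∉ W0 := by
    by_contra hc
    push Not at hc
    have h1 : Nat.card W1 ≤ Nat.card W0 := Subgroup.card_le_of_le (fun x hx => hc x hx)
    rw [h.card1] at h1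
    have hp : 0 < Nat.card W0 := Nat.card_pos
    have h2 : Nat.card W0 * 2 ≤ Nat.card W0 * q := Nat.mul_le_mul_left _ hq
    omega
  have hv : g' * w * g'⁻¹ ∈ W := h.Wn g' hg' w (h.W1W hw)
  have hv0 : g' * w * g'⁻¹ ∉ W0 := by
    intro h1
    apply hw0
    have := h.W0n g'⁻¹ (inv_mem hg') _ h1
    have e : g'⁻¹ * (g' * w * g'⁻¹) * g'⁻¹⁻¹ = w := by group
    rwa [e] at this
  have hv1 : g' * w * g'⁻¹ ∉ W1 := fun h1 => hv0 (h.opp g' hg' hm' w hw h1)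
  obtain ⟨b, hb, u, hu, e⟩ := h.cover hBP hCB hcard hBc hmv hg hm hv hv1
  refine ⟨b, hb, ?_⟩
  by_contra hne
  have hbg : b * g ∈ P := mul_mem (hBP hb) hg
  have hm2 : Mv W1 ((b * g)⁻¹ * g') := by
    by_contra hc
    rw [not_mv_iff] at hc
    apply hne
    have := cj_eq_of_mem_normalizer hc
    have e2 : cj g' W1 = cj (b * g) (cj ((b * g)⁻¹ * g') W1) := by
      rw [cj_cj, mul_inv_cancel_left]
    rw [e2, this]
  have h3 := h.opp _ (mul_mem (inv_mem hbg) hg') hm2 w hw (by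
    have e3 : (b * g)⁻¹ * g' * w * ((b * g)⁻¹ * g')⁻¹ = (b * g)⁻¹ * (g' * w * g'⁻¹) * (b * g) := by
      group
    rw [e3, e]
    have e4 : (b * g)⁻¹ * (b * (g * u * g⁻¹) * b⁻¹) * (b * g) = u := by group
    rw [e4]; exact hu)
  apply hv0
  have h4 := h.W0n _ hbg _ h3
  have e5 : b * g * ((b * g)⁻¹ * g' * w * ((b * g)⁻¹ * g')⁻¹) * (b * g)⁻¹ = g' * w * g'⁻¹ := by
    group
  rwa [e5] at h4

end Pl

namespace InK

variable {H T Q V V0 : Subgroup G} {ι : Type} {N A : ι → Subgroup G} {q : ℕ}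

theorem N_inj (h : InK H T Q V V0 N A q) [Finite G] {i j : ι} (e : N i = N j) : i = j := by
  by_contra hne
  apply h.V0_lt i
  have := h.Ninf i j hne
  rwa [← e, inf_idem] at this

theorem Y_elem (h : InK H T Q V V0 N A q) [Finite G] :
    IsElementaryAbelian 2 (zj T ⊔ V : Subgroup G) :=
  isElementaryAbelian_sup (Bau.In.zj_elem T) h.Velem
    fun v hv => mem_centralizer_iff.2 fun z hz => h.ZcV z hz v hv

theorem bau_le_St (h : InK H T Q V V0 N A q) [Finite G] (i : ι) : bau T ≤ St H (N i) :=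
  fun _ hb => ⟨h.TH (bau_le T hb), h.bau_norm_N i hb⟩

theorem line_conj (h : InK H T Q V V0 N A q) [Finite G] {i : ι} {g g' : G}
    (hg : g ∈ St H (N i)) (hm : Mv (V1 T V ⊓ N i) g) (hg' : g' ∈ St H (N i))
    (hm' : Mv (V1 T V ⊓ N i) g') :
    ∃ b ∈ bau T, cj (b * g) (V1 T V ⊓ N i) = cj g' (V1 T V ⊓ N i) :=
  (h.pl i).line_conj (C := QL T (N i)) h.one_lt (h.bau_le_St i) inf_le_left (h.card_bau i)
    (fun _ hb _ hv => h.bau_V1 hb hv.1) (fun _ hg hm _ hb hbC => h.bau_moves hg hm hb hbC)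
    hg hm hg' hm'

/-! ### The stability group of `1 ≤ V1 ≤ V` -/

/-- `{s ∈ H : [V1, s] = 1, [V, s] ≤ V1}`. -/
def SS (H T V : Subgroup G) (hn : ∀ h ∈ H, ∀ x ∈ V, h * x * h⁻¹ ∈ V) : Subgroup G where
  carrier := {s | s ∈ H ∧ (∀ v ∈ V1 T V, s * v = v * s) ∧ ∀ v ∈ V, s * v * s⁻¹ * v⁻¹ ∈ V1 T V}
  mul_mem' := by
    rintro a b ⟨ha1, ha2, ha3⟩ ⟨hb1, hb2, hb3⟩
    refine ⟨mul_mem ha1 hb1, fun v hv => ?_, fun v hv => ?_⟩
    · rw [mul_assoc, hb2 v hv, ← mul_assoc, ha2 v hv, mul_assoc]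
    · have e : a * b * v * (a * b)⁻¹ * v⁻¹ =
        a * (b * v * b⁻¹) * a⁻¹ * (b * v * b⁻¹)⁻¹ * (b * v * b⁻¹ * v⁻¹) := by group
      rw [e]
      exact mul_mem (ha3 _ (hn b hb1 v hv)) (hb3 v hv)
  one_mem' := ⟨one_mem _, fun _ _ => by simp, fun v _ => by simp⟩
  inv_mem' := by
    rintro a ⟨ha1, ha2, ha3⟩
    refine ⟨inv_mem ha1, fun v hv => ?_, fun v hv => ?_⟩
    · exact ((show Commute a v from ha2 v hv).inv_left).eq
    · have h1 := inv_mem (ha3 _ (hn a⁻¹ (inv_mem ha1) v hv))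
      have e : (a * (a⁻¹ * v * a⁻¹⁻¹) * a⁻¹ * (a⁻¹ * v * a⁻¹⁻¹)⁻¹)⁻¹ =
        a⁻¹ * v * a⁻¹⁻¹ * v⁻¹ := by group
      rwa [e] at h1

/-- `V = N_i N_i'`, where `N_i'` is the product of the other summands. -/
theorem V_split (h : InK H T Q V V0 N A q) [Finite G] (i : ι) {v : G} (hv : v ∈ V) :
    ∃ n ∈ N i, ∃ m ∈ V, (∀ g, (∀ j, i ≠ j → ∀ w ∈ N j, g * w = w * g) → g * m = m * g) ∧
      v = n * m := by
  classical
  let M : Subgroup G := ⨆ j : {j // i ≠ j}, N j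
  have hMV : M ≤ V := iSup_le fun j => h.NV j
  have h1 : V ≤ N i ⊔ M := by
    refine h.Nsup.trans (iSup_le fun j => ?_)
    by_cases hij : i = j
    · subst hij; exact le_sup_left
    · exact (le_iSup (fun j : {j // i ≠ j} => N j) ⟨j, hij⟩).trans le_sup_right
  obtain ⟨n, hn, m, hm, rfl⟩ := mem_sup_comm (fun a ha b hb =>
    h.Vcomm a (h.NV i ha) b (hMV hb)) (h1 hv)
  refine ⟨n, hn, m, hMV hm, fun g hg => ?_, rfl⟩
  have h2 : M ≤ centralizer ({g} : Set G) := by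
    refine iSup_le fun j w hw => mem_centralizer_iff.2 fun x hx => ?_
    rw [show x = g from hx]
    exact hg j j.2 w hw
  exact mem_centralizer_iff.1 (h2 hm) g rfl

theorem jj_quad (h : InK H T Q V V0 N A q) [Finite G] {b v : G} (hb : b ∈ jj T) (hv : v ∈ V) :
    b * v * b⁻¹ * v⁻¹ ∈ V1 T V := by
  have hbH : b ∈ H := h.TH (jj_le T hb)
  let S : Subgroup G :=
    { carrier := {w | w ∈ V ∧ b * w * b⁻¹ * w⁻¹ ∈ V1 T V}
      mul_mem' := by
        rintro x y ⟨hx, hx'⟩ ⟨hy, hy'⟩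
        refine ⟨mul_mem hx hy, ?_⟩
        have hyV : b * y * b⁻¹ * y⁻¹ ∈ V := mul_mem (h.Vn b hbH y hy) (inv_mem hy)
        have e : b * (x * y) * b⁻¹ * (x * y)⁻¹ =
          (b * x * b⁻¹) * ((b * y * b⁻¹ * y⁻¹) * x⁻¹) := by group
        rw [e, h.Vcomm _ hyV _ (inv_mem hx), ← mul_assoc]
        exact mul_mem hx' hy'
      one_mem' := ⟨one_mem _, by simp⟩
      inv_mem' := by
        rintro x ⟨hx, hx'⟩
        refine ⟨inv_mem hx, ?_⟩
        have hxV : b * x * b⁻¹ ∈ V := h.Vn b hbH x hx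
        have e : b * x⁻¹ * b⁻¹ * x⁻¹⁻¹ = (b * x * b⁻¹)⁻¹ * x := by group
        rw [e, h.Vcomm _ (inv_mem hxV) _ hx]
        have e2 : x * (b * x * b⁻¹)⁻¹ = (b * x * b⁻¹ * x⁻¹)⁻¹ := by group
        rw [e2]
        exact inv_mem hx' }
  have hS : (⨆ j, N j) ≤ S := iSup_le fun j w hw => ⟨h.NV j hw, h.quad j b hb w hw⟩
  exact (hS (h.Nsup hv)).2

theorem bau_le_SS (h : InK H T Q V V0 N A q) [Finite G] : bau T ≤ SS H T V h.Vn := by
  intro b hb
  refine ⟨h.TH (bau_le T hb), fun v hv => h.bau_V1 hb hv, fun v hv => ?_⟩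
  obtain ⟨j, hj, e⟩ := h.bau_act hb
  rw [e v hv]
  exact h.jj_quad hj hv

theorem SS_sq (h : InK H T Q V V0 N A q) [Finite G]
    (hH : ∀ x ∈ H, (∀ v ∈ V, x * v = v * x) → x ∈ Q) {s : G} (hs : s ∈ SS H T V h.Vn) :
    s ^ 2 ∈ Q := by
  obtain ⟨h1, h2, h3⟩ := hs
  refine hH _ (pow_mem h1 2) fun v hv => ?_
  set w := s * v * s⁻¹ * v⁻¹ with hw
  have hwV := h3 v hv
  rw [← hw] at hwV
  have e1 : s * v * s⁻¹ = w * v := by rw [hw]; group
  have e2 : s * w * s⁻¹ = w := comm_iff.1 (h2 w hwV)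
  have hww : w * w = 1 := by
    have := h.Vsq w (V1V hwV); rwa [pow_two] at this
  rw [comm_iff]
  have e3 : s ^ 2 * v * (s ^ 2)⁻¹ = s * (s * v * s⁻¹) * s⁻¹ := by
    simp only [pow_two, mul_inv_rev, mul_assoc]
  rw [e3, e1]
  have e4 : s * (w * v) * s⁻¹ = (s * w * s⁻¹) * (s * v * s⁻¹) := by group
  rw [e4, e1, e2, ← mul_assoc, hww, one_mul]

theorem SS_pgroup (h : InK H T Q V V0 N A q) [Finite G]
    (hH : ∀ x ∈ H, (∀ v ∈ V, x * v = v * x) → x ∈ Q) :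
    IsPGroup 2 (SS H T V h.Vn) := by
  intro s
  have h1 := h.SS_sq hH s.2
  obtain ⟨n, hn⟩ := h.syl.2.1 ⟨_, h.QT h1⟩
  refine ⟨n + 1, ?_⟩
  have h3 : ((s : G) ^ 2) ^ 2 ^ n = 1 := by
    have := congrArg Subtype.val hn
    simpa using this
  apply Subtype.ext
  rw [SubmonoidClass.coe_pow, OneMemClass.coe_one, pow_succ, Nat.mul_comm, pow_mul, h3]

theorem SS_norm (h : InK H T Q V V0 N A q) [Finite G] {x : G} (hx : x ∈ H)
    (hn : x ∈ normalizer (V1 T V : Set G)) : x ∈ normalizer (SS H T V h.Vn : Set G) := by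
  refine norm_of_conj ?_
  rintro s ⟨h1, h2, h3⟩
  refine ⟨mul_mem (mul_mem hx h1) (inv_mem hx), fun v hv => ?_, fun v hv => ?_⟩
  · have hv' : x⁻¹ * v * x ∈ V1 T V := by
      have := (mem_normalizer_iff.1 (inv_mem hn) v).1 hv
      rwa [inv_inv] at this
    have h5 := h2 _ hv'
    calc x * s * x⁻¹ * v = x * (s * (x⁻¹ * v * x)) * x⁻¹ := by group
      _ = x * (x⁻¹ * v * x * s) * x⁻¹ := by rw [h5]
      _ = v * (x * s * x⁻¹) := by group
  · have hv' : x⁻¹ * v * x ∈ V := by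
      have := h.Vn x⁻¹ (inv_mem hx) v hv
      rwa [inv_inv] at this
    have h5 := (mem_normalizer_iff.1 hn _).1 (h3 _ hv')
    have e : x * (s * (x⁻¹ * v * x) * s⁻¹ * (x⁻¹ * v * x)⁻¹) * x⁻¹ =
      x * s * x⁻¹ * v * (x * s * x⁻¹)⁻¹ * v⁻¹ := by group
    rwa [e] at h5

theorem T_norm_V1 (h : InK H T Q V V0 N A q) [Finite G] : T ≤ normalizer (V1 T V : Set G) :=
  fun t ht => norm_of_conj fun v hv => by
    have h1 : t * v * t⁻¹ ∈ zj T ⊓ V :=
      ⟨Bau.In.T_norm_Z T ht (h.V1_le_Z hv), h.Vn t (h.TH ht) v (V1V hv)⟩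
    rw [h.Z_inf_V] at h1
    exact h1

/-- `N_H(V1) ≤ N_H(B)`. -/
theorem norm_bau (h : InK H T Q V V0 N A q) [Finite G]
    (hH : ∀ x ∈ H, (∀ v ∈ V, x * v = v * x) → x ∈ Q) {x : G} (hx : x ∈ H)
    (hn : x ∈ normalizer (V1 T V : Set G)) : x ∈ normalizer (bau T : Set G) := by
  have hle : SS H T V h.Vn ≤ T := by
    have h3 : IsPGroup 2 (T ⊔ SS H T V h.Vn : Subgroup G) :=
      IsPGroup.to_sup_of_normal_right' h.syl.2.1 (h.SS_pgroup hH)
        (fun t ht => h.SS_norm (h.TH ht) (h.T_norm_V1 ht))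
    have h4 : SS H T V h.Vn ≤ H := fun s hs => hs.1
    exact le_sup_right.trans (h.syl.2.2 _ (sup_le h.TH h4) h3 le_sup_left).le
  have hJ : jj (SS H T V h.Vn) = jj T := jj_eq_of_jj_le ((jj_le_bau T).trans h.bau_le_SS) hle
  have hB : bau (SS H T V h.Vn) = bau T := by
    apply le_antisymm
    · intro b hb
      obtain ⟨h3, h4⟩ := mem_bau.1 hb
      exact mem_bau.2 ⟨hle h3, by rwa [zj_congr hJ] at h4⟩
    · intro b hb
      exact mem_bau.2 ⟨h.bau_le_SS hb, by rw [zj_congr hJ]; exact (mem_bau.1 hb).2⟩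
  have h3 := normalizer_le_bau (SS H T V h.Vn) (h.SS_norm hx hn)
  rwa [hB] at h3

/-- An element of `P_i` which fixes the line of `N i` normalises `B`. -/
theorem PP_norm_bau (h : InK H T Q V V0 N A q) [Finite G]
    (hH : ∀ x ∈ H, (∀ v ∈ V, x * v = v * x) → x ∈ Q) {i : ι} {x : G}
    (hx : x ∈ PP H T V N i) (hn : ¬ Mv (V1 T V ⊓ N i) x) : x ∈ normalizer (bau T : Set G) := by
  refine h.norm_bau hH (h.PP_le_St i hx).1 (norm_of_conj fun v hv => ?_)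
  obtain ⟨r, hr, b, hb, rfl⟩ := h.mem_PP hx
  obtain ⟨h3, h4, h5, h6⟩ := mem_RR.1 hr
  obtain ⟨n, hn1, m, hm, hmc, rfl⟩ := h.V_split i (V1V hv)
  -- `n ∈ V1`
  have hn2 : n ∈ V1 T V := by
    obtain ⟨a, ha, -, haN⟩ := h.A_exists i
    have haJ : a ∈ jj T := le_jj (h.AT i) ha
    refine h.cb i a haJ haN n hn1 ?_
    have e1 := (mem_V1.1 hv).2 a haJ
    have e2 := hmc a fun j hj w hw => h.Acent i j hj a ha w hw
    have e3 : a * n * m = n * a * m := by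
      calc a * n * m = a * (n * m) := by group
        _ = (n * m) * a := e1
        _ = n * (m * a) := by group
        _ = n * (a * m) := by rw [e2]
        _ = n * a * m := by group
    exact mul_right_cancel e3
  have hm1 : m ∈ V1 T V := by
    have := mul_mem (inv_mem hn2) hv
    rwa [inv_mul_cancel_left] at this
  have e1 : r * b * (n * m) * (r * b)⁻¹ =
    ((r * b) * n * (r * b)⁻¹) * (r * (b * m * b⁻¹) * r⁻¹) := by group
  rw [e1, comm_iff.1 (h.bau_V1 hb hm1), comm_iff.1 (hmc r h5)]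
  refine mul_mem ?_ hm1
  unfold Mv at hn
  push Not at hn
  exact (hn n ⟨hn2, hn1⟩).1

/-! ### `Q* = B ∩ Q` -/

theorem mem_star_iff (h : InK H T Q V V0 N A q) [Finite G] {x : G} :
    x ∈ bau T ⊓ Q ↔ x ∈ T ∧ ∀ y ∈ zj T ⊔ V, x * y = y * x := by
  constructor
  · rintro ⟨h1, h2⟩
    refine ⟨bau_le T h1, fun y hy => ?_⟩
    obtain ⟨z, hz, v, hv, rfl⟩ := mem_sup_comm h.ZcV hy
    have e1 : z * x = x * z := (mem_bau.1 h1).2 z hz
    have e2 : x * v = v * x := h.VcQ x h2 v hv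
    calc x * (z * v) = (x * z) * v := by group
      _ = z * (x * v) := by rw [← e1]; group
      _ = z * v * x := by rw [e2]; group
  · rintro ⟨h1, h2⟩
    exact ⟨mem_bau.2 ⟨h1, fun z hz => (h2 z (mem_sup_left hz)).symm⟩,
      h.cT x h1 fun v hv => h2 v (mem_sup_right hv)⟩

/-- `Q* = B ∩ Q` is normal in `H`. -/
theorem star_norm (h : InK H T Q V V0 N A q) [Finite G] [Nonempty ι] :
    ∀ g ∈ H, ∀ x ∈ bau T ⊓ Q, g * x * g⁻¹ ∈ bau T ⊓ Q := by
  intro g hg x hx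
  have h1 := h.mem_star_iff.1 hx
  refine h.mem_star_iff.2 ⟨h.QT (h.Qn g hg x hx.2), fun y hy => ?_⟩
  have hy' : g⁻¹ * y * g ∈ zj T ⊔ V := by
    have := h.Y_norm g⁻¹ (inv_mem hg) y hy
    rwa [inv_inv] at this
  have h2 := h1.2 _ hy'
  calc g * x * g⁻¹ * y = g * (x * (g⁻¹ * y * g)) * g⁻¹ := by group
    _ = g * (g⁻¹ * y * g * x) * g⁻¹ := by rw [h2]
    _ = y * (g * x * g⁻¹) := by group

theorem mem_star_QL (h : InK H T Q V V0 N A q) [Finite G] (x : G) :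
    x ∈ bau T ⊓ Q ↔ x ∈ bau T ∧ ∀ i, x ∈ QL T (N i) := by
  constructor
  · rintro ⟨h1, h2⟩
    exact ⟨h1, fun i => mem_QL.2 ⟨h1, fun v hv => h.VcQ x h2 v (h.NV i hv)⟩⟩
  · rintro ⟨h1, h2⟩
    refine ⟨h1, h.cT x (bau_le T h1) fun v hv => ?_⟩
    have h4 : (⨆ j, N j) ≤ centralizer ({x} : Set G) := by
      refine iSup_le fun j w hw => mem_centralizer_iff.2 fun u hu => ?_
      rw [show u = x from hu]
      exact (mem_QL.1 (h2 j)).2 w hw
    exact mem_centralizer_iff.1 (h4 (h.Nsup hv)) x rfl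

end InK

namespace BlkK

open InK (St VL QL mem_QL mem_St comm_iff not_QL V1V norm_of_conj)

variable {H T Q V V0 L L' : Subgroup G} {ι : Type} {N E : ι → Subgroup G} {q : ℕ} {i j : ι}

/-- `L` contains all `P_i`-conjugates of `B`. -/
theorem bau_conj (k : BlkK H T V N i L) (h : InK H T Q V V0 N E q) [Finite G]
    (hH : ∀ x ∈ H, (∀ v ∈ V, x * v = v * x) → x ∈ Q) {p : G}
    (hp : p ∈ PP H T V N i) : cj p (bau T) ≤ L := by
  by_cases hm : Mv (V1 T V ⊓ N i) p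
  · obtain ⟨l, hl, hml⟩ := k.mv
    obtain ⟨b, hb, e⟩ := h.line_conj (k.LS h hl) hml (h.PP_le_St i hp) hm
    have hbl : b * l ∈ L := mul_mem (k.BL hb) hl
    have hx : (b * l)⁻¹ * p ∈ PP H T V N i := mul_mem (inv_mem (k.LP hbl)) hp
    have hxn : ¬ Mv (V1 T V ⊓ N i) ((b * l)⁻¹ * p) := by
      rw [not_mv_iff, mem_normalizer_iff_cj, ← cj_cj, ← e, cj_cj, inv_mul_cancel, cj_one]
    have h3 := cj_eq_of_mem_normalizer (h.PP_norm_bau hH hx hxn)
    have e2 : cj p (bau T) = cj (b * l) (cj ((b * l)⁻¹ * p) (bau T)) := by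
      rw [cj_cj, mul_inv_cancel_left]
    rw [e2, h3]
    rintro _ ⟨c, hc, rfl⟩
    exact mul_mem (mul_mem hbl (k.BL hc)) (inv_mem hbl)
  · rw [cj_eq_of_mem_normalizer (h.PP_norm_bau hH hp hm)]
    exact k.BL

/-- Uniqueness of the block. -/
theorem unique (k : BlkK H T V N i L) (k' : BlkK H T V N i L') (h : InK H T Q V V0 N E q)
    [Finite G] (hH : ∀ x ∈ H, (∀ v ∈ V, x * v = v * x) → x ∈ Q) : L' ≤ L := by
  obtain ⟨l, hl, hm⟩ := k'.mv
  exact k'.gen h hl hm k.BL fun c hc => k.bau_conj h hH (k'.LP hl) ⟨c, hc, rfl⟩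

theorem cj_V1 (h : InK H T Q V V0 N E q) [Finite G] {t : G} (ht : t ∈ T) :
    cj t (V1 T V) = V1 T V := cj_eq_of_mem_normalizer (h.T_norm_V1 ht)

theorem cj_line (h : InK H T Q V V0 N E q) [Finite G] {t : G} (ht : t ∈ T)
    (hj : cj t (N i) = N j) : cj t (V1 T V ⊓ N i) = V1 T V ⊓ N j := by
  rw [cj_inf, cj_V1 h ht, hj]

theorem mv_conj {X Y : Subgroup G} {t l : G} (e : cj t X = Y) (hm : Mv X l) :
    Mv Y (t * l * t⁻¹) := by
  obtain ⟨v, hv, hv'⟩ := hm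
  refine ⟨t * v * t⁻¹, by rw [← e]; exact ⟨v, hv, rfl⟩, fun h1 => hv' ?_⟩
  rw [← e, mem_cj] at h1
  have e2 : t⁻¹ * (t * l * t⁻¹ * (t * v * t⁻¹) * (t * l * t⁻¹)⁻¹) * t = l * v * l⁻¹ := by group
  rwa [e2] at h1

theorem RR_conj (h : InK H T Q V V0 N E q) [Finite G] {t r : G} (ht : t ∈ T)
    (hj : cj t (N i) = N j) (hr : r ∈ RR H T V N i) : t * r * t⁻¹ ∈ RR H T V N j := by
  obtain ⟨h1, h2, h3, h4⟩ := mem_RR.1 hr
  have htH := h.TH ht
  refine mem_RR.2 ⟨mul_mem (mul_mem htH h1) (inv_mem htH), ?_, fun j' hj' v hv => ?_,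
    fun y hy => ?_⟩
  · refine norm_of_conj fun v hv => ?_
    rw [← hj, mem_cj] at hv ⊢
    have := (mem_normalizer_iff.1 h2 _).1 hv
    have e : t⁻¹ * (t * r * t⁻¹ * v * (t * r * t⁻¹)⁻¹) * t = r * (t⁻¹ * v * t) * r⁻¹ := by group
    rwa [e]
  · obtain ⟨i', hi'⟩ := h.Nperm t⁻¹ (inv_mem htH) j'
    have hne : i ≠ i' := by
      rintro rfl
      apply hj'
      apply h.N_inj
      rw [← hj, ← hi', cj_cj_inv]
    have hv' : t⁻¹ * v * t ∈ N i' := by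
      rw [← hi', mem_cj, inv_inv]
      have e : t * (t⁻¹ * v * t) * t⁻¹ = v := by group
      rwa [e]
    have h5 := h3 i' hne _ hv'
    calc t * r * t⁻¹ * v = t * (r * (t⁻¹ * v * t)) * t⁻¹ := by group
      _ = t * (t⁻¹ * v * t * r) * t⁻¹ := by rw [h5]
      _ = v * (t * r * t⁻¹) := by group
  · have hy' : t⁻¹ * y * t ∈ zj T ⊔ V := by
      have := h.T_norm_Y (inv_mem ht) hy
      rwa [inv_inv] at this
    rw [← hj, mem_cj]
    have h5 := h4 _ hy'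
    have e : t⁻¹ * (t * r * t⁻¹ * y * (t * r * t⁻¹)⁻¹ * y⁻¹) * t =
      r * (t⁻¹ * y * t) * r⁻¹ * (t⁻¹ * y * t)⁻¹ := by group
    rwa [e]

theorem PP_conj (h : InK H T Q V V0 N E q) [Finite G] {t : G} (ht : t ∈ T)
    (hj : cj t (N i) = N j) : cj t (PP H T V N i) ≤ PP H T V N j := by
  rintro _ ⟨p, hp, rfl⟩
  obtain ⟨r, hr, b, hb, rfl⟩ := h.mem_PP hp
  have h1 : t * r * t⁻¹ ∈ PP H T V N j := mem_sup_left (RR_conj h ht hj hr)
  have h2 : t * b * t⁻¹ ∈ PP H T V N j := mem_sup_right (T_norm_bau ht hb)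
  have e : (MulAut.conj t).toMonoidHom (r * b) = (t * r * t⁻¹) * (t * b * t⁻¹) := by
    simp only [MulEquiv.toMonoidHom_eq_coe, MonoidHom.coe_coe, MulAut.conj_apply]
    group
  rw [e]
  exact mul_mem h1 h2

/-- `T` permutes the blocks. -/
theorem conj (k : BlkK H T V N i L) (h : InK H T Q V V0 N E q) [Finite G] {t : G} (ht : t ∈ T)
    (hj : cj t (N i) = N j) : BlkK H T V N j (cj t L) where
  BL b hb := by
    rw [mem_cj]
    have := T_norm_bau (inv_mem ht) hb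
    rw [inv_inv] at this
    exact k.BL this
  LP := (cj_mono t k.LP).trans (PP_conj h ht hj)
  mv := by
    obtain ⟨l, hl, hm⟩ := k.mv
    exact ⟨t * l * t⁻¹, ⟨l, hl, rfl⟩, mv_conj (cj_line h ht hj) hm⟩
  min X hX hB hmx := by
    have hj' : cj t⁻¹ (N j) = N i := by rw [← hj, cj_inv_cj]
    have h1 : L ≤ cj t⁻¹ X := by
      refine k.min _ ?_ ?_ ?_
      · have := cj_mono t⁻¹ hX
        rwa [cj_inv_cj] at this
      · intro b hb
        rw [mem_cj, inv_inv]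
        exact hB (T_norm_bau ht hb)
      · obtain ⟨x, hx, hm⟩ := hmx
        exact ⟨t⁻¹ * x * t⁻¹⁻¹, ⟨x, hx, rfl⟩, mv_conj (cj_line h (inv_mem ht) hj') hm⟩
    have := cj_mono t h1
    rwa [cj_cj_inv] at this

/-- `L_i` acts on `N j` (`j ≠ i`) as a subgroup of `B`. -/
theorem act_other (k : BlkK H T V N i L) (h : InK H T Q V V0 N E q) [Finite G] {l : G}
    (hl : l ∈ L) (hij : i ≠ j) : ∃ b ∈ bau T, ∀ v ∈ N j, l * v * l⁻¹ = b * v * b⁻¹ := by
  obtain ⟨r, hr, b, hb, rfl⟩ := h.mem_PP (k.LP hl)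
  refine ⟨b, hb, fun v hv => ?_⟩
  have e : r * b * v * (r * b)⁻¹ = r * (b * v * b⁻¹) * r⁻¹ := by group
  rw [e, comm_iff.1 ((mem_RR.1 hr).2.2.1 j hij _ (h.bau_N hb hv))]

/-- `T` is transitive on the summands. -/
theorem trans (h : InK H T Q V V0 N E q) [Finite G] (i j : ι) : ∃ t ∈ T, cj t (N i) = N j := by
  classical
  obtain ⟨L, k⟩ := h.exists_blk i
  by_contra hcon
  let O : Set ι := {j | ∃ t ∈ T, cj t (N i) = N j}
  have hjO : j ∉ O := hcon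
  have hiO : i ∈ O := ⟨1, one_mem _, cj_one _⟩
  let F : G → Prop := fun g => ∀ j, j ∉ O → ∃ j', j' ∉ O ∧ cj g (N j) = N j' ∧
    cj g (V1 T V ⊓ N j) = V1 T V ⊓ N j'
  have Fmul : ∀ a b, F a → F b → F (a * b) := by
    intro a b ha hb j hj
    obtain ⟨j1, h1, h2, h3⟩ := hb j hj
    obtain ⟨j2, h4, h5, h6⟩ := ha j1 h1
    exact ⟨j2, h4, by rw [← cj_cj, h2, h5], by rw [← cj_cj, h3, h6]⟩
  let X : Subgroup G :=
    { carrier := {g | F g ∧ F g⁻¹}
      mul_mem' := by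
        rintro a b ⟨ha, ha'⟩ ⟨hb, hb'⟩
        exact ⟨Fmul a b ha hb, by rw [mul_inv_rev]; exact Fmul _ _ hb' ha'⟩
      one_mem' := by
        have : F 1 := fun j hj => ⟨j, hj, cj_one _, cj_one _⟩
        exact ⟨this, by rw [inv_one]; exact this⟩
      inv_mem' := by
        rintro a ⟨ha, ha'⟩
        exact ⟨ha', by rw [inv_inv]; exact ha⟩ }
  have FT : ∀ t ∈ T, F t := by
    intro t ht j hj
    obtain ⟨j', hj'⟩ := h.Nperm t (h.TH ht) j
    refine ⟨j', fun ⟨u, hu, e⟩ => hj ⟨t⁻¹ * u, mul_mem (inv_mem ht) hu, ?_⟩, hj', cj_line h ht hj'⟩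
    rw [← cj_cj, e, ← hj', cj_inv_cj]
  have FL : ∀ l ∈ L, F l := by
    intro l hl j hj
    have hij : i ≠ j := by rintro rfl; exact hj hiO
    obtain ⟨b, hb, e⟩ := k.act_other h hl hij
    have e1 : ∀ U : Subgroup G, U ≤ N j → cj l U = cj b U := by
      intro U hU
      ext x
      constructor
      · rintro ⟨v, hv, rfl⟩
        exact ⟨v, hv, (e v (hU hv)).symm⟩
      · rintro ⟨v, hv, rfl⟩
        exact ⟨v, hv, e v (hU hv)⟩
    refine ⟨j, hj, ?_, ?_⟩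
    · rw [e1 _ le_rfl, cj_eq_of_mem_normalizer (h.bau_norm_N j hb)]
    · rw [e1 _ inf_le_right, cj_inf, cj_eq_of_mem_normalizer (h.bau_norm_N j hb),
        cj_V1 h (bau_le T hb)]
  have hH : H ≤ X := k.sup_T h (fun t ht => ⟨FT t ht, FT _ (inv_mem ht)⟩)
    fun l hl => ⟨FL l hl, FL _ (inv_mem hl)⟩
  obtain ⟨g, hg, hgN, hm⟩ := h.ne j
  obtain ⟨j', -, h2, h3⟩ := (hH hg).1 j hjO
  have hjj : j = j' := h.N_inj (by rw [← hgN, h2])
  subst hjj
  exact not_mv_iff.2 (mem_normalizer_iff_cj.2 h3) hm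

end BlkK

open InK (St VL QL mem_QL mem_St comm_iff not_QL V1V norm_of_conj)
open BlkK (DK)

variable {H T Q V V0 : Subgroup G} {ι : Type} {N E : ι → Subgroup G} {q : ℕ}

/-- If `C_H(V) = Q`, then `T` permutes the blocks. -/
theorem BlkK.cj_eq {L : ι → Subgroup G} (hL : ∀ i, BlkK H T V N i (L i))
    (h : InK H T Q V V0 N E q) [Finite G] (hH : ∀ x ∈ H, (∀ v ∈ V, x * v = v * x) → x ∈ Q)
    {t : G} (ht : t ∈ T) {i j : ι} (hj : cj t (N i) = N j) : cj t (L i) = L j :=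
  le_antisymm ((hL j).unique ((hL i).conj h ht hj) h hH)
    (((hL i).conj h ht hj).unique (hL j) h hH)

/-- Input of the matching. -/
theorem BlkK.min_in {L : ι → Subgroup G} (hL : ∀ i, BlkK H T V N i (L i))
    (h : InK H T Q V V0 N E q) [Finite G] {A : Subgroup G}
    (hTA : T ≤ A) (hAT : A ≤ normalizer (T : Set G))
    (idx : ∀ a ∈ A, ∀ b ∈ A, a ∉ T → b ∉ T → a⁻¹ * b ∈ T)
    (hcore : ∀ R : Subgroup G, R ≤ T → (∀ x ∈ H, ∀ r ∈ R, x * r * x⁻¹ ∈ R) →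
      (∀ a ∈ A, ∀ r ∈ R, a * r * a⁻¹ ∈ R) → R = ⊥)
    {s : G} (hs : s ∈ A) (hsT : s ∉ T) :
    Match.MIn A T (bau T) (zj T) (bau T ⊓ Q) s L (fun i => QL T (N i)) (fun i => VL T (N i))
      (fun i => DK T (N i)) := by
  have hZ : ∀ t ∈ T, cj t (zj T) = zj T := fun t ht => cj_eq_of_mem_normalizer
    (normalizer_le_of_cj (F := zj) zj_cj T (le_normalizer ht))
  exact {
    dat := fun i => (hL i).dat h hTA hAT idx hcore
    sA := hs
    sT := hsT
    Pmem := h.mem_star_QL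
    comm := fun i j v hv w hw => elem_comm h.Y_elem v
      (sup_le le_sup_left ((h.NV i).trans le_sup_right) hv) w
      (sup_le le_sup_left ((h.NV j).trans le_sup_right) hw)
    perm := by
      intro t ht i
      obtain ⟨j, hj⟩ := h.Nperm t (h.TH ht) i
      refine ⟨j, fun v hv => ?_, fun d hd => ?_⟩
      · have e : cj t (VL T (N i)) = VL T (N j) := by
          have e1 := hZ t ht
          rw [cj] at e1 hj
          rw [cj, VL, Subgroup.map_sup, e1, hj, VL]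
        rw [← e]; exact ⟨v, hv, rfl⟩
      · rw [← BlkK.cj_D ht hj]; exact ⟨d, hd, rfl⟩
    trans := by
      intro i j
      obtain ⟨t, ht, hj⟩ := BlkK.trans h i j
      exact ⟨t, ht, fun d hd => by rw [← BlkK.cj_D ht hj]; exact ⟨d, hd, rfl⟩⟩
    Dinj := by
      intro i j hij
      by_contra hne
      apply BlkK.D_not_le h i
      intro d hd
      exact h.Ninf i j hne ⟨(BlkK.D_le h i hd).2, (BlkK.D_le h j (hij hd)).2⟩
    LP := fun i l hl x hx => by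
      have : Nonempty ι := ⟨i⟩
      exact h.star_norm l ((hL i).LH h hl) x hx
    cross := by
      intro i j hij l hl d hd
      have hd' := BlkK.D_le h i hd
      obtain ⟨r, hr, b, hb, rfl⟩ := h.mem_PP ((hL j).LP hl)
      have e1 := h.bau_V1 hb hd'.1
      have e2 := (mem_RR.1 hr).2.2.1 i (Ne.symm hij) d hd'.2
      calc r * b * d = r * (b * d) := by group
        _ = (r * d) * b := by rw [e1]; group
        _ = d * (r * b) := by rw [e2]; group }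

/-- Input of the matching. -/
theorem InK.min_in (h : InK H T Q V V0 N E q) [Finite G] {A : Subgroup G}
    (hTA : T ≤ A) (hAT : A ≤ normalizer (T : Set G))
    (idx : ∀ a ∈ A, ∀ b ∈ A, a ∉ T → b ∉ T → a⁻¹ * b ∈ T)
    (hcore : ∀ R : Subgroup G, R ≤ T → (∀ x ∈ H, ∀ r ∈ R, x * r * x⁻¹ ∈ R) →
      (∀ a ∈ A, ∀ r ∈ R, a * r * a⁻¹ ∈ R) → R = ⊥)
    {s : G} (hs : s ∈ A) (hsT : s ∉ T) :
    ∃ L : ι → Subgroup G, (∀ i, BlkK H T V N i (L i)) ∧
      Match.MIn A T (bau T) (zj T) (bau T ⊓ Q) s L (fun i => QL T (N i)) (fun i => VL T (N i))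
        (fun i => DK T (N i)) := by
  choose L hL using fun i => h.exists_blk i
  exact ⟨L, hL, BlkK.min_in hL h hTA hAT idx hcore hs hsT⟩

end Cfsg.Agent.Omega.SQ1.BauK
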