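import Cfsg.Agent.Omega.SQ1.Bau
import Cfsg.Agent.ZN.ChoiceSit
import Cfsg.Agent.Omega.NatPair.Semi

/-!
# SQ1, L1: from the output of the FF-theorem (one block) to the Baumann data `Bau.In`

* `MinH H T`: `T` is a Sylow 2-subgroup of `H`, contained in a unique maximal subgroup of `H`, and
  `C_H(O₂(H)) ≤ O₂(H)`;
* `NatSec F H V V0`: the section `V / V0` of `H` is a natural `SL₂(F)`-module;
* `FF F H T V V0`: moreover each `A ∈ A(T)` acts on `V / V0` trivially or as the full group of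
  upper unitriangular matrices;
* `FF.toIn`: `Bau.In H T (O₂(H)) V V1 V0 |F|`.
-/

set_option autoImplicit false
set_option linter.unusedSectionVars false
set_option linter.unusedVariables false

namespace Cfsg.Agent.Omega.SQ1.FFOne

open Subgroup Cfsg Cfsg.Agent.PLocal.ThompsonJ Cfsg.Agent.ZN Cfsg.Agent.ZN.ChoiceBase
open Cfsg.Agent.ZN.ChoiceSit
open Cfsg.Agent.Omega.NatPair Cfsg.Agent.Lib.SL2Mat
open Cfsg.Agent.PLocal.ElemAbSup
open scoped Pointwise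

universe u

variable {G : Type u} [Group G]

/-! ### Groups with a Sylow 2-subgroup in a unique maximal subgroup -/

/-- `T` lies in a unique maximal subgroup of `H`, and `H` has characteristic 2. -/
structure MinH (H T : Subgroup G) : Prop where
  syl : Syl T H
  uniq : ∃ M₀ : Subgroup G, ¬ H ≤ M₀ ∧ ∀ X, T ≤ X → X ≤ H → X ≠ H → X ≤ M₀
  self_cent : H ⊓ centralizer ((o2 H : Subgroup G) : Set G) ≤ o2 H

theorem mem_norm_of [Finite G] {K : Subgroup G} {g : G} (h : ∀ k ∈ K, g * k * g⁻¹ ∈ K) :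
    g ∈ normalizer (K : Set G) := mem_normalizer_of_cj_le (by
  rintro _ ⟨k, hk, rfl⟩
  exact h k hk)

theorem conj_mem_of_norm {K : Subgroup G} {g k : G} (h : g ∈ normalizer (K : Set G)) (hk : k ∈ K) :
    g * k * g⁻¹ ∈ K := (mem_normalizer_iff.1 h k).1 hk

theorem syl_inf [Finite G] {T H N : Subgroup G} (hT : Syl T H) (hN : N ≤ H)
    (hn : ∀ h ∈ H, ∀ n ∈ N, h * n * h⁻¹ ∈ N) : Syl (T ⊓ N) N := by
  refine ⟨inf_le_right, hT.2.1.to_le inf_le_left, ?_⟩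
  intro R hR h2 hTR
  obtain ⟨S, hS, hRS⟩ := exists_syl h2 (hR.trans hN)
  obtain ⟨x, hx, e⟩ := syl_conj hS hT
  have h1 : cj x R ≤ T ⊓ N := by
    rintro _ ⟨r, hr, rfl⟩
    refine ⟨?_, hn x hx r (hR hr)⟩
    rw [← e]
    exact ⟨r, hRS hr, rfl⟩
  have h3 := Subgroup.card_le_of_le h1
  rw [card_cj] at h3
  exact (Subgroup.eq_of_le_of_card_ge hTR h3).symm

/-- A normal subgroup `N` of `H` with `N T ≠ H` has `T ∩ N ≤ O₂(H)`. -/
theorem MinH.inf_le {H T : Subgroup G} (h : MinH H T) [Finite G] {N : Subgroup G} (hN : N ≤ H)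
    (hn : ∀ h ∈ H, ∀ n ∈ N, h * n * h⁻¹ ∈ N) (hne : N ⊔ T ≠ H) : T ⊓ N ≤ o2 H := by
  have hsy := syl_inf h.syl hN hn
  obtain ⟨M₀, hM, huniq⟩ := h.uniq
  have hHn : H ≤ normalizer ((T ⊓ N : Subgroup G) : Set G) := by
    by_contra hc
    apply hM
    have h1 : N ≤ M₀ := le_sup_left.trans
      (huniq (N ⊔ T) le_sup_right (sup_le hN h.syl.1) hne)
    have h2 : H ⊓ normalizer ((T ⊓ N : Subgroup G) : Set G) ≤ M₀ := by
      refine huniq _ ?_ inf_le_left ?_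
      · intro t ht
        refine ⟨h.syl.1 ht, mem_norm_of ?_⟩
        rintro k ⟨hkT, hkN⟩
        exact ⟨T.mul_mem (T.mul_mem ht hkT) (T.inv_mem ht), hn t (h.syl.1 ht) k hkN⟩
      · intro e
        apply hc
        rw [← e]
        exact inf_le_right
    intro x hx
    have h3 : Syl (cj x (T ⊓ N)) N := by
      refine ⟨?_, isPGroup_cj x hsy.2.1, ?_⟩
      · rintro _ ⟨k, hk, rfl⟩
        exact hn x hx k (mem_inf.1 hk).2
      · intro R hR h2 hle
        have h4 : T ⊓ N ≤ cj x⁻¹ R := cj_le_iff.1 hle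
        have h5 : cj x⁻¹ R ≤ N := by
          rintro _ ⟨k, hk, rfl⟩
          exact hn x⁻¹ (inv_mem hx) k (hR hk)
        have h6 := hsy.2.2 _ h5 (isPGroup_cj _ h2) h4
        rw [← h6, cj_cj_inv]
    obtain ⟨n, hnN, e⟩ := syl_conj h3 hsy
    rw [cj_cj] at e
    have h4 : n * x ∈ H ⊓ normalizer ((T ⊓ N : Subgroup G) : Set G) :=
      ⟨mul_mem (hN hnN) hx, mem_normalizer_iff_cj.2 e⟩
    have h5 := mul_mem (inv_mem (h1 hnN)) (h2 h4)
    rwa [inv_mul_cancel_left] at h5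
  exact le_o2 hsy.2.1 (inf_le_right.trans hN) hHn

/-! ### Natural sections -/

/-- `V / V0` is a natural `SL₂(F)`-module for `H`. -/
structure NatSec (F : Type*) [Field F] (H V V0 : Subgroup G) where
  π : G → Fin 2 → F
  map_mul : ∀ v ∈ V, ∀ w ∈ V, π (v * w) = π v + π w
  V0V : V0 ≤ V
  ker : ∀ v ∈ V, π v = 0 ↔ v ∈ V0
  surj : ∀ x, ∃ v ∈ V, π v = x
  Vn : ∀ h ∈ H, ∀ v ∈ V, h * v * h⁻¹ ∈ V
  V0n : ∀ h ∈ H, ∀ v ∈ V0, h * v * h⁻¹ ∈ V0
  lift : ∀ A : Matrix.SpecialLinearGroup (Fin 2) F, ∃ h ∈ H, ∀ v ∈ V, π (h * v * h⁻¹) = ap A (π v)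
  norm : ∀ g ∈ H, ∀ h ∈ H, ∀ A : Matrix.SpecialLinearGroup (Fin 2) F,
    (∀ v ∈ V, π (h * v * h⁻¹) = ap A (π v)) → ∃ B : Matrix.SpecialLinearGroup (Fin 2) F,
      ∀ v ∈ V, π (g * h * g⁻¹ * v * (g * h * g⁻¹)⁻¹) = ap B (π v)

namespace NatSec

variable {F : Type*} [Field F] {H V V0 : Subgroup G} (M : NatSec F H V V0)

/-- `h` acts on `V/V0` as `A`. -/
def Ind (h : G) (A : Matrix.SpecialLinearGroup (Fin 2) F) : Prop :=
  ∀ v ∈ V, M.π (h * v * h⁻¹) = ap A (M.π v)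

theorem map_one : M.π 1 = 0 := (M.ker 1 (one_mem V)).2 (one_mem V0)

theorem map_inv {v : G} (hv : v ∈ V) : M.π v⁻¹ = - M.π v := by
  have := M.map_mul v hv v⁻¹ (inv_mem hv)
  rw [mul_inv_cancel, M.map_one] at this
  exact (neg_eq_of_add_eq_zero_right this.symm).symm

theorem map_div {v w : G} (hv : v ∈ V) (hw : w ∈ V) : M.π (v * w⁻¹) = M.π v - M.π w := by
  rw [M.map_mul v hv _ (inv_mem hw), M.map_inv hw, sub_eq_add_neg]

theorem eq_iff {v w : G} (hv : v ∈ V) (hw : w ∈ V) : M.π v = M.π w ↔ v * w⁻¹ ∈ V0 := by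
  rw [← M.ker _ (mul_mem hv (inv_mem hw)), M.map_div hv hw, sub_eq_zero]

/-- the action of `h ∈ H` on `F²` -/
noncomputable def act (h : G) (x : Fin 2 → F) : Fin 2 → F :=
  M.π (h * (M.surj x).choose * h⁻¹)

theorem act_π {h v : G} (hh : h ∈ H) (hv : v ∈ V) : M.act h (M.π v) = M.π (h * v * h⁻¹) := by
  obtain ⟨hw, e⟩ := (M.surj (M.π v)).choose_spec
  rw [act, M.eq_iff (M.Vn h hh _ hw) (M.Vn h hh v hv)]
  have h1 := M.V0n h hh _ ((M.eq_iff hw hv).1 e)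
  have e2 : h * ((M.surj (M.π v)).choose * v⁻¹) * h⁻¹ =
    h * (M.surj (M.π v)).choose * h⁻¹ * (h * v * h⁻¹)⁻¹ := by group
  rwa [e2] at h1

theorem act_add {h : G} (hh : h ∈ H) (x y : Fin 2 → F) : M.act h (x + y) = M.act h x + M.act h y := by
  obtain ⟨v, hv, rfl⟩ := M.surj x
  obtain ⟨w, hw, rfl⟩ := M.surj y
  rw [← M.map_mul v hv w hw, M.act_π hh (mul_mem hv hw), M.act_π hh hv, M.act_π hh hw,
    ← M.map_mul _ (M.Vn h hh v hv) _ (M.Vn h hh w hw)]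
  congr 1
  group

theorem act_mul {g h : G} (hg : g ∈ H) (hh : h ∈ H) (x : Fin 2 → F) :
    M.act (g * h) x = M.act g (M.act h x) := by
  obtain ⟨v, hv, rfl⟩ := M.surj x
  rw [M.act_π (mul_mem hg hh) hv, M.act_π hh hv, M.act_π hg (M.Vn h hh v hv)]
  congr 1
  group

theorem act_one (x : Fin 2 → F) : M.act 1 x = x := by
  obtain ⟨v, hv, rfl⟩ := M.surj x
  rw [M.act_π (one_mem H) hv]
  congr 1
  group

theorem act_inv_act {g : G} (hg : g ∈ H) (x : Fin 2 → F) : M.act g⁻¹ (M.act g x) = x := by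
  rw [← M.act_mul (inv_mem hg) hg, inv_mul_cancel, M.act_one]

theorem act_act_inv {g : G} (hg : g ∈ H) (x : Fin 2 → F) : M.act g (M.act g⁻¹ x) = x := by
  rw [← M.act_mul hg (inv_mem hg), mul_inv_cancel, M.act_one]

theorem act_zero {g : G} (hg : g ∈ H) : M.act g 0 = 0 := by
  have := M.act_add hg 0 0
  rw [add_zero] at this
  exact left_eq_add.1 this

theorem ind_iff {h : G} (hh : h ∈ H) {A : Matrix.SpecialLinearGroup (Fin 2) F} :
    M.Ind h A ↔ ∀ x, M.act h x = ap A x := by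
  constructor
  · intro hA x
    obtain ⟨v, hv, rfl⟩ := M.surj x
    rw [M.act_π hh hv, hA v hv]
  · intro hA v hv
    rw [← M.act_π hh hv, hA]

theorem ind_mul {g h : G} (hg : g ∈ H) (hh : h ∈ H) {A B : Matrix.SpecialLinearGroup (Fin 2) F}
    (hA : M.Ind g A) (hB : M.Ind h B) : M.Ind (g * h) (A * B) := by
  rw [M.ind_iff (mul_mem hg hh)]
  intro x
  rw [M.act_mul hg hh, (M.ind_iff hh).1 hB, (M.ind_iff hg).1 hA, ap_mul]

theorem ind_inv {g : G} (hg : g ∈ H) {A : Matrix.SpecialLinearGroup (Fin 2) F}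
    (hA : M.Ind g A) : M.Ind g⁻¹ A⁻¹ := by
  rw [M.ind_iff (inv_mem hg)]
  intro x
  have h1 := M.act_inv_act hg (ap A⁻¹ x)
  rw [(M.ind_iff hg).1 hA, ap_ap_inv] at h1
  exact h1

theorem ind_one : M.Ind 1 1 := by
  rw [M.ind_iff (one_mem H)]
  intro x
  rw [M.act_one, ap_one]

theorem ind_unique {g : G} (hg : g ∈ H) {A B : Matrix.SpecialLinearGroup (Fin 2) F}
    (hA : M.Ind g A) (hB : M.Ind g B) : A = B := by
  apply ap_inj
  intro x
  rw [← (M.ind_iff hg).1 hA, (M.ind_iff hg).1 hB]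

/-- the elements of `H` act semilinearly -/
theorem exists_semi [Finite F] {g : G} (hg : g ∈ H) :
    ∃ s : F ≃+* F, ∀ (c : F) x, M.act g (c • x) = s c • M.act g x := by
  obtain ⟨σ, hσ⟩ := NatPair.exists_semi (M.act g) (M.act g⁻¹) (M.act_add hg) (M.act_inv_act hg)
    (M.act_act_inv hg)
    (by
      intro A
      obtain ⟨h, hh, hA⟩ := M.lift A
      obtain ⟨B, hB⟩ := M.norm g⁻¹ (inv_mem hg) h hh A hA
      refine ⟨B, fun x => ?_⟩
      have h2 : M.Ind (g⁻¹ * h * g⁻¹⁻¹) B := hB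
      have h3 : g⁻¹ * h * g⁻¹⁻¹ ∈ H := mul_mem (mul_mem (inv_mem hg) hh) (inv_mem (inv_mem hg))
      rw [← (M.ind_iff h3).1 h2, inv_inv, M.act_mul (mul_mem (inv_mem hg) hh) hg,
        M.act_mul (inv_mem hg) hh, (M.ind_iff hh).1 hA])
  exact exists_ringEquiv (M.act g) (M.act g⁻¹) (M.act_add hg) (M.act_inv_act hg) σ hσ

/-- the kernel of the action on `V/V0` -/
def kern (M : NatSec F H V V0) : Subgroup G where
  carrier := {g | g ∈ H ∧ ∀ x, M.act g x = x}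
  mul_mem' := by
    rintro a b ⟨ha, ha'⟩ ⟨hb, hb'⟩
    exact ⟨mul_mem ha hb, fun x => by rw [M.act_mul ha hb, hb', ha']⟩
  one_mem' := ⟨one_mem H, M.act_one⟩
  inv_mem' := by
    rintro a ⟨ha, ha'⟩
    refine ⟨inv_mem ha, fun x => ?_⟩
    nth_rewrite 1 [← ha' x]
    exact M.act_inv_act ha x

theorem mem_kern {g : G} : g ∈ M.kern ↔ g ∈ H ∧ ∀ x, M.act g x = x := Iff.rfl

theorem kern_le : M.kern ≤ H := fun _ h => h.1

theorem kern_norm {g k : G} (hg : g ∈ H) (hk : k ∈ M.kern) : g * k * g⁻¹ ∈ M.kern := by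
  refine ⟨mul_mem (mul_mem hg hk.1) (inv_mem hg), fun x => ?_⟩
  rw [M.act_mul (mul_mem hg hk.1) (inv_mem hg), M.act_mul hg hk.1, hk.2, M.act_act_inv hg]

theorem mem_kern_iff {g : G} (hg : g ∈ H) : g ∈ M.kern ↔ ∀ v ∈ V, g * v * g⁻¹ * v⁻¹ ∈ V0 := by
  constructor
  · intro h v hv
    rw [← M.eq_iff (M.Vn g hg v hv) hv, ← M.act_π hg hv, h.2]
  · intro h
    refine ⟨hg, fun x => ?_⟩
    obtain ⟨v, hv, rfl⟩ := M.surj x
    rw [M.act_π hg hv, M.eq_iff (M.Vn g hg v hv) hv]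
    exact h v hv

theorem ind_one_iff {g : G} (hg : g ∈ H) : M.Ind g 1 ↔ g ∈ M.kern := by
  rw [M.ind_iff hg, mem_kern]
  constructor
  · intro h
    exact ⟨hg, fun x => by rw [h, ap_one]⟩
  · rintro ⟨-, h⟩ x
    rw [h, ap_one]

theorem kern_of_ind {g h : G} (hg : g ∈ H) (hh : h ∈ H) {A : Matrix.SpecialLinearGroup (Fin 2) F}
    (hA : M.Ind g A) (hB : M.Ind h A) : g⁻¹ * h ∈ M.kern := by
  rw [← M.ind_one_iff (mul_mem (inv_mem hg) hh), ← inv_mul_cancel A]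
  exact M.ind_mul (inv_mem hg) hh (M.ind_inv hg hA) hB

/-- a 2-subgroup does not cover `SL₂(F)`: `C_H(V/V0) T ≠ H` -/
theorem kern_sup_ne [Finite G] [CharP F 2] {T : Subgroup G} (hT : Syl T H) : M.kern ⊔ T ≠ H := by
  intro e
  -- an element acting as a matrix of order three
  have hneg : (-1 : F) = 1 := CharTwo.neg_eq 1
  set A : Matrix.SpecialLinearGroup (Fin 2) F :=
    Cfsg.Agent.Lib.SL2Mat.mk 0 1 1 1 (by rw [zero_mul, one_mul, zero_sub]; exact hneg) with hA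
  have hA3 : A ^ 3 = 1 := by
    have h1 : (1 : F) + 1 = 0 := CharTwo.add_self_eq_zero 1
    rw [pow_succ, pow_two]
    apply ext_ent
    · rw [ent_mul, ent_mul, ent_mul]; simp [hA, h1]
    · rw [ent_mul, ent_mul, ent_mul]; simp [hA, h1]
    · rw [ent_mul, ent_mul, ent_mul]; simp [hA, h1]
    · rw [ent_mul, ent_mul, ent_mul]; simp [hA, h1]
  have hA1 : A ≠ 1 := by
    intro h
    have h2 : ent A 0 0 = ent (1 : Matrix.SpecialLinearGroup (Fin 2) F) 0 0 := by rw [h]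
    rw [ent_one_00, hA, mk_00] at h2
    exact zero_ne_one h2
  obtain ⟨g, hg, hgA⟩ := M.lift A
  have hg' : g ∈ M.kern ⊔ T := by rw [e]; exact hg
  have hle : T ≤ normalizer (M.kern : Set G) := fun t ht => mem_norm_of fun k hk =>
    M.kern_norm (hT.1 ht) hk
  have h1 : g ∈ (M.kern : Set G) * (T : Set G) := by
    rw [← Subgroup.coe_mul_of_right_le_normalizer_left _ _ hle]; exact hg'
  obtain ⟨k, hk, t, ht, rfl⟩ := Set.mem_mul.1 h1
  have htH := hT.1 ht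
  have htA : M.Ind t A := by
    have h2 : M.Ind (k⁻¹ * (k * t)) (1 * A) :=
      M.ind_mul (inv_mem hk.1) hg ((M.ind_one_iff (inv_mem hk.1)).2 (inv_mem hk)) hgA
    rwa [inv_mul_cancel_left, one_mul] at h2
  obtain ⟨n, hn⟩ := hT.2.1 ⟨t, ht⟩
  have hn' : t ^ 2 ^ n = 1 := by simpa using congrArg Subtype.val hn
  have hpow : ∀ m : ℕ, M.Ind (t ^ m) (A ^ m) := by
    intro m
    induction m with
    | zero => rw [pow_zero, pow_zero]; exact M.ind_one
    | succ m ih => rw [pow_succ, pow_succ]; exact M.ind_mul (pow_mem htH m) htH ih htA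
  have h2 := hpow (2 ^ n)
  rw [hn'] at h2
  have h3 : A ^ 2 ^ n = 1 := M.ind_unique (one_mem H) h2 M.ind_one
  have h4 : orderOf A ∣ 2 ^ n := orderOf_dvd_of_pow_eq_one h3
  have h5 : orderOf A ∣ 3 := orderOf_dvd_of_pow_eq_one hA3
  have h6 : Nat.Coprime (2 ^ n) 3 := Nat.Coprime.pow_left _ (by norm_num)
  have h7 : orderOf A = 1 := Nat.eq_one_of_dvd_coprimes h6 h4 h5
  exact hA1 (orderOf_eq_one_iff.1 h7)

/-- `C_T(V/V0) ≤ O₂(H)` -/
theorem inf_kern_le [Finite G] [CharP F 2] {T : Subgroup G} (hm : MinH H T) :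
    T ⊓ M.kern ≤ o2 H :=
  hm.inf_le M.kern_le (fun h hh n hn => M.kern_norm hh hn) (M.kern_sup_ne hm.syl)

end NatSec

end Cfsg.Agent.Omega.SQ1.FFOne
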