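import Cfsg.Agent.Omega.SQ1.BauSBlk
import Cfsg.Agent.Omega.SQ1.Match

/-!
# SQ1: the input of the matching theorem for `q = 2`

The minimal blocks over `B` are not unique when `C_H(V) > Q`.  We choose them `T`-equivariantly: let `X` be
minimal over `C_T(d i)` in `C_T(d i) PP i` moving `d i`; then `L i = ⟨B^X⟩` is a minimal block, and it is
normalised by `C_T(d i)`.
-/

set_option autoImplicit false

namespace Cfsg.Agent.Omega.SQ1.BauS

open Subgroup Cfsg Cfsg.Agent.PLocal.ThompsonJ Cfsg.Agent.ZN Cfsg.Agent.ZN.ChoiceBase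
open Cfsg.Agent.PLocal.ElemAbSup
open Cfsg.Agent.Omega.SQ1.Bau (mem_AA_of_comm zj_le_AA elem_comm elem_sq mem_sup_comm card_sup_comm
  mem_sup_norm)
open scoped Pointwise

universe u w

variable {G : Type u} [Group G]

/-- `T` permutes the `⟨r i⟩` modulo `C_H(V)`. -/
def PermR (T V : Subgroup G) {ι : Type w} (d r : ι → G) : Prop :=
  ∀ x ∈ T, ∀ i j, x * d i * x⁻¹ = d j →
    Sim V (x * r i * x⁻¹) (r j) ∨ Sim V (x * r i * x⁻¹) (r j)⁻¹

/-- the stabiliser of `d i` in `T` -/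
def RR {ι : Type w} (T : Subgroup G) (d : ι → G) (i : ι) : Subgroup G :=
  T ⊓ centralizer ({d i} : Set G)

theorem mem_RR {ι : Type w} {T : Subgroup G} {d : ι → G} {i : ι} {x : G} :
    x ∈ RR T d i ↔ x ∈ T ∧ x * d i * x⁻¹ = d i := by
  rw [RR, mem_inf, mem_centralizer_iff]
  constructor
  · rintro ⟨h1, h2⟩
    refine ⟨h1, ?_⟩
    rw [← h2 (d i) rfl]; group
  · rintro ⟨h1, h2⟩
    refine ⟨h1, ?_⟩
    intro w hw
    rw [show w = d i from hw]
    calc d i * x = (x * d i * x⁻¹) * x := by rw [h2]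
      _ = x * d i := by group

/-- the normal closure of `B` in `X` -/
def LL (T X : Subgroup G) : Subgroup G :=
  Subgroup.closure {y | ∃ x ∈ X, ∃ b ∈ bau T, y = x * b * x⁻¹}

/-- the ambient group of the equivariant block -/
def PX {ι : Type w} (H T V : Subgroup G) (d r : ι → G) (i : ι) : Subgroup G :=
  RR T d i ⊔ PP H T V (r i)

/-- `X` is minimal over the stabiliser. -/
structure XBlk (H T V : Subgroup G) {ι : Type w} (d r : ι → G) (i : ι) (X : Subgroup G) :
    Prop where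
  RX : RR T d i ≤ X
  XP : X ≤ PX H T V d r i
  mv : ∃ l ∈ X, l * d i * l⁻¹ ≠ d i
  min : ∀ K : Subgroup G, K ≤ X → RR T d i ≤ K → (∃ x ∈ K, x * d i * x⁻¹ ≠ d i) → X ≤ K

namespace In

variable {H T Q V : Subgroup G} {ι : Type w} {N : ι → Subgroup G} {d t r : ι → G}

/-- `T` is transitive on the pairs. -/
theorem trans (h : In H T Q V N d t r) [Finite G] (i j : ι) : ∃ x ∈ T, x * d i * x⁻¹ = d j := by
  by_contra hcon
  push Not at hcon
  -- the orbit of `j`
  let O : Set ι := {k | ∃ x ∈ T, x * d j * x⁻¹ = d k}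
  have hi : i ∉ O := by
    rintro ⟨x, hx, e⟩
    apply hcon x⁻¹ (inv_mem hx)
    rw [← e]; group
  let D : Subgroup G := Subgroup.closure {y | ∃ k ∈ O, y = d k}
  have hDZ : D ≤ zj T := by
    rw [closure_le]
    rintro _ ⟨k, -, rfl⟩
    exact h.d_mem_Z k
  have key : ∀ x : G, (∀ k ∈ O, x * d k * x⁻¹ ∈ D) → x ∈ normalizer (D : Set G) := by
    intro x hx
    refine mem_normalizer_of_cj_le ?_
    rw [cj, Subgroup.map_le_iff_le_comap, closure_le]
    rintro _ ⟨k, hk, rfl⟩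
    exact hx k hk
  have h1 : H ≤ H ⊓ normalizer (D : Set G) := by
    refine h.max _ (fun x hx => ⟨h.TH hx, key x ?_⟩) inf_le_left i ⟨r i, ⟨h.rH i, key _ ?_⟩, Sim.rfl'⟩
    · rintro k ⟨y, hy, e⟩
      obtain ⟨k', hk', -⟩ := h.perm x hx k
      rw [hk']
      refine subset_closure ⟨k', ⟨x * y, mul_mem hx hy, ?_⟩, rfl⟩
      rw [← hk', ← e]; group
    · intro k hk
      have hik : i ≠ k := fun e => hi (by rw [e]; exact hk)
      rw [h.r_d' hik]
      exact subset_closure ⟨k, hk, rfl⟩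
  have hjO : j ∈ O := ⟨1, one_mem _, by group⟩
  have h2 : r j * d j * (r j)⁻¹ ∈ D :=
    (mem_normalizer_iff.1 (h1 (h.rH j)).2 _).1 (subset_closure ⟨j, hjO, rfl⟩)
  rcases Blk.Z_inf_N h (h.r_N j (h.dN j)) (hDZ h2) with h3 | h3
  · exact h.r_d_ne_one j h3
  · exact h.r_d_ne j h3

theorem finite_index (h : In H T Q V N d t r) [Finite G] : Finite ι :=
  Finite.of_injective d fun _ _ e => h.d_inj e

/-- Modulo `⟨N i⟩` the elements of `V` are fixed by all `t i`. -/
theorem split_fin (h : In H T Q V N d t r) {v : G} (hv : v ∈ V) (F : Finset ι) :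
    ∃ w ∈ ⨆ i, N i, ∀ i ∈ F, t i * (v * w) * (t i)⁻¹ = v * w := by
  classical
  have hNV : (⨆ i, N i) ≤ V := iSup_le h.NV
  induction F using Finset.induction_on with
  | empty => exact ⟨1, one_mem _, by simp⟩
  | insert j F hj ih =>
    obtain ⟨w, hw, hwF⟩ := ih
    have hvw : v * w ∈ V := mul_mem hv (hNV hw)
    rcases h.t_comm j _ hvw with h1 | h1
    · refine ⟨w, hw, fun i hi => ?_⟩
      rcases Finset.mem_insert.1 hi with h2 | h2
      · rw [h2]; exact h1
      · exact hwF i h2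
    · set m := r j * d j * (r j)⁻¹ with hm
      have hmN : m ∈ N j := h.r_N j (h.dN j)
      refine ⟨w * m, mul_mem hw (mem_iSup_of_mem j hmN), fun i hi => ?_⟩
      have e : t i * (v * (w * m)) * (t i)⁻¹ = (t i * (v * w) * (t i)⁻¹) * (t i * m * (t i)⁻¹) := by
        group
      rw [e]
      by_cases hij : i = j
      · subst hij
        rw [h1, h.t_m i, ← hm]
        have e2 : d i * (v * w) * (d i * m) = (d i * (v * w)) * d i * m := by group
        rw [e2, h.Vcomm _ (h.dV i) _ hvw, mul_assoc (v * w), h.mulself (h.dV i)]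
        group
      · have h2 : i ∈ F := by
          rcases Finset.mem_insert.1 hi with h2 | h2
          · exact absurd h2 hij
          · exact h2
        rw [hwF i h2, h.t_N' (fun e => hij e.symm) hmN]
        group

theorem cent_jj (h : In H T Q V N d t r) {v : G} (hv : v ∈ V)
    (hc : ∀ i, t i * v * (t i)⁻¹ = v) : ∀ y ∈ jj T, y * v = v * y := by
  intro y hy
  have h1 : y * v * y⁻¹ = v := by
    refine h.EE_induction (P := fun x => x * v * x⁻¹ = v) (by group) ?_ ?_ (h.Jt hy)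
    · intro i x _ hx
      have e : t i * x * v * (t i * x)⁻¹ = t i * (x * v * x⁻¹) * (t i)⁻¹ := by group
      rw [e, hx, hc i]
    · intro x y _ _ hxy hx
      rw [← hxy v hv, hx]
  calc y * v = (y * v * y⁻¹) * y := by group
    _ = v * y := by rw [h1]

theorem V_split (h : In H T Q V N d t r) [Finite G] {v : G} (hv : v ∈ V) :
    ∃ w ∈ ⨆ i, N i, v * w ∈ zj T := by
  classical
  have := h.finite_index
  have := Fintype.ofFinite ι
  obtain ⟨w, hw, hwc⟩ := h.split_fin hv Finset.univ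
  have hNV : (⨆ i, N i) ≤ V := iSup_le h.NV
  have hvw : v * w ∈ V := mul_mem hv (hNV hw)
  refine ⟨w, hw, ?_⟩
  have hc := h.cent_jj hvw fun i => hwc i (Finset.mem_univ i)
  exact mem_zj.2 ⟨mem_jj_of_comm (h.QT (h.VQ hvw)) (h.Vsq _ hvw) hc, h.Vsq _ hvw, hc⟩

theorem Y_eq (h : In H T Q V N d t r) [Finite G] [Nonempty ι] : Y T V = ⨆ i, VV T N i := by
  apply le_antisymm
  · refine sup_le ?_ ?_
    · obtain ⟨i⟩ := ‹Nonempty ι›
      exact le_sup_left.trans (le_iSup (fun i => VV T N i) i)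
    · intro v hv
      obtain ⟨w, hw, hvw⟩ := h.V_split hv
      have hN : (⨆ i, N i) ≤ ⨆ i, VV T N i := iSup_mono fun i => le_sup_right
      obtain ⟨i⟩ := ‹Nonempty ι›
      have h1 : v * w ∈ ⨆ i, VV T N i := mem_iSup_of_mem i (mem_sup_left hvw)
      have h2 := mul_mem h1 (inv_mem (hN hw))
      rwa [mul_inv_cancel_right] at h2
  · exact iSup_le fun i => Blk.VV_le_Y h

/-- `B ∩ Q = ⋂ Q_i` -/
theorem star_iff (h : In H T Q V N d t r) [Finite G] {x : G} :
    x ∈ bau T ⊓ Q ↔ x ∈ bau T ∧ ∀ i, x ∈ QQ T N i := by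
  constructor
  · exact fun hx => ⟨hx.1, fun i => Blk.star_le_QQ h hx⟩
  · rintro ⟨hx, hxi⟩
    refine ⟨hx, h.cT (bau_le T hx) fun v hv => ?_⟩
    obtain ⟨w, hw, hvw⟩ := h.V_split hv
    have h1 : (⨆ i, N i) ≤ centralizer ({x} : Set G) := iSup_le fun i n hn => by
      rw [mem_centralizer_iff]
      intro y hy
      rw [show y = x from hy]
      exact (mem_centralizer_iff.1 (hxi i).2 n hn).symm
    have h2 := mem_centralizer_iff.1 (h1 hw) x rfl
    have h3 := (mem_bau.1 hx).2 _ hvw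
    have e : x * v * w = v * w * x := by rw [mul_assoc, h3]
    have e2 : x * v * w = v * x * w := by rw [e, mul_assoc, ← h2, mul_assoc]
    exact mul_right_cancel e2

/-! ### Conjugation of the ambient groups -/

theorem T_bau {T : Subgroup G} {x b : G} (hx : x ∈ T) (hb : b ∈ bau T) : x * b * x⁻¹ ∈ bau T :=
  (mem_normalizer_iff.1 (normalizer_le_bau T (le_normalizer hx)) b).1 hb

theorem perm' (h : In H T Q V N d t r) {x : G} (hx : x ∈ T) {i j : ι}
    (hij : x * d i * x⁻¹ = d j) {v : G} (hv : v ∈ N i) : x * v * x⁻¹ ∈ N j := by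
  obtain ⟨k, h1, h2⟩ := h.perm x hx i
  have h3 : k = j := h.d_inj (by rw [← h1, hij])
  subst h3
  exact h2 v hv

theorem PP_conj (h : In H T Q V N d t r) [Finite G] (hp : PermR T V d r) {x : G} (hx : x ∈ T)
    {i j : ι} (hij : x * d i * x⁻¹ = d j) : cj x (PP H T V (r i)) ≤ PP H T V (r j) := by
  have hxH := h.TH hx
  rw [cj, PP, Subgroup.map_sup, Subgroup.map_sup]
  refine sup_le (sup_le ?_ ?_) ?_
  · rintro _ ⟨b, hb, rfl⟩
    exact mem_sup_left (mem_sup_left (T_bau hx hb))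
  · rw [MonoidHom.map_zpowers, zpowers_le]
    change x * r i * x⁻¹ ∈ _
    have hxr : x * r i * x⁻¹ ∈ H := mul_mem (mul_mem hxH (h.rH i)) (inv_mem hxH)
    rcases hp x hx i j hij with h1 | h1
    · have h2 : (r j)⁻¹ * (x * r i * x⁻¹) ∈ H ⊓ centralizer (V : Set G) := by
        refine ⟨H.mul_mem (H.inv_mem (h.rH j)) hxr, mem_centralizer_iff.2 fun v hv => ?_⟩
        have h3 := h1.mul_left (r j)⁻¹
        rw [inv_mul_cancel] at h3
        exact (sim_one_iff.1 h3 v hv).symm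
      have h4 : r j * ((r j)⁻¹ * (x * r i * x⁻¹)) ∈ PP H T V (r j) :=
        mul_mem (mem_sup_left (mem_sup_right (mem_zpowers _))) (mem_sup_right h2)
      rwa [mul_inv_cancel_left] at h4
    · have h2 : r j * (x * r i * x⁻¹) ∈ H ⊓ centralizer (V : Set G) := by
        refine ⟨mul_mem (h.rH j) hxr, mem_centralizer_iff.2 fun v hv => ?_⟩
        have h3 := h1.mul_left (r j)
        rw [mul_inv_cancel] at h3
        exact (sim_one_iff.1 h3 v hv).symm
      have h4 : (r j)⁻¹ * (r j * (x * r i * x⁻¹)) ∈ PP H T V (r j) :=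
        mul_mem (inv_mem (mem_sup_left (mem_sup_right (mem_zpowers _)))) (mem_sup_right h2)
      rwa [inv_mul_cancel_left] at h4
  · rintro _ ⟨c, hc, rfl⟩
    refine mem_sup_right ⟨H.mul_mem (H.mul_mem hxH hc.1) (H.inv_mem hxH),
      mem_centralizer_iff.2 fun v hv => ?_⟩
    have h1 := mem_centralizer_iff.1 hc.2 _ (h.Vn' hxH v hv)
    change v * (x * c * x⁻¹) = x * c * x⁻¹ * v
    calc v * (x * c * x⁻¹) = x * ((x⁻¹ * v * x) * c) * x⁻¹ := by group
      _ = x * (c * (x⁻¹ * v * x)) * x⁻¹ := by rw [h1]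
      _ = _ := by group

theorem RR_norm_PP (h : In H T Q V N d t r) [Finite G] (hp : PermR T V d r) (i : ι) :
    RR T d i ≤ normalizer ((PP H T V (r i) : Subgroup G) : Set G) := fun _ hx =>
  mem_normalizer_of_cj_le (h.PP_conj hp (mem_RR.1 hx).1 (mem_RR.1 hx).2)

theorem PX_norm_PP (h : In H T Q V N d t r) [Finite G] (hp : PermR T V d r) (i : ι) :
    PX H T V d r i ≤ normalizer ((PP H T V (r i) : Subgroup G) : Set G) :=
  sup_le (h.RR_norm_PP hp i) le_normalizer

theorem B_le_RR (h : In H T Q V N d t r) [Finite G] (i : ι) : bau T ≤ RR T d i := fun b hb =>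
  mem_RR.2 ⟨bau_le T hb, (h.EE_good (h.bau_EE hb)).fixd i⟩

theorem PX_norm_N (h : In H T Q V N d t r) [Finite G] (i : ι) :
    PX H T V d r i ≤ normalizer (N i : Set G) := by
  refine sup_le ?_ (h.PP_norm_N i)
  intro x hx
  refine mem_normalizer_of_cj_le ?_
  rintro _ ⟨v, hv, rfl⟩
  exact h.perm' (mem_RR.1 hx).1 (mem_RR.1 hx).2 hv

/-- An element normalising `N i` which fixes `d i` acts on `N i` like `t i` or trivially. -/
theorem act_of_fix (h : In H T Q V N d t r) [Finite G] {i : ι} {x : G}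
    (hN : ∀ v ∈ N i, x * v * x⁻¹ ∈ N i) (hd : x * d i * x⁻¹ = d i) :
    (∀ v ∈ N i, x * v * x⁻¹ = v) ∨ ∀ v ∈ N i, ((t i)⁻¹ * x) * v * ((t i)⁻¹ * x)⁻¹ = v := by
  set m := r i * d i * (r i)⁻¹ with hm
  have hmN : m ∈ N i := h.r_N i (h.dN i)
  have hall : ∀ y : G, y * d i * y⁻¹ = d i → y * m * y⁻¹ = m → ∀ v ∈ N i, y * v * y⁻¹ = v := by
    intro y h1 h2 v hv
    rcases h.mem_N i hv with h3 | h3 | h3 | h3
    · rw [h3]; group
    · rw [h3, h1]
    · rw [h3, ← hm, h2]
    · rw [h3, ← hm]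
      have e : y * (d i * m) * y⁻¹ = (y * d i * y⁻¹) * (y * m * y⁻¹) := by group
      rw [e, h1, h2]
  have hm1 : m ≠ 1 := h.r_d_ne_one i
  have hmd : m ≠ d i := h.r_d_ne i
  rcases h.mem_N i (hN m hmN) with h3 | h3 | h3 | h3
  · exfalso
    apply hm1
    calc m = x⁻¹ * (x * m * x⁻¹) * x := by group
      _ = 1 := by rw [h3]; group
  · exfalso
    apply hmd
    calc m = x⁻¹ * (x * m * x⁻¹) * x := by group
      _ = x⁻¹ * (x * d i * x⁻¹) * x := by rw [h3, hd]
      _ = d i := by group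
  · exact Or.inl (hall x hd h3)
  · refine Or.inr (hall _ ?_ ?_)
    · have e : (t i)⁻¹ * x * d i * ((t i)⁻¹ * x)⁻¹ = (t i)⁻¹ * (x * d i * x⁻¹) * t i := by group
      rw [e, hd]
      calc (t i)⁻¹ * d i * t i = (t i)⁻¹ * (t i * d i * (t i)⁻¹) * t i := by rw [h.t_d i]
        _ = d i := by group
    · have e : (t i)⁻¹ * x * m * ((t i)⁻¹ * x)⁻¹ = (t i)⁻¹ * (x * m * x⁻¹) * t i := by group
      rw [e, h3, ← hm]
      have h4 := h.t_m i
      rw [← hm] at h4
      calc (t i)⁻¹ * (d i * m) * t i = (t i)⁻¹ * (t i * m * (t i)⁻¹) * t i := by rw [h4]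
        _ = m := by group

theorem exists_xblk (h : In H T Q V N d t r) [Finite G] (i : ι) : ∃ X, XBlk H T V d r i X := by
  classical
  obtain ⟨L, hL, hmin⟩ := (Set.toFinite {U : Subgroup G | RR T d i ≤ U ∧ U ≤ PX H T V d r i ∧
    ∃ l ∈ U, l * d i * l⁻¹ ≠ d i}).exists_minimalFor id _
    ⟨PX H T V d r i, le_sup_left, le_rfl, r i,
      mem_sup_right (mem_sup_left (mem_sup_right (mem_zpowers _))), h.r_d_ne i⟩
  exact ⟨L, hL.1, hL.2.1, hL.2.2, fun X hX hB hm => hmin ⟨hB, hX.trans hL.2.1, hm⟩ hX⟩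

end In

namespace XBlk

open In

variable {H T Q V X : Subgroup G} {ι : Type w} {N : ι → Subgroup G} {d t r : ι → G} {i : ι}

theorem X_N (k : XBlk H T V d r i X) (h : In H T Q V N d t r) [Finite G] {x v : G} (hx : x ∈ X)
    (hv : v ∈ N i) : x * v * x⁻¹ ∈ N i :=
  (mem_normalizer_iff.1 (h.PX_norm_N i (k.XP hx)) v).1 hv

theorem X_N' (k : XBlk H T V d r i X) (h : In H T Q V N d t r) [Finite G] {x v : G} (hx : x ∈ X)
    (hv : v ∈ N i) : x⁻¹ * v * x ∈ N i := by
  have := k.X_N h (inv_mem hx) hv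
  rwa [inv_inv] at this

theorem B_le_LL (T X : Subgroup G) : bau T ≤ LL T X := fun b hb =>
  subset_closure ⟨1, one_mem _, b, hb, by group⟩

theorem LL_le_PP (k : XBlk H T V d r i X) (h : In H T Q V N d t r) [Finite G]
    (hp : PermR T V d r) : LL T X ≤ PP H T V (r i) := by
  rw [LL, closure_le]
  rintro _ ⟨x, hx, b, hb, rfl⟩
  exact (mem_normalizer_iff.1 (h.PX_norm_PP hp i (k.XP hx)) b).1 (B_le_PP H T V _ hb)

theorem LL_le_X (k : XBlk H T V d r i X) (h : In H T Q V N d t r) [Finite G] : LL T X ≤ X := by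
  rw [LL, closure_le]
  rintro _ ⟨x, hx, b, hb, rfl⟩
  exact mul_mem (mul_mem hx (k.RX (h.B_le_RR i hb))) (inv_mem hx)

theorem LL_norm {T X : Subgroup G} [Finite G] : X ≤ normalizer ((LL T X : Subgroup G) : Set G) := by
  intro x hx
  refine mem_normalizer_of_cj_le ?_
  rw [cj, LL, Subgroup.map_le_iff_le_comap, closure_le]
  rintro _ ⟨y, hy, b, hb, rfl⟩
  refine subset_closure ⟨x * y, mul_mem hx hy, b, hb, ?_⟩
  change x * (y * b * y⁻¹) * x⁻¹ = _
  group

theorem mv_LL (k : XBlk H T V d r i X) (h : In H T Q V N d t r) [Finite G] :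
    ∃ l ∈ LL T X, l * d i * l⁻¹ ≠ d i := by
  obtain ⟨x, hx, hm⟩ := k.mv
  refine ⟨x * t i * x⁻¹, subset_closure ⟨x, hx, t i, h.t_bau i, rfl⟩, fun e => ?_⟩
  have h1 : t i * (x⁻¹ * d i * x) * (t i)⁻¹ = x⁻¹ * d i * x := by
    calc t i * (x⁻¹ * d i * x) * (t i)⁻¹ =
        x⁻¹ * (x * t i * x⁻¹ * d i * (x * t i * x⁻¹)⁻¹) * x := by group
      _ = x⁻¹ * d i * x := by rw [e]
  rcases h.t_ne i (k.X_N' h hx (h.dN i)) h1 with h2 | h2
  · apply h.d1 i
    calc d i = x * (x⁻¹ * d i * x) * x⁻¹ := by group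
      _ = 1 := by rw [h2]; group
  · apply hm
    calc x * d i * x⁻¹ = x * (x⁻¹ * d i * x) * x⁻¹ := by rw [h2]
      _ = d i := by group

/-- the kernel of the stabiliser on `N i` -/
def R0 (T : Subgroup G) (N : ι → Subgroup G) (d : ι → G) (i : ι) : Subgroup G :=
  RR T d i ⊓ centralizer (N i : Set G)

theorem mem_cent {N : Subgroup G} {x : G} :
    x ∈ centralizer (N : Set G) ↔ ∀ v ∈ N, x * v * x⁻¹ = v := by
  rw [mem_centralizer_iff]
  constructor
  · intro h v hv
    rw [← h v hv]; group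
  · intro h v hv
    calc v * x = (x * v * x⁻¹) * x := by rw [h v hv]
      _ = x * v := by group

theorem cent_conj (k : XBlk H T V d r i X) (h : In H T Q V N d t r) [Finite G] {x c : G}
    (hx : x ∈ X) (hc : c ∈ centralizer (N i : Set G)) :
    x * c * x⁻¹ ∈ centralizer (N i : Set G) := by
  rw [mem_cent] at hc ⊢
  intro v hv
  have h1 := hc _ (k.X_N' h hx hv)
  calc x * c * x⁻¹ * v * (x * c * x⁻¹)⁻¹ = x * (c * (x⁻¹ * v * x) * c⁻¹) * x⁻¹ := by group
    _ = x * (x⁻¹ * v * x) * x⁻¹ := by rw [h1]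
    _ = v := by group

theorem syl_R0 (k : XBlk H T V d r i X) (h : In H T Q V N d t r) [Finite G]
    (hp : PermR T V d r) : ChoiceSit.Syl (R0 T N d i) (X ⊓ centralizer (N i : Set G)) := by
  refine ⟨inf_le_inf_right _ k.RX, h.Tp.to_le (inf_le_left.trans inf_le_left), ?_⟩
  intro P hPC hP hQP
  refine le_antisymm ?_ hQP
  intro x hx
  have hxC := hPC hx
  have hfix := mem_cent.1 hxC.2
  obtain ⟨y, hy, p, hp', rfl⟩ := mem_sup_norm (h.RR_norm_PP hp i) (k.XP hxC.1)
  have hyd := (mem_RR.1 hy).2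
  have hpd : p * d i * p⁻¹ = d i := by
    have h1 := hfix _ (h.dN i)
    have e : y * p * d i * (y * p)⁻¹ = y * (p * d i * p⁻¹) * y⁻¹ := by group
    rw [e] at h1
    calc p * d i * p⁻¹ = y⁻¹ * (y * (p * d i * p⁻¹) * y⁻¹) * y := by group
      _ = y⁻¹ * (y * d i * y⁻¹) * y := by rw [h1, hyd]
      _ = d i := by group
  obtain ⟨b, hb, hbp⟩ := h.PP_fix hp' hpd
  have hs : Sim V (y * p) (y * b) := hbp.mul_left y
  have hz : y * b ∈ R0 T N d i := by
    refine ⟨mul_mem hy (h.B_le_RR i hb), mem_cent.2 fun v hv => ?_⟩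
    rw [← hs v (h.NV i hv)]
    exact hfix v hv
  have hcP : (y * b)⁻¹ * (y * p) ∈ P := mul_mem (inv_mem (hQP hz)) hx
  have hyH : y * b ∈ H := h.TH (mem_RR.1 hz.1).1
  have hpH : y * p ∈ H := mul_mem (h.TH (mem_RR.1 hy).1) (h.PP_le i hp')
  have hcV : ∀ v ∈ V, (y * b)⁻¹ * (y * p) * v = v * ((y * b)⁻¹ * (y * p)) := by
    refine sim_one_iff.1 ?_
    have := hs.mul_left (y * b)⁻¹
    rwa [inv_mul_cancel] at this
  have hcQ : (y * b)⁻¹ * (y * p) ∈ Q := by
    obtain ⟨n, hn⟩ := hP ⟨_, hcP⟩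
    exact h.two _ (mul_mem (inv_mem hyH) hpH) hcV ⟨n, by simpa using congrArg Subtype.val hn⟩
  have hQR : (y * b)⁻¹ * (y * p) ∈ R0 T N d i := by
    have hq : ∀ v ∈ V, (y * b)⁻¹ * (y * p) * v * ((y * b)⁻¹ * (y * p))⁻¹ = v := fun v hv => by
      rw [hcV v hv]; group
    exact ⟨mem_RR.2 ⟨h.QT hcQ, hq _ (h.dV i)⟩, mem_cent.2 fun v hv => hq v (h.NV i hv)⟩
  have h2 := mul_mem hz hQR
  rwa [mul_inv_cancel_left] at h2

theorem R0_norm (k : XBlk H T V d r i X) (h : In H T Q V N d t r) [Finite G]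
    (hp : PermR T V d r) : X ≤ normalizer ((R0 T N d i : Subgroup G) : Set G) := by
  set C := X ⊓ centralizer (N i : Set G) with hC
  have hR : RR T d i ≤ normalizer ((R0 T N d i : Subgroup G) : Set G) := by
    intro x hx
    refine mem_normalizer_of_cj_le ?_
    rintro _ ⟨y, hy, rfl⟩
    exact ⟨(RR T d i).mul_mem ((RR T d i).mul_mem hx hy.1) ((RR T d i).inv_mem hx),
      k.cent_conj h (k.RX hx) hy.2⟩
  obtain ⟨l, hl, hm⟩ := k.mv
  have hs := k.syl_R0 h hp
  rw [← hC] at hs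
  have hlC : cj l C = C := by
    refine cj_eq_of_mem_normalizer (mem_normalizer_of_cj_le ?_)
    rintro _ ⟨x, hx, rfl⟩
    exact ⟨X.mul_mem (X.mul_mem hl hx.1) (X.inv_mem hl), k.cent_conj h hl hx.2⟩
  have hs' : ChoiceSit.Syl (cj l (R0 T N d i)) C := by
    refine ⟨?_, isPGroup_cj l hs.2.1, ?_⟩
    · rw [← hlC]; exact cj_mono l hs.1
    · intro P hP hP2 hQP
      have h1 : cj l⁻¹ P = R0 T N d i := by
        refine hs.2.2 _ ?_ (isPGroup_cj _ hP2) ?_
        · rw [cj_le_iff, inv_inv, hlC]; exact hP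
        · rw [← cj_le_iff]; exact hQP
      rw [← h1, cj_cj_inv]
  obtain ⟨c, hc, hcc⟩ := ChoiceSit.syl_conj hs' hs
  rw [cj_cj] at hcc
  have hcl : c * l ∈ normalizer ((R0 T N d i : Subgroup G) : Set G) := mem_normalizer_iff_cj.2 hcc
  refine (k.min (X ⊓ normalizer ((R0 T N d i : Subgroup G) : Set G)) inf_le_left
    (le_inf k.RX hR) ⟨c * l, ⟨mul_mem hc.1 hl, hcl⟩, ?_⟩).trans inf_le_right
  have h1 := mem_cent.1 hc.2 _ (k.X_N h hl (h.dN i))
  have e : c * l * d i * (c * l)⁻¹ = c * (l * d i * l⁻¹) * c⁻¹ := by group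
  rw [e, h1]; exact hm

/-- **`⟨B^X⟩` is a minimal block.** -/
theorem blk (k : XBlk H T V d r i X) (h : In H T Q V N d t r) [Finite G]
    (hp : PermR T V d r) : Blk H T V d r i (LL T X) where
  BL := B_le_LL T X
  LP := k.LL_le_PP h hp
  mv := k.mv_LL h
  min := by
    intro K hK hB hm
    have hRK : RR T d i ≤ K ⊔ R0 T N d i := by
      intro x hx
      rcases h.act_of_fix (fun v hv => h.perm' (mem_RR.1 hx).1 (mem_RR.1 hx).2 hv)
        (mem_RR.1 hx).2 with h1 | h1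
      · exact mem_sup_right ⟨hx, mem_cent.2 h1⟩
      · have h2 : (t i)⁻¹ * x ∈ R0 T N d i :=
          ⟨(RR T d i).mul_mem ((RR T d i).inv_mem (h.B_le_RR i (h.t_bau i))) hx, mem_cent.2 h1⟩
        have h3 : t i * ((t i)⁻¹ * x) ∈ K ⊔ R0 T N d i :=
          mul_mem (mem_sup_left (hB (h.t_bau i))) (mem_sup_right h2)
        rwa [mul_inv_cancel_left] at h3
    have hKX : K ≤ X := hK.trans (k.LL_le_X h)
    have hX : X ≤ K ⊔ R0 T N d i := by
      obtain ⟨y, hy, hym⟩ := hm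
      exact k.min _ (sup_le hKX (inf_le_left.trans k.RX)) hRK ⟨y, mem_sup_left hy, hym⟩
    rw [LL, closure_le]
    rintro _ ⟨x, hx, b, hb, rfl⟩
    obtain ⟨y, hy, z, hz, rfl⟩ := mem_sup_norm (hKX.trans (k.R0_norm h hp)) (hX hx)
    have h1 : z * b * z⁻¹ ∈ K := hB (T_bau (mem_RR.1 hz.1).1 hb)
    have e : y * z * b * (y * z)⁻¹ = y * (z * b * z⁻¹) * y⁻¹ := by group
    rw [e]
    exact K.mul_mem (K.mul_mem hy h1) (K.inv_mem hy)

end XBlk

namespace Blk

open In

variable {H T Q V L : Subgroup G} {ι : Type w} {N : ι → Subgroup G} {d t r : ι → G} {i j : ι}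

/-- Conjugates of minimal blocks under `T`. -/
theorem conj (k : Blk H T V d r i L) (h : In H T Q V N d t r) [Finite G] (hp : PermR T V d r)
    {x : G} (hx : x ∈ T) (hij : x * d i * x⁻¹ = d j) : Blk H T V d r j (cj x L) where
  BL := by
    intro b hb
    rw [mem_cj]
    have := T_bau (inv_mem hx) hb
    rw [inv_inv] at this
    exact k.BL this
  LP := (cj_mono x k.LP).trans (h.PP_conj hp hx hij)
  mv := by
    obtain ⟨l, hl, hm⟩ := k.mv
    refine ⟨x * l * x⁻¹, ⟨l, hl, rfl⟩, fun e => hm ?_⟩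
    rw [← hij] at e
    calc l * d i * l⁻¹ = x⁻¹ * (x * l * x⁻¹ * (x * d i * x⁻¹) * (x * l * x⁻¹)⁻¹) * x := by group
      _ = x⁻¹ * (x * d i * x⁻¹) * x := by rw [e]
      _ = d i := by group
  min := by
    intro X hX hB hm
    have h1 : L ≤ cj x⁻¹ X := by
      refine k.min _ ?_ ?_ ?_
      · rw [cj_le_iff, inv_inv]; exact hX
      · intro b hb
        rw [mem_cj, inv_inv]
        exact hB (T_bau hx hb)
      · obtain ⟨y, hy, hym⟩ := hm
        refine ⟨x⁻¹ * y * x, ?_, fun e => hym ?_⟩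
        · rw [mem_cj, inv_inv]
          have e : x * (x⁻¹ * y * x) * x⁻¹ = y := by group
          rwa [e]
        · rw [← hij]
          calc y * (x * d i * x⁻¹) * y⁻¹ = x * (x⁻¹ * y * x * d i * (x⁻¹ * y * x)⁻¹) * x⁻¹ := by
                group
            _ = x * d i * x⁻¹ := by rw [e]
    have h2 := cj_mono x h1
    rwa [cj_cj_inv] at h2

end Blk

namespace In

variable {H T Q V : Subgroup G} {ι : Type w} {N : ι → Subgroup G} {d t r : ι → G}

/-- **A `T`-equivariant choice of minimal blocks.** -/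
theorem exists_blks (h : In H T Q V N d t r) [Finite G] (hp : PermR T V d r) :
    ∃ L : ι → Subgroup G, (∀ i, Blk H T V d r i (L i)) ∧
      ∀ x ∈ T, ∀ i j, x * d i * x⁻¹ = d j → cj x (L i) = L j := by
  classical
  by_cases hne : Nonempty ι
  swap
  · exact ⟨fun _ => ⊥, fun i => absurd ⟨i⟩ hne, fun _ _ i => absurd ⟨i⟩ hne⟩
  obtain ⟨i₀⟩ := hne
  obtain ⟨X, hX⟩ := h.exists_xblk i₀
  choose τ hτ hτd using fun j => h.trans i₀ j
  refine ⟨fun j => cj (τ j) (LL T X), fun j => (hX.blk h hp).conj h hp (hτ j) (hτd j), ?_⟩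
  intro x hx i j hij
  change cj x (cj (τ i) (LL T X)) = cj (τ j) (LL T X)
  rw [cj_cj]
  have h1 : (τ j)⁻¹ * (x * τ i) ∈ RR T d i₀ := by
    refine mem_RR.2 ⟨mul_mem (inv_mem (hτ j)) (mul_mem hx (hτ i)), ?_⟩
    calc (τ j)⁻¹ * (x * τ i) * d i₀ * ((τ j)⁻¹ * (x * τ i))⁻¹
        = (τ j)⁻¹ * (x * (τ i * d i₀ * (τ i)⁻¹) * x⁻¹) * τ j := by group
      _ = (τ j)⁻¹ * (τ j * d i₀ * (τ j)⁻¹) * τ j := by rw [hτd i, hij, hτd j]
      _ = d i₀ := by group
  have h2 := cj_eq_of_mem_normalizer (XBlk.LL_norm (T := T) (hX.RX h1))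
  calc cj (x * τ i) (LL T X) = cj (τ j) (cj ((τ j)⁻¹ * (x * τ i)) (LL T X)) := by
        rw [cj_cj, mul_inv_cancel_left]
    _ = _ := by rw [h2]

theorem norm_star (h : In H T Q V N d t r) [Finite G] {i : ι} {L : Subgroup G}
    (k : Blk H T V d r i L) : ∀ l ∈ L, ∀ x ∈ bau T ⊓ Q, l * x * l⁻¹ ∈ bau T ⊓ Q :=
  fun l hl => h.star_norm i l (k.LH h hl)

/-- **The input of the matching theorem, `q = 2`.** -/
theorem min_in (h : In H T Q V N d t r) [Finite G] (hp : PermR T V d r) {A : Subgroup G}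
    (hTA : T ≤ A) (hAT : A ≤ normalizer (T : Set G))
    (idx : ∀ a ∈ A, ∀ b ∈ A, a ∉ T → b ∉ T → a⁻¹ * b ∈ T)
    (hcore : ∀ R : Subgroup G, R ≤ T → (∀ x ∈ H, ∀ r ∈ R, x * r * x⁻¹ ∈ R) →
      (∀ a ∈ A, ∀ r ∈ R, a * r * a⁻¹ ∈ R) → R = ⊥)
    {s : G} (hs : s ∈ A) (hsT : s ∉ T) :
    ∃ L : ι → Subgroup G, (∀ i, Blk H T V d r i (L i)) ∧
      (∀ x ∈ T, ∀ i j, x * d i * x⁻¹ = d j → cj x (L i) = L j) ∧
      Match.MIn A T (bau T) (zj T) (bau T ⊓ Q) s L (fun i => QQ T N i) (fun i => VV T N i)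
        (fun i => zpowers (d i)) := by
  obtain ⟨L, hL, hLc⟩ := h.exists_blks hp
  refine ⟨L, hL, hLc, ?_⟩
  exact
    { dat := fun i => (hL i).dat h hTA hAT idx hcore
      sA := hs
      sT := hsT
      Pmem := fun x => h.star_iff
      comm := fun i j v hv w hw =>
        elem_comm h.Y_elem v (Blk.VV_le_Y h hv) w (Blk.VV_le_Y h hw)
      perm := by
        intro x hx i
        obtain ⟨j, hj, hjN⟩ := h.perm x hx i
        refine ⟨j, ?_, ?_⟩
        · intro v hv
          obtain ⟨z, hz, n, hn, rfl⟩ := Blk.mem_VV h hv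
          have e : x * (z * n) * x⁻¹ = (x * z * x⁻¹) * (x * n * x⁻¹) := by group
          rw [e]
          exact mul_mem (mem_sup_left (Bau.In.T_norm_Z T hx hz)) (mem_sup_right (hjN n hn))
        · intro y hy
          rcases Blk.mem_zp h hy with h1 | h1
          · rw [h1]
            have e : x * 1 * x⁻¹ = 1 := by group
            rw [e]; exact one_mem _
          · rw [h1, hj]; exact mem_zpowers _
      trans := by
        intro i j
        obtain ⟨x, hx, hxj⟩ := h.trans i j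
        refine ⟨x, hx, fun y hy => ?_⟩
        rcases Blk.mem_zp h hy with h1 | h1
        · rw [h1]
          have e : x * 1 * x⁻¹ = 1 := by group
          rw [e]; exact one_mem _
        · rw [h1, hxj]; exact mem_zpowers _
      Dinj := by
        intro i j hij
        rcases Blk.mem_zp h (hij (mem_zpowers (d i))) with h1 | h1
        · exact absurd h1 (h.d1 i)
        · exact h.d_inj h1
      LP := fun i => h.norm_star (hL i)
      cross := by
        intro i j hij l hl x hx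
        have hc : l * d i = d i * l := by
          have h1 : PP H T V (r j) ≤ centralizer ({d i} : Set G) := by
            have key : ∀ y : G, y * d i * y⁻¹ = d i → y ∈ centralizer ({d i} : Set G) := by
              intro y hy
              rw [mem_centralizer_iff]
              intro z hz
              rw [show z = d i from hz]
              calc d i * y = (y * d i * y⁻¹) * y := by rw [hy]
                _ = y * d i := by group
            refine sup_le (sup_le (fun b hb => key b ((h.EE_good (h.bau_EE hb)).fixd i)) ?_) ?_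
            · rw [zpowers_le]
              exact key _ (h.r_d' (Ne.symm hij))
            · rintro c ⟨hc, hc'⟩
              refine key c ?_
              rw [← mem_centralizer_iff.1 hc' _ (h.dV i)]; group
          exact (mem_centralizer_iff.1 (h1 ((hL j).LP hl)) _ rfl).symm
        rcases Blk.mem_zp h hx with h1 | h1
        · rw [h1, mul_one, one_mul]
        · rw [h1]; exact hc }

end In

end Cfsg.Agent.Omega.SQ1.BauS
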