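import Mathlib
import Cfsg.Agent.Lib.NormalAbelian
import Cfsg.Agent.Lib.CoprimeCommutator

/-!
# SQT, SQ1.7 (#11260), step (3): a group with a large centraliser acts trivially

`central_of`: `R` a 2-group normalised by `Λ`, `Bq ≤ Λ` a 2-group, `z = [a, b]` with `a, b ∈ Bq`, and every element of
`R` commuting with `z` centralises `Λ`. Then `Λ` centralises `R`.
-/

set_option autoImplicit false

namespace Cfsg.Agent.Omega.SQ1.EndThree

open Subgroup

variable {G : Type*} [Group G]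

/-- a normal section of a `p`-group has a central element -/
theorem exists_fix [Finite G] {p : ℕ} [hp : Fact p.Prime] {X D P : Subgroup G} (hP : IsPGroup p P) (hXP : X ≤ P)
    (hXn : P ≤ normalizer (X : Set G)) (hDX : D ≤ X) (hDn : P ≤ normalizer (D : Set G)) (hne : ¬ X ≤ D) :
    ∃ x ∈ X, x ∉ D ∧ ∀ b ∈ P, x * b * x⁻¹ * b⁻¹ ∈ D := by
  have hnD : (D.subgroupOf P).Normal := by
    have := (normal_subgroupOf_iff_le_normalizer (hDX.trans hXP)).2 hDn
    exact this
  have hnX : (X.subgroupOf P).Normal := (normal_subgroupOf_iff_le_normalizer hXP).2 hXn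
  have hq : IsPGroup p (P ⧸ D.subgroupOf P) := hP.to_quotient _
  have hnil : Group.IsNilpotent (P ⧸ D.subgroupOf P) := hq.isNilpotent
  set N : Subgroup (P ⧸ D.subgroupOf P) := (X.subgroupOf P).map (QuotientGroup.mk' (D.subgroupOf P)) with hN
  have hNn : N.Normal := hnX.map _ (QuotientGroup.mk'_surjective _)
  have hNe : N ≠ ⊥ := by
    intro h
    apply hne
    intro x hx
    have h1 : QuotientGroup.mk' (D.subgroupOf P) ⟨x, hXP hx⟩ ∈ N := mem_map_of_mem _ (mem_subgroupOf.2 hx)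
    rw [h, mem_bot, ← MonoidHom.mem_ker, QuotientGroup.ker_mk', mem_subgroupOf] at h1
    exact h1
  have h := Cfsg.Agent.Lib.NormalAbelian.normal_inf_center_ne_bot N hNe
  obtain ⟨q, hq1, hqne⟩ := (bot_or_exists_ne_one _).resolve_left h
  obtain ⟨⟨x, hxX, rfl⟩, hc⟩ := hq1
  refine ⟨x, mem_subgroupOf.1 hxX, ?_, ?_⟩
  · intro hxD
    apply hqne
    rw [← MonoidHom.mem_ker, QuotientGroup.ker_mk', mem_subgroupOf]
    exact hxD
  · intro b hb
    have h2 := mem_center_iff.1 hc (QuotientGroup.mk' (D.subgroupOf P) ⟨b, hb⟩)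
    have h3 : QuotientGroup.mk' (D.subgroupOf P) (x * ⟨b, hb⟩ * x⁻¹ * ⟨b, hb⟩⁻¹) = 1 := by
      rw [map_mul, map_mul, map_mul, map_inv, map_inv, ← h2, mul_inv_cancel_right, mul_inv_cancel]
    rw [← MonoidHom.mem_ker, QuotientGroup.ker_mk', mem_subgroupOf] at h3
    exact h3

theorem central_of [Finite G] {R Bq Λ : Subgroup G} (hR : IsPGroup 2 R) (hB : IsPGroup 2 Bq) (hBΛ : Bq ≤ Λ)
    (hn : Λ ≤ normalizer (R : Set G)) {a b : G} (ha : a ∈ Bq) (hb : b ∈ Bq)
    (hz : ∀ r ∈ R, r * (a * b * a⁻¹ * b⁻¹) = (a * b * a⁻¹ * b⁻¹) * r → ∀ l ∈ Λ, r * l = l * r) : ∀ r ∈ R, ∀ l ∈ Λ, r * l = l * r := by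
  have hf : Fact (Nat.Prime 2) := ⟨Nat.prime_two⟩
  set C : Subgroup G := R ⊓ centralizer (Λ : Set G) with hC
  have hCΛ : ∀ r, r ∈ C ↔ r ∈ R ∧ ∀ l ∈ Λ, r * l = l * r := by
    intro r
    rw [hC, mem_inf, mem_centralizer_iff]
    exact and_congr_right fun _ => forall₂_congr fun l _ => eq_comm
  suffices h : ¬ ∃ X : Subgroup G, X ≤ R ∧ Λ ≤ normalizer (X : Set G) ∧ ¬ X ≤ C by
    intro r hr
    by_contra hcon
    exact h ⟨R, le_rfl, hn, fun hRC => hcon ((hCΛ r).1 (hRC hr)).2⟩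
  rintro hex
  -- a minimal such `X`
  obtain ⟨X, ⟨hXR, hXn, hXC⟩, hmin⟩ := (Set.toFinite {X : Subgroup G | X ≤ R ∧ Λ ≤ normalizer (X : Set G) ∧ ¬ X ≤ C}).exists_minimal
    hex
  have hmin' : ∀ Y : Subgroup G, Y ≤ X → Λ ≤ normalizer (Y : Set G) → Y ≠ X → Y ≤ C := by
    intro Y hY hYn hne
    by_contra hYC
    exact hne (le_antisymm hY (hmin ⟨hY.trans hXR, hYn, hYC⟩ hY))
  have hcent : ⁅C, Λ⁆ = ⊥ := by
    rw [commutator_eq_bot_iff_le_centralizer]
    exact inf_le_right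
  have hXΛ : ⁅X, Λ⁆ ≤ X := by
    rw [commutator_le]
    intro x hx l hl
    rw [commutatorElement_def]
    have h1 : l * x⁻¹ * l⁻¹ ∈ X := (mem_normalizer_iff.1 (hXn hl) _).1 (inv_mem hx)
    have : x * l * x⁻¹ * l⁻¹ = x * (l * x⁻¹ * l⁻¹) := by group
    rw [this]
    exact mul_mem hx h1
  have hzΛ : a * b * a⁻¹ * b⁻¹ ∈ ⁅Λ, Λ⁆ := commutator_mem_commutator (hBΛ ha) (hBΛ hb)
  have hcj : ∀ l ∈ Λ, ∀ Y : Subgroup G, Λ ≤ normalizer (Y : Set G) → Y.map (MulAut.conj l).toMonoidHom = Y := by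
    intro l hl Y hY
    ext y
    rw [mem_map]
    constructor
    · rintro ⟨w, hw, rfl⟩
      exact (mem_normalizer_iff.1 (hY hl) w).1 hw
    · intro hy
      refine ⟨l⁻¹ * y * l, ?_, ?_⟩
      · have h1 := (mem_normalizer_iff.1 (hY (inv_mem hl)) y).1 hy
        rwa [inv_inv] at h1
      · change l * (l⁻¹ * y * l) * l⁻¹ = y
        group
  by_cases hcase : ⁅X, Λ⁆ ≤ C
  · -- `[X, Λ, Λ] = 1`
    have h1 : ⁅⁅X, Λ⁆, Λ⁆ = ⊥ := by
      rw [eq_bot_iff, ← hcent]
      exact commutator_mono hcase le_rfl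
    have h2 : ⁅⁅Λ, Λ⁆, X⁆ = ⊥ := by
      apply commutator_commutator_eq_bot_of_rotate
      · rw [commutator_comm Λ X]; exact h1
      · exact h1
    rw [commutator_eq_bot_iff_le_centralizer] at h2
    apply hXC
    intro x hx
    refine (hCΛ x).2 ⟨hXR hx, hz x (hXR hx) ?_⟩
    exact mem_centralizer_iff.1 (h2 hzΛ) x hx
  · have hXX : ⁅X, Λ⁆ = X := by
      by_contra hne
      exact hcase (hmin' _ hXΛ (Cfsg.Agent.Lib.CoprimeCommutator.right_le_normalizer_commutator X Λ) hne)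
    have hX2 : IsPGroup 2 X := hR.to_le hXR
    -- `X' ≤ C`
    have hX' : ⁅X, X⁆ ≤ C := by
      refine hmin' _ (commutator_le_self X) ?_ ?_
      · intro l hl
        have h1 : (⁅X, X⁆ : Subgroup G).map (MulAut.conj l).toMonoidHom = ⁅X, X⁆ := by
          rw [map_commutator, hcj l hl X hXn]
        rw [mem_normalizer_iff]
        intro y
        constructor
        · intro hy
          have h2 := mem_map_of_mem (MulAut.conj l).toMonoidHom hy
          rw [h1] at h2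
          exact h2
        · intro hy
          have h2 : l * y * l⁻¹ ∈ (⁅X, X⁆ : Subgroup G).map (MulAut.conj l).toMonoidHom := by rw [h1]; exact hy
          obtain ⟨w, hw, hwe⟩ := h2
          have h3 : w = y := by
            have h4 : l * w * l⁻¹ = l * y * l⁻¹ := hwe
            exact mul_left_cancel (mul_right_cancel h4)
          rwa [h3] at hw
      · intro he
        have hnt : Nontrivial X := by
          rw [nontrivial_iff_ne_bot]
          rintro rfl
          exact hXC bot_le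
        have hnil : Group.IsNilpotent X := hX2.isNilpotent
        have hlt := Group.IsSolvable.commutator_lt_top_of_nontrivial X
        apply hlt.ne
        rw [eq_top_iff]
        intro y _
        have h1 : (y : G) ∈ (_root_.commutator X).map X.subtype := by
          rw [map_subtype_commutator, he]
          exact y.2
        obtain ⟨w, hw, hwe⟩ := h1
        have : w = y := Subtype.ext hwe
        rwa [this] at hw
    set D : Subgroup G := X ⊓ C with hD
    have hDΛ : ⁅D, Λ⁆ = ⊥ := by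
      rw [eq_bot_iff, ← hcent]
      exact commutator_mono inf_le_right le_rfl
    have hDX : ⁅X, D⁆ = ⊥ := by
      have h1 : ⁅⁅Λ, X⁆, D⁆ = ⊥ := by
        apply commutator_commutator_eq_bot_of_rotate
        · rw [eq_bot_iff, ← hcent]
          exact commutator_mono ((commutator_mono le_rfl inf_le_left).trans hX') le_rfl
        · rw [hDΛ, commutator_bot_left]
      rwa [commutator_comm Λ X, hXX] at h1
    have hDX' : ∀ d ∈ D, ∀ y ∈ X, d * y = y * d := by
      intro d hd y hy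
      rw [commutator_eq_bot_iff_le_centralizer] at hDX
      exact mem_centralizer_iff.1 (hDX hy) d hd
    have hDΛ' : ∀ d ∈ D, ∀ y ∈ Λ, d * y = y * d := by
      intro d hd y hy
      exact ((hCΛ d).1 hd.2).2 y hy
    have hDn : X ⊔ Bq ≤ normalizer (D : Set G) := by
      have key : X ⊔ Bq ≤ centralizer (D : Set G) := by
        refine sup_le ?_ ?_
        · intro y hy
          rw [mem_centralizer_iff]
          exact fun d hd => hDX' d hd y hy
        · intro y hy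
          rw [mem_centralizer_iff]
          exact fun d hd => hDΛ' d hd y (hBΛ hy)
      exact key.trans (centralizer_le_normalizer _)
    obtain ⟨x, hx, hxD, hxb⟩ := exists_fix (X := X) (D := D) (P := X ⊔ Bq) (p := 2)
      (hX2.to_sup_of_normal_left' hB (hBΛ.trans hXn)) le_sup_left
      (sup_le le_normalizer (hBΛ.trans hXn)) inf_le_left hDn (fun h => hXC (h.trans inf_le_right))
    apply hxD
    refine ⟨hx, (hCΛ x).2 ⟨hXR hx, hz x (hXR hx) ?_⟩⟩
    have hda := hxb a ((le_sup_right : Bq ≤ _) ha)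
    have hdb := hxb b ((le_sup_right : Bq ≤ _) hb)
    set u : G := x * a * x⁻¹ * a⁻¹ with hu
    set w : G := x * b * x⁻¹ * b⁻¹ with hw
    have hxa : x * a * x⁻¹ = u * a := by rw [hu]; group
    have hxb' : x * b * x⁻¹ = w * b := by rw [hw]; group
    have hua : u * a = a * u := hDΛ' u hda a (hBΛ ha)
    have hub : u * b = b * u := hDΛ' u hda b (hBΛ hb)
    have hwa : w * a = a * w := hDΛ' w hdb a (hBΛ ha)
    have hwb : w * b = b * w := hDΛ' w hdb b (hBΛ hb)
    have huw : u * w = w * u := hDX' u hda w hdb.1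
    have h1 : x * (a * b * a⁻¹ * b⁻¹) * x⁻¹ = a * b * a⁻¹ * b⁻¹ := by
      have e1 : x * (a * b * a⁻¹ * b⁻¹) * x⁻¹ =
          (x * a * x⁻¹) * (x * b * x⁻¹) * (x * a * x⁻¹)⁻¹ * (x * b * x⁻¹)⁻¹ := by group
      rw [e1, hxa, hxb']
      have cu : Commute u (a * b * a⁻¹) := by
        have c1 : Commute u a := hua
        have c2 : Commute u b := hub
        exact (c1.mul_right c2).mul_right c1.inv_right
      have cw : Commute w (a * b * a⁻¹ * b⁻¹) := by
        have c1 : Commute w a := hwa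
        have c2 : Commute w b := hwb
        exact ((c1.mul_right c2).mul_right c1.inv_right).mul_right c2.inv_right
      have cwa : Commute w a := hwa
      calc u * a * (w * b) * (u * a)⁻¹ * (w * b)⁻¹
          = u * (a * w) * b * a⁻¹ * u⁻¹ * b⁻¹ * w⁻¹ := by group
        _ = u * (w * a) * b * a⁻¹ * u⁻¹ * b⁻¹ * w⁻¹ := by rw [hwa]
        _ = (u * w) * (a * b * a⁻¹) * u⁻¹ * b⁻¹ * w⁻¹ := by group
        _ = (w * u) * (a * b * a⁻¹) * u⁻¹ * b⁻¹ * w⁻¹ := by rw [huw]
        _ = w * (u * (a * b * a⁻¹)) * u⁻¹ * b⁻¹ * w⁻¹ := by group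
        _ = w * ((a * b * a⁻¹) * u) * u⁻¹ * b⁻¹ * w⁻¹ := by rw [cu.eq]
        _ = w * (a * b * a⁻¹ * b⁻¹) * w⁻¹ := by group
        _ = a * b * a⁻¹ * b⁻¹ := by rw [cw.eq, mul_inv_cancel_right]
    exact mul_inv_eq_iff_eq_mul.1 h1

/-- **(3.2), (3.3)**: `C` has characteristic 2 with `O₂(C) = R`; `Bq ≤ C` a 2-group, `z = [a, b]` with `a, b ∈ Bq`;
elements of `R` commuting with `z` normalise `Bq`, `R ∩ Bq = 1`; `c ∈ C` normalises a subgroup `Qq ≤ Bq` containing `z`.
Then `⟨Bq, c Bq c⁻¹⟩` is a 2-group. -/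
theorem isPGroup_of [Finite G] {C R Bq Qq : Subgroup G} (hR : IsPGroup 2 R) (hRn : C ≤ normalizer (R : Set G))
    (hchar : C ⊓ centralizer (R : Set G) ≤ R) (hB : IsPGroup 2 Bq) (hBC : Bq ≤ C) {a b c : G} (ha : a ∈ Bq) (hb : b ∈ Bq)
    (hQB : Qq ≤ Bq) (hzQ : a * b * a⁻¹ * b⁻¹ ∈ Qq) (hcC : c ∈ C) (hcQ : ∀ q ∈ Qq, c * q * c⁻¹ ∈ Qq)
    (hM : ∀ r ∈ R, r * (a * b * a⁻¹ * b⁻¹) = (a * b * a⁻¹ * b⁻¹) * r → ∀ y ∈ Bq, r * y * r⁻¹ ∈ Bq)
    (hRB : R ⊓ Bq = ⊥) : IsPGroup 2 (Bq ⊔ Bq.map (MulAut.conj c).toMonoidHom : Subgroup G) := by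
  set z : G := a * b * a⁻¹ * b⁻¹ with hz
  -- elements of `R` commuting with `z` commute with `Bq`
  have h1 : ∀ r ∈ R, r * z = z * r → ∀ y ∈ Bq, r * y = y * r := by
    intro r hr hrz y hy
    have h2 : r * y * r⁻¹ * y⁻¹ ∈ R ⊓ Bq := by
      refine ⟨?_, Bq.mul_mem (hM r hr hrz y hy) (Bq.inv_mem hy)⟩
      have h3 : y * r⁻¹ * y⁻¹ ∈ R := (mem_normalizer_iff.1 (hRn (hBC hy)) _).1 (inv_mem hr)
      have : r * y * r⁻¹ * y⁻¹ = r * (y * r⁻¹ * y⁻¹) := by group
      rw [this]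
      exact mul_mem hr h3
    rw [hRB, mem_bot, mul_inv_eq_one] at h2
    exact mul_inv_eq_iff_eq_mul.1 h2
  have hΛC : Bq ⊔ Bq.map (MulAut.conj c).toMonoidHom ≤ C := by
    refine sup_le hBC ?_
    rintro _ ⟨y, hy, rfl⟩
    exact C.mul_mem (C.mul_mem hcC (hBC hy)) (C.inv_mem hcC)
  have h4 := central_of (Λ := Bq ⊔ Bq.map (MulAut.conj c).toMonoidHom) hR hB le_sup_left (hΛC.trans hRn) ha hb (by
    intro r hr hrz
    have h5 := h1 r hr hrz
    have h6 : ∀ y ∈ Bq, (c⁻¹ * r * c) * y = y * (c⁻¹ * r * c) := by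
      refine h1 _ ?_ ?_
      · have := (mem_normalizer_iff.1 (hRn (inv_mem hcC)) r).1 hr
        rwa [inv_inv] at this
      · have h7 := h5 _ (hQB (hcQ z hzQ))
        calc c⁻¹ * r * c * z = c⁻¹ * (r * (c * z * c⁻¹)) * c := by group
          _ = c⁻¹ * (c * z * c⁻¹ * r) * c := by rw [h7]
          _ = z * (c⁻¹ * r * c) := by group
    have h8 : Bq ⊔ Bq.map (MulAut.conj c).toMonoidHom ≤ centralizer {r} := by
      refine sup_le ?_ ?_
      · intro y hy
        exact mem_centralizer_singleton_iff.2 (h5 y hy).symm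
      · rintro _ ⟨y, hy, rfl⟩
        refine mem_centralizer_singleton_iff.2 ?_
        change c * y * c⁻¹ * r = r * (c * y * c⁻¹)
        calc c * y * c⁻¹ * r = c * (y * (c⁻¹ * r * c)) * c⁻¹ := by group
          _ = c * (c⁻¹ * r * c * y) * c⁻¹ := by rw [h6 y hy]
          _ = r * (c * y * c⁻¹) := by group
    intro l hl
    exact (mem_centralizer_singleton_iff.1 (h8 hl)).symm)
  refine hR.to_le ?_
  intro l hl
  apply hchar
  refine ⟨hΛC hl, mem_centralizer_iff.2 fun r hr => h4 r hr l hl⟩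

end Cfsg.Agent.Omega.SQ1.EndThree
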