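import Mathlib
import Cfsg.Agent.Omega.FFOne.Alg

/-!
# NODE (A): involutory automorphisms of a finite field of characteristic 2

* `aut_unique`: two automorphisms of order 2 are equal;
* `card_fix_sq_le`: `|Fix ρ|² ≤ |F|` for `ρ ≠ 1`;
* `card_fix_sq_le'`: the same for the fixed points of `a ↦ k ρ a`;
* `one_of_two_pow`: no 2-elements in `Fˣ`.
-/

set_option autoImplicit false

namespace Cfsg.Agent.Omega.SQ1.TyAlg

variable {F : Type*} [Field F] [Finite F]

theorem aut_unique (ρ ρ' : F ≃+* F) (h : ∀ a, ρ (ρ a) = a) (h' : ∀ a, ρ' (ρ' a) = a) (hn : ∃ a, ρ a ≠ a)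
    (hn' : ∃ a, ρ' a ≠ a) (a : F) : ρ a = ρ' a := by
  classical
  obtain ⟨p, hp⟩ := CharP.exists F
  haveI := hp
  haveI : Fact p.Prime := ⟨CharP.char_is_prime F p⟩
  letI := ZMod.algebra F p
  have hcom : ∀ (σ : F ≃+* F) (n : ZMod p), σ (algebraMap (ZMod p) F n) = algebraMap (ZMod p) F n := by
    intro σ n
    exact DFunLike.congr_fun (Subsingleton.elim ((σ : F →+* F).comp (algebraMap (ZMod p) F)) (algebraMap (ZMod p) F)) n
  let g : F ≃ₐ[ZMod p] F := AlgEquiv.ofRingEquiv (f := ρ) (hcom ρ)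
  let g' : F ≃ₐ[ZMod p] F := AlgEquiv.ofRingEquiv (f := ρ') (hcom ρ')
  haveI : Fintype (F ≃ₐ[ZMod p] F) := Fintype.ofFinite _
  have hc := IsCyclic.card_pow_eq_one_le (α := F ≃ₐ[ZMod p] F) (n := 2) (by norm_num)
  have hg : g ^ 2 = 1 := by
    rw [pow_two]
    ext b
    exact h b
  have hg' : g' ^ 2 = 1 := by
    rw [pow_two]
    ext b
    exact h' b
  have hg1 : g ≠ 1 := fun h1 => by
    obtain ⟨b, hb⟩ := hn
    exact hb (DFunLike.congr_fun h1 b)
  have hg1' : g' ≠ 1 := fun h1 => by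
    obtain ⟨b, hb⟩ := hn'
    exact hb (DFunLike.congr_fun h1 b)
  by_contra hne
  have hgg : g ≠ g' := fun h1 => hne (DFunLike.congr_fun h1 a)
  have h3 : ({1, g, g'} : Finset (F ≃ₐ[ZMod p] F)) ⊆ Finset.univ.filter fun σ => σ ^ 2 = 1 := by
    intro σ hσ
    simp only [Finset.mem_insert, Finset.mem_singleton] at hσ
    rw [Finset.mem_filter]
    refine ⟨Finset.mem_univ _, ?_⟩
    rcases hσ with rfl | rfl | rfl
    · exact one_pow _
    · exact hg
    · exact hg'
  have h4 := Finset.card_le_card h3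
  have h5 : ({1, g, g'} : Finset (F ≃ₐ[ZMod p] F)).card = 3 := by
    rw [Finset.card_insert_of_notMem, Finset.card_pair hgg]
    simp only [Finset.mem_insert, Finset.mem_singleton, not_or]
    exact ⟨fun h => hg1 h.symm, fun h => hg1' h.symm⟩
  omega

theorem card_fix_sq_le (ρ : F ≃+* F) (hn : ∃ a, ρ a ≠ a) : Nat.card {a : F // ρ a = a} ^ 2 ≤ Nat.card F := by
  obtain ⟨θ, hθ⟩ := hn
  rw [pow_two, ← Nat.card_prod]
  refine Nat.card_le_card_of_injective (fun p : {a : F // ρ a = a} × {a : F // ρ a = a} => p.1.1 + p.2.1 * θ) ?_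
  rintro ⟨⟨a, ha⟩, ⟨b, hb⟩⟩ ⟨⟨a', ha'⟩, ⟨b', hb'⟩⟩ h
  have h : a + b * θ = a' + b' * θ := h
  have h1 := congrArg ρ h
  rw [map_add, map_add, map_mul, map_mul, ha, ha', hb, hb'] at h1
  have h2 : (b - b') * (ρ θ - θ) = 0 := by linear_combination h1 - h
  have h3 : b = b' := sub_eq_zero.1 ((mul_eq_zero.1 h2).resolve_right (sub_ne_zero.2 hθ))
  subst h3
  have h4 : a = a' := by linear_combination h
  subst h4
  rfl

theorem card_fix_sq_le' (ρ : F ≃+* F) (hn : ∃ a, ρ a ≠ a) (k : F) :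
    Nat.card {a : F // k * ρ a = a} ^ 2 ≤ Nat.card F := by
  by_cases h0 : ∃ b : F, b ≠ 0 ∧ k * ρ b = b
  · obtain ⟨b, hb0, hb⟩ := h0
    refine le_trans (Nat.pow_le_pow_left (Nat.card_le_card_of_injective
      (fun a : {a : F // k * ρ a = a} => (⟨a.1 / b, ?_⟩ : {a : F // ρ a = a})) ?_) 2) (card_fix_sq_le ρ hn)
    · have hρb : ρ b ≠ 0 := (map_ne_zero ρ).2 hb0
      have hk : k ≠ 0 := by
        rintro rfl
        rw [zero_mul] at hb
        exact hb0 hb.symm
      have h1 := a.2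
      rw [map_div₀, div_eq_div_iff hρb hb0]
      apply mul_left_cancel₀ hk
      linear_combination b * h1 - a.1 * hb
    · rintro ⟨a, ha⟩ ⟨a', ha'⟩ h
      have h1 : a / b = a' / b := congrArg Subtype.val h
      have h2 : a = a' := by
        rw [div_left_inj' hb0] at h1
        exact h1
      subst h2
      rfl
  · push Not at h0
    have h1 : Nat.card {a : F // k * ρ a = a} ≤ 1 := by
      haveI : Subsingleton {a : F // k * ρ a = a} := by
        refine ⟨fun a b => Subtype.ext ?_⟩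
        have ha : a.1 = 0 := by
          by_contra h
          exact h0 _ h a.2
        have hb : b.1 = 0 := by
          by_contra h
          exact h0 _ h b.2
        rw [ha, hb]
      exact Finite.card_le_one_iff_subsingleton.2 inferInstance
    calc Nat.card {a : F // k * ρ a = a} ^ 2 ≤ 1 ^ 2 := Nat.pow_le_pow_left h1 2
      _ = 1 := one_pow 2
      _ ≤ Nat.card F := Nat.card_pos

theorem one_of_two_pow [CharP F 2] {a : F} {n : ℕ} (h : a ^ 2 ^ n = 1) : a = 1 := by
  induction n with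
  | zero => simpa using h
  | succ n ih =>
    apply ih
    rw [pow_succ, pow_mul] at h
    have h2 : (2 : F) = 0 := CharTwo.two_eq_zero
    have h3 : (a ^ 2 ^ n + 1) * (a ^ 2 ^ n + 1) = 0 := by linear_combination h + (a ^ 2 ^ n + 1) * h2
    have h4 := mul_self_eq_zero.1 h3
    linear_combination h4 - h2

end Cfsg.Agent.Omega.SQ1.TyAlg
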