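import Cfsg.Agent.Omega.SQ1.NodeA
import Cfsg.Agent.Omega.SQ1.TyAlg
import Cfsg.Agent.Omega.FFOne.Five

/-!
# NODE (A): `Ty` for type `L₃(q)` (`c = 1`)

`semi`: every `t ∈ S` acts on `D ≅ F` as `a ↦ k ρ(a)`, `k ≠ 0`, `ρ ∈ Aut F`.
`ty_L`: `NodeA.Ty S B Q₁ Q₂ D 1`.
-/

set_option autoImplicit false
set_option Elab.async false

namespace Cfsg.Agent.Omega.SQ1.TyL

open Subgroup Cfsg.Agent.Omega.SQ1.End Cfsg.Agent.Omega.FFOne

universe u

variable {G : Type u} [Group G] {F : Type*} [Field F]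

/-- an isomorphism `Q / D → Q' / D'` in coordinates -/
theorem exists_hom {Q Q' D D' : Subgroup G} {f f' : G → F} (t : G)
    (f_mul : ∀ u ∈ Q, ∀ v ∈ Q, f (u * v) = f u + f v) (f_surj : ∀ a, ∃ u ∈ Q, f u = a)
    (f_ker : ∀ u ∈ Q, f u = 0 ↔ u ∈ D) (f'_mul : ∀ u ∈ Q', ∀ v ∈ Q', f' (u * v) = f' u + f' v)
    (f'_ker : ∀ u ∈ Q', f' u = 0 ↔ u ∈ D') (hQ : ∀ u ∈ Q, t * u * t⁻¹ ∈ Q')
    (hD : ∀ u ∈ D, t * u * t⁻¹ ∈ D') (hD' : ∀ u ∈ D', t⁻¹ * u * t ∈ D) :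
    ∃ τ : F →+ F, Function.Injective τ ∧ ∀ u ∈ Q, f' (t * u * t⁻¹) = τ (f u) := by
  have hconj : ∀ a b : G, t * (a * b) * t⁻¹ = (t * a * t⁻¹) * (t * b * t⁻¹) := fun a b => by group
  have hwd : ∀ a ∈ Q, ∀ b ∈ Q, f a = f b → f' (t * a * t⁻¹) = f' (t * b * t⁻¹) := by
    intro a ha b hb hab
    have h1 : a * b⁻¹ ∈ D := (f_ker _ (mul_mem ha (inv_mem hb))).1 (by
      rw [f_mul _ ha _ (inv_mem hb), add_inv' f_mul hb, hab, add_neg_cancel])
    have h2 := (f'_ker _ (hQ _ (mul_mem ha (inv_mem hb)))).2 (hD _ h1)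
    have h3 : t * b⁻¹ * t⁻¹ = (t * b * t⁻¹)⁻¹ := by group
    rw [hconj, h3, f'_mul _ (hQ a ha) _ (inv_mem (hQ b hb)), add_inv' f'_mul (hQ b hb)] at h2
    linear_combination h2
  choose u huQ huf using f_surj
  refine ⟨AddMonoidHom.mk' (fun a => f' (t * u a * t⁻¹)) fun a b => ?_, ?_, fun v hv => hwd v hv _ (huQ _) (huf _).symm⟩
  · rw [← f'_mul _ (hQ _ (huQ _)) _ (hQ _ (huQ _)), ← hconj]
    exact hwd _ (huQ _) _ (mul_mem (huQ _) (huQ _)) (by rw [f_mul _ (huQ _) _ (huQ _), huf, huf, huf])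
  · rw [injective_iff_map_eq_zero]
    intro a ha
    have h1 : f' (t * u a * t⁻¹) = 0 := ha
    have h2 := hD' _ ((f'_ker _ (hQ _ (huQ a))).1 h1)
    have h3 : t⁻¹ * (t * u a * t⁻¹) * t = u a := by group
    rw [h3] at h2
    rw [← huf a]
    exact (f_ker _ (huQ a)).2 h2

variable {P T B Q₁ Q₂ D C₁ C₂ : Subgroup G} {s : G} {q : ℕ} {x y z : G → F} {t₁ t₂ : G} {ω₁ ω₂ : F}

theorem toBase (h : End.Base P T B Q₁ Q₂ D C₁ C₂ s q) : FFOne.Base Q₁ Q₂ D where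
  D₁ := fun d hd => ((h.memD d).1 hd).1
  D₂ := fun d hd => ((h.memD d).1 hd).2
  sq₁ := h.sq1
  sq₂ := h.sq2
  mem := fun u hu v hv => by
    by_cases huD : u ∈ D
    · have h1 : cm u v = 1 := by
        rw [cm, h.c2 u ((h.memD u).1 huD).2 v hv]; group
      rw [h1]; exact one_mem _
    by_cases hvD : v ∈ D
    · have h1 : cm u v = 1 := by
        rw [cm, h.c1 u hu v ((h.memD v).1 hvD).1]; group
      rw [h1]; exact one_mem _
    exact (h.good u hu huD v hv hvD).1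

variable [Finite G] [Finite F]

/-- every `t ∈ S` is semilinear on `D` -/
theorem semi (h : End.Base P T B Q₁ Q₂ D C₁ C₂ s q) (co : LThree Q₁ Q₂ D x y z t₁ t₂ ω₁ ω₂) {t : G} (ht : t ∈ P) :
    ∃ (k : F) (ρ : F ≃+* F), k ≠ 0 ∧ ∀ d ∈ D, z (t * d * t⁻¹) = k * ρ (z d) := by
  have b : FFOne.Base Q₁ Q₂ D := toBase h
  have hDt : ∀ d ∈ D, t * d * t⁻¹ ∈ D := fun d hd => h.P_D ht hd
  have hDt' : ∀ d ∈ D, t⁻¹ * d * t ∈ D := fun d hd => by
    have h1 := h.P_D (inv_mem ht) hd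
    rwa [inv_inv] at h1
  have zker : ∀ d ∈ D, z d = 0 ↔ d ∈ (⊥ : Subgroup G) := fun d hd =>
    ⟨fun h0 => mem_bot.2 (co.z_inj d hd h0), fun h0 => by rw [mem_bot.1 h0]; exact add_one' co.z_mul⟩
  obtain ⟨σ, hσi, hσ⟩ := exists_hom (Q := D) (Q' := D) (D := ⊥) (D' := ⊥) t co.z_mul co.z_surj zker co.z_mul zker hDt
    (fun u hu => by rw [mem_bot] at hu ⊢; rw [hu]; group) (fun u hu => by rw [mem_bot] at hu ⊢; rw [hu]; group)
  obtain ⟨g, g', hgi, hgi', H⟩ : ∃ (g g' : F →+ F), Function.Injective g ∧ Function.Injective g' ∧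
      ∀ a c, σ (a * c) = g a * g' c := by
    rcases h.mem_S ht with hT | hT
    · obtain ⟨g, hgi, hg⟩ := exists_hom (Q := Q₁) (Q' := Q₁) (D := D) (D' := D) t co.x_mul co.x_surj co.x_ker
        co.x_mul co.x_ker (h.T1 t hT) hDt hDt'
      obtain ⟨g', hgi', hg'⟩ := exists_hom (Q := Q₂) (Q' := Q₂) (D := D) (D' := D) t co.y_mul co.y_surj co.y_ker
        co.y_mul co.y_ker (h.T2 t hT) hDt hDt'
      refine ⟨g, g', hgi, hgi', fun a c => ?_⟩
      obtain ⟨u, hu, rfl⟩ := co.x_surj a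
      obtain ⟨v, hv, rfl⟩ := co.y_surj c
      rw [← co.com u hu v hv, ← hσ _ (b.mem u hu v hv), cm_conj, co.com _ (h.T1 t hT u hu) _ (h.T2 t hT v hv),
        hg u hu, hg' v hv]
    · obtain ⟨g, hgi, hg⟩ := exists_hom (Q := Q₁) (Q' := Q₂) (D := D) (D' := D) t co.x_mul co.x_surj co.x_ker
        co.y_mul co.y_ker (fun u hu => h.swap1 hT hu) hDt hDt'
      obtain ⟨g', hgi', hg'⟩ := exists_hom (Q := Q₂) (Q' := Q₁) (D := D) (D' := D) t co.y_mul co.y_surj co.y_ker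
        co.x_mul co.x_ker (fun u hu => h.swap2 hT hu) hDt hDt'
      refine ⟨g, g', hgi, hgi', fun a c => ?_⟩
      obtain ⟨u, hu, rfl⟩ := co.x_surj a
      obtain ⟨v, hv, rfl⟩ := co.y_surj c
      rw [← co.com u hu v hv, ← hσ _ (b.mem u hu v hv), cm_conj, b.cm_inv (h.swap2 hT hv) (h.swap1 hT hu),
        co.com _ (h.swap2 hT hv) _ (h.swap1 hT hu), hg u hu, hg' v hv, mul_comm]
  obtain ⟨ρ, hρ, -, -⟩ := semi_mul σ g g' hgi hgi' H
  refine ⟨σ 1, ρ, fun h0 => one_ne_zero (hσi (h0.trans (map_zero σ).symm)), fun d hd => ?_⟩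
  rw [hσ d hd, hρ]

theorem mem_cent_iff (h : End.Base P T B Q₁ Q₂ D C₁ C₂ s q) (co : LThree Q₁ Q₂ D x y z t₁ t₂ ω₁ ω₂) {t : G}
    (ht : t ∈ P) {d : G} (hd : d ∈ D) : t * d = d * t ↔ z (t * d * t⁻¹) = z d := by
  have hm := h.P_D ht hd
  constructor
  · intro h1
    rw [h1, mul_inv_cancel_right]
  · intro h1
    have h2 : z (t * d * t⁻¹ * d⁻¹) = 0 := by
      rw [co.z_mul _ hm _ (inv_mem hd), add_inv' co.z_mul hd, h1, add_neg_cancel]
    have h3 := co.z_inj _ (mul_mem hm (inv_mem hd)) h2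
    exact (mul_inv_eq_iff_eq_mul.1 (mul_inv_eq_one.1 h3))

/-- an involution acting nontrivially -/
theorem semi_inv [CharP F 2] (h : End.Base P T B Q₁ Q₂ D C₁ C₂ s q) (co : LThree Q₁ Q₂ D x y z t₁ t₂ ω₁ ω₂) {t : G}
    (ht : t ∈ P) (h2 : t * t = 1) (hn : t ∉ centralizer (D : Set G)) :
    ∃ (k : F) (ρ : F ≃+* F), k ≠ 0 ∧ (∀ d ∈ D, z (t * d * t⁻¹) = k * ρ (z d)) ∧ (∀ a, ρ (ρ a) = a) ∧
      ∃ a, ρ a ≠ a := by
  obtain ⟨k, ρ, hk, hρ⟩ := semi h co ht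
  have h3 : ∀ a, k * (ρ k * ρ (ρ a)) = a := by
    intro a
    obtain ⟨d, hd, rfl⟩ := co.z_surj a
    rw [← map_mul, ← hρ d hd, ← hρ _ (h.P_D ht hd)]
    congr 1
    calc t * (t * d * t⁻¹) * t⁻¹ = (t * t) * d * (t * t)⁻¹ := by group
      _ = d := by rw [h2]; simp
  have h4 : k * ρ k = 1 := by
    have := h3 1
    simpa using this
  refine ⟨k, ρ, hk, hρ, fun a => ?_, ?_⟩
  · have h5 := h3 a
    rwa [← mul_assoc, h4, one_mul] at h5
  · by_contra hcon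
    push Not at hcon
    have h5 : k ^ 2 ^ 1 = 1 := by rw [pow_one, pow_two, ← h4, hcon]
    have h6 := TyAlg.one_of_two_pow h5
    apply hn
    rw [mem_centralizer_iff]
    intro d hd
    exact ((mem_cent_iff h co ht hd).2 (by rw [hρ d hd, hcon, h6, one_mul])).symm

/-- `Ty` for type `L₃(q)` -/
theorem ty_L [CharP F 2] (h : End.Base P T B Q₁ Q₂ D C₁ C₂ s q) (co : LThree Q₁ Q₂ D x y z t₁ t₂ ω₁ ω₂) :
    NodeA.Ty P B Q₁ Q₂ D 1 := by
  have b : FFOne.Base Q₁ Q₂ D := toBase h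
  have hcardF : Nat.card D = Nat.card F := by
    refine Nat.card_congr (Equiv.ofBijective (fun d : D => z d.1) ⟨?_, ?_⟩)
    · rintro ⟨d, hd⟩ ⟨e, he⟩ hde
      have h1 : z d = z e := hde
      have h2 := co.z_inj (d * e⁻¹) (mul_mem hd (inv_mem he)) (by
        rw [co.z_mul _ hd _ (inv_mem he), add_inv' co.z_mul he, h1, add_neg_cancel])
      exact Subtype.ext (mul_inv_eq_one.1 h2)
    · intro a
      obtain ⟨d, hd, h1⟩ := co.z_surj a
      exact ⟨⟨d, hd⟩, h1⟩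
  refine { big := ?_, fix := ?_, cyc := ?_, mv := ?_ }
  · intro x' hx' hxD y' hy' hyD K hKD hK
    have h1 : D ≤ K := by
      intro d hd
      have hy0 : y y' ≠ 0 := fun h0 => hyD ((co.y_ker y' hy').1 h0)
      obtain ⟨u, hu, h1⟩ := co.x_surj (z d / y y')
      have h2 := hK u (h.Q1B hu)
      have hcm := b.mem u hu y' hy'
      have h3 : x' * y' * u * (x' * y')⁻¹ * u⁻¹ = cm u y' := by
        rw [← b.cm_inv hu hy'] at hcm ⊢
        calc x' * y' * u * (x' * y')⁻¹ * u⁻¹ = x' * cm y' u * (u * x'⁻¹) * u⁻¹ := by simp only [cm]; group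
          _ = x' * cm y' u * (x'⁻¹ * u) * u⁻¹ := by rw [b.comm₁ hu (inv_mem hx')]
          _ = (x' * cm y' u) * x'⁻¹ := by group
          _ = cm y' u := by rw [b.comm₁ hx' (b.D₁ hcm), mul_inv_cancel_right]
      rw [h3] at h2
      have h4 : z (d * (cm u y')⁻¹) = 0 := by
        rw [co.z_mul _ hd _ (inv_mem hcm), add_inv' co.z_mul hcm, co.com u hu y' hy', h1, div_mul_cancel₀ _ hy0,
          add_neg_cancel]
      have h5 := co.z_inj _ (mul_mem hd (inv_mem hcm)) h4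
      rw [mul_inv_eq_one.1 h5]
      exact h2
    rw [one_mul]
    exact Subgroup.card_le_of_le h1
  · intro K hK hcard
    exfalso
    rw [one_mul] at hcard
    exact hK.ne (Subgroup.eq_of_le_of_card_ge hK.le hcard)
  · intro t ht ht2 t' ht' ht2' htD htD'
    obtain ⟨k, ρ, hk, hρ, hρ2, hρn⟩ := semi_inv h co ht ht2 htD
    obtain ⟨k', ρ', hk', hρ', hρ2', hρn'⟩ := semi_inv h co ht' ht2' htD'
    have heq := TyAlg.aut_unique ρ ρ' hρ2 hρ2' hρn hρn'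
    set κ := k * ρ k' with hκ
    have h1 : ∀ d ∈ D, z (t * t' * d * (t * t')⁻¹) = κ * z d := by
      intro d hd
      have h2 : t * t' * d * (t * t')⁻¹ = t * (t' * d * t'⁻¹) * t⁻¹ := by group
      rw [h2, hρ _ (h.P_D ht' hd), hρ' d hd, map_mul, ← heq, hρ2, hκ]; ring
    have hmem : t * t' ∈ P := mul_mem ht ht'
    have h3 : ∀ n : ℕ, ∀ d ∈ D, z ((t * t') ^ n * d * ((t * t') ^ n)⁻¹) = κ ^ n * z d := by
      intro n
      induction n with
      | zero => intro d _; simp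
      | succ n ih =>
        intro d hd
        have h4 : (t * t') ^ (n + 1) * d * ((t * t') ^ (n + 1))⁻¹ =
            t * t' * ((t * t') ^ n * d * ((t * t') ^ n)⁻¹) * (t * t')⁻¹ := by
          rw [pow_succ', mul_inv_rev]; simp only [mul_assoc]
        rw [h4, h1 _ (h.P_D (pow_mem hmem n) hd), ih d hd]; ring
    obtain ⟨n, hn⟩ := h.two ⟨_, hmem⟩
    have hn' : (t * t') ^ 2 ^ n = 1 := congrArg Subtype.val hn
    have h5 : κ ^ 2 ^ n = 1 := by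
      obtain ⟨d, hd, hd1⟩ := co.z_surj 1
      have h6 := h3 (2 ^ n) d hd
      rw [hn', hd1, mul_one, one_mul, inv_one, mul_one, hd1] at h6
      exact h6.symm
    have h6 := TyAlg.one_of_two_pow h5
    rw [mem_centralizer_iff]
    intro d hd
    exact ((mem_cent_iff h co hmem hd).2 (by rw [h1 d hd, h6, one_mul])).symm
  · intro t ht ht2 htD
    obtain ⟨k, ρ, hk, hρ, hρ2, hρn⟩ := semi_inv h co ht ht2 htD
    rw [hcardF]
    refine le_trans (Nat.pow_le_pow_left (Nat.card_le_card_of_injective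
      (fun d : (D ⊓ centralizer ({t} : Set G) : Subgroup G) => (⟨z d.1, ?_⟩ : {a : F // k * ρ a = a})) ?_) 2)
      (TyAlg.card_fix_sq_le' ρ hρn k)
    · rw [← hρ _ d.2.1]
      exact (mem_cent_iff h co ht d.2.1).1 (mem_centralizer_singleton_iff.1 d.2.2).symm
    · rintro ⟨d, hd⟩ ⟨e, he⟩ hde
      have h1 : z d = z e := congrArg Subtype.val hde
      have h2 := co.z_inj (d * e⁻¹) (mul_mem hd.1 (inv_mem he.1)) (by
        rw [co.z_mul _ hd.1 _ (inv_mem he.1), add_inv' co.z_mul he.1, h1, add_neg_cancel])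
      exact Subtype.ext (mul_inv_eq_one.1 h2)

end Cfsg.Agent.Omega.SQ1.TyL
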