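/-
OMEGA, node SQ1, piece SQ1.6 (helper132): the KILLING LEMMA of #6862 (5), abstract form.

Two (or more) blocks `X i` acting on the 2-groups `Q i` which generate together with `B`
a group with a nontrivial commuting 2-group `Bh := C_B(⟨X i⟩)` cannot exist in a group in
which `N_G(Bh)` is of characteristic 2, provided `B` splits over `Bh` (field `tw`) and
`B = J(P)` for the relevant 2-groups `P` (field `grow`).
-/
import Mathlib

namespace Cfsg.Agent.Omega.SQ1.Kill

open Subgroup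
open scoped Pointwise

variable {G : Type*} [Group G]

/-- criterion for membership in a normaliser -/
theorem mem_norm {A : Subgroup G} {x : G} (h1 : ∀ a ∈ A, x * a * x⁻¹ ∈ A)
    (h2 : ∀ a ∈ A, x⁻¹ * a * x ∈ A) : x ∈ normalizer (A : Set G) := by
  rw [mem_normalizer_iff]
  intro a
  refine ⟨h1 a, fun h => ?_⟩
  have := h2 _ h
  simpa [mul_assoc] using this

theorem norm_conj {A : Subgroup G} {x a : G} (h : x ∈ normalizer (A : Set G)) (ha : a ∈ A) :
    x * a * x⁻¹ ∈ A := (mem_normalizer_iff.1 h a).1 ha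

theorem norm_conj' {A : Subgroup G} {x a : G} (h : x ∈ normalizer (A : Set G)) (ha : a ∈ A) :
    x⁻¹ * a * x ∈ A := by
  have := norm_conj (inv_mem h) ha
  simpa using this

theorem norm_inf {A B : Subgroup G} {x : G} (h : x ∈ normalizer (A : Set G))
    (h' : x ∈ normalizer (B : Set G)) : x ∈ normalizer ((A ⊓ B : Subgroup G) : Set G) :=
  mem_norm (fun _ ha => ⟨norm_conj h ha.1, norm_conj h' ha.2⟩)
    (fun _ ha => ⟨norm_conj' h ha.1, norm_conj' h' ha.2⟩)

theorem norm_self {A : Subgroup G} {x : G} (h : x ∈ normalizer (A : Set G)) :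
    x ∈ normalizer ((normalizer (A : Set G) : Subgroup G) : Set G) := le_normalizer h

theorem mem_sup_norm {A B : Subgroup G} (h : B ≤ normalizer (A : Set G)) {g : G}
    (hg : g ∈ A ⊔ B) : ∃ r ∈ A, ∃ b ∈ B, g = r * b := by
  have h1 : g ∈ (A : Set G) * (B : Set G) := by
    rw [← coe_mul_of_right_le_normalizer_left A B h]
    exact hg
  obtain ⟨r, hr, b, hb, rfl⟩ := Set.mem_mul.1 h1
  exact ⟨r, hr, b, hb, rfl⟩

/-- an element of odd order which centralises `[r, x]` centralises `r`. -/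
theorem comm_of_odd {x r : G} {n : ℕ} (hxn : x ^ n = 1) (hn : Odd n)
    {R : Subgroup G} (hR : IsPGroup 2 R) (hc : x * r * x⁻¹ * r⁻¹ ∈ R)
    (hcx : x * (x * r * x⁻¹ * r⁻¹) = (x * r * x⁻¹ * r⁻¹) * x) : x * r = r * x := by
  set c : G := x * r * x⁻¹ * r⁻¹ with hcdef
  have h1 : x * r * x⁻¹ = c * r := by rw [hcdef]; group
  have hcx' : ∀ k : ℕ, x * c ^ k = c ^ k * x := fun k =>
    ((show Commute x c from hcx).pow_right k).eq
  have key : ∀ k : ℕ, x ^ k * r * (x ^ k)⁻¹ = c ^ k * r := by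
    intro k
    induction k with
    | zero => simp
    | succ k ih =>
      have : x ^ (k + 1) * r * (x ^ (k + 1))⁻¹ = x * (x ^ k * r * (x ^ k)⁻¹) * x⁻¹ := by
        rw [pow_succ']; group
      rw [this, ih]
      calc x * (c ^ k * r) * x⁻¹ = (x * c ^ k) * r * x⁻¹ := by group
        _ = c ^ k * (x * r * x⁻¹) := by rw [hcx' k]; group
        _ = c ^ (k + 1) * r := by rw [h1, pow_succ]; group
  have h2 : c ^ n = 1 := by
    have := key n
    rw [hxn] at this
    simpa using this.symm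
  have h3 : orderOf c ∣ n := orderOf_dvd_of_pow_eq_one h2
  obtain ⟨k, hk⟩ := hR ⟨c, hc⟩
  have h4 : orderOf c ∣ 2 ^ k := by
    apply orderOf_dvd_of_pow_eq_one
    simpa using congrArg Subtype.val hk
  have h5 : Nat.Coprime (2 ^ k) n := Nat.Coprime.pow_left _ (Nat.coprime_two_left.2 hn)
  have h6 : orderOf c = 1 := Nat.eq_one_of_dvd_coprimes h5 h4 h3
  have h7 : c = 1 := orderOf_eq_one_iff.1 h6
  rw [h7, one_mul] at h1
  rw [mul_inv_eq_iff_eq_mul] at h1
  exact h1


/-- the subgroup of `B` commuting with all blocks `X i`. -/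
def bh {ι : Type*} (B : Subgroup G) (X : ι → Subgroup G) : Subgroup G :=
  B ⊓ ⨅ i, centralizer (X i : Set G)

theorem mem_bh {ι : Type*} {B : Subgroup G} {X : ι → Subgroup G} {b : G} :
    b ∈ bh B X ↔ b ∈ B ∧ ∀ i, ∀ x ∈ X i, x * b = b * x := by
  unfold bh
  rw [mem_inf, mem_iInf]
  simp only [mem_centralizer_iff, SetLike.mem_coe]

/-- Data of the killing lemma. -/
structure Data {ι : Type*} (B R : Subgroup G) (Q V X : ι → Subgroup G) : Prop where
  /-- `B` is a 2-group -/
  two : IsPGroup 2 B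
  /-- `B` normalises the `Q i` -/
  BQ : ∀ i, B ≤ normalizer (Q i : Set G)
  /-- the block acts on `Q i` -/
  XQ : ∀ i, X i ≤ normalizer (Q i : Set G)
  /-- `B` normalises `Bh` -/
  BBh : B ≤ normalizer (bh B X : Set G)
  /-- `R = O_2(N_G(Bh))` -/
  Rtwo : IsPGroup 2 R
  RBh : R ≤ normalizer (bh B X : Set G)
  norm : normalizer (bh B X : Set G) ≤ normalizer (R : Set G)
  BhR : bh B X ≤ R
  /-- characteristic 2 -/
  char2 : centralizer (R : Set G) ≤ R
  /-- the local structure of `N_G(Q i)` -/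
  loc : ∀ i, ∀ F : Subgroup G, IsPGroup 2 F → F ≤ normalizer (Q i : Set G) →
    X i ≤ normalizer (F : Set G) → B ≤ normalizer (F : Set G) →
    (∀ x ∈ X i, ∀ f ∈ F, x * f = f * x) ∨ V i ≤ F
  /-- `R` contains no `V i` -/
  kick : ∀ i, ¬ V i ≤ R
  /-- `B = J(P)` -/
  grow : ∀ P : Subgroup G, IsPGroup 2 P → B ≤ P → P ≤ normalizer (B : Set G) →
    (∀ i, P ≤ normalizer (Q i : Set G)) → normalizer (P : Set G) ≤ normalizer (B : Set G)
  /-- splitting of `B` over `Bh` -/
  tw : ∀ x ∈ normalizer (B : Set G), (∀ c ∈ bh B X, x * c = c * x) →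
    (∀ b ∈ B, x * b * x⁻¹ * b⁻¹ ∈ bh B X) → ∀ i, x ∈ normalizer (Q i : Set G)

/-- **THE KILLING LEMMA**: every block is generated by elements of odd order, hence trivial. -/
theorem Data.false [Finite G] {ι : Type*} {B R : Subgroup G} {Q V X : ι → Subgroup G}
    (D : Data B R Q V X) (i : ι) {x : G} (hx : x ∈ X i) {n : ℕ} (hxn : x ^ n = 1) (hn : Odd n)
    (hx1 : x ≠ 1) : False := by
  set Bh := bh B X with hBh
  have XBh : ∀ j, X j ≤ normalizer (Bh : Set G) := by
    intro j y hy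
    rw [mem_normalizer_iff]
    have hle : ∀ c ∈ Bh, y * c * y⁻¹ = c := by
      intro c hc
      have := (mem_bh.1 hc).2 j y hy
      rw [this]; group
    intro c
    refine ⟨fun hc => ?_, fun hc => ?_⟩
    · rw [hle c hc]; exact hc
    · have h1 := (mem_bh.1 hc).2 j y hy
      have h2 : y * c = c * y := by
        have : y * (y * c * y⁻¹) * y⁻¹ = y * c * y⁻¹ := by rw [h1]; group
        have h3 : y * c * y⁻¹ = c := by
          have h4 := congrArg (fun t => y⁻¹ * t * y) this
          simpa [mul_assoc] using h4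
        calc y * c = (y * c * y⁻¹) * y := by group
          _ = c * y := by rw [h3]
      have h3 : y * c * y⁻¹ = c := by rw [h2]; group
      rw [h3] at hc; exact hc
  -- conjugation lemmas
  have hXR : ∀ j, X j ≤ normalizer (R : Set G) := fun j => (XBh j).trans D.norm
  have hBR : B ≤ normalizer (R : Set G) := D.BBh.trans D.norm
  -- 1. `N_R(Q j)` is centralised by `X j`
  have step1 : ∀ j, ∀ y ∈ X j, ∀ f ∈ R ⊓ normalizer (Q j : Set G), y * f = f * y := by
    intro j
    have h := D.loc j (R ⊓ normalizer (Q j : Set G)) (D.Rtwo.to_le inf_le_left) inf_le_right ?_ ?_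
    · rcases h with h | h
      · exact h
      · exact absurd (h.trans inf_le_left) (D.kick j)
    · intro y hy
      exact norm_inf (hXR j hy) (norm_self (D.XQ j hy))
    · intro y hy
      exact norm_inf (hBR hy) (norm_self (D.BQ j hy))
  -- 2. `R ∩ B = Bh`
  have step2 : ∀ r ∈ R, r ∈ B → r ∈ Bh := by
    intro r hr hrB
    refine mem_bh.2 ⟨hrB, fun j y hy => ?_⟩
    exact step1 j y hy r ⟨hr, D.BQ j hrB⟩
  -- 3. `C_0 = C_R(Bh) ∩ N(B)` is centralised by the `X j`
  have step3n : ∀ r ∈ R, (∀ c ∈ Bh, r * c = c * r) → r ∈ normalizer (B : Set G) →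
      ∀ j, r ∈ normalizer (Q j : Set G) := by
    intro r hr hrc hrB
    refine D.tw r hrB hrc fun b hb => ?_
    refine step2 _ ?_ ?_
    · have h1 := (mem_normalizer_iff.1 (hBR hb)) r⁻¹
      have h2 : b * r⁻¹ * b⁻¹ ∈ R := h1.1 (inv_mem hr)
      have : r * b * r⁻¹ * b⁻¹ = r * (b * r⁻¹ * b⁻¹) := by group
      rw [this]; exact mul_mem hr h2
    · have h1 : r * b * r⁻¹ ∈ B := (mem_normalizer_iff.1 hrB b).1 hb
      exact mul_mem h1 (inv_mem hb)
  -- the subgroup `R_0`
  set R₀ : Subgroup G := R ⊓ centralizer (Bh : Set G) with hR₀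
  have memR₀ : ∀ r, r ∈ R₀ ↔ r ∈ R ∧ ∀ c ∈ Bh, r * c = c * r := by
    intro r
    rw [hR₀, mem_inf, mem_centralizer_iff]
    refine and_congr Iff.rfl ?_
    constructor
    · intro h c hc; exact (h c hc).symm
    · intro h c hc; exact (h c hc).symm
  have BR₀ : B ≤ normalizer (R₀ : Set G) := by
    intro b hb
    have h1 := hBR hb
    have h2 := D.BBh hb
    have key : ∀ r, r ∈ R₀ → b * r * b⁻¹ ∈ R₀ := by
      intro r hr
      obtain ⟨hr1, hr2⟩ := (memR₀ r).1 hr
      refine (memR₀ _).2 ⟨(mem_normalizer_iff.1 h1 r).1 hr1, fun c hc => ?_⟩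
      have h3 : b⁻¹ * c * b ∈ Bh := by
        have := (mem_normalizer_iff.1 h2 (b⁻¹ * c * b)).2
        apply this
        have e : b * (b⁻¹ * c * b) * b⁻¹ = c := by group
        rw [e]; exact hc
      have h4 := hr2 _ h3
      calc b * r * b⁻¹ * c = b * (r * (b⁻¹ * c * b)) * b⁻¹ := by group
        _ = b * ((b⁻¹ * c * b) * r) * b⁻¹ := by rw [h4]
        _ = c * (b * r * b⁻¹) := by group
    have key' : ∀ r, r ∈ R₀ → b⁻¹ * r * b ∈ R₀ := by
      intro r hr
      obtain ⟨hr1, hr2⟩ := (memR₀ r).1 hr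
      have hb' : b⁻¹ ∈ B := inv_mem hb
      have h1' := hBR hb'
      refine (memR₀ _).2 ⟨by simpa using (mem_normalizer_iff.1 h1' r).1 hr1, fun c hc => ?_⟩
      have h3 : b * c * b⁻¹ ∈ Bh := (mem_normalizer_iff.1 h2 c).1 hc
      have h4 := hr2 _ h3
      calc b⁻¹ * r * b * c = b⁻¹ * (r * (b * c * b⁻¹)) * b := by group
        _ = b⁻¹ * ((b * c * b⁻¹) * r) * b := by rw [h4]
        _ = c * (b⁻¹ * r * b) := by group
    rw [mem_normalizer_iff]
    intro r
    refine ⟨key r, fun h => ?_⟩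
    have := key' _ h
    simpa [mul_assoc] using this
  -- 4. `R_0` normalises `B`
  have step4 : R₀ ≤ normalizer (B : Set G) := by
    set C₀ : Subgroup G := R₀ ⊓ normalizer (B : Set G) with hC₀
    set P : Subgroup G := C₀ ⊔ B with hP
    have hBC₀ : B ≤ normalizer (C₀ : Set G) := by
      intro b hb
      exact norm_inf (BR₀ hb) (norm_self (le_normalizer hb))
    have hR₀two : IsPGroup 2 R₀ := D.Rtwo.to_le inf_le_left
    have hPtwo : IsPGroup 2 P := by
      rw [hP]
      exact IsPGroup.to_sup_of_normal_left' (hR₀two.to_le inf_le_left) D.two hBC₀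
    have hPB : P ≤ normalizer (B : Set G) := sup_le inf_le_right le_normalizer
    have hPQ : ∀ j, P ≤ normalizer (Q j : Set G) := by
      intro j
      refine sup_le ?_ (D.BQ j)
      intro r hr
      obtain ⟨hr1, hr2⟩ := mem_inf.1 hr
      obtain ⟨hr3, hr4⟩ := (memR₀ r).1 hr1
      exact step3n r hr3 hr4 hr2 j
    have hgrow := D.grow P hPtwo le_sup_right hPB hPQ
    set P₁ : Subgroup G := R₀ ⊔ B with hP₁
    have hP₁two : IsPGroup 2 P₁ := IsPGroup.to_sup_of_normal_left' hR₀two D.two BR₀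
    have hPP₁ : P ≤ P₁ := sup_le_sup_right inf_le_left B
    have hmem₁ : ∀ g ∈ P₁, ∃ r ∈ R₀, ∃ b ∈ B, g = r * b := by
      intro g hg
      exact mem_sup_norm BR₀ hg
    have hnorm : ∀ g ∈ P₁, g ∈ normalizer (P : Set G) → g ∈ P := by
      intro g hg hgN
      obtain ⟨r, hr, b, hb, rfl⟩ := hmem₁ g hg
      have hb' : b ∈ P := le_sup_right (a := C₀) hb
      have h1 : r ∈ normalizer (P : Set G) := by
        have := mul_mem hgN (inv_mem (le_normalizer hb'))
        simpa [mul_assoc] using this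
      have h2 : r ∈ C₀ := ⟨hr, hgrow h1⟩
      exact mul_mem (le_sup_left (b := B) h2) hb'
    have heq : P₁ ≤ P := by
      have : Group.IsNilpotent P₁ := hP₁two.isNilpotent
      have hnc := Group.normalizerCondition_of_isNilpotent (G := P₁)
      by_contra hne
      have hlt : P.subgroupOf P₁ < ⊤ := by
        rw [lt_top_iff_ne_top, Ne, subgroupOf_eq_top]
        exact hne
      have hlt2 := hnc _ hlt
      obtain ⟨g, hg1, hg2⟩ := SetLike.exists_of_lt hlt2
      apply hg2
      rw [mem_subgroupOf]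
      refine hnorm g g.2 ?_
      rw [mem_normalizer_iff] at hg1 ⊢
      intro y
      constructor
      · intro hy
        have := (hg1 ⟨y, hPP₁ hy⟩).1 (mem_subgroupOf.2 hy)
        simpa [mem_subgroupOf] using this
      · intro hy
        have hy1 : y ∈ P₁ := by
          have h3 := mul_mem (mul_mem (inv_mem g.2) (hPP₁ hy)) g.2
          simpa [mul_assoc] using h3
        have := (hg1 ⟨y, hy1⟩).2 (mem_subgroupOf.2 (by simpa using hy))
        simpa [mem_subgroupOf] using this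
    exact (le_sup_left.trans heq).trans hPB
  -- 5.
  have step5 : ∀ r ∈ R₀, ∀ j, ∀ y ∈ X j, y * r = r * y := by
    intro r hr j y hy
    obtain ⟨hr1, hr2⟩ := (memR₀ r).1 hr
    exact step1 j y hy r ⟨hr1, step3n r hr1 hr2 (step4 hr) j⟩
  -- 6. `x` centralises `R`
  have step6 : x ∈ centralizer (R : Set G) := by
    rw [mem_centralizer_iff]
    intro r hr
    have hxR := hXR i hx
    have hc : x * r * x⁻¹ * r⁻¹ ∈ R := mul_mem ((mem_normalizer_iff.1 hxR r).1 hr) (inv_mem hr)
    have hc0 : x * r * x⁻¹ * r⁻¹ ∈ R₀ := by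
      refine (memR₀ _).2 ⟨hc, fun c hcB => ?_⟩
      have hcx : x * c = c * x := (mem_bh.1 hcB).2 i x hx
      have hrN := D.RBh hr
      have h3 : r⁻¹ * c * r ∈ Bh := by
        have := (mem_normalizer_iff.1 hrN (r⁻¹ * c * r)).2
        apply this
        have e : r * (r⁻¹ * c * r) * r⁻¹ = c := by group
        rw [e]; exact hcB
      have h4 : x * (r⁻¹ * c * r) = (r⁻¹ * c * r) * x := (mem_bh.1 h3).2 i x hx
      have hcx' : x⁻¹ * c = c * x⁻¹ := by
        rw [inv_mul_eq_iff_eq_mul, ← mul_assoc, hcx, mul_assoc, mul_inv_cancel, mul_one]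
      calc x * r * x⁻¹ * r⁻¹ * c = x * r * x⁻¹ * (r⁻¹ * c * r) * r⁻¹ := by group
        _ = x * r * (x⁻¹ * ((r⁻¹ * c * r) * x)) * x⁻¹ * r⁻¹ := by group
        _ = x * r * (x⁻¹ * (x * (r⁻¹ * c * r))) * x⁻¹ * r⁻¹ := by rw [h4]
        _ = (x * c) * r * x⁻¹ * r⁻¹ := by group
        _ = c * (x * r * x⁻¹ * r⁻¹) := by rw [hcx]; group
    exact (comm_of_odd hxn hn D.Rtwo hc (step5 _ hc0 i x hx)).symm
  have hxR : x ∈ R := D.char2 step6
  obtain ⟨k, hk⟩ := D.Rtwo ⟨x, hxR⟩
  have h4 : orderOf x ∣ 2 ^ k := by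
    apply orderOf_dvd_of_pow_eq_one
    simpa using congrArg Subtype.val hk
  have h5 : Nat.Coprime (2 ^ k) n := Nat.Coprime.pow_left _ (Nat.coprime_two_left.2 hn)
  exact hx1 (orderOf_eq_one_iff.1 (Nat.eq_one_of_dvd_coprimes h5 h4 (orderOf_dvd_of_pow_eq_one hxn)))

end Cfsg.Agent.Omega.SQ1.Kill
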