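/-
OMEGA, node SQ1, piece SQ1.6 (helper132): the killing lemma for blocks with tori.

`Side` = the blocks `X i` on `Q` over `B`; `Match` = the two sides `(Q, X i)`, `(Q', X' i)`.
THEOREM `Match.kill`: `i ≠ j` is impossible in a group of characteristic 2 type
(so there is only one block, `k = 1`), for all `q ≥ 4`.
-/
import Cfsg.Agent.Omega.SQ1.Kill

namespace Cfsg.Agent.Omega.SQ1.Kill

open Subgroup

variable {G : Type*} [Group G] {ι : Type*}

theorem mem_sup_norm' {A B : Subgroup G} (h : A ≤ normalizer (B : Set G)) {g : G}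
    (hg : g ∈ A ⊔ B) : ∃ r ∈ A, ∃ b ∈ B, g = r * b := by
  rw [sup_comm] at hg
  obtain ⟨b, hb, r, hr, rfl⟩ := mem_sup_norm h hg
  exact ⟨r, hr, r⁻¹ * b * r, norm_conj' (h hr) hb, by group⟩

theorem eq_one_of_pgroups {P B : Subgroup G} {p : ℕ} [hp : Fact p.Prime] (hp2 : p ≠ 2)
    (hP : IsPGroup p P) (hB : IsPGroup 2 B) {x : G} (h1 : x ∈ P) (h2 : x ∈ B) : x = 1 := by
  obtain ⟨m, hm⟩ := hP ⟨x, h1⟩
  obtain ⟨l, hl⟩ := hB ⟨x, h2⟩
  have h3 : orderOf x ∣ p ^ m := orderOf_dvd_of_pow_eq_one (by simpa using congrArg Subtype.val hm)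
  have h4 : orderOf x ∣ 2 ^ l := orderOf_dvd_of_pow_eq_one (by simpa using congrArg Subtype.val hl)
  have h5 : Nat.Coprime (p ^ m) (2 ^ l) :=
    Nat.Coprime.pow _ _ ((Nat.coprime_primes hp.out Nat.prime_two).2 hp2)
  exact orderOf_eq_one_iff.1 (Nat.eq_one_of_dvd_coprimes h5 h3 h4)

/-- (b) -/
theorem conj_comm [Finite G] {B : Subgroup G} {p : ℕ} [hp : Fact p.Prime] (hp2 : p ≠ 2)
    (hB : IsPGroup 2 B) {a a' : G} (ha : a ∈ normalizer (B : Set G))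
    (ha' : a' ∈ normalizer (B : Set G)) (hap : a ^ p = 1) (hap' : a' ^ p = 1)
    (hc : a * a' * a⁻¹ * a'⁻¹ ∈ B) : ∃ b ∈ B, (b * a * b⁻¹) * a' = a' * (b * a * b⁻¹) := by
  set E : Subgroup G := B ⊔ (zpowers a ⊔ zpowers a') with hE
  have hBE : B ≤ E := le_sup_left
  have haE : a ∈ E := (le_sup_left.trans le_sup_right : zpowers a ≤ E) (mem_zpowers a)
  have haE' : a' ∈ E := (le_sup_right.trans le_sup_right : zpowers a' ≤ E) (mem_zpowers a')
  -- the p-subgroups of `E`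
  have hpz : ∀ x : E, x ^ p = 1 → IsPGroup p (zpowers x) := by
    intro x hx
    have : orderOf x ∣ p := orderOf_dvd_of_pow_eq_one hx
    rcases (Nat.dvd_prime hp.out).1 this with h | h
    · rw [orderOf_eq_one_iff.1 h, zpowers_one_eq_bot]; exact IsPGroup.of_bot
    · exact IsPGroup.of_card (n := 1) (by rw [Nat.card_zpowers, h, pow_one])
  obtain ⟨P, hP⟩ := (hpz ⟨a', haE'⟩ (Subtype.ext hap')).exists_le_sylow
  obtain ⟨P₂, hP₂⟩ := (hpz ⟨a, haE⟩ (Subtype.ext hap)).exists_le_sylow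
  obtain ⟨g, hg⟩ := MulAction.exists_smul_eq E P₂ P
  -- `g a g⁻¹ ∈ P`
  have hga : g * ⟨a, haE⟩ * g⁻¹ ∈ P := by
    rw [← hg]
    have h1 : (⟨a, haE⟩ : E) ∈ P₂ := hP₂ (mem_zpowers _)
    exact smul_mem_pointwise_smul _ (MulAut.conj g) (P₂ : Subgroup E) h1
  set F : Subgroup G := (P : Subgroup E).map E.subtype with hF
  have hFp : IsPGroup p F := P.2.map _
  have ha'F : a' ∈ F := ⟨⟨a', haE'⟩, hP (mem_zpowers _), rfl⟩
  have hgaF : (g : G) * a * (g : G)⁻¹ ∈ F := ⟨g * ⟨a, haE⟩ * g⁻¹, hga, by simp⟩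
  have hEB : E ≤ normalizer (B : Set G) :=
    sup_le le_normalizer (sup_le (zpowers_le.2 ha) (zpowers_le.2 ha'))
  -- `[E, a] ≤ B`
  have hEa : ∀ x ∈ E, x * a * x⁻¹ * a⁻¹ ∈ B := by
    let L : Subgroup G :=
      { carrier := {x | x ∈ normalizer (B : Set G) ∧ x * a * x⁻¹ * a⁻¹ ∈ B}
        one_mem' := ⟨one_mem _, by simp⟩
        mul_mem' := by
          rintro x y ⟨hx, hx1⟩ ⟨hy, hy1⟩
          refine ⟨mul_mem hx hy, ?_⟩
          have : x * y * a * (x * y)⁻¹ * a⁻¹ =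
            (x * (y * a * y⁻¹ * a⁻¹) * x⁻¹) * (x * a * x⁻¹ * a⁻¹) := by group
          rw [this]; exact mul_mem (norm_conj hx hy1) hx1
        inv_mem' := by
          rintro x ⟨hx, hx1⟩
          refine ⟨inv_mem hx, ?_⟩
          have : x⁻¹ * a * x⁻¹⁻¹ * a⁻¹ = x⁻¹ * (x * a * x⁻¹ * a⁻¹)⁻¹ * x := by group
          rw [this]; exact norm_conj' hx (inv_mem hx1) }
    have : E ≤ L := by
      refine sup_le (fun b hb => ⟨le_normalizer hb, ?_⟩) (sup_le (zpowers_le.2 ⟨ha, by simp⟩)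
        (zpowers_le.2 ⟨ha', ?_⟩))
      · have e : b * a * b⁻¹ * a⁻¹ = b * (a * b⁻¹ * a⁻¹) := by group
        rw [e]; exact mul_mem hb (norm_conj ha (inv_mem hb))
      · have e : a' * a * a'⁻¹ * a⁻¹ = (a * a' * a⁻¹ * a'⁻¹)⁻¹ := by group
        rw [e]; exact inv_mem hc
    exact fun x hx => (this hx).2
  have hEF : E ≤ F ⊔ B := by
    refine sup_le le_sup_right (sup_le (zpowers_le.2 ?_) (zpowers_le.2 (le_sup_left (b := B) ha'F)))
    have h1 := hEa g g.2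
    have e : a = ((g : G) * a * (g : G)⁻¹ * a⁻¹)⁻¹ * ((g : G) * a * (g : G)⁻¹) := by group
    rw [e]
    exact mul_mem (le_sup_right (a := F) (inv_mem h1)) (le_sup_left (b := B) hgaF)
  have hFE : F ≤ E := by rintro _ ⟨y, -, rfl⟩; exact y.2
  obtain ⟨f, hf, b, hb, hgfb⟩ := mem_sup_norm' (hFE.trans hEB) (hEF g.2)
  refine ⟨b, hb, ?_⟩
  have h1 : b * a * b⁻¹ ∈ F := by
    have e : b * a * b⁻¹ = f⁻¹ * ((g : G) * a * (g : G)⁻¹) * f := by rw [hgfb]; group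
    rw [e]; exact mul_mem (mul_mem (inv_mem hf) hgaF) hf
  have h2 : b * a * b⁻¹ * a' * (b * a * b⁻¹)⁻¹ * a'⁻¹ ∈ F :=
    mul_mem (mul_mem (mul_mem h1 ha'F) (inv_mem h1)) (inv_mem ha'F)
  have h3 : b * a * b⁻¹ * a' * (b * a * b⁻¹)⁻¹ * a'⁻¹ ∈ B := by
    have e : b * a * b⁻¹ * a' * (b * a * b⁻¹)⁻¹ * a'⁻¹ =
      b * (a * (b⁻¹ * (a' * b * a'⁻¹)) * a⁻¹) * (a * a' * a⁻¹ * a'⁻¹) * (a' * b⁻¹ * a'⁻¹) := by
      group
    rw [e]
    refine mul_mem (mul_mem (mul_mem hb ?_) hc) (norm_conj ha' (inv_mem hb))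
    exact norm_conj ha (mul_mem (inv_mem hb) (norm_conj ha' hb))
  have h4 := eq_one_of_pgroups hp2 hFp hB h2 h3
  rw [mul_inv_eq_one, mul_inv_eq_iff_eq_mul] at h4
  exact h4

theorem oddX {R : Subgroup G} {X₀ : Subgroup G}
    (hodd : X₀ ≤ closure {x | x ∈ X₀ ∧ ∃ m, Odd m ∧ x ^ m = 1})
    (h : ∀ x ∈ X₀, ∀ m, Odd m → x ^ m = 1 → ∀ r ∈ R, x * r = r * x) :
    ∀ x ∈ X₀, ∀ r ∈ R, x * r = r * x := by
  have : X₀ ≤ centralizer (R : Set G) := by
    refine hodd.trans ((closure_le _).2 ?_)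
    rintro x ⟨hx, m, hm, hxm⟩
    rw [SetLike.mem_coe, mem_centralizer_iff]
    exact fun r hr => (h x hx m hm hxm r hr).symm
  intro x hx r hr
  exact (mem_centralizer_iff.1 (this hx) r hr).symm

/-- One side: the blocks `X i` on `Q` over `B`; `Q'` is the opposite group. -/
structure Side (B Q Q' D : Subgroup G) (p : ℕ) (X V C : ι → Subgroup G) (k n : ι → G) : Prop where
  QB : Q ≤ B
  Qc : ∀ a ∈ Q, ∀ b ∈ Q, a * b = b * a
  Qsq : ∀ a ∈ Q, a * a = 1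
  BQ : B ≤ normalizer (Q : Set G)
  XQ : ∀ i, X i ≤ normalizer (Q : Set G)
  BX : ∀ i, B ≤ normalizer (X i : Set G)
  VX : ∀ i, V i ≤ X i
  VQ : ∀ i, V i ≤ Q
  BV : ∀ i, B ≤ normalizer (V i : Set G)
  QXV : ∀ i, ∀ x ∈ X i, ∀ a ∈ Q, x * a * x⁻¹ * a⁻¹ ∈ V i
  act : ∀ i j, i ≠ j → ∀ x ∈ X i, ∀ v ∈ V j, x * v = v * x
  CV : ∀ i, C i ≤ V i
  CX : ∀ i, ∀ x ∈ X i, ∀ c ∈ C i, x * c = c * x
  irr : ∀ i, ∀ W : Subgroup G, W ≤ V i → X i ≤ normalizer (W : Set G) → W ≤ C i ∨ V i ≤ W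
  /-- `X i` is generated by elements of odd order -/
  odd : ∀ i, X i ≤ closure {x | x ∈ X i ∧ ∃ m, Odd m ∧ x ^ m = 1}
  /-- `X i` is generated modulo nothing by the conjugates of `B` under `X i` -/
  gen : ∀ i, ∀ L : Subgroup G, (∀ x ∈ X i, ∀ b ∈ B, x * b * x⁻¹ ∈ L) → X i ≤ L
  syl : ∀ i, ∀ P : Subgroup G, IsPGroup 2 P → B ≤ P → P ≤ X i ⊔ B → P ≤ B
  core1 : ∀ i, ∀ f : G, (∀ x ∈ X i, x * f * x⁻¹ ∈ B) → ∀ v ∈ V i, v * f * v⁻¹ * f⁻¹ ∈ C i
  core2 : ∀ i, ∀ f ∈ B, (∀ v ∈ V i, v * f * v⁻¹ * f⁻¹ ∈ C i) → ∀ x ∈ X i, x * f * x⁻¹ * f⁻¹ ∈ V i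
  /-- `B = J(P)` -/
  grow : ∀ P : Subgroup G, IsPGroup 2 P → B ≤ P → P ≤ normalizer (Q : Set G) →
    normalizer (P : Set G) ≤ normalizer (B : Set G)
  /-- the tori -/
  kX : ∀ i, k i ∈ X i
  kB : ∀ i, k i ∈ normalizer (B : Set G)
  kp : ∀ i, k i ^ p = 1
  ck : ∀ i, ∀ v ∈ V i, k i * v = v * k i → v ∈ C i
  fpf : ∀ i, ∀ y ∈ Q', (∀ v ∈ V i, (k i * y * (k i)⁻¹ * y⁻¹) * v = v * (k i * y * (k i)⁻¹ * y⁻¹)) →
    ∀ v ∈ V i, y * v = v * y
  vk : ∀ i, ∃ v ∈ V i, k i * v * (k i)⁻¹ * v⁻¹ ∉ D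
  nX : ∀ i, n i ∈ X i
  nk : ∀ i, n i * k i * (n i)⁻¹ = (k i)⁻¹
  ngen : ∀ i, ∀ L : Subgroup G, (∀ b ∈ B, b ∈ X i → b ∈ L) → k i ∈ L → n i ∈ L → X i ≤ L
  BXQ : ∀ i, ∀ b ∈ B, b ∈ X i → ∃ v ∈ V i, ∃ y ∈ Q', y ∈ X i ∧ b = v * y

/-- The two sides. -/
structure Match (B Q Q' D : Subgroup G) (p : ℕ) (X V C : ι → Subgroup G) (k n : ι → G)
    (X' V' C' : ι → Subgroup G) (k' n' : ι → G) : Prop where
  S : Side B Q Q' D p X V C k n
  S' : Side B Q' Q D p X' V' C' k' n'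
  two : IsPGroup 2 B
  BQQ : ∀ b ∈ B, ∃ u ∈ Q, ∃ w ∈ Q', b = u * w
  memD : ∀ d, d ∈ D ↔ d ∈ Q ∧ d ∈ Q'
  cross : ∀ i j, i ≠ j → ∀ v ∈ V i, ∀ w ∈ V' j, v * w = w * v
  nondeg : ∀ i, ∀ v ∈ V i, ∀ w ∈ V' i, v * w = w * v → v ∈ D ∨ w ∈ D
  /-- `Q = V_i C_Q(V'_i)` -/
  dec : ∀ i, ∀ u ∈ Q, ∃ v ∈ V i, ∃ r ∈ Q, u = v * r ∧ ∀ w ∈ V' i, r * w = w * r
  dec' : ∀ i, ∀ u ∈ Q', ∃ v ∈ V' i, ∃ r ∈ Q', u = v * r ∧ ∀ w ∈ V i, r * w = w * r
  cen : ∀ r ∈ Q, (∀ i, ∀ w ∈ V' i, r * w = w * r) → r ∈ D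
  cen' : ∀ r ∈ Q', (∀ i, ∀ w ∈ V i, r * w = w * r) → r ∈ D
  /-- `[V_i, V'_i]` is neither in `C_i` nor in `C'_i` -/
  nc : ∀ i, ∃ v ∈ V i, ∃ w ∈ V' i, v * w * v⁻¹ * w⁻¹ ∉ C i
  nc' : ∀ i, ∃ v ∈ V i, ∃ w ∈ V' i, v * w * v⁻¹ * w⁻¹ ∉ C' i
  /-- (P6) -/
  six : ∀ x ∈ normalizer (B : Set G), x ∈ normalizer (Q : Set G) ↔ x ∈ normalizer (Q' : Set G)
  /-- (P7) -/
  seven : ∀ x ∈ normalizer (B : Set G), x ∈ normalizer (Q : Set G) →
    (∀ b ∈ B, x * b * x⁻¹ * b⁻¹ ∈ D) → (∀ d ∈ D, x * d = d * x) → x ∈ B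
  /-- (P9) -/
  nine : ∀ i, ∀ d ∈ D, k i * d * (k i)⁻¹ * d⁻¹ ∈ V i ⊓ V' i
  nine' : ∀ i, ∀ d ∈ D, k' i * d * (k' i)⁻¹ * d⁻¹ ∈ V i ⊓ V' i

section

variable {B Q Q' D : Subgroup G} {p : ℕ} {X V C : ι → Subgroup G} {k n : ι → G}
  {X' V' C' : ι → Subgroup G} {k' n' : ι → G}

theorem Match.symm (M : Match B Q Q' D p X V C k n X' V' C' k' n') :
    Match B Q' Q D p X' V' C' k' n' X V C k n where
  S := M.S'
  S' := M.S
  two := M.two
  BQQ := by
    intro b hb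
    obtain ⟨u, hu, w, hw, rfl⟩ := M.BQQ b hb
    refine ⟨w, hw, w⁻¹ * u * w, norm_conj' (M.S.BQ (M.S'.QB hw)) hu, by group⟩
  memD := fun d => (M.memD d).trans and_comm
  cross := fun i j hij v hv w hw => (M.cross j i hij.symm w hw v hv).symm
  nondeg := fun i v hv w hw h => (M.nondeg i w hw v hv h.symm).symm
  dec := M.dec'
  dec' := M.dec
  cen := M.cen'
  cen' := M.cen
  nc := by
    intro i
    obtain ⟨v, hv, w, hw, h⟩ := M.nc' i
    refine ⟨w, hw, v, hv, fun h2 => h ?_⟩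
    have := inv_mem h2
    have e : (w * v * w⁻¹ * v⁻¹)⁻¹ = v * w * v⁻¹ * w⁻¹ := by group
    rwa [e] at this
  nc' := by
    intro i
    obtain ⟨v, hv, w, hw, h⟩ := M.nc i
    refine ⟨w, hw, v, hv, fun h2 => h ?_⟩
    have := inv_mem h2
    have e : (w * v * w⁻¹ * v⁻¹)⁻¹ = v * w * v⁻¹ * w⁻¹ := by group
    rwa [e] at this
  six := fun x hx => (M.six x hx).symm
  seven := fun x hx hxQ h1 h2 => M.seven x hx ((M.six x hx).2 hxQ) h1 h2
  nine := fun i d hd => (M.nine' i d hd).symm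
  nine' := fun i d hd => (M.nine i d hd).symm

variable (M : Match B Q Q' D p X V C k n X' V' C' k' n')
include M

theorem Match.D_comm {d b : G} (hd : d ∈ D) (hb : b ∈ B) : d * b = b * d := by
  obtain ⟨h1, h2⟩ := (M.memD d).1 hd
  obtain ⟨u, hu, w, hw, rfl⟩ := M.BQQ b hb
  calc d * (u * w) = (d * u) * w := by group
    _ = u * (d * w) := by rw [M.S.Qc d h1 u hu]; group
    _ = u * w * d := by rw [M.S'.Qc d h2 w hw]; group

theorem Match.kQ (i : ι) : k i ∈ normalizer (Q : Set G) := M.S.XQ i (M.S.kX i)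

theorem Match.kQ' (i : ι) : k i ∈ normalizer (Q' : Set G) := (M.six _ (M.S.kB i)).1 (M.kQ i)

theorem Match.D_norm {x : G} (h1 : x ∈ normalizer (Q : Set G)) (h2 : x ∈ normalizer (Q' : Set G)) :
    x ∈ normalizer (D : Set G) := by
  have : D = Q ⊓ Q' := by ext d; rw [M.memD, mem_inf]
  rw [this]; exact norm_inf h1 h2

theorem Match.kD (i : ι) : k i ∈ normalizer (D : Set G) := M.D_norm (M.kQ i) (M.kQ' i)

/-- an element of `Q` which commutes with one element of `V'_j ∖ D` for all `j ≠ i` -/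
theorem Match.mem_VD {i : ι} {u : G} (hu : u ∈ Q)
    (h : ∀ j, j ≠ i → ∃ y ∈ V' j, y ∉ D ∧ u * y = y * u) : ∃ v ∈ V i, ∃ d ∈ D, u = v * d := by
  have h1 : ∀ j, j ≠ i → ∀ w ∈ V' j, u * w = w * u := by
    intro j hj w hw
    obtain ⟨y, hy, hyD, huy⟩ := h j hj
    obtain ⟨v, hv, r, hr, rfl, hrw⟩ := M.dec j u hu
    have h2 : v * y = y * v := by
      have h3 := hrw y hy
      have : v * (r * y) = y * (v * r) := by rw [← huy]; group
      rw [h3] at this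
      have h4 : (v * y) * r = (y * v) * r := by
        calc (v * y) * r = v * (y * r) := by group
          _ = y * (v * r) := this
          _ = (y * v) * r := by group
      exact mul_right_cancel h4
    rcases M.nondeg j v hv y hy h2 with h3 | h3
    · have h5 := M.D_comm h3 (M.S'.QB (M.S'.VQ j hw))
      calc v * r * w = v * (r * w) := by group
        _ = (v * w) * r := by rw [hrw w hw]; group
        _ = w * (v * r) := by rw [h5]; group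
    · exact absurd h3 hyD
  obtain ⟨v, hv, r, hr, rfl, hrw⟩ := M.dec i u hu
  refine ⟨v, hv, r, M.cen r hr fun j w hw => ?_, rfl⟩
  by_cases hj : j = i
  · subst hj; exact hrw w hw
  · have h2 := h1 j hj w hw
    have h3 := M.cross i j (Ne.symm hj) v hv w hw
    have h4 : v * (r * w) = v * (w * r) := by
      calc v * (r * w) = v * r * w := by group
        _ = w * (v * r) := h2
        _ = (w * v) * r := by group
        _ = v * (w * r) := by rw [← h3]; group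
    exact mul_left_cancel h4

/-- elements of `X i ∩ Q` commute with `V' j`, `j ≠ i`. -/
theorem Match.XQ_VD {i : ι} {u : G} (hu : u ∈ Q) (hu' : u ∈ X' i)
    (hnd : ∀ j, ∃ y ∈ V' j, y ∉ D) : ∃ v ∈ V i, ∃ d ∈ D, u = v * d := by
  refine M.mem_VD hu fun j hj => ?_
  obtain ⟨y, hy, hyD⟩ := hnd j
  exact ⟨y, hy, hyD, M.S'.act i j (Ne.symm hj) u hu' y hy⟩

theorem Match.exists_not (j : ι) : ∃ y ∈ V' j, y ∉ D := by
  obtain ⟨v, hv, w, hw, h⟩ := M.nc j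
  refine ⟨w, hw, fun hD => h ?_⟩
  have := M.D_comm hD (M.S.QB (M.S.VQ j hv))
  have e : v * w * v⁻¹ * w⁻¹ = 1 := by rw [← this]; group
  rw [e]; exact one_mem _

/-- (A3): `[k i, y] ∈ D` for `y ∈ C_{Q'}(V i)`. -/
theorem Match.comm_D {i : ι} {y : G} (hy : y ∈ Q') (hyV : ∀ v ∈ V i, y * v = v * y) :
    k i * y * (k i)⁻¹ * y⁻¹ ∈ D := by
  have h1 : k i * y * (k i)⁻¹ * y⁻¹ ∈ Q' := mul_mem (norm_conj (M.kQ' i) hy) (inv_mem hy)
  have h2 : k i * y * (k i)⁻¹ * y⁻¹ ∈ X i := by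
    have : k i * y * (k i)⁻¹ * y⁻¹ = k i * (y * (k i)⁻¹ * y⁻¹) := by group
    rw [this]
    exact mul_mem (M.S.kX i) (norm_conj (M.S.BX i (M.S'.QB hy)) (inv_mem (M.S.kX i)))
  refine M.cen' _ h1 fun j w hw => ?_
  by_cases hj : j = i
  · subst hj
    -- `k y k⁻¹` commutes with `V j`
    have h3 : (k j)⁻¹ * w * k j ∈ V j := by
      have h4 := M.S.QXV j (k j)⁻¹ (inv_mem (M.S.kX j)) w (M.S.VQ j hw)
      have h5 : (k j)⁻¹ * w * k j = ((k j)⁻¹ * w * ((k j)⁻¹)⁻¹ * w⁻¹) * w := by group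
      rw [h5]; exact mul_mem h4 hw
    have h6 := hyV _ h3
    have h7 := hyV w hw
    have h7' : y⁻¹ * w = w * y⁻¹ := by
      rw [inv_mul_eq_iff_eq_mul, ← mul_assoc, h7, mul_assoc, mul_inv_cancel, mul_one]
    calc k j * y * (k j)⁻¹ * y⁻¹ * w = k j * y * (k j)⁻¹ * (y⁻¹ * w) := by group
      _ = k j * (y * ((k j)⁻¹ * w * k j)) * (k j)⁻¹ * y⁻¹ := by rw [h7']; group
      _ = w * (k j * y * (k j)⁻¹ * y⁻¹) := by rw [h6]; group
  · exact M.S.act i j (Ne.symm hj) _ h2 w hw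

/-- `k i k' j` and `k' j k i` agree on `Q` modulo `D`. -/
theorem Match.agreeQ {i j : ι} (hij : i ≠ j) {u : G} (hu : u ∈ Q) :
    ∃ d ∈ D, (k i * k' j) * u * (k i * k' j)⁻¹ = d * ((k' j * k i) * u * (k' j * k i)⁻¹) := by
  have hk'Q : k' j ∈ normalizer (Q : Set G) := M.symm.kQ' j
  have h1 : k' j * u * (k' j)⁻¹ * u⁻¹ ∈ Q := mul_mem (norm_conj hk'Q hu) (inv_mem hu)
  have h2 : k' j * u * (k' j)⁻¹ * u⁻¹ ∈ X' j := by
    have : k' j * u * (k' j)⁻¹ * u⁻¹ = k' j * (u * (k' j)⁻¹ * u⁻¹) := by group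
    rw [this]
    exact mul_mem (M.S'.kX j) (norm_conj (M.S'.BX j (M.S.QB hu)) (inv_mem (M.S'.kX j)))
  obtain ⟨g, hg, d, hd, hf⟩ := M.XQ_VD h1 h2 M.exists_not
  have e1 : k' j * u * (k' j)⁻¹ = g * d * u := by rw [← hf]; group
  have he : k i * u * (k i)⁻¹ * u⁻¹ ∈ V i := M.S.QXV i _ (M.S.kX i) u hu
  set e := k i * u * (k i)⁻¹ * u⁻¹ with hedef
  have e2 : k i * u * (k i)⁻¹ = e * u := by rw [hedef]; group
  have heQ : e ∈ Q := M.S.VQ i he
  have hgQ : g ∈ Q := M.S.VQ j hg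
  have h3 : k' j * e * (k' j)⁻¹ * e⁻¹ ∈ D :=
    M.symm.comm_D heQ fun w hw => M.cross i j hij e he w hw
  set d₁ := k' j * e * (k' j)⁻¹ * e⁻¹ with hd₁
  have e3 : k' j * e * (k' j)⁻¹ = d₁ * e := by rw [hd₁]; group
  set δ := k i * d * (k i)⁻¹ with hδ
  have hδD : δ ∈ D := norm_conj (M.kD i) hd
  have hag : k i * g = g * k i := M.S.act i j hij _ (M.S.kX i) g hg
  have hag' : k i * g * (k i)⁻¹ = g := by rw [hag]; group
  refine ⟨δ * d⁻¹ * d₁⁻¹, mul_mem (mul_mem hδD (inv_mem hd)) (inv_mem h3), ?_⟩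
  have l1 : (k i * k' j) * u * (k i * k' j)⁻¹ = g * δ * (e * u) := by
    calc (k i * k' j) * u * (k i * k' j)⁻¹ = k i * (k' j * u * (k' j)⁻¹) * (k i)⁻¹ := by group
      _ = (k i * g * (k i)⁻¹) * (k i * d * (k i)⁻¹) * (k i * u * (k i)⁻¹) := by rw [e1]; group
      _ = g * δ * (e * u) := by rw [hag', e2]
  have l2 : (k' j * k i) * u * (k' j * k i)⁻¹ = d₁ * e * (g * d * u) := by
    calc (k' j * k i) * u * (k' j * k i)⁻¹ = k' j * (k i * u * (k i)⁻¹) * (k' j)⁻¹ := by group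
      _ = (k' j * e * (k' j)⁻¹) * (k' j * u * (k' j)⁻¹) := by rw [e2]; group
      _ = d₁ * e * (g * d * u) := by rw [e3, e1]
  rw [l1, l2]
  have c1 : g * e = e * g := M.S.Qc g hgQ e heQ
  have c2 : δ * g = g * δ := M.D_comm hδD (M.S.QB hgQ)
  have c3 : d * (e * g) = (e * g) * d := M.D_comm hd (M.S.QB (mul_mem heQ hgQ))
  calc g * δ * (e * u) = (g * δ) * e * u := by group
    _ = δ * (g * e) * u := by rw [← c2]; group
    _ = δ * d⁻¹ * (d * (e * g)) * u := by rw [c1]; group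
    _ = δ * d⁻¹ * d₁⁻¹ * (d₁ * e * (g * d * u)) := by rw [c3]; group

/-- `k i k' j` and `k' j k i` agree on `D`. -/
theorem Match.agreeD {i j : ι} (hij : i ≠ j) {u : G} (hu : u ∈ D) :
    (k i * k' j) * u * (k i * k' j)⁻¹ = (k' j * k i) * u * (k' j * k i)⁻¹ := by
  obtain ⟨he, he'⟩ := M.nine i u hu
  obtain ⟨hf, hf'⟩ := M.nine' j u hu
  set e := k i * u * (k i)⁻¹ * u⁻¹ with hedef
  set f := k' j * u * (k' j)⁻¹ * u⁻¹ with hfdef
  have e1 : k i * u * (k i)⁻¹ = e * u := by rw [hedef]; group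
  have e2 : k' j * u * (k' j)⁻¹ = f * u := by rw [hfdef]; group
  have h1 : k i * f = f * k i := M.S.act i j hij _ (M.S.kX i) f hf
  have h2 : k' j * e = e * k' j := M.S'.act j i hij.symm _ (M.S'.kX j) e he'
  have h3 : e * f = f * e := M.S.Qc e (M.S.VQ i he) f (M.S.VQ j hf)
  calc (k i * k' j) * u * (k i * k' j)⁻¹ = k i * (k' j * u * (k' j)⁻¹) * (k i)⁻¹ := by group
    _ = (k i * f) * u * (k i)⁻¹ := by rw [e2]; group
    _ = f * (k i * u * (k i)⁻¹) := by rw [h1]; group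
    _ = (e * f) * u := by rw [e1, h3]; group
    _ = e * (k' j * u * (k' j)⁻¹) := by rw [e2]; group
    _ = (k' j * e) * u * (k' j)⁻¹ := by rw [h2]; group
    _ = k' j * (k i * u * (k i)⁻¹) * (k' j)⁻¹ := by rw [e1]; group
    _ = (k' j * k i) * u * (k' j * k i)⁻¹ := by group

/-- (a): `[k i, k' j] ∈ B`. -/
theorem Match.comm_B {i j : ι} (hij : i ≠ j) : k i * k' j * (k i)⁻¹ * (k' j)⁻¹ ∈ B := by
  have hkB := M.S.kB i
  have hkB' := M.S'.kB j
  have hkQ := M.kQ i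
  have hkQ' := M.symm.kQ' j
  have hkP := M.kQ' i
  have hkP' := M.symm.kQ j
  set c := k i * k' j * (k i)⁻¹ * (k' j)⁻¹ with hc
  have hcB : c ∈ normalizer (B : Set G) :=
    mul_mem (mul_mem (mul_mem hkB hkB') (inv_mem hkB)) (inv_mem hkB')
  have hcQ : c ∈ normalizer (Q : Set G) :=
    mul_mem (mul_mem (mul_mem hkQ hkQ') (inv_mem hkQ)) (inv_mem hkQ')
  -- on `Q`
  have hQ : ∀ w ∈ Q, c * w * c⁻¹ * w⁻¹ ∈ D := by
    intro w hw
    have hu : (k' j * k i)⁻¹ * w * (k' j * k i) ∈ Q := norm_conj' (mul_mem hkQ' hkQ) hw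
    obtain ⟨d, hd, h⟩ := M.agreeQ hij hu
    have e1 : (k' j * k i) * ((k' j * k i)⁻¹ * w * (k' j * k i)) * (k' j * k i)⁻¹ = w := by group
    have e2 : (k i * k' j) * ((k' j * k i)⁻¹ * w * (k' j * k i)) * (k i * k' j)⁻¹ = c * w * c⁻¹ := by
      rw [hc]; group
    rw [e1, e2] at h
    rw [h]; simpa using hd
  have hQ' : ∀ w ∈ Q', c * w * c⁻¹ * w⁻¹ ∈ D := by
    intro w hw
    have hu : (k' j * k i)⁻¹ * w * (k' j * k i) ∈ Q' := norm_conj' (mul_mem hkP' hkP) hw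
    obtain ⟨d, hd, h⟩ := M.symm.agreeQ hij.symm hu
    have e1 : (k' j * k i) * ((k' j * k i)⁻¹ * w * (k' j * k i)) * (k' j * k i)⁻¹ = w := by group
    have e2 : (k i * k' j) * ((k' j * k i)⁻¹ * w * (k' j * k i)) * (k i * k' j)⁻¹ = c * w * c⁻¹ := by
      rw [hc]; group
    rw [e1, e2] at h
    have h' : c * w * c⁻¹ = d⁻¹ * w := by rw [eq_inv_mul_iff_mul_eq]; exact h.symm
    rw [h', mul_inv_cancel_right]; exact inv_mem hd
  have hD : ∀ d ∈ D, c * d = d * c := by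
    intro w hw
    have hu : (k' j * k i)⁻¹ * w * (k' j * k i) ∈ D :=
      norm_conj' (mul_mem (M.symm.kD j) (M.kD i)) hw
    have h := M.agreeD hij hu
    have e1 : (k' j * k i) * ((k' j * k i)⁻¹ * w * (k' j * k i)) * (k' j * k i)⁻¹ = w := by group
    have e2 : (k i * k' j) * ((k' j * k i)⁻¹ * w * (k' j * k i)) * (k i * k' j)⁻¹ = c * w * c⁻¹ := by
      rw [hc]; group
    rw [e1, e2] at h
    rw [mul_inv_eq_iff_eq_mul] at h
    exact h
  refine M.seven c hcB hcQ (fun b hb => ?_) hD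
  obtain ⟨u, hu, w, hw, rfl⟩ := M.BQQ b hb
  have h1 := hQ u hu
  have h2 := hQ' w hw
  set d1 := c * u * c⁻¹ * u⁻¹ with hd1
  set d2 := c * w * c⁻¹ * w⁻¹ with hd2
  have h3 : d2 * (u⁻¹) = u⁻¹ * d2 := M.D_comm h2 (inv_mem (M.S.QB hu))
  have : c * (u * w) * c⁻¹ * (u * w)⁻¹ = d1 * d2 := by
    calc c * (u * w) * c⁻¹ * (u * w)⁻¹ = (c * u * c⁻¹) * (c * w * c⁻¹ * w⁻¹ * u⁻¹) := by group
      _ = (c * u * c⁻¹) * (d2 * u⁻¹) := by rw [hd2]
      _ = d1 * d2 := by rw [h3, hd1]; group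
  rw [this]; exact mul_mem h1 h2

/-- (c): `C_{Q'}(k i) ≤ C(X i)`. -/
theorem Match.cent {i : ι} {y : G} (hy : y ∈ Q') (hky : k i * y = y * k i) :
    ∀ x ∈ X i, x * y = y * x := by
  have hyB : y ∈ B := M.S'.QB hy
  have hyV : ∀ v ∈ V i, y * v = v * y := by
    refine M.S.fpf i y hy fun v hv => ?_
    have e : k i * y * (k i)⁻¹ * y⁻¹ = 1 := by rw [hky]; group
    rw [e, one_mul, mul_one]
  have hV : ∀ x ∈ X i, x * y * x⁻¹ * y⁻¹ ∈ V i := by
    refine M.S.core2 i y hyB fun v hv => ?_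
    have e : v * y * v⁻¹ * y⁻¹ = 1 := by rw [← hyV v hv]; group
    rw [e]; exact one_mem _
  let L : Subgroup G :=
    { carrier := {x | x ∈ X i ∧ x * y * x⁻¹ * y⁻¹ ∈ C i}
      one_mem' := ⟨one_mem _, by simp⟩
      mul_mem' := by
        rintro x z ⟨hx, hx1⟩ ⟨hz, hz1⟩
        refine ⟨mul_mem hx hz, ?_⟩
        have h1 : x * (z * y * z⁻¹ * y⁻¹) = (z * y * z⁻¹ * y⁻¹) * x := M.S.CX i x hx _ hz1
        have : x * z * y * (x * z)⁻¹ * y⁻¹ = (z * y * z⁻¹ * y⁻¹) * (x * y * x⁻¹ * y⁻¹) := by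
          calc x * z * y * (x * z)⁻¹ * y⁻¹
              = (x * (z * y * z⁻¹ * y⁻¹)) * (y * x⁻¹ * y⁻¹) := by group
            _ = (z * y * z⁻¹ * y⁻¹) * (x * y * x⁻¹ * y⁻¹) := by rw [h1]; group
        rw [this]; exact mul_mem hz1 hx1
      inv_mem' := by
        rintro x ⟨hx, hx1⟩
        refine ⟨inv_mem hx, ?_⟩
        have h1 : x * (x * y * x⁻¹ * y⁻¹) = (x * y * x⁻¹ * y⁻¹) * x := M.S.CX i x hx _ hx1
        have : x⁻¹ * y * x⁻¹⁻¹ * y⁻¹ = (x * y * x⁻¹ * y⁻¹)⁻¹ := by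
          have h2 : x⁻¹ * (x * y * x⁻¹ * y⁻¹)⁻¹ * x = (x * y * x⁻¹ * y⁻¹)⁻¹ := by
            rw [← mul_right_inj (x * y * x⁻¹ * y⁻¹)]
            rw [mul_inv_cancel]
            calc (x * y * x⁻¹ * y⁻¹) * (x⁻¹ * (x * y * x⁻¹ * y⁻¹)⁻¹ * x)
                = x⁻¹ * (x * (x * y * x⁻¹ * y⁻¹)) * x⁻¹ * (x * y * x⁻¹ * y⁻¹)⁻¹ * x := by group
              _ = x⁻¹ * ((x * y * x⁻¹ * y⁻¹) * x) * x⁻¹ * (x * y * x⁻¹ * y⁻¹)⁻¹ * x := by rw [h1]
              _ = 1 := by group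
          calc x⁻¹ * y * x⁻¹⁻¹ * y⁻¹ = x⁻¹ * (x * y * x⁻¹ * y⁻¹)⁻¹ * x := by group
            _ = _ := h2
        rw [this]; exact inv_mem hx1 }
  have hL : X i ≤ L := by
    refine M.S.ngen i L ?_ ⟨M.S.kX i, ?_⟩ ⟨M.S.nX i, ?_⟩
    · intro b hb hbX
      refine ⟨hbX, ?_⟩
      obtain ⟨v, hv, z, hz, -, rfl⟩ := M.S.BXQ i b hb hbX
      have h1 := hyV v hv
      have h2 := M.S'.Qc z hz y hy
      have : v * z * y * (v * z)⁻¹ * y⁻¹ = 1 := by
        calc v * z * y * (v * z)⁻¹ * y⁻¹ = v * (z * y) * z⁻¹ * v⁻¹ * y⁻¹ := by group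
          _ = (v * y) * v⁻¹ * y⁻¹ := by rw [h2]; group
          _ = 1 := by rw [← h1]; group
      rw [this]; exact one_mem _
    · have : k i * y * (k i)⁻¹ * y⁻¹ = 1 := by rw [hky]; group
      rw [this]; exact one_mem _
    · refine M.S.ck i _ (hV _ (M.S.nX i)) ?_
      have h1 := M.S.nk i
      have h2 : n i * (k i)⁻¹ = k i * n i := by
        have := congrArg (fun t => t⁻¹ * n i) h1
        simp only [mul_inv_rev, inv_inv] at this
        rw [← this]; group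
      have h3 : (k i)⁻¹ * (n i)⁻¹ * (k i)⁻¹ = (n i)⁻¹ := by
        have : (k i)⁻¹ * (n i)⁻¹ = (n i * k i)⁻¹ := by group
        rw [this]
        have h4 : n i * k i = (k i)⁻¹ * n i := by rw [← h1]; group
        rw [h4]; group
      have h5 : (k i)⁻¹ * y = y * (k i)⁻¹ := by
        rw [inv_mul_eq_iff_eq_mul, ← mul_assoc, hky, mul_assoc, mul_inv_cancel, mul_one]
      have h6 : (k i)⁻¹ * y⁻¹ = y⁻¹ * (k i)⁻¹ := by
        rw [← mul_inv_rev, ← mul_inv_rev, hky]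
      have h7 : k i * (n i * y * (n i)⁻¹ * y⁻¹) * (k i)⁻¹ = n i * y * (n i)⁻¹ * y⁻¹ := by
        calc k i * (n i * y * (n i)⁻¹ * y⁻¹) * (k i)⁻¹
            = (k i * n i) * y * (n i)⁻¹ * (y⁻¹ * (k i)⁻¹) := by group
          _ = n i * ((k i)⁻¹ * y) * (n i)⁻¹ * ((k i)⁻¹ * y⁻¹) := by rw [← h2, h6]; group
          _ = n i * y * ((k i)⁻¹ * (n i)⁻¹ * (k i)⁻¹) * y⁻¹ := by rw [h5]; group
          _ = n i * y * (n i)⁻¹ * y⁻¹ := by rw [h3]
      rw [mul_inv_eq_iff_eq_mul] at h7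
      exact h7
  have key : ∀ x ∈ X i, ∀ m, Odd m → x ^ m = 1 → ∀ r ∈ zpowers y, x * r = r * x := by
    intro x hx m hm hxm r hr
    have h1 := (hL hx).2
    have h2 : x * y = y * x := by
      refine comm_of_odd hxm hm M.two (M.S.QB (M.S.VQ i (M.S.CV i h1))) ?_
      exact M.S.CX i x hx _ h1
    obtain ⟨t, rfl⟩ := mem_zpowers_iff.1 hr
    exact ((show Commute x y from h2).zpow_right t).eq
  intro x hx
  exact oddX (M.S.odd i) key x hx y (mem_zpowers y)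

/-- Lemma N -/
theorem Match.exists_fix (hp2 : Odd p) {i : ι} {y : G} (hy : y ∈ Q')
    (hyV : ∀ v ∈ V i, y * v = v * y) : ∃ d ∈ D, k i * (d * y) = (d * y) * k i := by
  have he := M.comm_D hy hyV
  set e := k i * y * (k i)⁻¹ * y⁻¹ with hedef
  have e1 : k i * y * (k i)⁻¹ = e * y := by rw [hedef]; group
  have hyB := M.S'.QB hy
  let N : ℕ → G := fun t => Nat.rec 1 (fun _ r => y * (k i * r * (k i)⁻¹)) t
  have hN : ∀ t, N (t + 1) = y * (k i * N t * (k i)⁻¹) := fun t => rfl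
  have h1 : ∀ t, ∃ d ∈ D, N t = d * y ^ t := by
    intro t
    induction t with
    | zero => exact ⟨1, one_mem _, by simp [N]⟩
    | succ t ih =>
      obtain ⟨d, hd, hdt⟩ := ih
      refine ⟨(k i * d * (k i)⁻¹) * e ^ t, mul_mem (norm_conj (M.kD i) hd) (pow_mem he t), ?_⟩
      have hd' : k i * d * (k i)⁻¹ ∈ D := norm_conj (M.kD i) hd
      have h2 : k i * y ^ t * (k i)⁻¹ = e ^ t * y ^ t := by
        have : k i * y ^ t * (k i)⁻¹ = (k i * y * (k i)⁻¹) ^ t := by rw [conj_pow]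
        rw [this, e1, (show Commute e y from M.D_comm he hyB).mul_pow]
      have h3 : (k i * d * (k i)⁻¹) * e ^ t * y = y * ((k i * d * (k i)⁻¹) * e ^ t) :=
        M.D_comm (mul_mem hd' (pow_mem he t)) hyB
      calc N (t + 1) = y * (k i * (d * y ^ t) * (k i)⁻¹) := by rw [hN, hdt]
        _ = y * ((k i * d * (k i)⁻¹) * (k i * y ^ t * (k i)⁻¹)) := by group
        _ = (y * ((k i * d * (k i)⁻¹) * e ^ t)) * y ^ t := by rw [h2]; group
        _ = (k i * d * (k i)⁻¹) * e ^ t * y ^ (t + 1) := by rw [← h3, pow_succ']; group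
  have h2 : ∀ t, y * (k i * N t * (k i)⁻¹) = N t * (k i ^ t * y * (k i ^ t)⁻¹) := by
    intro t
    induction t with
    | zero => simp [N]
    | succ t ih =>
      calc y * (k i * N (t + 1) * (k i)⁻¹)
          = y * (k i * (N t * (k i ^ t * y * (k i ^ t)⁻¹)) * (k i)⁻¹) := by rw [hN, ih]
        _ = (y * (k i * N t * (k i)⁻¹)) * (k i ^ (t + 1) * y * (k i ^ (t + 1))⁻¹) := by
            rw [pow_succ']; group
        _ = _ := by rw [← hN]
  obtain ⟨d, hd, hdp⟩ := h1 p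
  have h3 := h2 p
  rw [M.S.kp i] at h3
  have hyp : y ^ p = y := by
    obtain ⟨t, ht⟩ := hp2
    rw [ht, pow_succ, pow_mul, pow_two, M.S'.Qsq y hy]; simp
  rw [hyp] at hdp
  have hdQ : d ∈ Q' := ((M.memD d).1 hd).2
  refine ⟨d, hd, ?_⟩
  rw [hdp] at h3
  have h4 : y * (k i * (d * y) * (k i)⁻¹) = y * (d * y) := by
    rw [h3]
    have := M.S'.Qc (d * y) (mul_mem hdQ hy) y hy
    rw [← this]; group
  have h5 := mul_left_cancel h4
  rw [mul_inv_eq_iff_eq_mul] at h5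
  exact h5

/-- (d): `C_B(X i) ∩ C_B(X' i)` contains an element of `V' j ∖ D`. -/
theorem Match.exists_y [Finite G] [hp : Fact p.Prime] (hp2 : p ≠ 2) {i j : ι} (hij : i ≠ j) :
    ∃ w ∈ V' j, w ∉ D ∧ (∀ x ∈ X i, x * w = w * x) ∧ (∀ x ∈ X' i, x * w = w * x) := by
  obtain ⟨b, hb, hcomm⟩ := conj_comm hp2 M.two (M.S.kB i) (M.S'.kB j) (M.S.kp i) (M.S'.kp j)
    (M.comm_B hij)
  obtain ⟨y, hy, hyD⟩ := M.S'.vk j
  have hyQ := M.S'.VQ j hy
  -- move to `b`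
  have hy0 : b⁻¹ * y * b ∈ V' j := norm_conj' (M.S'.BV j hb) hy
  have hy0Q := M.S'.VQ j hy0
  obtain ⟨d, hd, hfix⟩ := M.exists_fix (hp.out.odd_of_ne_two hp2) (i := i) hy0Q
    (fun v hv => (M.cross i j hij v hv _ hy0).symm)
  have hdb := M.D_comm hd hb
  have hfix' : (b * k i * b⁻¹) * (d * y) = (d * y) * (b * k i * b⁻¹) := by
    have e1 : b * (d * (b⁻¹ * y * b)) * b⁻¹ = d * y := by
      calc b * (d * (b⁻¹ * y * b)) * b⁻¹ = (b * d) * b⁻¹ * y := by group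
        _ = d * y := by rw [← hdb]; group
    calc (b * k i * b⁻¹) * (d * y) = b * (k i * (d * (b⁻¹ * y * b))) * b⁻¹ := by
          rw [← e1]; group
      _ = b * ((d * (b⁻¹ * y * b)) * k i) * b⁻¹ := by rw [hfix]
      _ = (b * (d * (b⁻¹ * y * b)) * b⁻¹) * (b * k i * b⁻¹) := by group
      _ = (d * y) * (b * k i * b⁻¹) := by rw [e1]
  have hdQ : d ∈ Q' := ((M.memD d).1 hd).2
  set A := b * k i * b⁻¹ with hA
  set w := k' j * (d * y) * (k' j)⁻¹ * (d * y)⁻¹ with hw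
  have hwQ : w ∈ Q' :=
    mul_mem (norm_conj (M.symm.kQ j) (mul_mem hdQ hyQ)) (inv_mem (mul_mem hdQ hyQ))
  have hAw : A * w = w * A := by
    have h1 : Commute A (k' j) := hcomm
    have h2 : Commute A (d * y) := hfix'
    exact (((h1.mul_right h2).mul_right h1.inv_right).mul_right h2.inv_right).eq
  have hwV1 : k' j * y * (k' j)⁻¹ * y⁻¹ ∈ V' j := M.S'.QXV j _ (M.S'.kX j) y hyQ
  have hwV2 := M.nine' j d hd
  have hweq : w = (k' j * d * (k' j)⁻¹ * d⁻¹) * (k' j * y * (k' j)⁻¹ * y⁻¹) := by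
    have h1 : d⁻¹ * (k' j * y * (k' j)⁻¹ * y⁻¹) = (k' j * y * (k' j)⁻¹ * y⁻¹) * d⁻¹ :=
      M.D_comm (inv_mem hd) (M.S'.QB (M.S'.VQ j hwV1))
    calc w = (k' j * d * (k' j)⁻¹) * ((k' j * y * (k' j)⁻¹ * y⁻¹) * d⁻¹) := by rw [hw]; group
      _ = _ := by rw [← h1]; group
  refine ⟨w, ?_, ?_, ?_, ?_⟩
  · rw [hweq]; exact mul_mem hwV2.2 hwV1
  · intro hwD
    apply hyD
    have h1 : k' j * d * (k' j)⁻¹ * d⁻¹ ∈ D :=
      mul_mem (norm_conj (M.symm.kD j) hd) (inv_mem hd)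
    rw [hweq] at hwD
    exact (mul_mem_cancel_left h1).1 hwD
  · -- (c) transported by `b`
    have h1 : b⁻¹ * w * b ∈ Q' := norm_conj' (M.S'.BQ hb) hwQ
    have h2 : k i * (b⁻¹ * w * b) = (b⁻¹ * w * b) * k i := by
      calc k i * (b⁻¹ * w * b) = b⁻¹ * (A * w) * b := by rw [hA]; group
        _ = b⁻¹ * (w * A) * b := by rw [hAw]
        _ = _ := by rw [hA]; group
    have h3 := M.cent h1 h2
    intro x hx
    have h4 : b⁻¹ * x * b ∈ X i := norm_conj' (M.S.BX i hb) hx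
    have h5 := h3 _ h4
    calc x * w = b * ((b⁻¹ * x * b) * (b⁻¹ * w * b)) * b⁻¹ := by group
      _ = b * ((b⁻¹ * w * b) * (b⁻¹ * x * b)) * b⁻¹ := by rw [h5]
      _ = w * x := by group
  · intro x hx
    refine M.S'.act i j hij x hx w ?_
    rw [hweq]; exact mul_mem hwV2.2 hwV1

/-- (e): the splitting property -/
theorem Match.tw [Finite G] {i : ι} {x : G} (hxB : x ∈ normalizer (B : Set G))
    (hb1 : ∀ c ∈ B, (∀ z ∈ X i, z * c = c * z) → (∀ z ∈ X' i, z * c = c * z) → x * c = c * x)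
    (hb2 : ∀ b ∈ B, (∀ z ∈ X i, z * (x * b * x⁻¹ * b⁻¹) = (x * b * x⁻¹ * b⁻¹) * z) ∧
      ∀ z ∈ X' i, z * (x * b * x⁻¹ * b⁻¹) = (x * b * x⁻¹ * b⁻¹) * z)
    (hy : ∀ j, j ≠ i → ∃ w ∈ V' j, w ∉ D ∧ (∀ z ∈ X i, z * w = w * z) ∧
      (∀ z ∈ X' i, z * w = w * z)) : x ∈ normalizer (Q' : Set G) := by
  -- the elements `y_j`
  have hyx : ∀ j, j ≠ i → ∃ w ∈ V' j, w ∉ D ∧ x * w = w * x := by
    intro j hj
    obtain ⟨w, hw, hwD, h1, h2⟩ := hy j hj
    exact ⟨w, hw, hwD, hb1 w (M.S'.QB (M.S'.VQ j hw)) h1 h2⟩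
  -- `x` maps elements of `Q'` to `V_i Q'`
  have hdec : ∀ q ∈ Q', ∃ u ∈ Q, ∃ w ∈ Q', x * q * x⁻¹ = u * w ∧ ∃ v ∈ V i, ∃ d ∈ D, u = v * d := by
    intro q hq
    obtain ⟨u, hu, w, hw, huw⟩ := M.BQQ _ (norm_conj hxB (M.S'.QB hq))
    refine ⟨u, hu, w, hw, huw, M.mem_VD hu fun j hj => ?_⟩
    obtain ⟨y, hy, hyD, hxy⟩ := hyx j hj
    refine ⟨y, hy, hyD, ?_⟩
    have hyQ := M.S'.VQ j hy
    have h1 : (x * q * x⁻¹) * y = y * (x * q * x⁻¹) := by
      have h2 : x⁻¹ * y = y * x⁻¹ := by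
        rw [inv_mul_eq_iff_eq_mul, ← mul_assoc, hxy, mul_assoc, mul_inv_cancel, mul_one]
      calc (x * q * x⁻¹) * y = x * (q * y) * x⁻¹ := by
            rw [mul_assoc, h2]; group
        _ = x * (y * q) * x⁻¹ := by rw [M.S'.Qc q hq y hyQ]
        _ = (x * y) * q * x⁻¹ := by group
        _ = y * (x * q * x⁻¹) := by rw [hxy]; group
    rw [huw] at h1
    have h3 := M.S'.Qc w hw y hyQ
    have h4 : (u * y) * w = (y * u) * w := by
      calc (u * y) * w = u * (w * y) := by rw [h3]; group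
        _ = u * w * y := by group
        _ = y * (u * w) := h1
        _ = (y * u) * w := by group
    exact mul_right_cancel h4
  obtain ⟨y0, hy0, hy0D⟩ := M.exists_not i
  -- an element `v` of `V i` which commutes with one element of `V' i ∖ D` lies in `D`
  have hvD : ∀ v ∈ V i, ∀ z ∈ V' i, z ∉ D → v * z = z * v → v ∈ D := fun v hv z hz hzD h =>
    (M.nondeg i v hv z hz h).resolve_right hzD
  -- `x V' i x⁻¹ ≤ Q'`
  have hV' : ∀ z ∈ V' i, x * z * x⁻¹ ∈ Q' := by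
    intro z hz
    have hzQ := M.S'.VQ i hz
    obtain ⟨u, hu, w, hw, huw, v, hv, d, hd, rfl⟩ := hdec z hzQ
    obtain ⟨-, hc2⟩ := hb2 z (M.S'.QB hzQ)
    -- `[x,z]` commutes with `V' i`
    have h1 : v * y0 = y0 * v := by
      have h2 := hc2 y0 (M.S'.VX i hy0)
      rw [huw] at h2
      have hwz := M.S'.Qc w hw y0 (M.S'.VQ i hy0)
      have hzz : z⁻¹ * y0 = y0 * z⁻¹ := M.S'.Qc _ (inv_mem hzQ) _ (M.S'.VQ i hy0)
      have hdy : d * y0 = y0 * d := M.D_comm hd (M.S'.QB (M.S'.VQ i hy0))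
      have h3 : (v * y0) * (d * w * z⁻¹) = (y0 * v) * (d * w * z⁻¹) := by
        calc (v * y0) * (d * w * z⁻¹) = v * (y0 * d) * w * z⁻¹ := by group
          _ = v * d * (y0 * w) * z⁻¹ := by rw [← hdy]; group
          _ = v * d * w * (y0 * z⁻¹) := by rw [← hwz]; group
          _ = (v * d * w * z⁻¹) * y0 := by rw [← hzz]; group
          _ = y0 * (v * d * w * z⁻¹) := h2.symm
          _ = (y0 * v) * (d * w * z⁻¹) := by group
      exact mul_right_cancel h3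
    have h4 := hvD v hv y0 hy0 hy0D h1
    rw [huw]
    exact mul_mem (mul_mem ((M.memD v).1 h4).2 ((M.memD d).1 hd).2) hw
  have key : ∀ q ∈ Q', x * q * x⁻¹ ∈ Q' := by
    intro q hq
    obtain ⟨z, hz, r, hr, rfl, hrV⟩ := M.dec' i q hq
    have h1 := hV' z hz
    have h2 : x * r * x⁻¹ ∈ Q' := by
      obtain ⟨u, hu, w, hw, huw, v, hv, d, hd, rfl⟩ := hdec r hr
      -- `b̂ = [x, y0]`
      have hy0Q := M.S'.VQ i hy0
      obtain ⟨hc1, -⟩ := hb2 y0 (M.S'.QB hy0Q)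
      set c := x * y0 * x⁻¹ * y0⁻¹ with hc
      have hxy0 : x * y0 * x⁻¹ = c * y0 := by rw [hc]; group
      have hcQ : c ∈ Q' := mul_mem (hV' y0 hy0) (inv_mem hy0Q)
      have h3 : (x * r * x⁻¹) * (c * y0) = (c * y0) * (x * r * x⁻¹) := by
        rw [← hxy0]
        calc (x * r * x⁻¹) * (x * y0 * x⁻¹) = x * (r * y0) * x⁻¹ := by group
          _ = x * (y0 * r) * x⁻¹ := by rw [M.S'.Qc r hr y0 hy0Q]
          _ = _ := by group
      rw [huw] at h3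
      have hcy : c * y0 ∈ Q' := mul_mem hcQ hy0Q
      have h4 := M.S'.Qc w hw _ hcy
      have h5 : d * (c * y0) = (c * y0) * d := M.D_comm hd (M.S'.QB hcy)
      have h6 : v * (c * y0) = (c * y0) * v := by
        have h7 : (v * (c * y0)) * (d * w) = ((c * y0) * v) * (d * w) := by
          calc (v * (c * y0)) * (d * w) = v * ((c * y0) * d) * w := by group
            _ = v * d * ((c * y0) * w) := by rw [← h5]; group
            _ = v * d * w * (c * y0) := by rw [← h4]; group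
            _ = (c * y0) * (v * d * w) := h3
            _ = _ := by group
        exact mul_right_cancel h7
      have h8 : v * c = c * v := hc1 v (M.S.VX i hv)
      have h9 : v * y0 = y0 * v := by
        have : c * (v * y0) = c * (y0 * v) := by
          calc c * (v * y0) = (c * v) * y0 := by group
            _ = v * (c * y0) := by rw [← h8]; group
            _ = c * (y0 * v) := by rw [h6]; group
        exact mul_left_cancel this
      have h10 := hvD v hv y0 hy0 hy0D h9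
      rw [huw]
      exact mul_mem (mul_mem ((M.memD v).1 h10).2 ((M.memD d).1 hd).2) hw
    have : x * (z * r) * x⁻¹ = (x * z * x⁻¹) * (x * r * x⁻¹) := by group
    rw [this]; exact mul_mem h1 h2
  exact mem_normalizer_fintype key

/-- elements of a 2-subgroup `F ≤ N(Q)` normalised by `X i` and `B`. -/
theorem Match.F_core {i : ι} {F : Subgroup G} (hF : IsPGroup 2 F)
    (hXF : X i ≤ normalizer (F : Set G)) (hBF : B ≤ normalizer (F : Set G)) {f : G} (hf : f ∈ F)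
    (hfX : f ∈ X i ⊔ B) {x : G} (hx : x ∈ X i) : x * f * x⁻¹ ∈ B := by
  have hnorm : B ≤ normalizer ((F ⊓ (X i ⊔ B) : Subgroup G) : Set G) := fun b hb =>
    norm_inf (hBF hb) (le_normalizer (le_sup_right (a := X i) hb))
  have h1 : IsPGroup 2 ((F ⊓ (X i ⊔ B)) ⊔ B : Subgroup G) :=
    IsPGroup.to_sup_of_normal_left' (hF.to_le inf_le_left) M.two hnorm
  have h2 := M.S.syl i _ h1 le_sup_right (sup_le inf_le_right le_sup_right)
  have hxs : x ∈ X i ⊔ B := le_sup_left (b := B) hx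
  have h3 : x * f * x⁻¹ ∈ X i ⊔ B := mul_mem (mul_mem hxs hfX) (inv_mem hxs)
  exact h2 (le_sup_left (b := B) (mem_inf.2 ⟨norm_conj (hXF hx) hf, h3⟩))

theorem Match.V_norm (i : ι) : X i ≤ normalizer (V i : Set G) := by
  intro x hx
  refine mem_norm (fun v hv => ?_) fun v hv => ?_
  · have h1 := M.S.QXV i x hx v (M.S.VQ i hv)
    have : x * v * x⁻¹ = (x * v * x⁻¹ * v⁻¹) * v := by group
    rw [this]; exact mul_mem h1 hv
  · have h1 := M.S.QXV i x⁻¹ (inv_mem hx) v (M.S.VQ i hv)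
    have : x⁻¹ * v * x = (x⁻¹ * v * x⁻¹⁻¹ * v⁻¹) * v := by group
    rw [this]; exact mul_mem h1 hv

/-- (f): (loc) -/
theorem Match.loc (i : ι) (F : Subgroup G) (hF : IsPGroup 2 F)
    (hFQ : F ≤ normalizer (Q : Set G)) (hXF : X i ≤ normalizer (F : Set G))
    (hBF : B ≤ normalizer (F : Set G)) : (∀ x ∈ X i, ∀ f ∈ F, x * f = f * x) ∨ V i ≤ F := by
  have hP : IsPGroup 2 (F ⊔ B : Subgroup G) := IsPGroup.to_sup_of_normal_left' hF M.two hBF
  have hFB : F ≤ normalizer (B : Set G) :=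
    (le_sup_left.trans le_normalizer).trans
      (M.S.grow _ hP le_sup_right (sup_le hFQ M.S.BQ))
  -- `[F, X i] ≤ X i B`
  have hBXB : B ≤ X i ⊔ B := le_sup_right
  have hXXB : X i ≤ X i ⊔ B := le_sup_left
  let L : Subgroup G :=
    { carrier := {g | g ∈ X i ⊔ B ∧ ∀ f ∈ F, g * f * g⁻¹ * f⁻¹ ∈ X i ⊔ B}
      one_mem' := ⟨one_mem _, fun f _ => by simp⟩
      mul_mem' := by
        rintro g h ⟨hg, hg1⟩ ⟨hh, hh1⟩
        refine ⟨mul_mem hg hh, fun f hf => ?_⟩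
        have : g * h * f * (g * h)⁻¹ * f⁻¹ =
          g * (h * f * h⁻¹ * f⁻¹) * g⁻¹ * (g * f * g⁻¹ * f⁻¹) := by group
        rw [this]
        exact mul_mem (mul_mem (mul_mem hg (hh1 f hf)) (inv_mem hg)) (hg1 f hf)
      inv_mem' := by
        rintro g ⟨hg, hg1⟩
        refine ⟨inv_mem hg, fun f hf => ?_⟩
        have : g⁻¹ * f * g⁻¹⁻¹ * f⁻¹ = g⁻¹ * (g * f * g⁻¹ * f⁻¹)⁻¹ * g := by group
        rw [this]
        exact mul_mem (mul_mem (inv_mem hg) (inv_mem (hg1 f hf))) hg }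
  have hL : X i ≤ L := by
    refine M.S.gen i L fun x hx b hb => ?_
    have hxs := hXXB hx
    refine ⟨mul_mem (mul_mem hxs (hBXB hb)) (inv_mem hxs), fun f hf => ?_⟩
    have h1 : x⁻¹ * f * x ∈ F := norm_conj' (hXF hx) hf
    have h2 : b * (x⁻¹ * f * x) * b⁻¹ * (x⁻¹ * f * x)⁻¹ ∈ B := by
      have h3 := norm_conj (hFB h1) (inv_mem hb)
      have : b * (x⁻¹ * f * x) * b⁻¹ * (x⁻¹ * f * x)⁻¹ =
        b * ((x⁻¹ * f * x) * b⁻¹ * (x⁻¹ * f * x)⁻¹) := by group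
      rw [this]; exact mul_mem hb h3
    have : x * b * x⁻¹ * f * (x * b * x⁻¹)⁻¹ * f⁻¹ =
      x * (b * (x⁻¹ * f * x) * b⁻¹ * (x⁻¹ * f * x)⁻¹) * x⁻¹ := by group
    rw [this]
    exact mul_mem (mul_mem hxs (hBXB h2)) (inv_mem hxs)
  have hc1 : ∀ x ∈ X i, ∀ f ∈ F, x * f * x⁻¹ * f⁻¹ ∈ F ∧ x * f * x⁻¹ * f⁻¹ ∈ X i ⊔ B := by
    intro x hx f hf
    exact ⟨mul_mem (norm_conj (hXF hx) hf) (inv_mem hf), (hL hx).2 f hf⟩
  have hc2 : ∀ x ∈ X i, ∀ f ∈ F, f ∈ X i ⊔ B → x * f * x⁻¹ * f⁻¹ ∈ V i := by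
    intro x hx f hf hfX
    have h1 : ∀ z ∈ X i, z * f * z⁻¹ ∈ B := fun z hz => M.F_core hF hXF hBF hf hfX hz
    refine M.S.core2 i f ?_ (M.S.core1 i f h1) x hx
    simpa using h1 1 (one_mem _)
  rcases M.S.irr i (V i ⊓ F) inf_le_left
    (fun x hx => norm_inf (M.V_norm i hx) (hXF hx)) with h | h
  · left
    refine oddX (M.S.odd i) ?_
    intro x hx m hm hxm f hf
    obtain ⟨h1, h2⟩ := hc1 x hx f hf
    have h3 := hc2 x hx _ h1 h2
    have h4 : x * (x * f * x⁻¹ * f⁻¹) * x⁻¹ * (x * f * x⁻¹ * f⁻¹)⁻¹ ∈ F :=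
      mul_mem (norm_conj (hXF hx) h1) (inv_mem h1)
    have h5 := h ⟨h3, h4⟩
    refine comm_of_odd hxm hm hF h1 ?_
    exact comm_of_odd hxm hm hF h4 (M.S.CX i x hx _ h5)
  · right; exact h.trans inf_le_right

/-- (g): (kick) -/
theorem Match.kick {i : ι} {R : Subgroup G} (hR : IsPGroup 2 R) (hX : X i ≤ normalizer (R : Set G))
    (hX' : X' i ≤ normalizer (R : Set G)) (hBR : B ≤ normalizer (R : Set G)) : ¬ V i ≤ R := by
  intro hV
  obtain ⟨v, hv, w, hw, hvw⟩ := M.nc' i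
  have hwB := M.S'.QB (M.S'.VQ i hw)
  have hvB := M.S.QB (M.S.VQ i hv)
  have h1 : v * w * v⁻¹ * w⁻¹ ∈ R := by
    have : v * w * v⁻¹ * w⁻¹ = v * (w * v⁻¹ * w⁻¹) := by group
    rw [this]; exact mul_mem (hV hv) (norm_conj (hBR hwB) (inv_mem (hV hv)))
  have h2 : v * w * v⁻¹ * w⁻¹ ∈ V' i := mul_mem (norm_conj (M.S'.BV i hvB) hw) (inv_mem hw)
  have hV' : V' i ≤ R := by
    rcases M.S'.irr i (V' i ⊓ R) inf_le_left
      (fun x hx => norm_inf (M.symm.V_norm i hx) (hX' hx)) with h | h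
    · exact absurd (h ⟨h2, h1⟩) hvw
    · exact h.trans inf_le_right
  obtain ⟨v, hv, w, hw, hvw⟩ := M.nc i
  have hwB := M.S'.QB (M.S'.VQ i hw)
  apply hvw
  refine M.S.core1 i w (fun x hx => ?_) v hv
  refine M.F_core (F := R) hR hX hBR (hV' hw) (le_sup_right (a := X i) hwB) hx

end

/-- characteristic 2 type in the form used here -/
def CharTwo (G : Type*) [Group G] : Prop :=
  ∀ A : Subgroup G, A ≠ ⊥ → IsPGroup 2 A → ∃ R : Subgroup G, IsPGroup 2 R ∧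
    R ≤ normalizer (A : Set G) ∧ normalizer (A : Set G) ≤ normalizer (R : Set G) ∧ A ≤ R ∧
    centralizer (R : Set G) ≤ R

/-- **KILLING LEMMA FOR SQ1**: in a group of characteristic 2 type there is only one block. -/
theorem Match.kill [Finite G] (hG : CharTwo G) {p : ℕ} [Fact p.Prime] (hp2 : p ≠ 2)
    {B Q Q' D : Subgroup G} {X V C : ι → Subgroup G} {k n : ι → G}
    {X' V' C' : ι → Subgroup G} {k' n' : ι → G}
    (M : Match B Q Q' D p X V C k n X' V' C' k' n') {i j : ι} (hij : i ≠ j) : False := by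
  let Qf : Bool → Subgroup G := fun t => if t then Q else Q'
  let Vf : Bool → Subgroup G := fun t => if t then V i else V' i
  let Xf : Bool → Subgroup G := fun t => if t then X i else X' i
  have hmem : ∀ c, c ∈ bh B Xf ↔ c ∈ B ∧ (∀ z ∈ X i, z * c = c * z) ∧ ∀ z ∈ X' i, z * c = c * z := by
    intro c
    rw [mem_bh]
    refine and_congr Iff.rfl ⟨fun h => ⟨h true, h false⟩, fun h t => ?_⟩
    cases t
    · exact h.2
    · exact h.1
  have hyall : ∀ l, l ≠ i → ∃ w ∈ V' l, w ∉ D ∧ (∀ z ∈ X i, z * w = w * z) ∧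
      (∀ z ∈ X' i, z * w = w * z) := fun l hl => M.exists_y hp2 hl.symm
  have hne : bh B Xf ≠ ⊥ := by
    obtain ⟨w, hw, hwD, h1, h2⟩ := hyall j hij.symm
    intro h
    have h3 : w ∈ bh B Xf := (hmem w).2 ⟨M.S'.QB (M.S'.VQ j hw), h1, h2⟩
    rw [h, mem_bot] at h3
    exact hwD (h3 ▸ one_mem _)
  have hbtwo : IsPGroup 2 (bh B Xf) := M.two.to_le inf_le_left
  obtain ⟨R, hR, hRA, hAR, hARle, hCR⟩ := hG _ hne hbtwo
  have hBBh : B ≤ normalizer (bh B Xf : Set G) := by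
    intro b hb
    have aux : ∀ b ∈ B, ∀ c ∈ bh B Xf, b * c * b⁻¹ ∈ bh B Xf := by
      intro b hb c hc
      obtain ⟨h0, h1, h2⟩ := (hmem c).1 hc
      refine (hmem _).2 ⟨mul_mem (mul_mem hb h0) (inv_mem hb), fun z hz => ?_, fun z hz => ?_⟩
      · have h3 := h1 _ (norm_conj' (M.S.BX i hb) hz)
        calc z * (b * c * b⁻¹) = b * ((b⁻¹ * z * b) * c) * b⁻¹ := by group
          _ = b * (c * (b⁻¹ * z * b)) * b⁻¹ := by rw [h3]
          _ = _ := by group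
      · have h3 := h2 _ (norm_conj' (M.S'.BX i hb) hz)
        calc z * (b * c * b⁻¹) = b * ((b⁻¹ * z * b) * c) * b⁻¹ := by group
          _ = b * (c * (b⁻¹ * z * b)) * b⁻¹ := by rw [h3]
          _ = _ := by group
    refine mem_norm (aux b hb) fun c hc => ?_
    have := aux b⁻¹ (inv_mem hb) c hc
    simpa using this
  have hXN : ∀ t, Xf t ≤ normalizer (R : Set G) := by
    intro t
    refine le_trans ?_ hAR
    intro z hz
    have h1 : ∀ c ∈ bh B Xf, z * c = c * z := fun c hc => (mem_bh.1 hc).2 t z hz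
    refine mem_norm (fun c hc => ?_) fun c hc => ?_
    · rw [h1 c hc, mul_inv_cancel_right]; exact hc
    · have : z⁻¹ * c * z = c := by
        rw [mul_assoc, ← h1 c hc, inv_mul_cancel_left]
      rw [this]; exact hc
  have hBR := hBBh.trans hAR
  have D₀ : Data B R Qf Vf Xf :=
    { two := M.two
      BQ := by rintro (_ | _); exacts [M.S'.BQ, M.S.BQ]
      XQ := by rintro (_ | _); exacts [M.S'.XQ i, M.S.XQ i]
      BBh := hBBh
      Rtwo := hR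
      RBh := hRA
      norm := hAR
      BhR := hARle
      char2 := hCR
      loc := by
        rintro (_ | _) F hF hFQ hXF hBF
        · exact M.symm.loc i F hF hFQ hXF hBF
        · exact M.loc i F hF hFQ hXF hBF
      kick := by
        rintro (_ | _)
        · exact M.symm.kick hR (hXN false) (hXN true) hBR
        · exact M.kick hR (hXN true) (hXN false) hBR
      grow := fun P hP hBP _ hPQ => M.S.grow P hP hBP (hPQ true)
      tw := by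
        intro x hxB hx1 hx2
        have h : x ∈ normalizer (Q' : Set G) := by
          refine M.tw (i := i) hxB (fun c hc h1 h2 => hx1 c ((hmem c).2 ⟨hc, h1, h2⟩))
            (fun b hb => ?_) hyall
          exact ⟨((hmem _).1 (hx2 b hb)).2.1, ((hmem _).1 (hx2 b hb)).2.2⟩
        rintro (_ | _)
        · exact h
        · exact (M.six x hxB).2 h }
  -- a nontrivial element of odd order in `X i`
  have hex : ∃ x ∈ X i, ∃ m, Odd m ∧ x ^ m = 1 ∧ x ≠ 1 := by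
    by_contra hcon
    push Not at hcon
    have h1 : X i ≤ ⊥ := by
      refine (M.S.odd i).trans ((closure_le _).2 ?_)
      rintro x ⟨hx, m, hm, hxm⟩
      exact mem_bot.2 (hcon x hx m hm hxm)
    obtain ⟨v, hv, w, hw, hvw⟩ := M.nc i
    have h2 : v = 1 := mem_bot.1 (h1 (M.S.VX i hv))
    apply hvw
    rw [h2]
    simp
  obtain ⟨x, hx, m, hm, hxm, hx1⟩ := hex
  exact D₀.false true (x := x) hx hxm hm hx1

end Cfsg.Agent.Omega.SQ1.Kill
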