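import Cfsg.Agent.Omega.SQ1.MatchJ
import Cfsg.Agent.Omega.SQ1.Choice
import Cfsg.Agent.Omega.SQ1.KillPlug

/-!
# SQ1: facts about `N_G(P)` used by the killing lemma (helper132)

* `jc`: `T` Sylow in `N`, `J(T) = B = bau T`; then `J(R) = B` for every 2-subgroup `R` of `N` over `B`.
* `hself`: `C_G(P) ≤ P`.
* `charTwo`: characteristic 2 type ⇒ `Kill.CharTwo`.
-/

set_option autoImplicit false

namespace Cfsg.Agent.Omega.SQ1.JC

open Subgroup Cfsg Cfsg.Agent.ZN Cfsg.Agent.ZN.ChoiceBase Cfsg.Agent.ZN.ChoiceSit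
open Cfsg.Agent.MinSimple.Choice97 (Loc2 loc2_normalizer)
open Cfsg.Agent.Omega.SQ1.Choice (Config)

universe u v

variable {G : Type u} [Group G]

/-- Every 2-subgroup `R` with `B ≤ R ≤ N` has `J(R) = B`. -/
theorem jc [Finite G] {T N R : Subgroup G} (hT : Syl T N) (hJ : jj T = bau T) (hR : IsPGroup 2 R)
    (hBR : bau T ≤ R) (hRN : R ≤ N) :
    jj R = bau T ∧ R ≤ normalizer (bau T : Set G) ∧
      normalizer (R : Set G) ≤ normalizer (bau T : Set G) ∧
      ∀ r ∈ R, (∀ z ∈ zj T, r * z = z * r) → r ∈ bau T := by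
  obtain ⟨U, hU, hRU⟩ := exists_syl hR hRN
  obtain ⟨g, hgN, hg⟩ := syl_conj hT hU
  subst hg
  have hmm : mm (cj g T) = mm T := mm_cj g T
  have hjU : jj (cj g T) = cj g (bau T) := by rw [jj_cj, hJ]
  have hm1 : mm (bau T) ≤ mm R := mm_mono hBR
  have hm2 : mm R ≤ mm (cj g T) := mm_mono hRU
  rw [mm_bau] at hm1
  have h1 : bau T ≤ jj R := by
    have := jj_mono hBR (by rw [mm_bau]; exact hm2.trans hmm.le)
    rw [jj_bau, hJ] at this
    exact this
  have h2 : jj R ≤ cj g (bau T) := by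
    rw [← hjU]
    exact jj_mono hRU (by rw [hmm]; exact hm1)
  have h3 : cj g (bau T) = bau T :=
    (Subgroup.eq_of_le_of_card_ge (h1.trans h2) (card_cj g (bau T)).le).symm
  have h4 : jj R = bau T := le_antisymm (h2.trans h3.le) h1
  have h5 : normalizer (R : Set G) ≤ normalizer (bau T : Set G) := by
    rw [← h4]; exact normalizer_le_jj R
  refine ⟨h4, le_normalizer.trans h5, h5, ?_⟩
  intro r hr hz
  have h6 : zj (cj g T) = zj T := zj_congr (by rw [hjU, h3, hJ])
  have h7 : r ∈ bau (cj g T) := by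
    refine mem_bau.2 ⟨hRU hr, ?_⟩
    rw [h6]
    exact fun z hz' => (hz z hz').symm
  rw [bau_cj, h3] at h7
  exact h7

/-- The same for the conjugate by an element normalising `T`. -/
theorem jc_cj [Finite G] {T N R : Subgroup G} {s : G} (hs : cj s T = T) (hT : Syl T N)
    (hJ : jj T = bau T) (hR : IsPGroup 2 R) (hBR : bau T ≤ R) (hRN : R ≤ cj s N) :
    jj R = bau T ∧ R ≤ normalizer (bau T : Set G) ∧
      normalizer (R : Set G) ≤ normalizer (bau T : Set G) ∧
      ∀ r ∈ R, (∀ z ∈ zj T, r * z = z * r) → r ∈ bau T := by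
  refine jc (N := cj s N) ?_ hJ hR hBR hRN
  obtain ⟨h1, h2, h3⟩ := hT
  refine ⟨?_, h2, fun Q hQ hQ2 hTQ => ?_⟩
  · rw [← hs]; exact cj_mono s h1
  · have h4 : cj s⁻¹ Q ≤ N := by
      have := cj_mono s⁻¹ hQ
      rwa [cj_inv_cj] at this
    have h5 : T ≤ cj s⁻¹ Q := by
      have := cj_mono s⁻¹ hTQ
      have h6 : cj s⁻¹ T = T := by
        have := congrArg (cj s⁻¹) hs
        rw [cj_inv_cj] at this
        exact this.symm
      rwa [h6] at this
    have h6 := h3 _ h4 (isPGroup_cj _ hQ2) h5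
    have h7 := congrArg (cj s) h6
    rwa [cj_cj_inv, hs] at h7

/-- `C_G(P) ≤ P` -/
theorem self_cent_of [Finite G] (hG : IsCharacteristicTwoType G) {T P : Subgroup G}
    (hP : IsPGroup 2 P) (hP0 : P ≠ ⊥) (hT : Syl T (normalizer (P : Set G)))
    (hc : ∀ x ∈ T, (∀ y ∈ P, x * y = y * x) → x ∈ P) : centralizer (P : Set G) ≤ P := by
  set N : Subgroup G := normalizer (P : Set G) with hN
  have hloc : IsTwoLocal N := ⟨P, hP, hP0, rfl⟩
  have hself := self_cent hG hloc
  have hO2 := isPGroup_o2 N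
  have hON := le_normalizer_o2 N
  have hOT := o2_le_syl hT
  have hcN : centralizer (P : Set G) ≤ N := by
    intro x hx
    refine Kill.mem_norm (fun a ha => ?_) fun a ha => ?_
    · have := (mem_centralizer_iff.1 hx a ha)
      rw [← this, mul_inv_cancel_right]; exact ha
    · have := (mem_centralizer_iff.1 hx a ha)
      rw [mul_assoc, this, inv_mul_cancel_left]; exact ha
  have hcc : ∀ x ∈ centralizer (P : Set G), ∀ y ∈ P, x * y = y * x := fun x hx y hy =>
    (mem_centralizer_iff.1 hx y hy).symm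
  -- conjugates of `C_G(P)` by `N`
  have hcn : ∀ g ∈ N, ∀ x ∈ centralizer (P : Set G), g * x * g⁻¹ ∈ centralizer (P : Set G) := by
    intro g hg x hx
    rw [mem_centralizer_iff]
    intro y hy
    have h1 : g⁻¹ * y * g ∈ P := Kill.norm_conj' hg hy
    have h2 := hcc x hx _ h1
    calc y * (g * x * g⁻¹) = g * ((g⁻¹ * y * g) * x) * g⁻¹ := by group
      _ = g * (x * (g⁻¹ * y * g)) * g⁻¹ := by rw [h2]
      _ = _ := by group
  -- `[C_G(P), O_2(N)] ≤ P`
  have hcO : ∀ x ∈ centralizer (P : Set G), ∀ r ∈ o2 N, x * r * x⁻¹ * r⁻¹ ∈ P := by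
    intro x hx r hr
    have h1 : x * r * x⁻¹ * r⁻¹ ∈ o2 N :=
      mul_mem (Kill.norm_conj (hON (hcN hx)) hr) (inv_mem hr)
    have h2 : x * r * x⁻¹ * r⁻¹ ∈ centralizer (P : Set G) := by
      have : x * r * x⁻¹ * r⁻¹ = x * (r * x⁻¹ * r⁻¹) := by group
      rw [this]
      exact mul_mem hx (hcn r (hT.1 (hOT hr)) _ (inv_mem hx))
    exact hc _ (hOT h1) (hcc _ h2)
  -- elements of odd order
  have hodd : ∀ x ∈ centralizer (P : Set G), ∀ m, Odd m → x ^ m = 1 → x = 1 := by
    intro x hx m hm hxm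
    have h1 : x ∈ N ⊓ centralizer ((o2 N : Subgroup G) : Set G) := by
      refine mem_inf.2 ⟨hcN hx, mem_centralizer_iff.2 ?_⟩
      intro r hr
      have h2 := hcO x hx r hr
      refine (Kill.comm_of_odd hxm hm hO2 ?_ (hcc x hx _ h2)).symm
      exact mul_mem (Kill.norm_conj (hON (hcN hx)) hr) (inv_mem hr)
    have h2 : x ∈ o2 N := hself h1
    obtain ⟨k, hk⟩ := hO2 ⟨x, h2⟩
    have h4 : orderOf x ∣ 2 ^ k := by
      apply orderOf_dvd_of_pow_eq_one
      simpa using congrArg Subtype.val hk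
    have h5 : Nat.Coprime (2 ^ k) m := Nat.Coprime.pow_left _ (Nat.coprime_two_left.2 hm)
    exact orderOf_eq_one_iff.1 (Nat.eq_one_of_dvd_coprimes h5 h4 (orderOf_dvd_of_pow_eq_one hxm))
  have hC2 : IsPGroup 2 (centralizer (P : Set G)) := by
    intro x
    -- `x ^ (2 ^ k)` has odd order
    obtain ⟨k, m, hm, hkm⟩ := Nat.exists_eq_two_pow_mul_odd (n := orderOf (x : G))
      (orderOf_pos (x : G)).ne'
    refine ⟨k, ?_⟩
    have h1 : ((x : G) ^ (2 ^ k)) ^ m = 1 := by
      rw [← pow_mul, ← hkm, pow_orderOf_eq_one]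
    have h2 := hodd _ (pow_mem x.2 (2 ^ k)) m hm h1
    exact Subtype.ext (by simpa using h2)
  -- `C_G(P)` is a normal 2-subgroup of `N`
  have hCO : centralizer (P : Set G) ≤ o2 N := by
    refine le_o2 hC2 hcN ?_
    intro g hg
    refine Kill.mem_norm (fun a ha => hcn g hg a ha) fun a ha => ?_
    have := hcn g⁻¹ (inv_mem hg) a ha
    simpa using this
  intro x hx
  exact hc x (hOT (hCO hx)) (hcc x hx)

/-- characteristic 2 type implies the form of the killing lemma -/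
theorem charTwo [Finite G] (hG : IsCharacteristicTwoType G) : Kill.CharTwo G := by
  intro A hA hA2
  have hloc : IsTwoLocal (normalizer (A : Set G)) := ⟨A, hA2, hA, rfl⟩
  set N : Subgroup G := normalizer (A : Set G) with hN
  have hAO : A ≤ o2 N := le_o2 hA2 le_normalizer le_rfl
  refine ⟨o2 N, isPGroup_o2 N, ?_, le_normalizer_o2 N, hAO, ?_⟩
  · obtain ⟨S, hS, -⟩ := exists_syl (T := A) hA2 (le_normalizer : A ≤ N)
    exact (o2_le_syl hS).trans hS.1
  · intro x hx
    refine self_cent hG hloc ⟨?_, hx⟩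
    have h1 : x ∈ centralizer (A : Set G) := centralizer_le hAO hx
    refine Kill.mem_norm (fun a ha => ?_) fun a ha => ?_
    · have := (mem_centralizer_iff.1 h1 a ha)
      rw [← this, mul_inv_cancel_right]; exact ha
    · have := (mem_centralizer_iff.1 h1 a ha)
      rw [mul_assoc, this, inv_mul_cancel_left]; exact ha

section

variable {M T Y P : Subgroup G} {s : G} {ι : Type v} {A : Subgroup G}
variable {L Q V D : ι → Subgroup G}

/-- `T` is a Sylow 2-subgroup of `N_G(P)`. -/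
theorem syl_P [Finite G] (c : Config M T Y s) (hP : IsPGroup 2 P) (hP0 : P ≠ ⊥)
    (hYP : Y ≤ normalizer (P : Set G)) : Syl T (normalizer (P : Set G)) :=
  c.syl_of_loc (c.TY.trans hYP) (loc2_normalizer hP hP0) fun h => c.notM (hYP.trans h)

/-- `C_G(P) ≤ P` from the matching. -/
theorem hself [Finite G] (hG : IsCharacteristicTwoType G) (c : Config M T Y s)
    (h : Match.MIn A T (bau T) (zj T) P s L Q V D) (i : ι) (hP0 : P ≠ ⊥)
    (hYP : Y ≤ normalizer (P : Set G)) : centralizer (P : Set G) ≤ P := by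
  have hP2 : IsPGroup 2 P := c.two.to_le h.P_le_T
  refine self_cent_of hG hP2 hP0 (syl_P c hP2 hP0 hYP) ?_
  intro x hx hxP
  have hZP : ∀ z ∈ zj T, z ∈ P := fun z hz => h.VP ((h.dat i).ZV hz)
  have hxB : x ∈ bau T := mem_bau.2 ⟨hx, fun z hz => (hxP z (hZP z hz)).symm⟩
  refine (h.Pmem x).2 ⟨hxB, fun j => ?_⟩
  exact (h.dat j).QcV x hxB fun v hv => hxP v (h.VP hv)

end

end Cfsg.Agent.Omega.SQ1.JC
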