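import Cfsg.Agent.Omega.SQ1.KillQ
import Cfsg.Agent.Omega.SQ1.JC

/-!
# SQ1: one block (`q ≥ 4`), in the language of `Choice.Config`

`one_block_config`: in the configuration `Config M T Y s` the matching data `MIn` with
`|V i : Z| > 2` has at most one block.
-/

set_option autoImplicit false

namespace Cfsg.Agent.Omega.SQ1.Block

open Subgroup Cfsg Cfsg.Agent.ZN Cfsg.Agent.ZN.ChoiceBase Cfsg.Agent.ZN.ChoiceSit
open Cfsg.Agent.Omega.SQ1.Choice (Config)
open Cfsg.Agent.Omega.SQ1.Match

universe u v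

variable {G : Type u} [Group G] {ι : Type v}
variable {M A T Y P : Subgroup G} {s : G} {L Q V D : ι → Subgroup G}

theorem jcond_of [Finite G] (hT : Syl T (normalizer (P : Set G))) (hJ : jj T = bau T) :
    JCond (bau T) (zj T) P := by
  intro R h1 h2 h3
  obtain ⟨-, a, b, c⟩ := JC.jc hT hJ h1 h2 h3
  exact ⟨a, b, c⟩

/-- `|V : Z| > 2` gives three elements of `V ∖ Z` forming a four-group modulo `Z`. -/
theorem big_of [Finite G] {Z V : Subgroup G} (hsq : ∀ v ∈ V, v * v = 1)
    (hq : 2 < Z.relIndex V) : ∃ v ∈ V, ∃ w ∈ V, v ∉ Z ∧ w ∉ Z ∧ v * w ∉ Z := by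
  classical
  by_contra hcon
  push Not at hcon
  -- at most two cosets
  by_cases hVZ : V ≤ Z
  · rw [relIndex_eq_one.2 hVZ] at hq
    omega
  obtain ⟨v, hv, hvZ⟩ := SetLike.not_le_iff_exists.1 hVZ
  have hle : Z.relIndex V ≤ 2 := by
    have hsurj : Function.Surjective (fun b : Bool =>
        (QuotientGroup.mk (if b then (⟨v, hv⟩ : V) else 1) : V ⧸ Z.subgroupOf V)) := by
      intro x
      obtain ⟨w, rfl⟩ := QuotientGroup.mk_surjective x
      by_cases hw : (w : G) ∈ Z
      · refine ⟨false, ?_⟩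
        simp only [Bool.false_eq_true, if_false]
        rw [QuotientGroup.eq, mem_subgroupOf]
        simpa using hw
      · refine ⟨true, ?_⟩
        simp only [if_true]
        rw [QuotientGroup.eq, mem_subgroupOf]
        have h1 := hcon v hv w w.2 hvZ hw
        have h2 : v⁻¹ = v := inv_eq_of_mul_eq_one_left (hsq v hv)
        simpa [h2] using h1
    have h1 := Nat.card_le_card_of_surjective _ hsurj
    have h2 : Nat.card Bool = 2 := by simp
    rw [h2] at h1
    exact h1
  omega

/-- **At most one block** in the configuration of the unique maximal 2-local case. -/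
theorem one_block_config [Finite G] [Finite ι] (hG : IsCharacteristicTwoType G)
    (c : Config M T Y s) (h : MIn A T (bau T) (zj T) P s L Q V D)
    (hYP : Y ≤ normalizer (P : Set G)) {E : Subgroup G} (hE : E ∈ AA T) (hEP : E ≤ P)
    (hq : ∀ i, 2 < (zj T).relIndex (V i)) : Subsingleton ι := by
  constructor
  intro i i'
  by_contra hii
  have hP2 : IsPGroup 2 P := c.two.to_le h.P_le_T
  have hP0 : P ≠ ⊥ := by
    intro h0
    obtain ⟨d, hd, hd1⟩ := (h.dat i).exists_ne
    apply hd1
    have h1 := h.VP ((h.dat i).DV hd)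
    rw [h0] at h1
    simpa using h1
  have hJ : jj T = bau T := h.J_eq i (h.P_AA i hE hEP)
  exact one_block (JC.charTwo hG) h hZ_bau (c.two.to_le (bau_le T))
    (JC.hself hG c h i hP0 hYP) (jcond_of (JC.syl_P c hP2 hP0 hYP) hJ)
    (fun k => big_of ((h.dat k).Vsq) (hq k)) hii

end Cfsg.Agent.Omega.SQ1.Block
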