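import Cfsg.Agent.Omega.SQ1.FFOne
import Cfsg.Agent.Omega.SQ1.Choice

/-!
# SQ1, L1: the module `V = ⟨Ω₁(Z(T))^H⟩` of the chosen `H`

For the configuration `Config M₀ T H s` of `Choice.lean` and `V = zl T H`:

* `V ≤ O₂(H)` is elementary abelian, normal in `H`, centralised by `O₂(H)`;
* `J(T) ≰ O₂(H)` (`nle`), `C_T(V) ≤ O₂(H)` (`cT`), `J(T)` does not centralise `V` (`nJ`);
* `O₂(H / C_H(V)) = 1` (`core_quot`), and `V` has a `T`-fixed vector moved by `H` (`nfix`);
* Thompson's inequality `|V : C_V(A)| ≤ |A : C_A(V)|` for `A ∈ A(T)` (`off`).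
-/

set_option autoImplicit false
set_option linter.unusedSectionVars false
set_option linter.unusedVariables false
set_option linter.style.haveILetI false

namespace Cfsg.Agent.Omega.SQ1.VOf

open Subgroup Cfsg Cfsg.Agent.PLocal.ThompsonJ Cfsg.Agent.ZN Cfsg.Agent.ZN.ChoiceBase
open Cfsg.Agent.ZN.ChoiceSit
open Cfsg.Agent.PLocal.ElemAbSup
open Cfsg.Agent.Omega.SQ1.Bau (mem_AA_of_comm zj_le_AA elem_comm elem_sq mem_sup_comm card_sup_comm)
open Cfsg.Agent.Omega.SQ1.FFOne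
open Cfsg.Agent.Omega.SQ1.Choice (Config)
open scoped Pointwise

universe u

variable {G : Type u} [Group G] {H T : Subgroup G}

theorem zl_le {K : Subgroup G} (h : ∀ g ∈ H, ∀ z ∈ zc T, g * z * g⁻¹ ∈ K) : zl T H ≤ K := by
  refine iSup_le fun g => ?_
  rintro _ ⟨z, hz, rfl⟩
  exact h g g.2 z hz

theorem conj_mem_zl {g z : G} (hg : g ∈ H) (hz : z ∈ zc T) : g * z * g⁻¹ ∈ zl T H :=
  (le_iSup (fun g : H => (zc T).map (MulAut.conj (g : G)).toMonoidHom) ⟨g, hg⟩) ⟨z, hz, rfl⟩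

theorem zc_le_zl : zc T ≤ zl T H := by
  intro z hz
  have := conj_mem_zl (H := H) (one_mem H) hz
  simpa using this

theorem zc_norm [Finite G] {x z : G} (hx : x ∈ normalizer (T : Set G)) (hz : z ∈ zc T) :
    x * z * x⁻¹ ∈ zc T := by
  rw [mem_zc] at hz ⊢
  refine ⟨(mem_normalizer_iff.1 hx z).1 hz.1, ?_, fun y hy => ?_⟩
  · have h1 := hz.2.1
    rw [pow_two] at h1 ⊢
    calc x * z * x⁻¹ * (x * z * x⁻¹) = x * (z * z) * x⁻¹ := by group
      _ = 1 := by rw [h1]; group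
  · have hy' : x⁻¹ * y * x ∈ T := by
      have := (mem_normalizer_iff.1 (inv_mem hx) y).1 hy
      rwa [inv_inv] at this
    have h1 := hz.2.2 _ hy'
    calc y * (x * z * x⁻¹) = x * ((x⁻¹ * y * x) * z) * x⁻¹ := by group
      _ = x * (z * (x⁻¹ * y * x)) * x⁻¹ := by rw [h1]
      _ = _ := by group

theorem zl_norm : ∀ g ∈ H, ∀ v ∈ zl T H, g * v * g⁻¹ ∈ zl T H := by
  intro g hg v hv
  have hle : zl T H ≤ (zl T H).comap (MulAut.conj g).toMonoidHom := by
    refine zl_le fun x hx z hz => ?_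
    have e : (MulAut.conj g).toMonoidHom (x * z * x⁻¹) = (g * x) * z * (g * x)⁻¹ := by
      simp only [MulEquiv.toMonoidHom_eq_coe, MonoidHom.coe_coe, MulAut.conj_apply]
      group
    rw [mem_comap, e]
    exact conj_mem_zl (mul_mem hg hx) hz
  exact hle hv

namespace MinH

variable (h : MinH H T)

include h

theorem zc_le_o2 [Finite G] : zc T ≤ o2 H := by
  intro z hz
  have hz' := mem_zc.1 hz
  exact h.self_cent ⟨h.syl.1 hz'.1, mem_centralizer_iff.2 fun y hy => hz'.2.2 y (o2_le_syl h.syl hy)⟩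

theorem zl_le_o2 [Finite G] : zl T H ≤ o2 H :=
  zl_le fun g hg z hz => conj_mem_of_norm (le_normalizer_o2 H hg) (zc_le_o2 h hz)

/-- `O₂(H)` centralises `V`. -/
theorem o2_cent [Finite G] : ∀ x ∈ o2 H, ∀ v ∈ zl T H, x * v = v * x := by
  intro x hx v hv
  have hle : zl T H ≤ centralizer ((o2 H : Subgroup G) : Set G) := by
    refine zl_le fun g hg z hz => mem_centralizer_iff.2 fun y hy => ?_
    have hy' : g⁻¹ * y * g ∈ o2 H := by
      have := conj_mem_of_norm (le_normalizer_o2 H (inv_mem hg)) hy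
      rwa [inv_inv] at this
    have h1 := (mem_zc.1 hz).2.2 _ (o2_le_syl h.syl hy')
    calc y * (g * z * g⁻¹) = g * ((g⁻¹ * y * g) * z) * g⁻¹ := by group
      _ = g * (z * (g⁻¹ * y * g)) * g⁻¹ := by rw [h1]
      _ = _ := by group
  exact mem_centralizer_iff.1 (hle hv) x hx

theorem comm [Finite G] : ∀ v ∈ zl T H, ∀ w ∈ zl T H, v * w = w * v :=
  fun v hv w hw => o2_cent h v (zl_le_o2 h hv) w hw

theorem sq [Finite G] : ∀ v ∈ zl T H, v ^ 2 = 1 := by
  let S : Subgroup G :=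
    { carrier := {v | v ∈ zl T H ∧ v ^ 2 = 1}
      mul_mem' := by
        rintro a b ⟨ha, ha2⟩ ⟨hb, hb2⟩
        refine ⟨mul_mem ha hb, ?_⟩
        rw [(show Commute a b from comm h a ha b hb).mul_pow, ha2, hb2, one_mul]
      one_mem' := ⟨one_mem _, one_pow _⟩
      inv_mem' := by
        rintro a ⟨ha, ha2⟩
        exact ⟨inv_mem ha, by rw [inv_pow, ha2, inv_one]⟩ }
  have hle : zl T H ≤ S := zl_le fun g hg z hz => ⟨conj_mem_zl hg hz, by
    have h1 := (mem_zc.1 hz).2.1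
    rw [pow_two] at h1 ⊢
    calc g * z * g⁻¹ * (g * z * g⁻¹) = g * (z * z) * g⁻¹ := by group
      _ = 1 := by rw [h1]; group⟩
  exact fun v hv => (hle hv).2

theorem elem [Finite G] : IsElementaryAbelian 2 (zl T H) :=
  isElementaryAbelian_iff.2 ⟨comm h, sq h⟩

end MinH

variable {M₀ : Subgroup G} {s : G}

theorem minH (c : Config M₀ T H s) : MinH H T where
  syl := c.syl
  uniq := ⟨M₀, c.notM, fun X hTX hXH hne => c.min X hTX (lt_of_le_of_ne hXH hne)⟩
  self_cent := c.self_cent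

/-- `J(T) ≰ O₂(H)` -/
theorem nle (c : Config M₀ T H s) [Finite G] : ¬ jj T ≤ o2 H := by
  intro hle
  have h1 : jj (o2 H) = jj T := jj_eq_of_jj_le hle (o2_le_syl c.syl)
  have hne : jj T ≠ ⊥ := by
    intro h0
    -- a central involution of `T` lies in `J(T)`
    obtain ⟨A, hA⟩ := AA_nonempty T
    have hTne := c.ne
    have h2 : A = ⊥ := by
      rw [eq_bot_iff, ← h0]
      exact le_jj hA
    obtain ⟨x, hx1, hx2⟩ : ∃ x ∈ T, x ≠ 1 := by
      by_contra hc
      push Not at hc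
      exact hTne (eq_bot_iff.2 fun x hx => mem_bot.2 (hc x hx))
    obtain ⟨n, hn⟩ := c.two ⟨x, hx1⟩
    have hn' : x ^ 2 ^ n = 1 := by simpa using congrArg Subtype.val hn
    -- an involution of `T`
    obtain ⟨y, hyT, hy1, hy2⟩ : ∃ y ∈ T, y ≠ 1 ∧ y ^ 2 = 1 := by
      induction n generalizing x with
      | zero => exact absurd (by simpa using hn') hx2
      | succ n ih =>
        by_cases hxx : x ^ 2 = 1
        · exact ⟨x, hx1, hx2, hxx⟩
        · refine ih (x ^ 2) (pow_mem hx1 2) hxx ?_ ?_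
          · apply Subtype.ext
            simp only [SubmonoidClass.mk_pow, OneMemClass.coe_one]
            rw [← pow_mul, ← pow_succ']
            exact hn'
          · rw [← pow_mul, ← pow_succ']
            exact hn'
    have h3 := hA.2.2 (zpowers y) (isElementaryAbelian_zpowers hy2) (zpowers_le.2 hyT)
    rw [h2, Subgroup.card_bot] at h3
    have h4 : Nat.card (zpowers y) ≠ 1 := by
      rw [Nat.card_zpowers]
      exact fun h => hy1 (orderOf_eq_one_iff.1 h)
    have h5 : 0 < Nat.card (zpowers y) := Nat.card_pos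
    omega
  apply hne
  refine c.eq_bot (c.two.to_le (jj_le T)) ?_ ?_
  · rw [← h1]
    exact (le_normalizer_o2 H).trans (normalizer_le_of_cj (F := fun K => jj K) jj_cj (o2 H))
  · exact normalizer_le_of_cj (F := fun K => jj K) jj_cj T c.sN

theorem zc_ne (c : Config M₀ T H s) [Finite G] : zc T ≠ ⊥ := by
  have : Fact (Nat.Prime 2) := ⟨Nat.prime_two⟩
  haveI : Nontrivial T := (Subgroup.nontrivial_iff_ne_bot T).2 c.ne
  have h1 := c.two.center_nontrivial
  obtain ⟨⟨z, hz⟩, hz1⟩ := exists_ne (1 : center T)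
  have hzT := mem_center_iff.1 hz
  have hz1' : (z : G) ≠ 1 := fun e => hz1 (Subtype.ext (Subtype.ext e))
  have key : ∀ n : ℕ, ∀ x : G, x ∈ T → (∀ y ∈ T, y * x = x * y) → x ≠ 1 → x ^ 2 ^ n = 1 →
      ∃ y, y ∈ zc T ∧ y ≠ 1 := by
    intro n
    induction n with
    | zero => intro x _ _ hx1 hxn; exact absurd (by simpa using hxn) hx1
    | succ n ih =>
      intro x hx hxc hx1 hxn
      by_cases hxx : x ^ 2 = 1
      · exact ⟨x, mem_zc.2 ⟨hx, hxx, hxc⟩, hx1⟩
      · refine ih (x ^ 2) (pow_mem hx 2) (fun y hy => ?_) hxx (by rw [← pow_mul, ← pow_succ']; exact hxn)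
        exact ((show Commute y x from hxc y hy).pow_right 2).eq
  obtain ⟨n, hn⟩ := c.two z
  obtain ⟨y, hy, hy1⟩ := key n z z.2 (fun y hy => by
    have := hzT ⟨y, hy⟩
    exact congrArg Subtype.val this) hz1' (by simpa using congrArg Subtype.val hn)
  intro h0
  rw [h0] at hy
  exact hy1 (mem_bot.1 hy)

/-- `C_H(V) T ≠ H` -/
theorem cent_sup_ne (c : Config M₀ T H s) [Finite G] :
    (H ⊓ centralizer (zl T H : Set G)) ⊔ T ≠ H := by
  intro e
  apply zc_ne c
  refine c.eq_bot (c.two.to_le fun z hz => (mem_zc.1 hz).1) ?_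
    (mem_norm_of fun z hz => zc_norm c.sN hz)
  rw [← e]
  refine sup_le ?_ ?_
  · rintro x ⟨hx, hxc⟩
    refine mem_norm_of fun z hz => ?_
    have := mem_centralizer_iff.1 hxc z (zc_le_zl hz)
    have e : x * z * x⁻¹ = z := by rw [← this]; group
    rwa [e]
  · intro t ht
    refine mem_norm_of fun z hz => ?_
    have e : t * z * t⁻¹ = z := by rw [(mem_zc.1 hz).2.2 t ht]; group
    rwa [e]

theorem cent_norm : ∀ h ∈ H, ∀ n ∈ H ⊓ centralizer (zl T H : Set G),
    h * n * h⁻¹ ∈ H ⊓ centralizer (zl T H : Set G) := by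
  rintro g hg n ⟨hn, hnc⟩
  refine ⟨H.mul_mem (H.mul_mem hg hn) (H.inv_mem hg), mem_centralizer_iff.2 fun v hv => ?_⟩
  have hv' : g⁻¹ * v * g ∈ zl T H := by
    have := zl_norm g⁻¹ (inv_mem hg) v hv
    rwa [inv_inv] at this
  have h1 := mem_centralizer_iff.1 hnc _ hv'
  calc v * (g * n * g⁻¹) = g * ((g⁻¹ * v * g) * n) * g⁻¹ := by group
    _ = g * (n * (g⁻¹ * v * g)) * g⁻¹ := by rw [h1]
    _ = _ := by group

/-- `C_T(V) ≤ O₂(H)` -/
theorem cT (c : Config M₀ T H s) [Finite G] {t : G} (ht : t ∈ T)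
    (hc : ∀ v ∈ zl T H, t * v = v * t) : t ∈ o2 H :=
  (minH c).inf_le inf_le_left cent_norm (cent_sup_ne c)
    ⟨ht, c.TY ht, mem_centralizer_iff.2 fun v hv => (hc v hv).symm⟩

/-- `J(T)` does not centralise `V` -/
theorem nJ (c : Config M₀ T H s) [Finite G] : ∃ j ∈ jj T, ∃ v ∈ zl T H, j * v ≠ v * j := by
  by_contra hc
  push Not at hc
  exact nle c fun j hj => cT c (jj_le T hj) (hc j hj)

/-- `O₂(H/C_H(V)) = 1` -/
theorem core_quot (c : Config M₀ T H s) [Finite G] {R : Subgroup G} (hR : R ≤ H)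
    (hn : ∀ h ∈ H, ∀ r ∈ R, h * r * h⁻¹ ∈ R)
    (h1 : H ⊓ centralizer (zl T H : Set G) ≤ R)
    (h2 : R ≤ (H ⊓ centralizer (zl T H : Set G)) ⊔ T) : R ≤ centralizer (zl T H : Set G) := by
  have hne : R ⊔ T ≠ H := by
    intro e
    exact cent_sup_ne c (le_antisymm (sup_le inf_le_left c.TY)
      (e.ge.trans (sup_le h2 le_sup_right)))
  have h3 := (minH c).inf_le hR hn hne
  intro r hr
  have hKn : T ≤ normalizer ((H ⊓ centralizer (zl T H : Set G) : Subgroup G) : Set G) :=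
    fun t ht => mem_norm_of fun k hk => cent_norm t (c.TY ht) k hk
  have h4 : r ∈ ((H ⊓ centralizer (zl T H : Set G) : Subgroup G) : Set G) * (T : Set G) := by
    rw [← Subgroup.coe_mul_of_right_le_normalizer_left _ _ hKn]
    exact h2 hr
  obtain ⟨k, hk, t, ht, rfl⟩ := Set.mem_mul.1 h4
  have htR : t ∈ R := by
    have := mul_mem (inv_mem (h1 hk)) hr
    rwa [inv_mul_cancel_left] at this
  have h5 := h3 ⟨ht, htR⟩
  refine mul_mem (mem_inf.1 hk).2 ?_
  exact mem_centralizer_iff.2 fun v hv => (MinH.o2_cent (minH c) t h5 v hv).symm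

/-- a `T`-fixed vector of `V` moved by `H` -/
theorem nfix (c : Config M₀ T H s) [Finite G] :
    ∃ v ∈ zl T H, (∀ t ∈ T, t * v = v * t) ∧ ∃ x ∈ H, x * v ≠ v * x := by
  by_contra hcon
  push Not at hcon
  apply cent_sup_ne c
  apply le_antisymm (sup_le inf_le_left c.TY)
  have hz : ∀ z ∈ zc T, ∀ x ∈ H, x * z = z * x := fun z hz x hx =>
    hcon z (zc_le_zl hz) (mem_zc.1 hz).2.2 x hx
  refine le_trans ?_ le_sup_left
  intro x hx
  refine ⟨hx, mem_centralizer_iff.2 fun v hv => ?_⟩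
  have hle : zl T H ≤ centralizer (H : Set G) := zl_le fun g hg z hz' => by
    have e : g * z * g⁻¹ = z := by rw [hz z hz' g hg]; group
    rw [e]
    exact mem_centralizer_iff.2 fun y hy => hz z hz' y hy
  exact (mem_centralizer_iff.1 (hle hv) x hx).symm

/-- **Thompson's inequality**: `|V| |C_A(V)| ≤ |C_V(A)| |A|` for `A ∈ A(T)`. -/
theorem off (h : MinH H T) [Finite G] {A : Subgroup G} (hA : A ∈ AA T) :
    Nat.card (zl T H) * Nat.card ↥(A ⊓ centralizer (zl T H : Set G)) ≤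
      Nat.card ↥(zl T H ⊓ centralizer (A : Set G)) * Nat.card A := by
  set V := zl T H with hV
  set C := A ⊓ centralizer (V : Set G) with hC
  have hVT : V ≤ T := (MinH.zl_le_o2 h).trans (o2_le_syl h.syl)
  have hc : ∀ a ∈ C, ∀ v ∈ V, a * v = v * a := fun a ha v hv =>
    (mem_centralizer_iff.1 (mem_inf.1 ha).2 v hv).symm
  have h1 : IsElementaryAbelian 2 (C ⊔ V : Subgroup G) :=
    isElementaryAbelian_sup (isElementaryAbelian_mono hA.1 inf_le_left) (MinH.elem h)
      fun v hv => mem_centralizer_iff.2 fun a ha => hc a ha v hv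
  have h2 := hA.2.2 _ h1 (sup_le (inf_le_left.trans hA.2.1) hVT)
  have h3 := card_sup_comm hc
  have h4 : Nat.card ↥(C ⊓ V) ≤ Nat.card ↥(V ⊓ centralizer (A : Set G)) := by
    refine Subgroup.card_le_of_le ?_
    rintro x ⟨hx1, hx2⟩
    exact ⟨hx2, mem_centralizer_iff.2 fun a ha => elem_comm hA.1 a ha x (mem_inf.1 hx1).1⟩
  calc Nat.card V * Nat.card C = Nat.card ↥(C ⊔ V) * Nat.card ↥(C ⊓ V) := by rw [h3]; ring
    _ ≤ Nat.card A * Nat.card ↥(V ⊓ centralizer (A : Set G)) := Nat.mul_le_mul h2 h4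
    _ = _ := by ring

end Cfsg.Agent.Omega.SQ1.VOf
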