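import Cfsg.Agent.Omega.SQ1.BauKL
import Cfsg.Agent.Omega.PushUp.Last

/-!
# SQ1.3: the Baumann blocks satisfy the hypotheses of the pushing up theorem

`Bau.Blk.dat`: one summand.  `BauK.BlkK.dat`: several summands.
-/

set_option autoImplicit false

namespace Cfsg.Agent.Omega.SQ1

open Subgroup Cfsg Cfsg.Agent.PLocal.ThompsonJ Cfsg.Agent.ZN Cfsg.Agent.ZN.ChoiceBase
open Cfsg.Agent.PLocal.ElemAbSup
open scoped Pointwise commutatorElement

universe u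

variable {G : Type u} [Group G]

theorem relIndex_eq_of_card [Finite G] {K L : Subgroup G} {q : ℕ} (hKL : K ≤ L)
    (h : Nat.card L = Nat.card K * q) : K.relIndex L = q := by
  have h1 := Subgroup.card_mul_index (K.subgroupOf L)
  have h2 : Nat.card (K.subgroupOf L) = Nat.card K :=
    Nat.card_congr (Subgroup.subgroupOfEquivOfLe hKL).toEquiv
  rw [h2, h] at h1
  exact Nat.eq_of_mul_eq_mul_left Nat.card_pos h1

namespace Bau

open In (Y Z_le_Y V_le_Y)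

variable {H T Q V V1 V0 L : Subgroup G} {q : ℕ}

theorem In.Y_le_star (h : In H T Q V V1 V0 q) [Finite G] : Y T V ≤ bau T ⊓ Q := fun y hy =>
  h.mem_star_iff.2 ⟨h.QT (h.Y_le_Q hy), fun y' hy' => elem_comm h.Y_elem y hy y' hy'⟩

theorem In.bau_sq (h : In H T Q V V1 V0 q) [Finite G] {b : G} (hb : b ∈ bau T) :
    b * b ∈ bau T ⊓ Q := by
  obtain ⟨A, hA, hAQ⟩ := h.exists_off
  obtain ⟨a, ha, x, hx, rfl⟩ := h.bau_eq hA hAQ hb
  have haa : a * a = 1 := by have := elem_sq hA.1 a ha; rwa [pow_two] at this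
  have h1 := h.star_norm a (h.TH (hA.2.1 ha)) x hx
  have e : a * x * (a * x) = (a * x * a⁻¹) * (a * a) * x := by group
  rw [e, haa, mul_one]
  exact mul_mem h1 hx

theorem Blk.mv_iff' (k : Blk H T V1 L) (h : In H T Q V V1 V0 q) [Finite G] {l : G} (hl : l ∈ L) :
    Omega.PushUp.Mv (DD T V) (zj T) l ↔ Mv V1 l := by
  rw [h.mv_iff (k.LH hl)]
  exact Iff.rfl

/-- The pushing up data for one summand. -/
theorem Blk.dat (k : Blk H T V1 L) (h : In H T Q V V1 V0 q) [Finite G] {A : Subgroup G}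
    (hTA : T ≤ A) (hAT : A ≤ normalizer (T : Set G))
    (idx : ∀ a ∈ A, ∀ b ∈ A, a ∉ T → b ∉ T → a⁻¹ * b ∈ T)
    (hcore : ∀ R : Subgroup G, R ≤ T → (∀ x ∈ H, ∀ r ∈ R, x * r * x⁻¹ ∈ R) →
      (∀ a ∈ A, ∀ r ∈ R, a * r * a⁻¹ ∈ R) → R = ⊥) :
    Omega.PushUp.Dat A T L (bau T) (bau T ⊓ Q) (Y T V) (zj T) (DD T V) where
  TA := hTA
  idx := idx
  BT := bau_le T
  BL := k.BL
  QB := inf_le_left
  VQ := h.Y_le_star
  ZV := Z_le_Y T V
  DZ := h.D_le_Z
  AnB a ha b hb := In.norm_bau hAT ha hb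
  AnZ a ha b hb := In.norm_zj hAT ha hb
  LnQ := k.norm_star h
  LnV := k.norm_Y h
  BcZ b hb y hy := ((mem_bau.1 hb).2 y hy).symm
  Vsq v hv := by have := elem_sq h.Y_elem v hv; rwa [pow_two] at this
  QcV b hb hc := h.mem_star_iff.2 ⟨bau_le T hb, hc⟩
  VcQ x hx v hv := (h.mem_star_iff.1 hx).2 v hv
  Bsq b hb := h.bau_sq hb
  comm v hv b hb := by
    rw [← h.comm_Y]
    exact commutator_mem_commutator hv hb
  Dgen := by
    rw [DD, commutator_le]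
    exact fun v hv b hb => subset_closure ⟨v, V_le_Y T V hv, b, hb, rfl⟩
  ncomm v hv hvZ b hb hbQ hc := hvZ (h.cent_Y hb (fun h1 => hbQ ⟨hb, h1⟩) hv hc.symm)
  card := by
    rw [relIndex_eq_of_card inf_le_left h.card_bau, relIndex_eq_of_card (Z_le_Y T V) h.card_Y]
  gen l hl hm K hK hx := k.gen h hl ((k.mv_iff' h hl).1 hm) hK hx
  moves := by
    obtain ⟨l, hl, hm⟩ := k.mv
    exact ⟨l, hl, (k.mv_iff' h hl).2 hm⟩
  mvinv l hl hm := (k.mv_iff' h (inv_mem hl)).2 (mv_inv.2 ((k.mv_iff' h hl).1 hm))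
  side t ht l hl v hv := mem_sup_left (k.norm_Y h l hl _ (h.Y_norm t (h.TH ht) v hv))
  indep t ht _ v hv := h.Y_norm t (h.TH ht) v hv
  ti l hl hm b hb hbQ := by
    have h1 := h.bau_mv (k.LH (inv_mem hl)) (mv_inv.2 ((k.mv_iff' h hl).1 hm)) hb
      (fun h1 => hbQ ⟨hb, h1⟩)
    rw [inv_inv] at h1
    exact (k.mv_iff' h (mul_mem (mul_mem (inv_mem hl) (k.BL hb)) hl)).2 h1
  core R hR hL hA := k.core h hTA hcore (hR.trans (bau_le T)) hL hA

end Bau

namespace BauK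

open InK (St VL QL mem_QL mem_St comm_iff not_QL)
open BlkK (DK)
open Cfsg.Agent.Omega.SQ1.Bau (elem_comm elem_sq Mv mv_inv)

variable {H T Q V V0 L : Subgroup G} {ι : Type} {N E : ι → Subgroup G} {q : ℕ} {i : ι}

theorem BlkK.mv_iff' (k : BlkK H T V N i L) (h : InK H T Q V V0 N E q) [Finite G] {l : G}
    (hl : l ∈ L) : Omega.PushUp.Mv (DK T (N i)) (zj T) l ↔ Mv (V1 T V ⊓ N i) l := by
  rw [k.mv_iff h hl]
  exact Iff.rfl

/-- The pushing up data for a summand. -/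
theorem BlkK.dat (k : BlkK H T V N i L) (h : InK H T Q V V0 N E q) [Finite G] {A : Subgroup G}
    (hTA : T ≤ A) (hAT : A ≤ normalizer (T : Set G))
    (idx : ∀ a ∈ A, ∀ b ∈ A, a ∉ T → b ∉ T → a⁻¹ * b ∈ T)
    (hcore : ∀ R : Subgroup G, R ≤ T → (∀ x ∈ H, ∀ r ∈ R, x * r * x⁻¹ ∈ R) →
      (∀ a ∈ A, ∀ r ∈ R, a * r * a⁻¹ ∈ R) → R = ⊥) :
    Omega.PushUp.Dat A T L (bau T) (QL T (N i)) (VL T (N i)) (zj T) (DK T (N i)) where
  TA := hTA
  idx := idx
  BT := bau_le T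
  BL := k.BL
  QB := inf_le_left
  VQ := h.VL_le_QL i
  ZV := le_sup_left
  DZ := BlkK.D_le_Z h i
  AnB a ha b hb := Bau.In.norm_bau hAT ha hb
  AnZ a ha b hb := Bau.In.norm_zj hAT ha hb
  LnQ := k.QL_norm h
  LnV := k.VL_norm h
  BcZ b hb y hy := ((mem_bau.1 hb).2 y hy).symm
  Vsq v hv := by have := elem_sq (h.VL_elem i) v hv; rwa [pow_two] at this
  QcV b hb hc := h.mem_QL_iff.2 ⟨hb, hc⟩
  VcQ x hx v hv := (h.mem_QL_iff.1 hx).2 v hv
  Bsq b hb := h.bau_sq hb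
  comm v hv b hb := commutator_mem_commutator hv hb
  Dgen := by
    rw [DK, commutator_le]
    exact fun v hv b hb => subset_closure ⟨v, hv, b, hb, rfl⟩
  ncomm v hv hvZ b hb hbQ hc := hvZ (h.cent_VL hb hbQ hv hc.symm)
  card := by
    rw [relIndex_eq_of_card (K := QL T (N i)) inf_le_left (h.card_bau i),
      relIndex_eq_of_card (K := zj T) (L := VL T (N i)) le_sup_left (h.card_VL i)]
  gen l hl hm K hK hx := k.gen h hl ((k.mv_iff' h hl).1 hm) hK hx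
  moves := by
    obtain ⟨l, hl, hm⟩ := k.mv
    exact ⟨l, hl, (k.mv_iff' h hl).2 hm⟩
  mvinv l hl hm := (k.mv_iff' h (inv_mem hl)).2 (mv_inv.2 ((k.mv_iff' h hl).1 hm))
  side t ht l hl v hv := k.side h ht hl hv
  indep t ht hD v hv := by
    have h1 : cj t (VL T (N i)) = VL T (N i) := BlkK.indep h ht (by
      rintro _ ⟨d, hd, rfl⟩
      exact hD d hd)
    rw [← h1]
    exact ⟨v, hv, rfl⟩
  ti l hl hm b hb hbQ := by
    have h1 := h.bau_moves (k.LS h (inv_mem hl)) (mv_inv.2 ((k.mv_iff' h hl).1 hm)) hb hbQ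
    rw [inv_inv] at h1
    exact (k.mv_iff' h (mul_mem (mul_mem (inv_mem hl) (k.BL hb)) hl)).2 h1
  core R hR hL hA := k.core h hTA hcore (hR.trans (bau_le T)) hL hA

end BauK

end Cfsg.Agent.Omega.SQ1
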