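import Cfsg.Agent.Omega.SQ1.Bau

/-!
# SQ1.3: the minimal block (one natural `SL₂(q)`-module)
-/

set_option autoImplicit false

namespace Cfsg.Agent.Omega.SQ1.Bau

open Subgroup Cfsg Cfsg.Agent.PLocal.ThompsonJ Cfsg.Agent.ZN Cfsg.Agent.ZN.ChoiceBase
open Cfsg.Agent.PLocal.ElemAbSup
open scoped Pointwise commutatorElement

universe u

variable {G : Type u} [Group G]

/-- `g` moves `V1`. -/
def Mv (V1 : Subgroup G) (g : G) : Prop := ∃ v ∈ V1, g * v * g⁻¹ ∉ V1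

theorem not_mv_iff [Finite G] {V1 : Subgroup G} {g : G} :
    ¬ Mv V1 g ↔ g ∈ normalizer (V1 : Set G) := by
  constructor
  · intro h
    unfold Mv at h
    push Not at h
    refine mem_normalizer_of_cj_le ?_
    rintro _ ⟨v, hv, rfl⟩
    exact h v hv
  · rintro h ⟨v, hv, hv'⟩
    exact hv' ((mem_normalizer_iff.1 h v).1 hv)

theorem mv_inv [Finite G] {V1 : Subgroup G} {g : G} : Mv V1 g⁻¹ ↔ Mv V1 g := by
  rw [← not_iff_not, not_mv_iff, not_mv_iff, inv_mem_iff]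

/-- `[V, B]`. -/
def DD (T V : Subgroup G) : Subgroup G := ⁅V, bau T⁆

namespace In

variable {H T Q V V1 V0 : Subgroup G} {q : ℕ}

theorem bau_quad (h : In H T Q V V1 V0 q) [Finite G] {b v : G} (hb : b ∈ bau T) (hv : v ∈ V) :
    b * v * b⁻¹ * v⁻¹ ∈ V1 := by
  obtain ⟨j, hj, -, hact⟩ := h.bau_act hb
  rw [hact v hv]
  exact h.quad j hj v hv

theorem bau_V1 (h : In H T Q V V1 V0 q) [Finite G] {b v : G} (hb : b ∈ bau T) (hv : v ∈ V1) :
    b * v = v * b := ((mem_bau.1 hb).2 v (h.V1_le_Z hv)).symm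

theorem D_le_V1 (h : In H T Q V V1 V0 q) [Finite G] : DD T V ≤ V1 := by
  rw [DD, commutator_le]
  intro v hv b hb
  have h1 := inv_mem (h.bau_quad hb hv)
  have e : (b * v * b⁻¹ * v⁻¹)⁻¹ = ⁅v, b⁆ := by rw [commutatorElement_def]; group
  rwa [e] at h1

theorem D_le_V (h : In H T Q V V1 V0 q) [Finite G] : DD T V ≤ V := h.D_le_V1.trans h.V1V

theorem D_le_Z (h : In H T Q V V1 V0 q) [Finite G] : DD T V ≤ zj T := h.D_le_V1.trans h.V1_le_Z

theorem comm_Y (h : In H T Q V V1 V0 q) [Finite G] : ⁅Y T V, bau T⁆ = DD T V := by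
  apply le_antisymm
  · rw [commutator_le]
    intro y hy b hb
    obtain ⟨z, hz, v, hv, rfl⟩ := h.mem_Y hy
    have e1 : z * b = b * z := (mem_bau.1 hb).2 z hz
    have e2 : z * v = v * z := h.ZcV z hz v hv
    have e : ⁅z * v, b⁆ = ⁅v, b⁆ := by
      rw [commutatorElement_def, commutatorElement_def]
      calc z * v * b * (z * v)⁻¹ * b⁻¹ = (z * (v * b * v⁻¹)) * z⁻¹ * b⁻¹ := by group
        _ = ((v * b * v⁻¹) * z) * z⁻¹ * b⁻¹ := by
          rw [show z * (v * b * v⁻¹) = (v * b * v⁻¹) * z from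
            ((show Commute z v from e2).mul_right (show Commute z b from e1)).mul_right
              (show Commute z v from e2).inv_right]
        _ = _ := by group
    rw [e]
    exact commutator_mem_commutator hv hb
  · exact commutator_mono (V_le_Y T V) le_rfl

/-- An element of `B` outside `Q`. -/
theorem exists_b (h : In H T Q V V1 V0 q) [Finite G] : ∃ b ∈ bau T, b ∉ Q := by
  obtain ⟨j, hj, hjQ⟩ := SetLike.not_le_iff_exists.1 h.nle
  exact ⟨j, jj_le_bau T hj, hjQ⟩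

theorem faith_bau (h : In H T Q V V1 V0 q) [Finite G] {b : G} (hb : b ∈ bau T) (hbQ : b ∉ Q) :
    ∃ v ∈ V, b * v * b⁻¹ * v⁻¹ ∉ V0 := by
  obtain ⟨j, hj, hjQ, hact⟩ := h.bau_act hb
  obtain ⟨v, hv, hv0⟩ := h.faith j hj (hjQ hbQ)
  exact ⟨v, hv, by rwa [hact v hv]⟩

theorem D_not_le_V0 (h : In H T Q V V1 V0 q) [Finite G] : ¬ DD T V ≤ V0 := by
  intro hle
  obtain ⟨b, hb, hbQ⟩ := h.exists_b
  obtain ⟨v, hv, hv0⟩ := h.faith_bau hb hbQ
  apply hv0
  have h1 := inv_mem (hle (commutator_mem_commutator hv hb))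
  have e : (⁅v, b⁆)⁻¹ = b * v * b⁻¹ * v⁻¹ := by rw [commutatorElement_def]; group
  rwa [e] at h1

theorem D_ne_bot (h : In H T Q V V1 V0 q) [Finite G] : DD T V ≠ ⊥ := fun h0 =>
  h.D_not_le_V0 (by rw [h0]; exact bot_le)

/-- The subgroup `bau T` is normal in every group normalising `T`. -/
theorem norm_bau {A : Subgroup G} (hA : A ≤ normalizer (T : Set G)) {a : G}
    (ha : a ∈ A) {b : G} (hb : b ∈ bau T) : a * b * a⁻¹ ∈ bau T :=
  (mem_normalizer_iff.1 (normalizer_le_bau T (hA ha)) b).1 hb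

theorem norm_zj {A : Subgroup G} (hA : A ≤ normalizer (T : Set G)) {a : G}
    (ha : a ∈ A) {b : G} (hb : b ∈ zj T) : a * b * a⁻¹ ∈ zj T :=
  (mem_normalizer_iff.1 (normalizer_le_of_cj (F := zj) zj_cj T (hA ha)) b).1 hb

theorem T_norm_D (h : In H T Q V V1 V0 q) [Finite G] {t d : G} (ht : t ∈ T) (hd : d ∈ DD T V) :
    t * d * t⁻¹ ∈ DD T V := by
  have h1 : (DD T V).map (MulAut.conj t).toMonoidHom ≤ DD T V := by
    rw [DD, map_commutator, commutator_le]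
    rintro _ ⟨v, hv, rfl⟩ _ ⟨b, hb, rfl⟩
    exact commutator_mem_commutator (h.Vn t (h.TH ht) v hv)
      (norm_bau (A := T) le_normalizer ht hb)
  exact h1 ⟨d, hd, rfl⟩

/-- `g` moves `V1` iff `D^g` is not contained in `Z`. -/
theorem mv_iff (h : In H T Q V V1 V0 q) [Finite G] {g : G} (hg : g ∈ H) :
    Mv V1 g ↔ ∃ d ∈ DD T V, g * d * g⁻¹ ∉ zj T := by
  constructor
  · intro hm
    by_contra hc
    push Not at hc
    apply h.D_not_le_V0
    intro d hd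
    have h1 : g * d * g⁻¹ ∈ zj T ⊓ V := ⟨hc d hd, h.Vn g hg d (h.D_le_V hd)⟩
    rw [h.Z_inf_V] at h1
    have h2 := h.opp g hg hm d (h.D_le_V1 hd) h1
    have h3 := h.V0n g⁻¹ (inv_mem hg) _ h2
    have e : g⁻¹ * (g * d * g⁻¹) * g⁻¹⁻¹ = d := by group
    rwa [e] at h3
  · rintro ⟨d, hd, hd'⟩
    exact ⟨d, h.D_le_V1 hd, fun h1 => hd' (h.V1_le_Z h1)⟩

theorem bau_mv (h : In H T Q V V1 V0 q) [Finite G] {g b : G} (hg : g ∈ H) (hm : Mv V1 g)
    (hb : b ∈ bau T) (hbQ : b ∉ Q) : Mv V1 (g * b * g⁻¹) := h.bau_moves hg hm hb hbQ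

theorem mv_mul_left [Finite G] {g n : G} (hn : n ∈ normalizer (V1 : Set G)) (hm : Mv V1 g) :
    Mv V1 (n * g) := by
  by_contra hc
  rw [not_mv_iff] at hc
  have h1 : g ∈ normalizer (V1 : Set G) := by
    have := mul_mem (inv_mem hn) hc
    rwa [inv_mul_cancel_left] at this
  exact not_mv_iff.2 h1 hm

theorem mv_mul_right [Finite G] {g n : G} (hn : n ∈ normalizer (V1 : Set G)) (hm : Mv V1 g) :
    Mv V1 (g * n) := by
  by_contra hc
  rw [not_mv_iff] at hc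
  have h1 : g ∈ normalizer (V1 : Set G) := by
    have := mul_mem hc (inv_mem hn)
    rwa [mul_inv_cancel_right] at this
  exact not_mv_iff.2 h1 hm

theorem bau_norm_V1 (h : In H T Q V V1 V0 q) [Finite G] :
    bau T ≤ normalizer (V1 : Set G) := fun b hb => mem_normalizer_of_cj_le (by
    rintro _ ⟨v, hv, rfl⟩
    have e : (MulAut.conj b).toMonoidHom v = v := by
      simp only [MulEquiv.toMonoidHom_eq_coe, MonoidHom.coe_coe, MulAut.conj_apply]
      rw [h.bau_V1 hb hv]; group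
    rw [e]; exact hv)

theorem Q_cent_V (h : In H T Q V V1 V0 q) {x v : G} (hx : x ∈ Q) (hv : v ∈ V) :
    x * v * x⁻¹ = v := by rw [h.VcQ x hx v hv]; group

theorem T_norm_V1 (h : In H T Q V V1 V0 q) [Finite G] : T ≤ normalizer (V1 : Set G) :=
  fun t ht => mem_normalizer_of_cj_le (by
    rintro _ ⟨v, hv, rfl⟩
    have h1 : t * v * t⁻¹ ∈ zj T ⊓ V :=
      ⟨T_norm_Z T ht (h.V1_le_Z hv), h.Vn t (h.TH ht) v (h.V1V hv)⟩
    rw [h.Z_inf_V] at h1
    exact h1)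

/-! ### The intersection `Z ∩ Z^g` -/

theorem cjZ_le_Y (h : In H T Q V V1 V0 q) [Finite G] {g : G} (hg : g ∈ H) :
    cj g (zj T) ≤ Y T V := by
  rintro _ ⟨z, hz, rfl⟩
  exact h.Y_norm g hg z (Z_le_Y T V hz)

theorem V_inf_X (h : In H T Q V V1 V0 q) [Finite G] {g : G} (hg : g ∈ H) (hm : Mv V1 g) :
    V ⊓ (zj T ⊓ cj g (zj T)) = V0 := by
  apply le_antisymm
  · intro v hv
    obtain ⟨hvV, hvZ, hvg⟩ := hv
    have h1 : v ∈ V1 := by rw [← h.Z_inf_V]; exact ⟨hvZ, hvV⟩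
    have hvg' := mem_cj.1 hvg
    have h2 : g⁻¹ * v * g ∈ V1 := by
      rw [← h.Z_inf_V]
      refine ⟨hvg', ?_⟩
      have := h.Vn g⁻¹ (inv_mem hg) v hvV
      rwa [inv_inv] at this
    rw [← h.conj_inter hg hm]
    exact mem_inf.2 ⟨h1, mem_cj.2 h2⟩
  · intro v hv
    rw [← h.conj_inter hg hm] at hv
    obtain ⟨h1, h2⟩ := mem_inf.1 hv
    rw [mem_cj] at h2
    exact mem_inf.2 ⟨h.V1V h1, mem_inf.2 ⟨h.V1_le_Z h1, mem_cj.2 (h.V1_le_Z h2)⟩⟩

theorem card_X (h : In H T Q V V1 V0 q) [Finite G] {g : G} (hg : g ∈ H) (hm : Mv V1 g) :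
    Nat.card (zj T) = Nat.card ↥(zj T ⊓ cj g (zj T)) * q ∧
      V ⊔ (zj T ⊓ cj g (zj T)) = Y T V := by
  set X := zj T ⊓ cj g (zj T) with hX
  have hYc := elem_comm h.Y_elem
  have hc1 : ∀ a ∈ zj T, ∀ b ∈ cj g (zj T), a * b = b * a := fun a ha b hb =>
    hYc a (Z_le_Y T V ha) b (h.cjZ_le_Y hg hb)
  have h1 := card_sup_comm hc1
  rw [card_cj, ← hX] at h1
  have h2 : Nat.card ↥(zj T ⊔ cj g (zj T)) ≤ Nat.card (Y T V) :=
    Subgroup.card_le_of_le (sup_le (Z_le_Y T V) (h.cjZ_le_Y hg))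
  rw [h.card_Y] at h2
  have hZp : 0 < Nat.card (zj T) := Nat.card_pos
  have h3 : Nat.card (zj T) ≤ q * Nat.card X := by
    have e : Nat.card (zj T) * Nat.card (zj T) ≤ Nat.card (zj T) * (q * Nat.card X) := by
      rw [← h1]
      calc _ ≤ Nat.card (zj T) * q * Nat.card X := Nat.mul_le_mul_right _ h2
        _ = _ := by ring
    exact Nat.le_of_mul_le_mul_left e hZp
  have hc2 : ∀ v ∈ V, ∀ x ∈ X, v * x = x * v := fun v hv x hx => hYc v (V_le_Y T V hv) x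
    (Z_le_Y T V hx.1)
  have h4 := card_sup_comm hc2
  rw [h.V_inf_X hg hm, h.cardV] at h4
  have h5 : Nat.card ↥(V ⊔ X) = q * (q * Nat.card X) := by
    have hp : 0 < Nat.card V0 := Nat.card_pos
    have e : Nat.card ↥(V ⊔ X) * Nat.card V0 = q * (q * Nat.card X) * Nat.card V0 := by
      rw [h4, h.cardV1]; ring
    exact Nat.eq_of_mul_eq_mul_right hp e
  have hle : V ⊔ X ≤ Y T V := sup_le (V_le_Y T V) (inf_le_left.trans (Z_le_Y T V))
  have h6 : Nat.card (Y T V) ≤ Nat.card ↥(V ⊔ X) := by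
    rw [h5, h.card_Y, Nat.mul_comm q (q * _)]
    exact Nat.mul_le_mul_right _ h3
  have h7 := Subgroup.eq_of_le_of_card_ge hle h6
  refine ⟨?_, h7⟩
  have h8 : Nat.card ↥(V ⊔ X) = Nat.card (zj T) * q := by rw [h7, h.card_Y]
  rw [h5] at h8
  have hq : 0 < q := by have := h.one_lt; omega
  have e : Nat.card (zj T) * q = Nat.card X * q * q := by rw [← h8]; ring
  exact Nat.eq_of_mul_eq_mul_right hq e

theorem mem_Y_split (h : In H T Q V V1 V0 q) [Finite G] {g : G} (hg : g ∈ H) (hm : Mv V1 g)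
    {y : G} (hy : y ∈ Y T V) : ∃ v ∈ V, ∃ x ∈ zj T, g⁻¹ * x * g ∈ zj T ∧ y = v * x := by
  rw [← (h.card_X hg hm).2] at hy
  obtain ⟨v, hv, x, hx, rfl⟩ := mem_sup_comm (fun v hv x hx =>
    elem_comm h.Y_elem v (V_le_Y T V hv) x (Z_le_Y T V (mem_inf.1 hx).1)) hy
  exact ⟨v, hv, x, (mem_inf.1 hx).1, mem_cj.1 (mem_inf.1 hx).2, rfl⟩

/-- `Z = V1 (Z ∩ Z^g)`. -/
theorem mem_Z_split (h : In H T Q V V1 V0 q) [Finite G] {g : G} (hg : g ∈ H) (hm : Mv V1 g)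
    {z : G} (hz : z ∈ zj T) : ∃ v ∈ V1, ∃ x ∈ zj T, g⁻¹ * x * g ∈ zj T ∧ z = v * x := by
  obtain ⟨v, hv, x, hx, hx', rfl⟩ := h.mem_Y_split hg hm (Z_le_Y T V hz)
  refine ⟨v, ?_, x, hx, hx', rfl⟩
  rw [← h.Z_inf_V]
  refine ⟨?_, hv⟩
  have := mul_mem hz (inv_mem hx)
  rwa [mul_inv_cancel_right] at this

/-! ### Covering -/

/-- Every element of `V - V1` lies in a `B`-conjugate of `V1^g`. -/
theorem cover (h : In H T Q V V1 V0 q) [Finite G] {g : G} (hg : g ∈ H) (hm : Mv V1 g)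
    {v : G} (hv : v ∈ V) (hv1 : v ∉ V1) :
    ∃ b ∈ bau T, ∃ w ∈ V1, v = b * (g * w * g⁻¹) * b⁻¹ := by
  classical
  let W : Subgroup G := cj g V1
  have hWV : W ≤ V := h.cj_le_V hg
  have hWV1 : V1 ⊓ W = V0 := h.conj_inter hg hm
  have hV0W : V0 ≤ W := by rw [← hWV1]; exact inf_le_right
  have hbV : ∀ b ∈ bau T, ∀ v ∈ V, b * v * b⁻¹ ∈ V := fun b hb v hv =>
    h.Vn b (h.TH (bau_le T hb)) v hv
  -- the key: distinct cosets give disjoint conjugates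
  have key : ∀ b ∈ bau T, ∀ w ∈ W, ∀ w' ∈ W, b * w * b⁻¹ = w' → w ∉ V0 → b ∈ Q := by
    intro b hb w hw w' hw' e hw0
    by_contra hbQ
    -- `g⁻¹ b g` moves `V1`
    have hm1 : Mv V1 (g⁻¹ * b * g) := by
      have := h.bau_mv (inv_mem hg) (mv_inv.2 hm) hb hbQ
      rwa [inv_inv] at this
    have hH : g⁻¹ * b * g ∈ H := mul_mem (mul_mem (inv_mem hg) (h.TH (bau_le T hb))) hg
    have h1 := h.opp _ hH hm1 (g⁻¹ * w * g) (mem_cj.1 hw) (by
      have e1 : g⁻¹ * b * g * (g⁻¹ * w * g) * (g⁻¹ * b * g)⁻¹ = g⁻¹ * (b * w * b⁻¹) * g := by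
        group
      rw [e1, e]; exact mem_cj.1 hw')
    have e1 : g⁻¹ * b * g * (g⁻¹ * w * g) * (g⁻¹ * b * g)⁻¹ = g⁻¹ * (b * w * b⁻¹) * g := by group
    rw [e1] at h1
    have h2 := h.V0n g hg _ h1
    have e2 : g * (g⁻¹ * (b * w * b⁻¹) * g) * g⁻¹ = b * w * b⁻¹ := by group
    rw [e2] at h2
    have h3 := h.V0n b⁻¹ (inv_mem (h.TH (bau_le T hb))) _ h2
    have e3 : b⁻¹ * (b * w * b⁻¹) * b⁻¹⁻¹ = w := by group
    rw [e3] at h3
    exact hw0 h3
  let Qs : Subgroup ↥(bau T) := (bau T ⊓ Q).subgroupOf (bau T)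
  let F : (↥(bau T) ⧸ Qs) × {w : G // w ∈ W ∧ w ∉ V0} → {v : G // v ∈ V ∧ v ∉ V1} :=
    fun p => ⟨(p.1.out : G) * p.2.1 * (p.1.out : G)⁻¹, by
      refine ⟨hbV _ p.1.out.2 _ (hWV p.2.2.1), fun h1 => p.2.2.2 ?_⟩
      have h2 := h.bau_V1 p.1.out.2 h1
      have h3 : p.2.1 = (p.1.out : G) * p.2.1 * (p.1.out : G)⁻¹ := by
        have : (p.1.out : G)⁻¹ * ((p.1.out : G) * p.2.1 * (p.1.out : G)⁻¹) * (p.1.out : G) =
          (p.1.out : G) * p.2.1 * (p.1.out : G)⁻¹ := by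
          rw [mul_assoc, ← h2]; group
        rw [← this]; group
      rw [← h3] at h1
      exact hWV1.le (mem_inf.2 ⟨h1, p.2.2.1⟩)⟩
  have hF : Function.Injective F := by
    rintro ⟨c, w⟩ ⟨c', w'⟩ hcc
    have h1 : (c.out : G) * w.1 * (c.out : G)⁻¹ = (c'.out : G) * w'.1 * (c'.out : G)⁻¹ :=
      congrArg Subtype.val hcc
    have h2 : ((c'.out : G)⁻¹ * (c.out : G)) * w.1 * ((c'.out : G)⁻¹ * (c.out : G))⁻¹ = w'.1 := by
      have : ((c'.out : G)⁻¹ * (c.out : G)) * w.1 * ((c'.out : G)⁻¹ * (c.out : G))⁻¹ =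
        (c'.out : G)⁻¹ * ((c.out : G) * w.1 * (c.out : G)⁻¹) * (c'.out : G) := by group
      rw [this, h1]; group
    have hB : (c'.out : G)⁻¹ * (c.out : G) ∈ bau T := mul_mem (inv_mem c'.out.2) c.out.2
    have h3 := key _ hB w.1 w.2.1 w'.1 w'.2.1 h2 w.2.2
    have h4 : c = c' := by
      rw [← c.out_eq, ← c'.out_eq, eq_comm]
      refine QuotientGroup.eq.2 ?_
      exact mem_subgroupOf.2 ⟨hB, h3⟩
    subst h4
    have h5 : w = w' := by
      apply Subtype.ext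
      rw [← h2]; group
    rw [h5]
  -- cardinalities
  have hq := h.one_lt
  have c1 : Nat.card (↥(bau T) ⧸ Qs) = q := by
    have e1 : Nat.card (↥(bau T) ⧸ Qs) * Nat.card Qs = Nat.card (bau T) :=
      (Subgroup.card_eq_card_quotient_mul_card_subgroup Qs).symm
    have e2 : Nat.card Qs = Nat.card ↥(bau T ⊓ Q) :=
      Nat.card_congr (Subgroup.subgroupOfEquivOfLe inf_le_left).toEquiv
    rw [e2, h.card_bau, Nat.mul_comm (Nat.card ↥(bau T ⊓ Q)) q] at e1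
    exact Nat.eq_of_mul_eq_mul_right Nat.card_pos e1
  have diff : ∀ X U : Subgroup G, U ≤ X →
      Nat.card {x : G // x ∈ X ∧ x ∉ U} + Nat.card U = Nat.card X := by
    intro X U hUX
    have hf : (X : Set G).Finite := Set.toFinite _
    have e1 : Nat.card {x : G // x ∈ X ∧ x ∉ U} = ((X : Set G) \ (U : Set G)).ncard := rfl
    have e2 : Nat.card U = (U : Set G).ncard := rfl
    have e3 : Nat.card X = (X : Set G).ncard := rfl
    rw [e1, e2, e3]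
    exact Set.ncard_sdiff_add_ncard_of_subset hUX
  have c2 := diff W V0 hV0W
  have c3 := diff V V1 h.V1V
  have c4 : Nat.card W = Nat.card V1 := card_cj g V1
  rw [c4, h.cardV1] at c2
  rw [h.cardV, h.cardV1] at c3
  have c5 : Nat.card ((↥(bau T) ⧸ Qs) × {w : G // w ∈ W ∧ w ∉ V0}) =
      Nat.card {v : G // v ∈ V ∧ v ∉ V1} := by
    rw [Nat.card_prod, c1]
    have e : q * Nat.card {w : G // w ∈ W ∧ w ∉ V0} + Nat.card V0 * q =
      Nat.card {v : G // v ∈ V ∧ v ∉ V1} + Nat.card V0 * q := by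
      rw [c3]
      calc _ = q * (Nat.card {w : G // w ∈ W ∧ w ∉ V0} + Nat.card V0) := by ring
        _ = _ := by rw [c2]; ring
    omega
  have hsur : Function.Surjective F := ((Nat.bijective_iff_injective_and_card F).2 ⟨hF, c5⟩).2
  obtain ⟨⟨c, w⟩, hcw⟩ := hsur ⟨v, hv, hv1⟩
  refine ⟨c.out, c.out.2, g⁻¹ * w.1 * g, mem_cj.1 w.2.1, ?_⟩
  have h6 : (c.out : G) * w.1 * (c.out : G)⁻¹ = v := congrArg Subtype.val hcw
  rw [← h6]
  group

/-- `B` is transitive on the conjugates of `V1` different from `V1`. -/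
theorem class_conj (h : In H T Q V V1 V0 q) [Finite G] {g g' : G} (hg : g ∈ H) (hm : Mv V1 g)
    (hg' : g' ∈ H) (hm' : Mv V1 g') : ∃ b ∈ bau T, cj (b * g) V1 = cj g' V1 := by
  -- an element of `V1^g' - V0`
  obtain ⟨w, hw, hw0⟩ : ∃ w ∈ V1, w ∉ V0 := by
    by_contra hc
    push Not at hc
    have h1 : Nat.card V1 ≤ Nat.card V0 := Subgroup.card_le_of_le (fun x hx => hc x hx)
    rw [h.cardV1] at h1
    have hp : 0 < Nat.card V0 := Nat.card_pos
    have := h.one_lt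
    have h2 : Nat.card V0 * 2 ≤ Nat.card V0 * q := Nat.mul_le_mul_left _ this
    omega
  have hv : g' * w * g'⁻¹ ∈ V := h.Vn g' hg' w (h.V1V hw)
  have hv0 : g' * w * g'⁻¹ ∉ V0 := by
    intro h1
    apply hw0
    have := h.V0n g'⁻¹ (inv_mem hg') _ h1
    have e : g'⁻¹ * (g' * w * g'⁻¹) * g'⁻¹⁻¹ = w := by group
    rwa [e] at this
  have hv1 : g' * w * g'⁻¹ ∉ V1 := fun h1 => hv0 (h.opp g' hg' hm' w hw h1)
  obtain ⟨b, hb, u, hu, e⟩ := h.cover hg hm hv hv1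
  refine ⟨b, hb, ?_⟩
  by_contra hne
  -- `(b g)⁻¹ g'` moves `V1`
  have hbg : b * g ∈ H := mul_mem (h.TH (bau_le T hb)) hg
  have hm2 : Mv V1 ((b * g)⁻¹ * g') := by
    by_contra hc
    rw [not_mv_iff] at hc
    apply hne
    have := cj_eq_of_mem_normalizer hc
    have e2 : cj g' V1 = cj (b * g) (cj ((b * g)⁻¹ * g') V1) := by
      rw [cj_cj, mul_inv_cancel_left]
    rw [e2, this]
  have h3 := h.opp _ (mul_mem (inv_mem hbg) hg') hm2 w hw (by
    have e3 : (b * g)⁻¹ * g' * w * ((b * g)⁻¹ * g')⁻¹ = (b * g)⁻¹ * (g' * w * g'⁻¹) * (b * g) := by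
      group
    rw [e3, e]
    have e4 : (b * g)⁻¹ * (b * (g * u * g⁻¹) * b⁻¹) * (b * g) = u := by group
    rw [e4]; exact hu)
  apply hv0
  have h4 := h.V0n _ hbg _ h3
  have e5 : b * g * ((b * g)⁻¹ * g' * w * ((b * g)⁻¹ * g')⁻¹) * (b * g)⁻¹ = g' * w * g'⁻¹ := by
    group
  rwa [e5] at h4

end In

end Cfsg.Agent.Omega.SQ1.Bau
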