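import Cfsg.Agent.Omega.SQ1.MatchOne
import Cfsg.Agent.Omega.SQ1.BauL
import Cfsg.Agent.Omega.SQ1.FFIn
import Cfsg.Agent.Omega.SQ1.Kill

/-!
# SQ1, one block, `b = 1`, `q ≥ 4`: the group `L` (text 2, (4.4))

`L = ⟨B, B^g⟩` (for any `g ∈ H` moving `V1`) satisfies: `L ∩ O₂(H) = Y`, `L` is normal in `H`, `H = L T`,
`L ∩ T = B`, `L` acts on `V / V0` as `SL₂(F)` with kernel `Y`; `C = C_Y(L) = Z ∩ Z^g` is normal in `H`,
`|Z : C| = q`, `Y = V C`, `C ∩ C^s = 1`; `[Q, L] ≤ Y`.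
-/

set_option autoImplicit false
set_option linter.unusedSectionVars false
set_option linter.unusedVariables false

namespace Cfsg.Agent.Omega.SQ1.MatchL

open Subgroup Cfsg Cfsg.Agent.PLocal.ThompsonJ Cfsg.Agent.ZN Cfsg.Agent.ZN.ChoiceBase
open Cfsg.Agent.ZN.ChoiceSit
open Cfsg.Agent.Omega.NatPair Cfsg.Agent.Lib.SL2Mat
open Cfsg.Agent.PLocal.ElemAbSup
open Cfsg.Agent.Omega.SQ1.Bau
open Cfsg.Agent.Omega.SQ1.Bau.In (Y Z_le_Y V_le_Y)
open Cfsg.Agent.Omega.SQ1.FFOne Cfsg.Agent.Omega.SQ1.MatchOne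
open scoped Pointwise commutatorElement

universe u

variable {G : Type u} [Group G]

/-! ### Tools -/

/-- `{x ∈ H | [x, K] ≤ N}` for `N` normalised by `H` -/
def actSub (H N K : Subgroup G) (hN : ∀ h ∈ H, ∀ n ∈ N, h * n * h⁻¹ ∈ N) : Subgroup G where
  carrier := {x | x ∈ H ∧ ∀ y ∈ K, x * y * x⁻¹ * y⁻¹ ∈ N}
  mul_mem' := by
    rintro a b ⟨ha, ha'⟩ ⟨hb, hb'⟩
    refine ⟨mul_mem ha hb, fun y hy => ?_⟩
    have e : a * b * y * (a * b)⁻¹ * y⁻¹ = (a * (b * y * b⁻¹ * y⁻¹) * a⁻¹) * (a * y * a⁻¹ * y⁻¹) := by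
      group
    rw [e]
    exact mul_mem (hN a ha _ (hb' y hy)) (ha' y hy)
  one_mem' := ⟨one_mem H, fun y hy => by simp⟩
  inv_mem' := by
    rintro a ⟨ha, ha'⟩
    refine ⟨inv_mem ha, fun y hy => ?_⟩
    have e : a⁻¹ * y * a⁻¹⁻¹ * y⁻¹ = a⁻¹ * (a * y * a⁻¹ * y⁻¹)⁻¹ * a⁻¹⁻¹ := by group
    rw [e]
    exact hN _ (inv_mem ha) _ (inv_mem (ha' y hy))

/-- the normal closure of `K` in `H` -/
def nc (H K : Subgroup G) : Subgroup G := closure {x | ∃ g ∈ H, ∃ b ∈ K, x = g * b * g⁻¹}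

theorem nc_le {H K S : Subgroup G} (h : ∀ g ∈ H, ∀ b ∈ K, g * b * g⁻¹ ∈ S) : nc H K ≤ S := by
  rw [nc, closure_le]
  rintro _ ⟨g, hg, b, hb, rfl⟩
  exact h g hg b hb

theorem le_nc {H K : Subgroup G} {g b : G} (hg : g ∈ H) (hb : b ∈ K) : g * b * g⁻¹ ∈ nc H K :=
  subset_closure ⟨g, hg, b, hb, rfl⟩

theorem le_nc' {H K : Subgroup G} : K ≤ nc H K := by
  intro b hb
  have := le_nc (H := H) (one_mem H) hb
  simpa using this

theorem nc_norm {H K : Subgroup G} {g x : G} (hg : g ∈ H) (hx : x ∈ nc H K) :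
    g * x * g⁻¹ ∈ nc H K := by
  have hle : nc H K ≤ (nc H K).comap (MulAut.conj g).toMonoidHom := by
    refine nc_le fun g' hg' b hb => ?_
    have e : (MulAut.conj g).toMonoidHom (g' * b * g'⁻¹) = (g * g') * b * (g * g')⁻¹ := by
      simp only [MulEquiv.toMonoidHom_eq_coe, MonoidHom.coe_coe, MulAut.conj_apply]
      group
    rw [mem_comap, e]
    exact le_nc (mul_mem hg hg') hb
  exact hle hx

theorem commutator_le_right' (L : Subgroup G) : ⁅L, L⁆ ≤ L := by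
  rw [commutator_le]
  intro a ha b hb
  rw [commutatorElement_def]
  exact mul_mem (mul_mem (mul_mem ha hb) (inv_mem ha)) (inv_mem hb)

/-- a subgroup without nontrivial elements of odd order is a 2-group -/
theorem isPGroup_of_odd [Finite G] {N : Subgroup G}
    (h : ∀ x ∈ N, ∀ n : ℕ, Odd n → x ^ n = 1 → x = 1) : IsPGroup 2 N := by
  intro x
  obtain ⟨k, m, hm, e⟩ := Nat.exists_eq_two_pow_mul_odd (orderOf_pos (x : G)).ne'
  refine ⟨k, Subtype.ext ?_⟩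
  have h1 : ((x : G) ^ 2 ^ k) ^ m = 1 := by
    rw [← pow_mul, ← e, pow_orderOf_eq_one]
  have := h _ (pow_mem x.2 (2 ^ k)) m hm h1
  simpa using this

variable {F : Type*} [Field F] {H T V V0 : Subgroup G} {s : G}

/-- Input for (4.4) -/
structure LSit (M : FF F H T V V0) (s : G) : Prop where
  hm : MinH H T
  sit : Sit H T (o2 H) V M.V1 V0 (Nat.card F) s

namespace LSit

variable {M : FF F H T V V0}

theorem TH (h : LSit M s) : T ≤ H := h.hm.syl.1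

/-- `b ∈ B` acts as an `up c` -/
theorem bau_up [Finite G] [Finite F] [CharP F 2] (h : LSit M s) {b : G} (hb : b ∈ bau T) :
    ∃ c : F, M.Ind b (up c) := by
  refine M.up_of_comm h.hm (bau_le T hb) fun v hv => ?_
  rw [h.sit.B_cent_Z hb (h.sit.dd.V1_le_Z hv), mul_inv_cancel_right]

theorem exists_b [Finite G] [CharP F 2] (h : LSit M s) (c : F) : ∃ b ∈ bau T, M.Ind b (up c) := by
  obtain ⟨j, hj, hc⟩ := M.exists_j h.hm c
  exact ⟨j, jj_le_bau T hj, hc⟩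

theorem J_SL [Finite G] [Finite F] [CharP F 2] (h : LSit M s) {x : G} (hx : x ∈ nc H (bau T)) :
    x ∈ H ∧ ∃ A, M.Ind x A := by
  let S : Subgroup G :=
    { carrier := {x | x ∈ H ∧ ∃ A, M.Ind x A}
      mul_mem' := by
        rintro a b ⟨ha, A, hA⟩ ⟨hb, B, hB⟩
        exact ⟨mul_mem ha hb, A * B, M.ind_mul ha hb hA hB⟩
      one_mem' := ⟨one_mem H, 1, M.ind_one⟩
      inv_mem' := by
        rintro a ⟨ha, A, hA⟩
        exact ⟨inv_mem ha, A⁻¹, M.ind_inv ha hA⟩ }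
  have hle : nc H (bau T) ≤ S := by
    refine nc_le fun g hg b hb => ?_
    obtain ⟨c, hc⟩ := h.bau_up hb
    have hbH := h.TH (bau_le T hb)
    exact ⟨mul_mem (mul_mem hg hbH) (inv_mem hg), M.norm g hg b hbH _ hc⟩
  exact hle hx

theorem J_le [Finite G] [Finite F] [CharP F 2] (h : LSit M s) : nc H (bau T) ≤ H := fun _ hx => (h.J_SL hx).1

/-- `J` centralises `V0` -/
theorem J_V0 [Finite G] [Finite F] [CharP F 2] (h : LSit M s) {x v : G} (hx : x ∈ nc H (bau T))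
    (hv : v ∈ V0) : x * v = v * x := by
  have hle : nc H (bau T) ≤ centralizer (V0 : Set G) := by
    refine nc_le fun g hg b hb => ?_
    rw [mem_centralizer_iff]
    intro w hw
    have h1 := M.V0n g⁻¹ (inv_mem hg) w hw
    rw [inv_inv] at h1
    have h2 : b * (g⁻¹ * w * g) = g⁻¹ * w * g * b :=
      h.sit.B_cent_Z hb (h.sit.dd.V1_le_Z (M.V01 h1))
    calc w * (g * b * g⁻¹) = g * ((g⁻¹ * w * g) * b) * g⁻¹ := by group
      _ = g * (b * (g⁻¹ * w * g)) * g⁻¹ := by rw [h2]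
      _ = _ := by group
  exact (mem_centralizer_iff.1 (hle hx) v hv).symm

/-- `[J, Y] ≤ V` -/
theorem J_Y [Finite G] [Finite F] [CharP F 2] (h : LSit M s) {x y : G} (hx : x ∈ nc H (bau T))
    (hy : y ∈ Y T V) : x * y * x⁻¹ * y⁻¹ ∈ V := by
  have hle : nc H (bau T) ≤ actSub H V (Y T V) M.Vn := by
    refine nc_le fun g hg b hb => ⟨mul_mem (mul_mem hg (h.TH (bau_le T hb))) (inv_mem hg), ?_⟩
    intro y hy
    have hy' : g⁻¹ * y * g ∈ Y T V := by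
      have := h.sit.dd.Y_norm g⁻¹ (inv_mem hg) y hy
      rwa [inv_inv] at this
    have h1 := M.Vn g hg _ (M.V1V (h.sit.comm_mem hb hy'))
    have e : g * (b * (g⁻¹ * y * g) * b⁻¹ * (g⁻¹ * y * g)⁻¹) * g⁻¹ =
      g * b * g⁻¹ * y * (g * b * g⁻¹)⁻¹ * y⁻¹ := by group
    rwa [e] at h1
  exact (hle hx).2 y hy

/-- `[J, Q] ≤ Y` -/
theorem J_Q [Finite G] [Finite F] [CharP F 2] (h : LSit M s) {x y : G} (hx : x ∈ nc H (bau T))
    (hy : y ∈ o2 H) : x * y * x⁻¹ * y⁻¹ ∈ Y T V := by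
  have hle : nc H (bau T) ≤ actSub H (Y T V) (o2 H) h.sit.dd.Y_norm := by
    refine nc_le fun g hg b hb => ⟨mul_mem (mul_mem hg (h.TH (bau_le T hb))) (inv_mem hg), ?_⟩
    intro y hy
    have hy' : g⁻¹ * y * g ∈ o2 H := by
      have := conj_mem_of_norm (le_normalizer_o2 H (inv_mem hg)) hy
      rwa [inv_inv] at this
    have hbH := h.TH (bau_le T hb)
    have h1 : b * (g⁻¹ * y * g) * b⁻¹ * (g⁻¹ * y * g)⁻¹ ∈ bau T ⊓ o2 H := by
      refine ⟨?_, ?_⟩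
      · have h2 : (g⁻¹ * y * g) * b⁻¹ * (g⁻¹ * y * g)⁻¹ ∈ bau T :=
          conj_mem_of_norm (normalizer_le_bau T (le_normalizer (h.sit.dd.QT hy'))) (inv_mem hb)
        have e : b * (g⁻¹ * y * g) * b⁻¹ * (g⁻¹ * y * g)⁻¹ =
          b * ((g⁻¹ * y * g) * b⁻¹ * (g⁻¹ * y * g)⁻¹) := by group
        rw [e]
        exact mul_mem hb h2
      · exact (o2 H).mul_mem (conj_mem_of_norm (le_normalizer_o2 H hbH) hy') ((o2 H).inv_mem hy')
    rw [h.sit.star_eq] at h1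
    have h2 := h.sit.dd.Y_norm g hg _ h1
    have e : g * (b * (g⁻¹ * y * g) * b⁻¹ * (g⁻¹ * y * g)⁻¹) * g⁻¹ =
      g * b * g⁻¹ * y * (g * b * g⁻¹)⁻¹ * y⁻¹ := by group
    rwa [e] at h2
  exact (hle hx).2 y hy

/-- `J ∩ C_H(V/V0) ≤ Q` -/
theorem J_kern [Finite G] [Finite F] [CharP F 2] (h : LSit M s) :
    nc H (bau T) ⊓ M.kern ≤ o2 H := by
  have hV : IsPGroup 2 V := h.sit.two.to_le (M.VQ.trans (o2_le_syl h.hm.syl))
  have hV0 : IsPGroup 2 V0 := hV.to_le M.V0V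
  have hYp : IsPGroup 2 (Y T V) :=
    h.sit.two.to_le (h.sit.dd.Y_le_Q.trans (o2_le_syl h.hm.syl))
  have key : ∀ x ∈ nc H (bau T) ⊓ M.kern, ∀ n : ℕ, Odd n → x ^ n = 1 → x = 1 := by
    rintro x ⟨hxJ, hxK⟩ n hn hxn
    have hxH := h.J_le hxJ
    have h1 : ∀ v ∈ V, x * v = v * x := fun v hv =>
      Kill.comm_of_odd hxn hn hV0 ((M.mem_kern_iff hxH).1 hxK v hv)
        (h.J_V0 hxJ ((M.mem_kern_iff hxH).1 hxK v hv))
    have h2 : ∀ y ∈ Y T V, x * y = y * x := fun y hy =>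
      Kill.comm_of_odd hxn hn hV (h.J_Y hxJ hy) (h1 _ (h.J_Y hxJ hy))
    have h3 : ∀ y ∈ o2 H, x * y = y * x := fun y hy =>
      Kill.comm_of_odd hxn hn hYp (h.J_Q hxJ hy) (h2 _ (h.J_Q hxJ hy))
    have h4 : x ∈ o2 H := h.hm.self_cent ⟨hxH, mem_centralizer_iff.2 fun y hy => (h3 y hy).symm⟩
    obtain ⟨k, hk⟩ := isPGroup_o2 H ⟨x, h4⟩
    have hk' : x ^ 2 ^ k = 1 := by simpa using congrArg Subtype.val hk
    have h5 : orderOf x ∣ 2 ^ k := orderOf_dvd_of_pow_eq_one hk'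
    have h6 : orderOf x ∣ n := orderOf_dvd_of_pow_eq_one hxn
    exact orderOf_eq_one_iff.1 (Nat.eq_one_of_dvd_coprimes
      (Nat.Coprime.pow_left _ (Nat.coprime_two_left.2 hn)) h5 h6)
  refine le_o2 (isPGroup_of_odd key) (inf_le_left.trans h.J_le) ?_
  intro g hg
  refine mem_norm_of ?_
  rintro k ⟨hk1, hk2⟩
  exact ⟨nc_norm hg hk1, M.kern_norm hg hk2⟩

/-! ### The group `L = ⟨B, B^g⟩` -/

/-- `⟨B, B^g⟩` -/
def Lg (T : Subgroup G) (g : G) : Subgroup G := bau T ⊔ cj g (bau T)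

theorem B_le_L (T : Subgroup G) (g : G) : bau T ≤ Lg T g := le_sup_left

theorem L_le_J (h : LSit M s) {g : G} (hg : g ∈ H) : Lg T g ≤ nc H (bau T) := by
  refine sup_le le_nc' ?_
  rintro _ ⟨b, hb, rfl⟩
  exact le_nc hg hb

theorem Lg_le [Finite G] [Finite F] [CharP F 2] (h : LSit M s) {g : G} (hg : g ∈ H) : Lg T g ≤ H :=
  (h.L_le_J hg).trans h.J_le

theorem Mv_iff (h : LSit M s) [Finite G] [Finite F] {g : G} (hg : g ∈ H) :
    Mv M.V1 g ↔ M.act g ![1, 0] 1 ≠ 0 := by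
  rw [Ne, ← M.mem_norm_V1 hg, ← not_mv_iff, not_not]

/-- `L` is centralised on `Z ∩ Z^g`. -/
theorem L_cent (h : LSit M s) {g x y : G} (hx : x ∈ Lg T g)
    (hy : y ∈ zj T ⊓ cj g (zj T)) : x * y = y * x := by
  have hle : Lg T g ≤ centralizer ((zj T ⊓ cj g (zj T) : Subgroup G) : Set G) := by
    refine sup_le ?_ ?_
    · intro b hb
      exact mem_centralizer_iff.2 fun z hz => (h.sit.B_cent_Z hb (mem_inf.1 hz).1).symm
    · rintro _ ⟨b, hb, rfl⟩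
      refine mem_centralizer_iff.2 fun z hz => ?_
      obtain ⟨z', hz', rfl⟩ := (mem_inf.1 hz).2
      have h1 := h.sit.B_cent_Z hb hz'
      simp only [MulEquiv.toMonoidHom_eq_coe, MonoidHom.coe_coe, MulAut.conj_apply]
      calc g * z' * g⁻¹ * (g * b * g⁻¹) = g * (z' * b) * g⁻¹ := by group
        _ = g * (b * z') * g⁻¹ := by rw [h1]
        _ = _ := by group
  exact (mem_centralizer_iff.1 (hle hx) y hy).symm

/-- `L ∩ Q = Y` -/
theorem L_inf_Q [Finite G] [Finite F] [CharP F 2] (h : LSit M s) {g : G} (hg : g ∈ H)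
    (hm : Mv M.V1 g) : Lg T g ⊓ o2 H = Y T V := by
  apply le_antisymm
  · rintro x ⟨hx, hxQ⟩
    rw [← h.sit.star_eq, h.sit.dd.mem_star_iff]
    refine ⟨h.sit.dd.QT hxQ, fun y hy => ?_⟩
    rw [← (h.sit.dd.card_X hg hm).2] at hy
    obtain ⟨v, hv, z, hz, rfl⟩ := mem_sup_comm (fun v hv z hz =>
      elem_comm h.sit.dd.Y_elem v (V_le_Y T V hv) z (Z_le_Y T V (mem_inf.1 hz).1)) hy
    have h1 := M.VcQ x hxQ v hv
    have h2 := h.L_cent hx hz
    calc x * (v * z) = (x * v) * z := by group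
      _ = v * (x * z) := by rw [h1]; group
      _ = v * z * x := by rw [h2]; group
  · exact le_inf (h.sit.Y_le_B.trans (B_le_L T g)) h.sit.dd.Y_le_Q

/-- all `up c` are induced by elements of `L`, and all `lo a` (for `g e₁ ∈ F e₂`) -/
theorem exists_lo [Finite G] [Finite F] [CharP F 2] (h : LSit M s) {g : G} (hg : g ∈ H)
    (h0 : M.act g ![1, 0] 0 = 0) (h1 : M.act g ![1, 0] 1 ≠ 0) (a : F) :
    ∃ l ∈ Lg T g, M.Ind l (lo a) := by
  obtain ⟨x, hx, hxa⟩ := M.lift (lo a)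
  have hginv := inv_mem hg
  obtain ⟨B, hB⟩ := M.norm g⁻¹ hginv x hx _ hxa
  have hxH : g⁻¹ * x * g⁻¹⁻¹ ∈ H := mul_mem (mul_mem hginv hx) (inv_mem hginv)
  -- `B` fixes `e₁`
  obtain ⟨σ, hσ⟩ := M.exists_semi hg
  obtain ⟨τ, hτ⟩ := M.exists_semi hginv
  have he : M.act g ![1, 0] = (M.act g ![1, 0] 1) • ![0, 1] := by
    apply ext2
    · rw [h0]; simp
    · simp
  set r := M.act g ![1, 0] 1 with hr
  have hB1 : ap B ![1, 0] = ![1, 0] := by
    have h2 : M.Ind (g⁻¹ * x * g⁻¹⁻¹) B := hB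
    rw [← (M.ind_iff hxH).1 h2, inv_inv, M.act_mul (mul_mem hginv hx) hg, M.act_mul hginv hx, he,
      (M.ind_iff hx).1 hxa]
    have h3 : ap (lo a) (r • ![0, 1]) = r • ![0, 1] := by
      apply ext2
      · rw [ap_zero']; simp
      · rw [ap_one']; simp
    rw [h3, ← he, M.act_inv_act hg]
  have hB2 : B = up (ent B 0 1) := by
    have e0 := congrFun hB1 0
    have e1 := congrFun hB1 1
    rw [ap_zero'] at e0
    rw [ap_one'] at e1
    simp only [Matrix.cons_val_zero, Matrix.cons_val_one, mul_one, mul_zero, add_zero] at e0 e1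
    have hd := det_eq B
    rw [e0, e1, one_mul, mul_zero, sub_zero] at hd
    exact ext_ent (by rw [e0, up_00]) (by rw [up_01]) (by rw [e1, up_10]) (by rw [hd, up_11])
  obtain ⟨b, hb, hbc⟩ := h.exists_b (ent B 0 1)
  have hbH := h.TH (bau_le T hb)
  refine ⟨g * b * g⁻¹, mem_sup_right ⟨b, hb, rfl⟩, ?_⟩
  rw [M.ind_iff (mul_mem (mul_mem hg hbH) hginv)]
  intro y
  rw [M.act_mul (mul_mem hg hbH) hginv, M.act_mul hg hbH, (M.ind_iff hbH).1 hbc, ← hB2]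
  have h2 : M.Ind (g⁻¹ * x * g⁻¹⁻¹) B := hB
  rw [← (M.ind_iff hxH).1 h2, inv_inv, M.act_mul (mul_mem hginv hx) hg, M.act_mul hginv hx,
    M.act_act_inv hg, M.act_act_inv hg, (M.ind_iff hx).1 hxa]

/-- normalisation of `g` -/
theorem exists_g [Finite G] [Finite F] [CharP F 2] (h : LSit M s) {g : G} (hg : g ∈ H)
    (hm : Mv M.V1 g) : ∃ g' ∈ H, Lg T g' = Lg T g ∧ M.act g' ![1, 0] 0 = 0 ∧
      M.act g' ![1, 0] 1 ≠ 0 := by
  rw [h.Mv_iff hg] at hm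
  set p := M.act g ![1, 0] with hp
  obtain ⟨b, hb, hbc⟩ := h.exists_b (- (p 0 / p 1))
  have hbH := h.TH (bau_le T hb)
  refine ⟨b * g, mul_mem hbH hg, ?_, ?_, ?_⟩
  · unfold Lg
    have e1 : cj (b * g) (bau T) = cj b (cj g (bau T)) := (cj_cj b g _).symm
    apply le_antisymm
    · refine sup_le le_sup_left ?_
      rw [e1]
      rintro _ ⟨x, hx, rfl⟩
      exact mul_mem (mul_mem (mem_sup_left hb) (mem_sup_right hx)) (inv_mem (mem_sup_left hb))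
    · refine sup_le le_sup_left ?_
      have e2 : cj g (bau T) = cj b⁻¹ (cj (b * g) (bau T)) := by
        rw [e1, cj_inv_cj]
      rw [e2]
      rintro _ ⟨x, hx, rfl⟩
      exact mul_mem (mul_mem (inv_mem (mem_sup_left hb)) (mem_sup_right hx))
        (inv_mem (inv_mem (mem_sup_left hb)))
  · rw [M.act_mul hbH hg, (M.ind_iff hbH).1 hbc, ap_zero', up_00, up_01]
    field_simp
    ring
  · rw [M.act_mul hbH hg, (M.ind_iff hbH).1 hbc, ap_one', up_10, up_11, zero_mul, zero_add, one_mul]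
    exact hm

/-- `L` induces all of `SL₂(F)`, and so does `[L, L]` for `|F| ≥ 4`. -/
theorem exists_l [Finite G] [Finite F] [CharP F 2] (h : LSit M s) {g : G} (hg : g ∈ H)
    (hm : Mv M.V1 g) (A : Matrix.SpecialLinearGroup (Fin 2) F) : ∃ l ∈ Lg T g, M.Ind l A := by
  obtain ⟨g', hg', e, h0, h1⟩ := h.exists_g hg hm
  rw [← e]
  obtain ⟨a, b, c, d, rfl⟩ := exists_up_lo A
  have hL := h.Lg_le hg'
  have hu : ∀ c : F, ∃ l ∈ Lg T g', M.Ind l (up c) := fun c => by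
    obtain ⟨b, hb, hbc⟩ := h.exists_b c
    exact ⟨b, B_le_L T g' hb, hbc⟩
  obtain ⟨l1, hl1, i1⟩ := hu a
  obtain ⟨l2, hl2, i2⟩ := h.exists_lo hg' h0 h1 b
  obtain ⟨l3, hl3, i3⟩ := hu c
  obtain ⟨l4, hl4, i4⟩ := h.exists_lo hg' h0 h1 d
  exact ⟨l1 * l2 * l3 * l4, mul_mem (mul_mem (mul_mem hl1 hl2) hl3) hl4,
    M.ind_mul (mul_mem (mul_mem (hL hl1) (hL hl2)) (hL hl3)) (hL hl4)
      (M.ind_mul (mul_mem (hL hl1) (hL hl2)) (hL hl3) (M.ind_mul (hL hl1) (hL hl2) i1 i2) i3) i4⟩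

omit s in
theorem exists_unit (hF : 4 ≤ Nat.card F) [Finite F] [CharP F 2] : ∃ b : F, b ≠ 0 ∧ b ^ 2 - 1 ≠ 0 := by
  classical
  have := Fintype.ofFinite F
  rw [Nat.card_eq_fintype_card] at hF
  have h1 : ({0, 1} : Finset F).card ≤ 2 := Finset.card_le_two
  obtain ⟨b, hb⟩ : ∃ b : F, b ∉ ({0, 1} : Finset F) := by
    by_contra hc
    push Not at hc
    have h2 : (Finset.univ : Finset F) ⊆ {0, 1} := fun x _ => hc x
    have h3 := Finset.card_le_card h2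
    rw [Finset.card_univ] at h3
    omega
  simp only [Finset.mem_insert, Finset.mem_singleton, not_or] at hb
  refine ⟨b, hb.1, fun h => hb.2 ?_⟩
  have h2 : (b - 1) ^ 2 = 0 := by
    have e : (b - 1) ^ 2 = b ^ 2 - 1 := by
      have h2 : (2 : F) = 0 := CharTwo.two_eq_zero
      linear_combination (1 - b) * h2
    rw [e, h]
  exact sub_eq_zero.1 (pow_eq_zero_iff two_ne_zero |>.1 h2)

/-- `dg b up c dg b⁻¹ up (-c) = up ((b² - 1) c)` -/
theorem comm_up (b c : F) (hb : b ≠ 0) :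
    dg b hb * up c * (dg b hb)⁻¹ * (up c)⁻¹ = up ((b ^ 2 - 1) * c) := by
  rw [dg_up, mul_assoc (up _), mul_inv_cancel, mul_one, up_inv, up_mul]
  congr 1
  ring

theorem comm_lo (b c : F) (hb : b ≠ 0) :
    (dg b hb)⁻¹ * lo c * dg b hb * (lo c)⁻¹ = lo ((b ^ 2 - 1) * c) := by
  have e : (dg b hb)⁻¹ * lo c * dg b hb = lo (b ^ 2 * c) := by
    have h1 : lo c * dg b hb = dg b hb * lo (b ^ 2 * c) := by
      refine ext_ent ?_ ?_ ?_ ?_ <;> simp [ent_mul]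
      field_simp
    rw [mul_assoc, h1, inv_mul_cancel_left]
  rw [e, lo_inv, lo_mul]
  congr 1
  ring

theorem exists_l' [Finite G] [Finite F] [CharP F 2] (h : LSit M s) (hF : 4 ≤ Nat.card F) {g : G}
    (hg : g ∈ H) (hm : Mv M.V1 g) (A : Matrix.SpecialLinearGroup (Fin 2) F) :
    ∃ l ∈ ⁅Lg T g, Lg T g⁆, M.Ind l A := by
  obtain ⟨b, hb0, hb1⟩ := exists_unit hF
  have hL := h.Lg_le hg
  have hLL : ⁅Lg T g, Lg T g⁆ ≤ Lg T g := commutator_le_right' (Lg T g)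
  obtain ⟨t, ht, hti⟩ := h.exists_l hg hm (dg b hb0)
  have key : ∀ (A B : Matrix.SpecialLinearGroup (Fin 2) F),
      ∃ l ∈ ⁅Lg T g, Lg T g⁆, M.Ind l (A * B * A⁻¹ * B⁻¹) := by
    intro A B
    obtain ⟨x, hx, hxi⟩ := h.exists_l hg hm A
    obtain ⟨y, hy, hyi⟩ := h.exists_l hg hm B
    refine ⟨⁅x, y⁆, commutator_mem_commutator hx hy, ?_⟩
    rw [commutatorElement_def]
    exact M.ind_mul (mul_mem (mul_mem (hL hx) (hL hy)) (inv_mem (hL hx))) (inv_mem (hL hy))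
      (M.ind_mul (mul_mem (hL hx) (hL hy)) (inv_mem (hL hx)) (M.ind_mul (hL hx) (hL hy) hxi hyi)
        (M.ind_inv (hL hx) hxi)) (M.ind_inv (hL hy) hyi)
  have hu : ∀ c : F, ∃ l ∈ ⁅Lg T g, Lg T g⁆, M.Ind l (up c) := by
    intro c
    obtain ⟨l, hl, hli⟩ := key (dg b hb0) (up (c / (b ^ 2 - 1)))
    rw [comm_up, mul_div_cancel₀ _ hb1] at hli
    exact ⟨l, hl, hli⟩
  have hlo : ∀ c : F, ∃ l ∈ ⁅Lg T g, Lg T g⁆, M.Ind l (lo c) := by
    intro c
    obtain ⟨l, hl, hli⟩ := key (dg b hb0)⁻¹ (lo (c / (b ^ 2 - 1)))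
    rw [inv_inv, comm_lo, mul_div_cancel₀ _ hb1] at hli
    exact ⟨l, hl, hli⟩
  obtain ⟨a, b, c, d, rfl⟩ := exists_up_lo A
  obtain ⟨l1, hl1, i1⟩ := hu a
  obtain ⟨l2, hl2, i2⟩ := hlo b
  obtain ⟨l3, hl3, i3⟩ := hu c
  obtain ⟨l4, hl4, i4⟩ := hlo d
  have hH : ⁅Lg T g, Lg T g⁆ ≤ H := hLL.trans hL
  exact ⟨l1 * l2 * l3 * l4, mul_mem (mul_mem (mul_mem hl1 hl2) hl3) hl4,
    M.ind_mul (mul_mem (mul_mem (hH hl1) (hH hl2)) (hH hl3)) (hH hl4)
      (M.ind_mul (mul_mem (hH hl1) (hH hl2)) (hH hl3) (M.ind_mul (hH hl1) (hH hl2) i1 i2) i3) i4⟩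

/-! ### `L` is normal in `H` -/

theorem L_kern [Finite G] [Finite F] [CharP F 2] (h : LSit M s) {g : G} (hg : g ∈ H)
    (hm : Mv M.V1 g) {x : G} (hx : x ∈ Lg T g) (hk : x ∈ M.kern) : x ∈ Y T V := by
  rw [← h.L_inf_Q hg hm]
  exact ⟨hx, h.J_kern ⟨h.L_le_J hg hx, hk⟩⟩

theorem J_split [Finite G] [Finite F] [CharP F 2] (h : LSit M s) {g : G} (hg : g ∈ H)
    (hm : Mv M.V1 g) {j : G} (hj : j ∈ nc H (bau T)) :
    ∃ l ∈ Lg T g, ∃ x ∈ o2 H, x ∈ nc H (bau T) ∧ j = l * x := by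
  obtain ⟨hjH, A, hA⟩ := h.J_SL hj
  obtain ⟨l, hl, hlA⟩ := h.exists_l hg hm A
  have hx : l⁻¹ * j ∈ nc H (bau T) := mul_mem (inv_mem (h.L_le_J hg hl)) hj
  refine ⟨l, hl, l⁻¹ * j, h.J_kern ⟨hx, ?_⟩, hx, by group⟩
  exact M.kern_of_ind (h.Lg_le hg hl) hjH hlA hA

theorem Y_le_L [Finite G] [Finite F] [CharP F 2] (h : LSit M s) (g : G) : Y T V ≤ Lg T g :=
  h.sit.Y_le_B.trans (B_le_L T g)

/-- `Q ∩ J` normalises `L` -/
theorem Q_norm_L [Finite G] [Finite F] [CharP F 2] (h : LSit M s) {g : G} (hg : g ∈ H)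
    {x y : G} (hy : y ∈ o2 H) (hx : x ∈ Lg T g) : y * x * y⁻¹ ∈ Lg T g := by
  have h1 := h.J_Q (inv_mem (h.L_le_J hg hx)) hy
  have e : y * x * y⁻¹ = x * (x⁻¹ * y * x⁻¹⁻¹ * y⁻¹) := by group
  rw [e]
  exact mul_mem hx (h.Y_le_L g h1)

theorem comm_J [Finite G] [Finite F] [CharP F 2] (h : LSit M s) {g : G} (hg : g ∈ H)
    (hm : Mv M.V1 g) : ⁅nc H (bau T), nc H (bau T)⁆ ≤ Lg T g := by
  rw [commutator_le]
  intro a ha b hb
  obtain ⟨l1, hl1, q1, hq1, hq1J, rfl⟩ := h.J_split hg hm ha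
  obtain ⟨l2, hl2, q2, hq2, hq2J, rfl⟩ := h.J_split hg hm hb
  have e : ⁅l1 * q1, l2 * q2⁆ = l1 * (q1 * l2 * q1⁻¹) * (q1 * q2 * q1⁻¹ * q2⁻¹) *
      (q2 * l1⁻¹ * q2⁻¹) * l2⁻¹ := by
    rw [commutatorElement_def]; group
  rw [e]
  exact mul_mem (mul_mem (mul_mem (mul_mem hl1 (h.Q_norm_L hg hq1 hl2))
    (h.Y_le_L g (h.J_Q hq1J hq2))) (h.Q_norm_L hg hq2 (inv_mem hl1))) (inv_mem hl2)

theorem L_eq [Finite G] [Finite F] [CharP F 2] (h : LSit M s) (hF : 4 ≤ Nat.card F) {g : G}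
    (hg : g ∈ H) (hm : Mv M.V1 g) : Lg T g = ⁅nc H (bau T), nc H (bau T)⁆ ⊔ Y T V := by
  apply le_antisymm
  · intro l hl
    obtain ⟨hlH, A, hA⟩ := h.J_SL (h.L_le_J hg hl)
    obtain ⟨l', hl', hlA⟩ := h.exists_l' hF hg hm A
    have hl'L : l' ∈ Lg T g := commutator_le_right' _ hl'
    have h1 := M.kern_of_ind (h.Lg_le hg hl'L) hlH hlA hA
    have h2 : l'⁻¹ * l ∈ Y T V := h.L_kern hg hm (mul_mem (inv_mem hl'L) hl) h1
    have e : l = l' * (l'⁻¹ * l) := by group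
    rw [e]
    exact mul_mem (mem_sup_left (commutator_mono (h.L_le_J hg) (h.L_le_J hg) hl'))
      (mem_sup_right h2)
  · exact sup_le (h.comm_J hg hm) (h.Y_le_L g)

theorem L_norm [Finite G] [Finite F] [CharP F 2] (h : LSit M s) (hF : 4 ≤ Nat.card F) {g : G}
    (hg : g ∈ H) (hm : Mv M.V1 g) {x l : G} (hx : x ∈ H) (hl : l ∈ Lg T g) :
    x * l * x⁻¹ ∈ Lg T g := by
  have hle : cj x (Lg T g) ≤ Lg T g := by
    rw [h.L_eq hF hg hm, cj, Subgroup.map_sup, map_commutator]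
    refine sup_le ?_ ?_
    · refine le_sup_of_le_left (commutator_mono ?_ ?_)
      · rintro _ ⟨y, hy, rfl⟩
        exact nc_norm hx hy
      · rintro _ ⟨y, hy, rfl⟩
        exact nc_norm hx hy
    · refine le_sup_of_le_right ?_
      rintro _ ⟨y, hy, rfl⟩
      exact h.sit.dd.Y_norm x hx y hy
  exact hle ⟨l, hl, rfl⟩

/-- **(4.4)** `⟨B^H⟩ = ⟨B, B^g⟩`. -/
theorem nc_eq [Finite G] [Finite F] [CharP F 2] (h : LSit M s) (hF : 4 ≤ Nat.card F) {g : G}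
    (hg : g ∈ H) (hm : Mv M.V1 g) : nc H (bau T) = Lg T g :=
  le_antisymm (nc_le fun x hx b hb => h.L_norm hF hg hm hx (B_le_L T g hb)) (h.L_le_J hg)

/-- an element of `H` moving `V1` -/
theorem exists_mv [Finite G] [Finite F] (h : LSit M s) : ∃ g ∈ H, Mv M.V1 g := M.exists_moves

/-- `L ∩ Q = Y` -/
theorem J_inf_Q [Finite G] [Finite F] [CharP F 2] (h : LSit M s) (hF : 4 ≤ Nat.card F) :
    nc H (bau T) ⊓ o2 H = Y T V := by
  obtain ⟨g, hg, hm⟩ := h.exists_mv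
  rw [h.nc_eq hF hg hm, h.L_inf_Q hg hm]

/-- the kernel of `L` on `V/V0` is `Y` -/
theorem mem_kern_iff [Finite G] [Finite F] [CharP F 2] (h : LSit M s) (hF : 4 ≤ Nat.card F)
    {x : G} (hx : x ∈ nc H (bau T)) : x ∈ M.kern ↔ x ∈ Y T V := by
  constructor
  · intro hk
    rw [← h.J_inf_Q hF]
    exact ⟨hx, h.J_kern ⟨hx, hk⟩⟩
  · intro hY
    exact M.Q_kern h.hm (h.sit.dd.Y_le_Q hY)

/-- `L` induces `SL₂(F)` -/
theorem exists_j [Finite G] [Finite F] [CharP F 2] (h : LSit M s)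
    (A : Matrix.SpecialLinearGroup (Fin 2) F) : ∃ l ∈ nc H (bau T), M.Ind l A := by
  obtain ⟨g, hg, hm⟩ := h.exists_mv
  obtain ⟨l, hl, hA⟩ := h.exists_l hg hm A
  exact ⟨l, h.L_le_J hg hl, hA⟩

/-- `H = L T` -/
theorem H_eq [Finite G] [Finite F] [CharP F 2] (h : LSit M s) : nc H (bau T) ⊔ T = H := by
  apply le_antisymm (sup_le h.J_le h.TH)
  refine M.max h.hm _ le_sup_right (sup_le h.J_le h.TH) ?_
  obtain ⟨l, hl, hA⟩ := h.exists_j (lo (1 : F))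
  have hlH := h.J_le hl
  have h1 : ¬ l ∈ normalizer (M.V1 : Set G) := by
    rw [M.mem_norm_V1 hlH, (M.ind_iff hlH).1 hA, ap_one']
    simp
  rw [← not_mv_iff, not_not] at h1
  exact ⟨l, mem_sup_left hl, h1⟩

/-- an element of `T` acting as a matrix acts as an `up c` -/
theorem T_up [Finite G] [Finite F] [CharP F 2] (h : LSit M s) {t : G} (ht : t ∈ T)
    {A : Matrix.SpecialLinearGroup (Fin 2) F} (hA : M.Ind t A) : ∃ c : F, A = up c := by
  have htH := h.TH ht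
  have h1 : t ∈ normalizer (M.V1 : Set G) := mem_norm_of fun v hv => M.T_norm h.hm ht hv
  rw [M.mem_norm_V1 htH, (M.ind_iff htH).1 hA, ap_one'] at h1
  simp only [Matrix.cons_val_zero, Matrix.cons_val_one, mul_one, mul_zero, add_zero] at h1
  have hpow : ∀ n : ℕ, ap (A ^ n) ![1, 0] = (ent A 0 0) ^ n • ![1, 0] := by
    intro n
    induction n with
    | zero => rw [pow_zero, pow_zero, ap_one, one_smul]
    | succ n ih =>
      rw [pow_succ', ap_mul, ih, ap_smul]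
      have h2 : ap A ![1, 0] = ent A 0 0 • ![1, 0] := by
        apply ext2
        · rw [ap_zero']; simp
        · rw [ap_one', h1]; simp
      rw [h2, smul_smul, pow_succ]
  obtain ⟨n, hn⟩ := h.sit.two ⟨t, ht⟩
  have hn' : t ^ 2 ^ n = 1 := by simpa using congrArg Subtype.val hn
  have hi : ∀ m : ℕ, M.Ind (t ^ m) (A ^ m) := by
    intro m
    induction m with
    | zero => rw [pow_zero, pow_zero]; exact M.ind_one
    | succ m ih => rw [pow_succ, pow_succ]; exact M.ind_mul (pow_mem htH m) htH ih hA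
  have h2 := hi (2 ^ n)
  rw [hn'] at h2
  have h3 : A ^ 2 ^ n = 1 := M.ind_unique (one_mem H) h2 M.ind_one
  have h4 := hpow (2 ^ n)
  rw [h3, ap_one] at h4
  have h5 := congrFun h4 0
  simp only [Matrix.cons_val_zero, Pi.smul_apply, smul_eq_mul, mul_one] at h5
  have h6 : ent A 0 0 = 1 := FF.eq_one_of_pow' (k := n) h5.symm
  have hd := det_eq A
  rw [h6, h1, one_mul, mul_zero, sub_zero] at hd
  exact ⟨ent A 0 1, ext_ent (by rw [h6, up_00]) (by rw [up_01]) (by rw [h1, up_10])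
    (by rw [hd, up_11])⟩

/-- `L ∩ T = B` -/
theorem J_inf_T [Finite G] [Finite F] [CharP F 2] (h : LSit M s) (hF : 4 ≤ Nat.card F) :
    nc H (bau T) ⊓ T = bau T := by
  apply le_antisymm
  · rintro t ⟨htJ, htT⟩
    obtain ⟨htH, A, hA⟩ := h.J_SL htJ
    obtain ⟨c, rfl⟩ := h.T_up htT hA
    obtain ⟨b, hb, hbc⟩ := h.exists_b c
    have h1 := M.kern_of_ind (h.TH (bau_le T hb)) htH hbc hA
    have h2 := (h.mem_kern_iff hF (mul_mem (inv_mem (le_nc' hb)) htJ)).1 h1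
    have e : t = b * (b⁻¹ * t) := by group
    rw [e]
    exact mul_mem hb (h.sit.Y_le_B h2)
  · exact le_inf le_nc' (bau_le T)

/-! ### The group `C = C_Y(L)` -/

/-- `C_Y(L)` -/
def CC (H T V : Subgroup G) : Subgroup G := Y T V ⊓ centralizer (nc H (bau T) : Set G)

theorem mem_CC {x : G} : x ∈ CC H T V ↔ x ∈ Y T V ∧ ∀ l ∈ nc H (bau T), l * x = x * l := by
  rw [CC, mem_inf, mem_centralizer_iff]
  rfl

theorem CC_eq [Finite G] [Finite F] [CharP F 2] (h : LSit M s) (hF : 4 ≤ Nat.card F) {g : G}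
    (hg : g ∈ H) (hm : Mv M.V1 g) : CC H T V = zj T ⊓ cj g (zj T) := by
  apply le_antisymm
  · intro x hx
    obtain ⟨hxY, hxc⟩ := mem_CC.1 hx
    refine ⟨?_, ?_⟩
    · exact h.sit.Y_cent hxY fun u hu => hxc u (le_nc' (h.sit.Ys_le_B hu))
    · change x ∈ cj g (zj T)
      rw [mem_cj]
      have hy : g⁻¹ * x * g ∈ Y T V := by
        have := h.sit.dd.Y_norm g⁻¹ (inv_mem hg) x hxY
        rwa [inv_inv] at this
      refine h.sit.Y_cent hy fun u hu => ?_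
      have h1 := hxc _ (le_nc hg (h.sit.Ys_le_B hu))
      calc u * (g⁻¹ * x * g) = g⁻¹ * ((g * u * g⁻¹) * x) * g := by group
        _ = g⁻¹ * (x * (g * u * g⁻¹)) * g := by rw [h1]
        _ = _ := by group
  · intro x hx
    rw [mem_CC]
    refine ⟨Z_le_Y T V (mem_inf.1 hx).1, fun l hl => ?_⟩
    rw [h.nc_eq hF hg hm] at hl
    exact h.L_cent hl hx

theorem CC_le_Z [Finite G] (h : LSit M s) : CC H T V ≤ zj T := fun x hx =>
  h.sit.Y_cent (mem_CC.1 hx).1 fun u hu => (mem_CC.1 hx).2 u (le_nc' (h.sit.Ys_le_B hu))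

theorem card_Z [Finite G] [Finite F] [CharP F 2] (h : LSit M s) (hF : 4 ≤ Nat.card F) :
    Nat.card (zj T) = Nat.card (CC H T V) * Nat.card F := by
  obtain ⟨g, hg, hm⟩ := h.exists_mv
  rw [h.CC_eq hF hg hm]
  exact (h.sit.dd.card_X hg hm).1

theorem V_sup_CC [Finite G] [Finite F] [CharP F 2] (h : LSit M s) (hF : 4 ≤ Nat.card F) :
    V ⊔ CC H T V = Y T V := by
  obtain ⟨g, hg, hm⟩ := h.exists_mv
  rw [h.CC_eq hF hg hm]
  exact (h.sit.dd.card_X hg hm).2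

theorem V_inf_CC [Finite G] [Finite F] [CharP F 2] (h : LSit M s) (hF : 4 ≤ Nat.card F) :
    V ⊓ CC H T V = V0 := by
  obtain ⟨g, hg, hm⟩ := h.exists_mv
  rw [h.CC_eq hF hg hm]
  exact h.sit.dd.V_inf_X hg hm

theorem Y_split [Finite G] [Finite F] [CharP F 2] (h : LSit M s) (hF : 4 ≤ Nat.card F) {y : G}
    (hy : y ∈ Y T V) : ∃ v ∈ V, ∃ c ∈ CC H T V, y = v * c := by
  rw [← h.V_sup_CC hF] at hy
  exact mem_sup_comm (fun v hv c hc => elem_comm h.sit.dd.Y_elem v (V_le_Y T V hv) c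
    (mem_CC.1 hc).1) hy

/-- `C` is normal in `H` -/
theorem CC_norm [Finite G] [Finite F] [CharP F 2] (h : LSit M s) : ∀ g ∈ H, ∀ c ∈ CC H T V,
    g * c * g⁻¹ ∈ CC H T V := by
  intro g hg c hc
  rw [mem_CC] at hc ⊢
  refine ⟨h.sit.dd.Y_norm g hg c hc.1, fun l hl => ?_⟩
  have h1 := nc_norm (inv_mem hg) hl
  rw [inv_inv] at h1
  have h2 := hc.2 _ h1
  calc l * (g * c * g⁻¹) = g * ((g⁻¹ * l * g) * c) * g⁻¹ := by group
    _ = g * (c * (g⁻¹ * l * g)) * g⁻¹ := by rw [h2]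
    _ = _ := by group

/-- `C ∩ C^s = 1` -/
theorem CC_inf [Finite G] [Finite F] [CharP F 2] (h : LSit M s) : CC H T V ⊓ cj s (CC H T V) = ⊥ := by
  have hT : ∀ t ∈ T, ∀ c ∈ CC H T V, t * c * t⁻¹ ∈ CC H T V := fun t ht => h.CC_norm t (h.TH ht)
  have hT' : ∀ t ∈ T, ∀ c ∈ cj s (CC H T V), t * c * t⁻¹ ∈ cj s (CC H T V) := by
    rintro t ht _ ⟨c, hc, rfl⟩
    have h1 : s⁻¹ * t * s ∈ T := by
      have := (mem_normalizer_iff.1 (inv_mem h.sit.sN) t).1 ht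
      rwa [inv_inv] at this
    refine ⟨(s⁻¹ * t * s) * c * (s⁻¹ * t * s)⁻¹, hT _ h1 c hc, ?_⟩
    simp only [MulEquiv.toMonoidHom_eq_coe, MonoidHom.coe_coe, MulAut.conj_apply]
    group
  refine h.sit.core _ ?_ ?_ ?_
  · exact inf_le_left.trans (h.CC_le_Z.trans ((Z_le_Y T V).trans (h.sit.Y_le_B.trans (bau_le T))))
  · intro g hg r hr
    have hle : nc H (bau T) ⊔ T ≤
        normalizer ((CC H T V ⊓ cj s (CC H T V) : Subgroup G) : Set G) := by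
      refine sup_le ?_ ?_
      · intro l hl
        refine mem_norm_of ?_
        rintro c ⟨hc1, hc2⟩
        have e : l * c * l⁻¹ = c := by rw [(mem_CC.1 hc1).2 l hl]; group
        rw [e]
        exact ⟨hc1, hc2⟩
      · intro t ht
        refine mem_norm_of ?_
        rintro c ⟨hc1, hc2⟩
        exact ⟨hT t ht c hc1, hT' t ht c hc2⟩
    exact conj_mem_of_norm (hle (by rw [h.H_eq]; exact hg)) hr
  · rintro r ⟨hr1, hr2⟩
    refine ⟨?_, ⟨r, hr1, rfl⟩⟩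
    have h1 : s * r * s⁻¹ ∈ cj s (cj s (CC H T V)) := ⟨r, hr2, rfl⟩
    rw [h.sit.cj_ss hT] at h1
    exact h1

/-! ### The natural section `Y / C` -/

open Classical in
/-- the extension of `π` to `Y` with `C` in the kernel -/
noncomputable def πY (M : FF F H T V V0) (y : G) : Fin 2 → F :=
  if hy : ∃ v ∈ V, v⁻¹ * y ∈ CC H T V then M.π hy.choose else 0

theorem πY_eq [Finite G] [Finite F] [CharP F 2] (h : LSit M s) (hF : 4 ≤ Nat.card F) {v y : G}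
    (hv : v ∈ V) (hc : v⁻¹ * y ∈ CC H T V) : πY M y = M.π v := by
  have hy : ∃ v ∈ V, v⁻¹ * y ∈ CC H T V := ⟨v, hv, hc⟩
  rw [πY, dif_pos hy, M.eq_iff hy.choose_spec.1 hv, ← h.V_inf_CC hF]
  refine ⟨V.mul_mem hy.choose_spec.1 (V.inv_mem hv), ?_⟩
  have hcomm : ∀ a ∈ V, ∀ b ∈ V, a * b = b * a := h.sit.dd.Vcomm
  have h1 := mul_mem hc (inv_mem hy.choose_spec.2)
  have e : v⁻¹ * y * (hy.choose⁻¹ * y)⁻¹ = hy.choose * v⁻¹ := by
    rw [hcomm _ hy.choose_spec.1 _ (inv_mem hv)]; group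
  rw [e] at h1
  exact h1

theorem πY_mul_c [Finite G] [Finite F] [CharP F 2] (h : LSit M s) (hF : 4 ≤ Nat.card F) {v c : G}
    (hv : v ∈ V) (hc : c ∈ CC H T V) : πY M (v * c) = M.π v :=
  h.πY_eq hF hv (by rwa [inv_mul_cancel_left])

/-- `Y / C` is a natural module for `H`. -/
noncomputable def natY [Finite G] [Finite F] [CharP F 2] (h : LSit M s) (hF : 4 ≤ Nat.card F) :
    NatSec F H (Y T V) (CC H T V) where
  π := πY M
  map_mul := by
    intro y hy z hz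
    obtain ⟨v, hv, c, hc, rfl⟩ := h.Y_split hF hy
    obtain ⟨w, hw, d, hd, rfl⟩ := h.Y_split hF hz
    have e : v * c * (w * d) = v * w * (c * d) := by
      have h1 : c * w = w * c := elem_comm h.sit.dd.Y_elem c (mem_CC.1 hc).1 w (V_le_Y T V hw)
      calc v * c * (w * d) = v * (c * w) * d := by group
        _ = _ := by rw [h1]; group
    rw [e, h.πY_mul_c hF (mul_mem hv hw) (mul_mem hc hd), h.πY_mul_c hF hv hc,
      h.πY_mul_c hF hw hd, M.map_mul v hv w hw]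
  V0V := fun c hc => (mem_CC.1 hc).1
  ker := by
    intro y hy
    obtain ⟨v, hv, c, hc, rfl⟩ := h.Y_split hF hy
    rw [h.πY_mul_c hF hv hc, M.ker v hv, ← h.V_inf_CC hF]
    constructor
    · rintro ⟨-, h1⟩
      exact mul_mem h1 hc
    · intro h1
      refine ⟨hv, ?_⟩
      have := mul_mem h1 (inv_mem hc)
      rw [mul_inv_cancel_right] at this
      exact this
  surj := by
    intro x
    obtain ⟨v, hv, e⟩ := M.surj x
    refine ⟨v, V_le_Y T V hv, ?_⟩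
    have := h.πY_mul_c hF hv (one_mem (CC H T V))
    rw [mul_one] at this
    rw [this, e]
  Vn := h.sit.dd.Y_norm
  V0n := h.CC_norm
  lift := by
    intro A
    obtain ⟨g, hg, hA⟩ := M.lift A
    refine ⟨g, hg, fun y hy => ?_⟩
    obtain ⟨v, hv, c, hc, rfl⟩ := h.Y_split hF hy
    have e : g * (v * c) * g⁻¹ = (g * v * g⁻¹) * (g * c * g⁻¹) := by group
    rw [e, h.πY_mul_c hF (M.Vn g hg v hv) (h.CC_norm g hg c hc), h.πY_mul_c hF hv hc, hA v hv]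
  norm := by
    intro g hg x hx A hA
    have hA' : ∀ v ∈ V, M.π (x * v * x⁻¹) = ap A (M.π v) := by
      intro v hv
      have h1 := hA v (V_le_Y T V hv)
      have h2 := h.πY_mul_c hF (M.Vn x hx v hv) (one_mem (CC H T V))
      have h3 := h.πY_mul_c hF hv (one_mem (CC H T V))
      rw [mul_one] at h2 h3
      rwa [h2, h3] at h1
    obtain ⟨B, hB⟩ := M.norm g hg x hx A hA'
    refine ⟨B, fun y hy => ?_⟩
    obtain ⟨v, hv, c, hc, rfl⟩ := h.Y_split hF hy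
    have hk : g * x * g⁻¹ ∈ H := mul_mem (mul_mem hg hx) (inv_mem hg)
    have e : g * x * g⁻¹ * (v * c) * (g * x * g⁻¹)⁻¹ =
      (g * x * g⁻¹ * v * (g * x * g⁻¹)⁻¹) * (g * x * g⁻¹ * c * (g * x * g⁻¹)⁻¹) := by group
    rw [e, h.πY_mul_c hF (M.Vn _ hk v hv) (h.CC_norm _ hk c hc), h.πY_mul_c hF hv hc, hB v hv]

/-- `natY` and `M` induce the same matrices. -/
theorem natY_ind [Finite G] [Finite F] [CharP F 2] (h : LSit M s) (hF : 4 ≤ Nat.card F) {g : G}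
    (hg : g ∈ H) {A : Matrix.SpecialLinearGroup (Fin 2) F} : (h.natY hF).Ind g A ↔ M.Ind g A := by
  constructor
  · intro hA v hv
    have h1 := hA v (V_le_Y T V hv)
    have h2 := h.πY_mul_c hF (M.Vn g hg v hv) (one_mem (CC H T V))
    have h3 := h.πY_mul_c hF hv (one_mem (CC H T V))
    rw [mul_one] at h2 h3
    change πY M _ = ap A (πY M _) at h1
    rwa [h2, h3] at h1
  · intro hA y hy
    obtain ⟨v, hv, c, hc, rfl⟩ := h.Y_split hF hy
    have e : g * (v * c) * g⁻¹ = (g * v * g⁻¹) * (g * c * g⁻¹) := by group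
    change πY M _ = ap A (πY M _)
    rw [e, h.πY_mul_c hF (M.Vn g hg v hv) (h.CC_norm g hg c hc), h.πY_mul_c hF hv hc, hA v hv]

theorem natY_act [Finite G] [Finite F] [CharP F 2] (h : LSit M s) (hF : 4 ≤ Nat.card F) {g : G}
    (hg : g ∈ H) (x : Fin 2 → F) : (h.natY hF).act g x = M.act g x := by
  obtain ⟨v, hv, rfl⟩ := M.surj x
  have h3 := h.πY_mul_c hF hv (one_mem (CC H T V))
  have h2 := h.πY_mul_c hF (M.Vn g hg v hv) (one_mem (CC H T V))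
  rw [mul_one] at h2 h3
  have h4 : (h.natY hF).act g ((h.natY hF).π v) = (h.natY hF).π (g * v * g⁻¹) :=
    (h.natY hF).act_π hg (V_le_Y T V hv)
  change (h.natY hF).act g (πY M v) = πY M (g * v * g⁻¹) at h4
  rw [h3, h2] at h4
  rw [h4, M.act_π hg hv]

end LSit

end Cfsg.Agent.Omega.SQ1.MatchL
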