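import Cfsg.Agent.Omega.SQ1.BauBlk
import Cfsg.Agent.Omega.SQ1.BauDat
import Cfsg.Agent.Omega.SQ1.Choice
import Cfsg.Agent.Omega.SQ1.MatchL

/-!
# SQ1, one block: from the choice of `T`, `H`, `s` and the Baumann data to `b = 1`

`MinH.of_config`, `Sit.of_config` (pushing up: `PushUp.Dat.exists_noncommuting`), `LSit.of_config`.
-/

set_option autoImplicit false
set_option linter.unusedSectionVars false

namespace Cfsg.Agent.Omega.SQ1.SitOf

open Subgroup Cfsg Cfsg.Agent.PLocal.ThompsonJ Cfsg.Agent.ZN Cfsg.Agent.ZN.ChoiceBase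
open Cfsg.Agent.ZN.ChoiceSit
open Cfsg.Agent.PLocal.ElemAbSup
open Cfsg.Agent.Omega.SQ1.Bau
open Cfsg.Agent.Omega.SQ1.Bau.In (Y Z_le_Y V_le_Y)
open Cfsg.Agent.Omega.SQ1.FFOne Cfsg.Agent.Omega.SQ1.MatchOne Cfsg.Agent.Omega.SQ1.MatchL
open Cfsg.Agent.Omega.SQ1.Choice (Config)
open scoped Pointwise

universe u

variable {G : Type u} [Group G]

/-- the elements of `T⟨s⟩` -/
theorem mem_A {T : Subgroup G} {s : G} (sN : s ∈ normalizer (T : Set G)) (sq : s * s ∈ T) {a : G}
    (ha : a ∈ T ⊔ zpowers s) : a ∈ T ∨ s⁻¹ * a ∈ T := by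
  have hle : zpowers s ≤ normalizer (T : Set G) := zpowers_le.2 sN
  have h1 : a ∈ (T : Set G) * (zpowers s : Set G) := by
    rw [← Subgroup.coe_mul_of_right_le_normalizer_left _ _ hle]; exact ha
  obtain ⟨t, ht, x, hx, rfl⟩ := Set.mem_mul.1 h1
  obtain ⟨k, rfl⟩ := mem_zpowers_iff.1 hx
  have hev : ∀ m : ℤ, s ^ (2 * m) ∈ T := by
    intro m
    rw [zpow_mul]
    refine zpow_mem ?_ m
    have e : s ^ (2 : ℤ) = s * s := by
      rw [show (2 : ℤ) = ((2 : ℕ) : ℤ) from rfl, zpow_natCast, pow_two]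
    rw [e]
    exact sq
  rcases Int.even_or_odd' k with ⟨m, rfl | rfl⟩
  · left
    exact mul_mem ht (hev m)
  · right
    have h2 : s⁻¹ * t * s ∈ T := by
      have := (mem_normalizer_iff.1 (inv_mem sN) t).1 ht
      rwa [inv_inv] at this
    have e : s⁻¹ * (t * s ^ (2 * m + 1)) = (s⁻¹ * t * s) * s ^ (2 * m) := by
      rw [add_comm (2 * m) 1, zpow_add, zpow_one]; group
    rw [e]
    exact mul_mem h2 (hev m)

theorem MinH.of_config {M₀ T H : Subgroup G} {s : G} (c : Config M₀ T H s) : MinH H T where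
  syl := c.syl
  uniq := ⟨M₀, c.notM, fun X hTX hXH hne => c.min X hTX (lt_of_le_of_ne hXH hne)⟩
  self_cent := c.self_cent

variable {M₀ H T V V1 V0 : Subgroup G} {q : ℕ} {s : G}

/-- `CORE` from the choice -/
theorem core_of_config (c : Config M₀ T H s) [Finite G] (R : Subgroup G) (hRT : R ≤ T)
    (hH : ∀ x ∈ H, ∀ r ∈ R, x * r * x⁻¹ ∈ R) (hs : ∀ r ∈ R, s * r * s⁻¹ ∈ R) : R = ⊥ := by
  by_contra hne
  apply c.notM
  refine le_trans ?_ (c.core R (c.two.to_le hRT) hne ?_ ?_)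
  · exact fun x hx => mem_norm_of (hH x hx)
  · exact fun x hx => mem_norm_of (hH x (c.syl.1 hx))
  · exact mem_norm_of hs

/-- **`b = 1` for one block.** -/
theorem Sit.of_config (c : Config M₀ T H s) [Finite G] (h : In H T (o2 H) V V1 V0 q) :
    Sit H T (o2 H) V V1 V0 q s where
  dd := h
  two := c.two
  sN := c.sN
  sq := c.sq
  core := core_of_config c
  nc := by
    obtain ⟨L, k⟩ := h.exists_blk
    have hTA : T ≤ T ⊔ zpowers s := le_sup_left
    have hAT : T ⊔ zpowers s ≤ normalizer (T : Set G) := sup_le le_normalizer (zpowers_le.2 c.sN)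
    have idx : ∀ a ∈ T ⊔ zpowers s, ∀ b ∈ T ⊔ zpowers s, a ∉ T → b ∉ T → a⁻¹ * b ∈ T := by
      intro a ha b hb haT hbT
      have h1 := (mem_A c.sN c.sq ha).resolve_left haT
      have h2 := (mem_A c.sN c.sq hb).resolve_left hbT
      have h3 := mul_mem (inv_mem h1) h2
      have e : (s⁻¹ * a)⁻¹ * (s⁻¹ * b) = a⁻¹ * b := by group
      rwa [e] at h3
    have hd := k.dat h hTA hAT idx (fun R hR hH hA =>
      core_of_config c R hR hH (hA s (mem_sup_right (mem_zpowers s))))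
    obtain ⟨t, ht, v, hv, u, hu, hne⟩ := hd.exists_noncommuting
    have htT : t ∉ T := by
      intro htT
      apply hne
      exact elem_comm h.Y_elem v hv _ (h.Y_norm t (h.TH htT) u hu)
    have h1 := (mem_A c.sN c.sq ht).resolve_left htT
    refine ⟨v, hv, (s⁻¹ * t) * u * (s⁻¹ * t)⁻¹, h.Y_norm _ (h.TH h1) u hu, ?_⟩
    have e : s * ((s⁻¹ * t) * u * (s⁻¹ * t)⁻¹) * s⁻¹ = t * u * t⁻¹ := by group
    rw [e]
    exact hne

/-- the input of `MatchL` from the choice and the FF-theorem -/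
theorem LSit.of_config {F : Type*} [Field F] [Finite F] [CharP F 2] [Finite G] (c : Config M₀ T H s)
    (M : FF F H T V V0) : LSit M s where
  hm := MinH.of_config c
  sit := Sit.of_config c (M.toIn (MinH.of_config c))

end Cfsg.Agent.Omega.SQ1.SitOf
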