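import Cfsg.Agent.Omega.FrameI
import Cfsg.Agent.Omega.SQ1.FFOf
import Cfsg.Agent.Omega.SQ1.SitOf

/-!
# SQ1 = case I of the frame: assembly (project OMEGA)

`c : Config M T H s` is the configuration chosen in `SQ1.Choice`; `V = zl T H = ⟨Ω₁(Z(T))^H⟩`.

* `EndOne`: one natural summand, `q ≥ 4`, after the pushing up theorem (`MatchL.LSit`): contradiction;
* `EndMany`: `k ≥ 2` natural summands, `q ≥ 4`: contradiction;
* `EndTwo`: `k` natural summands with `q = 2`, or `k` even-subset modules of `S_{2^m+1}`: contradiction;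
* `noConfig`: the FF theorem and the three ends imply `FrameI.NoConfig`;
* `nodeI`: hence `Frame.NodeI`.
-/

set_option autoImplicit false

namespace Cfsg.Agent.Omega.SQ1.Main

open Subgroup Cfsg Cfsg.Agent.ZN
open Cfsg.Agent.Omega.MinPar
open Cfsg.Agent.Omega.SQ1.Choice (Config)
open Cfsg.Agent.Omega.FFThm (NatK SymK Concl NoOver)
open Cfsg.Agent.Omega.FrameFF (cv)
open Cfsg.Agent.Omega.SQ1.MatchL (LSit)

universe u

/-- The standing hypotheses of case I: `M` contains all 2-local subgroups over the Sylow 2-subgroup `S`,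
`T`, `H`, `s` is the configuration of `SQ1.Choice`. -/
structure Hyp (G : Type u) [Group G] [Finite G] (S : Sylow 2 G) (M T H : Subgroup G) (s : G) : Prop where
  simple : IsSimpleGroup G
  nonComm : ¬ IsMulCommutative G
  char2 : IsCharacteristicTwoType G
  rank : ¬ SectionalPRankLE 2 4 G
  proper : M ≠ ⊤
  loc : ∀ N : Subgroup G, IsTwoLocal N → (S : Subgroup G) ≤ N → N ≤ M
  cfg : Config M T H s

/-- One natural summand, `q ≥ 4` (owners: helper538 (4.5), helper761 node (A), helper69 `EndAll`). -/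
def EndOne : Prop :=
  ∀ (G : Type u) [Group G] [Finite G] (S : Sylow 2 G) (M T H : Subgroup G) (s : G), Hyp G S M T H s →
    ∀ (F : Type) [Field F] [Finite F] [CharP F 2], 4 ≤ Nat.card F →
      ∀ N : FFOne.FF F H T (zl T H) (cv T H), LSit N s → False

/-- `k ≥ 2` natural summands, `q ≥ 4` (owners: helper346 `NatK ⇒ InK`, helper132 `GlueK`). -/
def EndMany : Prop :=
  ∀ (G : Type u) [Group G] [Finite G] (S : Sylow 2 G) (M T H : Subgroup G) (s : G), Hyp G S M T H s →
    ∀ (F : Type) [Field F] [Finite F] [CharP F 2], 4 ≤ Nat.card F →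
      ∀ k : ℕ, 2 ≤ k → NatK F T H (zl T H) (cv T H) k → False

/-- `q = 2`: natural `SL₂(2)`-modules or even-subset modules, any number of summands (owners: helper670
`Concl ⇒ BauS.In`, helper525 `TwoAll`, helper799 `KillTwo`, helper663 `GlueTwo`). -/
def EndTwo : Prop :=
  ∀ (G : Type u) [Group G] [Finite G] (S : Sylow 2 G) (M T H : Subgroup G) (s : G), Hyp G S M T H s →
    NoOver (zl T H) H →
    (∀ (F : Type) [Field F] [Finite F] [CharP F 2], Nat.card F = 2 →
      ∀ k : ℕ, 0 < k → NatK F T H (zl T H) (cv T H) k → False) ∧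
    ∀ k m : ℕ, 0 < k → 2 ≤ m → SymK T H (zl T H) (cv T H) k m → False

/-- **Case I from the FF theorem and its three ends.** -/
theorem noConfig (hFF : FFThm.Stmt.{u}) (h1 : EndOne.{u}) (hk : EndMany.{u}) (h2 : EndTwo.{u}) :
    FrameI.NoConfig.{u} := by
  intro G _ _ hs hna hc hr S M hM hloc T H s cfg
  have h : Hyp G S M T H s := ⟨hs, hna, hc, hr, hM, hloc, cfg⟩
  obtain ⟨hno, ⟨F, i1, i2, i3, k, hk0, ⟨N⟩⟩ | ⟨k, m, hk0, hm, ⟨N⟩⟩⟩ := FFOf.concl_of_config hFF cfg
  · rcases FrameFF.two_le_card (F := F) with hF | hF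
    · exact (h2 G S M T H s h hno).1 F hF k hk0 N
    · rcases Nat.lt_or_ge k 2 with hk2 | hk2
      · have e : k = 1 := by omega
        subst e
        exact h1 G S M T H s h F hF (FFOf.ff cfg N) (SitOf.LSit.of_config cfg _)
      · exact hk G S M T H s h F hF k hk2 N
  · exact (h2 G S M T H s h hno).2 k m hk0 hm N

/-- **Node I.** -/
theorem nodeI (hFF : FFThm.Stmt.{u}) (h1 : EndOne.{u}) (hk : EndMany.{u}) (h2 : EndTwo.{u}) :
    Frame.NodeI.{u} :=
  FrameI.nodeI_of_noConfig (noConfig hFF h1 hk h2)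

end Cfsg.Agent.Omega.SQ1.Main
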