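import Cfsg.Agent.Omega.SQ1.BauMin
import Cfsg.Agent.Omega.SQ1.KillEnd
import Cfsg.Agent.Omega.SQ1.Main

/-!
# SQ1, several natural blocks, `q ≥ 4`: the end

`subsingleton_of_inK`: in the configuration `Config M T H s` the Baumann data `BauK.InK` with
`q > 2` have at most one block (matching + `Block.one_block_config`).
-/

set_option autoImplicit false

namespace Cfsg.Agent.Omega.SQ1.EndManyOf

open Subgroup Cfsg Cfsg.Agent.PLocal.ThompsonJ Cfsg.Agent.ZN Cfsg.Agent.ZN.ChoiceBase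
open Cfsg.Agent.ZN.ChoiceSit
open Cfsg.Agent.Omega.SQ1.Choice (Config)
open Cfsg.Agent.Omega.SQ1.BauK
open Cfsg.Agent.Omega.SQ1

universe u

variable {G : Type u} [Group G]

/-- **At most one block** (`q ≥ 4`). -/
theorem subsingleton_of_inK [Finite G] {M T H Q V V0 : Subgroup G} {s : G} {ι : Type} [Finite ι]
    {N E : ι → Subgroup G} {q : ℕ} (hG : IsCharacteristicTwoType G) (c : Config M T H s)
    (h : InK H T Q V V0 N E q) (hq : 2 < q) : Subsingleton ι := by
  rcases isEmpty_or_nonempty ι with hι | hι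
  · infer_instance
  have hTA : T ≤ T ⊔ zpowers s := le_sup_left
  have hAT : T ⊔ zpowers s ≤ normalizer (T : Set G) := sup_le le_normalizer (zpowers_le.2 c.sN)
  have idx : ∀ a ∈ T ⊔ zpowers s, ∀ b ∈ T ⊔ zpowers s, a ∉ T → b ∉ T → a⁻¹ * b ∈ T := by
    intro a ha b hb haT hbT
    have h1 := (SitOf.mem_A c.sN c.sq ha).resolve_left haT
    have h2 := (SitOf.mem_A c.sN c.sq hb).resolve_left hbT
    have h3 := mul_mem (inv_mem h1) h2
    have e : (s⁻¹ * a)⁻¹ * (s⁻¹ * b) = a⁻¹ * b := by group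
    rwa [e] at h3
  obtain ⟨L, -, hM⟩ := h.min_in hTA hAT idx (fun R hR hH hA =>
      SitOf.core_of_config c R hR hH (hA s (mem_sup_right (mem_zpowers s))))
    (mem_sup_right (mem_zpowers s)) c.sT
  have hn : H ≤ normalizer ((bau T ⊓ Q : Subgroup G) : Set G) := fun x hx =>
    FFOne.mem_norm_of (h.star_norm x hx)
  obtain ⟨A, hA, hAQ, -⟩ := h.exists_AQ
  refine Block.one_block_config hG c hM hn hA (le_inf ((le_jj hA).trans (jj_le_bau T)) hAQ) ?_
  intro i
  have h1 := h.card_VL i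
  have h2 := relIndex_mul_relIndex (⊥ : Subgroup G) (zj T) (InK.VL T (N i)) bot_le le_sup_left
  rw [relIndex_bot_left, relIndex_bot_left, h1] at h2
  rw [Nat.eq_of_mul_eq_mul_left Nat.card_pos h2]
  exact hq

end Cfsg.Agent.Omega.SQ1.EndManyOf
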