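import Cfsg.Agent.Omega.SQ1.FFKNat
import Cfsg.Agent.Omega.SQ1.EndManyOf

/-!
# SQ1: `Main.EndMany` (`k ≥ 2` natural summands, `q ≥ 4`)
-/

set_option autoImplicit false

namespace Cfsg.Agent.Omega.SQ1.EndManyOf

open Subgroup Cfsg Cfsg.Agent.ZN

universe u

/-- **`k ≥ 2` natural summands, `q ≥ 4`, do not occur.** -/
theorem endMany : Main.EndMany.{u} := by
  intro G _ _ S M T H s h F _ _ _ hF k hk N
  obtain ⟨N', E, hI⟩ := FFOne.exists_inK h.cfg.syl (FFOf.isMinPar h.cfg) h.cfg.self_cent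
    (VOf.nle h.cfg) (by omega) N
  have h1 := subsingleton_of_inK h.char2 h.cfg hI (by omega)
  have h2 := Fin.subsingleton_iff_le_one.1 h1
  omega

end Cfsg.Agent.Omega.SQ1.EndManyOf
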