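import Mathlib

/-!
# SQ1, `q = 2`: small facts on symmetric groups and powers (for `FFSym`)
-/

set_option autoImplicit false

namespace Cfsg.Agent.Omega.SQ1.SymCyc

open Equiv Equiv.Perm
open scoped Fin.CommRing

/-- A cycle of length `2 ^ m` on the nonzero elements of `Fin (2 ^ m + 1)`. -/
theorem exists_cyc (m : ℕ) (hm : 1 ≤ m) : ∃ p : Equiv.Perm (Fin (2 ^ m + 1)), p ^ (2 ^ m) = 1 ∧ p 0 = 0 ∧
    (∀ x, p x = x → x = 0) ∧ ∀ x y, x ≠ 0 → y ≠ 0 → ∃ i : ℕ, (p ^ i) x = y := by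
  have hne : NeZero (2 ^ m) := ⟨by positivity⟩
  have h1lt : 1 < 2 ^ m := Nat.one_lt_two_pow (by omega)
  obtain ⟨p, hp⟩ : ∃ p : Equiv.Perm (Fin (2 ^ m + 1)),
      p = decomposeFin.symm (0, Equiv.addRight (1 : Fin (2 ^ m))) := ⟨_, rfl⟩
  have h0 : p 0 = 0 := by rw [hp, decomposeFin_symm_apply_zero]
  have hs : ∀ x : Fin (2 ^ m), p x.succ = (x + 1).succ := by
    intro x
    rw [hp, decomposeFin_symm_apply_succ]
    simp
  have hpow : ∀ (i : ℕ) (x : Fin (2 ^ m)), (p ^ i) x.succ = (x + (i : Fin (2 ^ m))).succ := by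
    intro i
    induction i with
    | zero => intro x; simp
    | succ i ih =>
      intro x
      rw [pow_succ', Equiv.Perm.mul_apply, ih, hs]
      congr 1
      push_cast
      rw [add_assoc]
  have hpow0 : ∀ i : ℕ, (p ^ i) 0 = 0 := by
    intro i
    induction i with
    | zero => simp
    | succ i ih => rw [pow_succ', Equiv.Perm.mul_apply, ih, h0]
  refine ⟨p, ?_, h0, ?_, ?_⟩
  · ext x : 1
    rw [Equiv.Perm.one_apply]
    refine Fin.cases (hpow0 _) (fun y => ?_) x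
    rw [hpow]
    simp
  · intro x
    refine Fin.cases (fun _ => rfl) (fun y hy => ?_) x
    exfalso
    rw [hs] at hy
    have h1 := Fin.succ_injective _ hy
    have h2 : (1 : Fin (2 ^ m)) = 0 := by simpa using h1
    have h3 := congrArg Fin.val h2
    rw [Fin.val_zero, Fin.val_one', Nat.mod_eq_of_lt h1lt] at h3
    omega
  · intro x y
    refine Fin.cases (fun h => absurd rfl h) (fun a _ => ?_) x
    refine Fin.cases (fun h => absurd rfl h) (fun b _ => ?_) y
    refine ⟨(b - a : Fin (2 ^ m)).val, ?_⟩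
    rw [hpow, Fin.cast_val_eq_self]
    congr 1
    abel

/-- A power with exponent `≡ 1` modulo `2 ^ m` is a 2-element. -/
theorem exists_pow {G : Type*} [Group G] [Finite G] (g : G) (m : ℕ) :
    ∃ c : ℕ, c % 2 ^ m = 1 % 2 ^ m ∧ ∃ N : ℕ, (g ^ c) ^ (2 ^ N) = 1 := by
  obtain ⟨k, r, hr, hkr⟩ := Nat.exists_eq_two_pow_mul_odd (n := orderOf g) (orderOf_pos g).ne'
  have hco : Nat.Coprime (2 ^ m) r := Nat.Coprime.pow_left _ (Nat.coprime_two_left.2 hr)
  obtain ⟨c, hc1, hc2⟩ := Nat.chineseRemainder hco 1 0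
  refine ⟨c, hc1, k, ?_⟩
  rw [← pow_mul]
  apply orderOf_dvd_iff_pow_eq_one.1
  rw [hkr, mul_comm c]
  exact mul_dvd_mul_left _ ((Nat.modEq_zero_iff_dvd).1 hc2)

/-- The transpositions `(0 z)` generate the symmetric group. -/
theorem perm_top {n : ℕ} (P : Subgroup (Equiv.Perm (Fin (n + 1))))
    (h : ∀ z, z ≠ 0 → Equiv.swap 0 z ∈ P) : P = ⊤ := by
  rw [eq_top_iff, ← Equiv.Perm.closure_isSwap, Subgroup.closure_le]
  rintro _ ⟨x, y, hxy, rfl⟩
  by_cases hx : x = 0
  · subst hx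
    exact h y hxy.symm
  by_cases hy : y = 0
  · subst hy
    rw [Equiv.swap_comm]
    exact h x hx
  have h1 : Equiv.swap 0 x * Equiv.swap y 0 * Equiv.swap 0 x = Equiv.swap x y :=
    Equiv.swap_mul_swap_mul_swap hy hxy.symm
  rw [SetLike.mem_coe, ← h1, Equiv.swap_comm y 0]
  exact P.mul_mem (P.mul_mem (h x hx) (h y hy)) (h x hx)

/-- A subgroup of a power which contains the factors is everything. -/
theorem pi_top {k n : ℕ} (P : Subgroup (Fin k → Equiv.Perm (Fin n)))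
    (h : ∀ i p, Pi.mulSingle i p ∈ P) : P = ⊤ := by
  rw [eq_top_iff]
  intro x _
  exact Subgroup.pi_mem_of_mulSingle_mem x fun i => h i (x i)

end Cfsg.Agent.Omega.SQ1.SymCyc
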