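import Cfsg.Agent.Omega.SQ1.FFSymT
import Cfsg.Agent.Omega.SQ1.SymCyc

/-!
# SQ1, L1: from the FF theorem (`FFThm.SymK`) to the `q = 2` Baumann input, part 3

For the chosen configuration `Config M₀ T H s` and `V = zl T H`, `D = C_V(O²(H))`:

* `cent`: an element of `H` which centralises `D` and `V / D` centralises `V`;
* `syT`: the module data `SyT`;
* `main`: `BauS.In` and `BauS.PermR` from `SymK` (`m ≥ 1`) and `NoOver`.
-/

set_option autoImplicit false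
set_option linter.unusedSectionVars false
set_option linter.unusedVariables false

namespace Cfsg.Agent.Omega.SQ1.FFSym

open Subgroup Cfsg Cfsg.Agent.PLocal.ThompsonJ Cfsg.Agent.ZN Cfsg.Agent.ZN.ChoiceBase
open Cfsg.Agent.ZN.ChoiceSit
open Cfsg.Agent.Omega.SQ1.FFOne Cfsg.Agent.Omega.SQ1.VOf
open Cfsg.Agent.Omega.SQ1.Choice (Config)
open Cfsg.Agent.Omega.FFThm (ActsSym SymK NoOver Off)
open Cfsg.Agent.Omega.SQ1.BauS (Sim)
open Cfsg.Agent.Omega.FrameFF (cv)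

universe v

variable {G : Type v} [Group G] {M₀ T H D : Subgroup G} {s : G} {k m : ℕ}

/-- a 2-element of `H` is conjugate into `T` -/
theorem syl_elt [Finite G] (c : Syl T H) {x : G} (hx : x ∈ H) (h2 : ∃ N : ℕ, x ^ 2 ^ N = 1) :
    ∃ g ∈ H, g * x * g⁻¹ ∈ T := by
  obtain ⟨N, hN⟩ := h2
  have h1 : IsPGroup 2 (zpowers x) := by
    rintro ⟨y, hy⟩
    obtain ⟨i, rfl⟩ := mem_zpowers_iff.1 hy
    refine ⟨N, Subtype.ext ?_⟩
    simp only [SubmonoidClass.mk_pow, OneMemClass.coe_one]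
    rw [← zpow_natCast, ← zpow_mul, mul_comm, zpow_mul, zpow_natCast, hN, one_zpow]
  obtain ⟨S, hS, hxS⟩ := exists_syl h1 (zpowers_le.2 hx)
  obtain ⟨g, hg, hgS⟩ := syl_conj hS c
  refine ⟨g, hg, ?_⟩
  rw [← hgS]
  exact ⟨x, hxS (mem_zpowers x), rfl⟩

theorem exists_three_pts (hm : 1 ≤ m) : ∃ a b : Fin (2 ^ m + 1), a ≠ 0 ∧ b ≠ 0 ∧ a ≠ b := by
  have h1 : 2 ≤ 2 ^ m := by
    calc 2 = 2 ^ 1 := (pow_one 2).symm
      _ ≤ 2 ^ m := Nat.pow_le_pow_right (by norm_num) hm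
  refine ⟨⟨1, by omega⟩, ⟨2, by omega⟩, ?_, ?_, ?_⟩
  · intro h; simpa using congrArg Fin.val h
  · intro h; simpa using congrArg Fin.val h
  · intro h; simpa using congrArg Fin.val h

/-- the elements of `H` permuting the coordinates of the points `0` -/
def Fix0 (T H V D : Subgroup G) (N : SymK T H V D k m) (hV : ∀ g ∈ H, ∀ v ∈ V, g * v * g⁻¹ ∈ V) :
    Subgroup G where
  carrier := {g | g ∈ H ∧ ∃ σ : Equiv.Perm (Fin k), ∀ v ∈ V, ∀ i,
    N.e (g * v * g⁻¹) (σ i) 0 = N.e v i 0}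
  mul_mem' := by
    rintro a b ⟨ha, σ, hσ⟩ ⟨hb, σ', hσ'⟩
    refine ⟨mul_mem ha hb, σ * σ', fun v hv i => ?_⟩
    have e1 : a * b * v * (a * b)⁻¹ = a * (b * v * b⁻¹) * a⁻¹ := by group
    rw [e1, Equiv.Perm.mul_apply, hσ _ (hV b hb v hv), hσ' v hv]
  one_mem' := ⟨one_mem H, 1, fun v hv i => by simp⟩
  inv_mem' := by
    rintro a ⟨ha, σ, hσ⟩
    refine ⟨inv_mem ha, σ⁻¹, fun v hv i => ?_⟩
    have h1 := hV a⁻¹ (inv_mem ha) v hv
    have h2 := hσ _ h1 (σ⁻¹ i)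
    have e1 : a * (a⁻¹ * v * a⁻¹⁻¹) * a⁻¹ = v := by group
    rw [e1, perm_inv_self] at h2
    exact h2.symm

/-- the elements of `H` centralising `D` and `V / D` -/
def Ker (T H V D : Subgroup G) (N : SymK T H V D k m) (hV : ∀ g ∈ H, ∀ v ∈ V, g * v * g⁻¹ ∈ V) :
    Subgroup G where
  carrier := {g | g ∈ H ∧ (∀ d ∈ D, g * d = d * g) ∧ ∀ v ∈ V, N.e (g * v * g⁻¹) = N.e v}
  mul_mem' := by
    rintro a b ⟨ha, ha1, ha2⟩ ⟨hb, hb1, hb2⟩
    refine ⟨mul_mem ha hb, fun d hd => ?_, fun v hv => ?_⟩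
    · rw [mul_assoc, hb1 d hd, ← mul_assoc, ha1 d hd, mul_assoc]
    · have e1 : a * b * v * (a * b)⁻¹ = a * (b * v * b⁻¹) * a⁻¹ := by group
      rw [e1, ha2 _ (hV b hb v hv), hb2 v hv]
  one_mem' := ⟨one_mem H, fun d _ => by rw [one_mul, mul_one], fun v _ => by simp⟩
  inv_mem' := by
    rintro a ⟨ha, ha1, ha2⟩
    refine ⟨inv_mem ha, fun d hd => ?_, fun v hv => ?_⟩
    · calc a⁻¹ * d = a⁻¹ * (d * a) * a⁻¹ := by group
        _ = a⁻¹ * (a * d) * a⁻¹ := by rw [ha1 d hd]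
        _ = _ := by group
    · have h1 := hV a⁻¹ (inv_mem ha) v hv
      have h2 := ha2 _ h1
      have e1 : a * (a⁻¹ * v * a⁻¹⁻¹) * a⁻¹ = v := by group
      rw [e1] at h2
      exact h2.symm

/-- **An element of `H` which centralises `D` and `V / D` centralises `V`.** -/
theorem cent (c : Config M₀ T H s) [Finite G] (N : SymK T H (zl T H) D k m) (hk : 0 < k)
    (hm : 1 ≤ m) (hDV : D ≤ zl T H) (hDn : ∀ h ∈ H, ∀ v ∈ D, h * v * h⁻¹ ∈ D) {g : G} (hg : g ∈ H)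
    (h1 : ∀ d ∈ D, g * d = d * g) (h2 : ∀ v ∈ zl T H, N.e (g * v * g⁻¹) = N.e v) :
    ∀ v ∈ zl T H, g * v = v * g := by
  have hV : ∀ g ∈ H, ∀ v ∈ zl T H, g * v * g⁻¹ ∈ zl T H := zl_norm
  set R := Ker T H (zl T H) D N hV with hR
  set F := Fix0 T H (zl T H) D N hV with hF
  have hTF : T ≤ F := by
    intro t ht
    obtain ⟨σ, τ, hta⟩ := N.perm t (c.TY ht)
    refine ⟨c.TY ht, σ, fun v hv i => ?_⟩
    have h3 := hta v hv i 0
    rwa [N.fix0 t ht σ τ hta i] at h3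
  have hRF : R ≤ F := fun x hx => ⟨hx.1, 1, fun v hv i => by
    rw [hx.2.2 v hv, Equiv.Perm.one_apply]⟩
  have hRn : ∀ h ∈ H, ∀ r ∈ R, h * r * h⁻¹ ∈ R := by
    rintro x hx r ⟨hr, hr1, hr2⟩
    refine ⟨mul_mem (mul_mem hx hr) (inv_mem hx), fun d hd => ?_, fun v hv => ?_⟩
    · have hd' : x⁻¹ * d * x ∈ D := by
        have := hDn x⁻¹ (inv_mem hx) d hd
        rwa [inv_inv] at this
      have h3 := hr1 _ hd'
      calc x * r * x⁻¹ * d = x * (r * (x⁻¹ * d * x)) * x⁻¹ := by group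
        _ = x * ((x⁻¹ * d * x) * r) * x⁻¹ := by rw [h3]
        _ = _ := by group
    · set w := x⁻¹ * v * x with hw
      have hwV : w ∈ zl T H := by
        have := hV x⁻¹ (inv_mem hx) v hv
        rwa [inv_inv] at this
      obtain ⟨σ, τ, hxa⟩ := N.perm x hx
      have e1 : x * r * x⁻¹ * v * (x * r * x⁻¹)⁻¹ = x * (r * w * r⁻¹) * x⁻¹ := by rw [hw]; group
      have e2 : v = x * w * x⁻¹ := by rw [hw]; group
      rw [e1]
      conv_rhs => rw [e2]
      funext i y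
      have h3 := hxa _ (hV r hr w hwV) (σ⁻¹ i) ((τ (σ⁻¹ i))⁻¹ y)
      have h4 := hxa w hwV (σ⁻¹ i) ((τ (σ⁻¹ i))⁻¹ y)
      rw [perm_inv_self, perm_inv_self] at h3 h4
      rw [h3, h4, hr2 w hwV]
  have hne : R ⊔ T ≠ H := by
    intro hcon
    obtain ⟨a, b, ha, hb, hab⟩ := exists_three_pts hm
    obtain ⟨x, hx, hxa, -⟩ := N.lift (Pi.mulSingle ⟨0, hk⟩ (Equiv.swap 0 a))
    have hxF : x ∈ F := (sup_le hRF hTF) (by rw [hcon]; exact hx)
    obtain ⟨-, σ, hσ⟩ := hxF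
    set j : Fin k := ⟨0, hk⟩ with hj
    obtain ⟨v, hv, hev⟩ := N.surj (E j a + E j b) fun i => by
      simp only [Pi.add_apply, Finset.sum_add_distrib, E_sum]
      exact CharTwo.add_self_eq_zero _
    have h3 := hxa v hv j a
    have h4 := hσ v hv (σ⁻¹ j)
    rw [perm_inv_self] at h4
    rw [Equiv.Perm.one_apply, Pi.mulSingle_eq_same, Equiv.swap_apply_right, h4, hev] at h3
    simp only [Pi.add_apply, E, true_and, if_true, hab, if_false, add_zero] at h3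
    rw [if_neg (fun h => ha h.2.symm), if_neg (fun h => hb h.2.symm), add_zero] at h3
    exact absurd h3 (by decide)
  have hRH : R ≤ H := fun x hx => hx.1
  have h3 := (minH c).inf_le hRH hRn hne
  -- 2-elements of `R`
  have h4 : ∀ x ∈ R, (∃ n : ℕ, x ^ 2 ^ n = 1) → ∀ v ∈ zl T H, x * v = v * x := by
    intro x hx hx2
    obtain ⟨y, hy, hyT⟩ := syl_elt c.syl hx.1 hx2
    have h5 := h3 ⟨hyT, hRn y hy x hx⟩
    have h6 : x ∈ o2 H := by
      have := conj_mem_of_norm (le_normalizer_o2 H (inv_mem hy)) h5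
      have e1 : y⁻¹ * (y * x * y⁻¹) * y⁻¹⁻¹ = x := by group
      rwa [e1] at this
    exact MinH.o2_cent (minH c) x h6
  -- squares
  have h5 : ∀ v ∈ zl T H, (g * g) * v = v * (g * g) := by
    intro v hv
    have hv' := hV g hg v hv
    have hδ : g * v * g⁻¹ * v ∈ D := by
      rw [← N.ker _ (mul_mem hv' hv), N.mul _ hv' v hv, h2 v hv]
      funext i x
      exact CharTwo.add_self_eq_zero _
    have hvv : v * v = 1 := by
      rw [← pow_two]; exact MinH.sq (minH c) v hv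
    have hδδ : (g * v * g⁻¹ * v) * (g * v * g⁻¹ * v) = 1 := by
      rw [← pow_two]; exact MinH.sq (minH c) _ (hDV hδ)
    have h6 := h1 _ hδ
    set δ := g * v * g⁻¹ * v with hδd
    have e1 : g * v * g⁻¹ = δ * v := by rw [hδd, mul_assoc (g * v * g⁻¹), hvv, mul_one]
    have e2 : g * g * v * (g * g)⁻¹ = v := by
      calc g * g * v * (g * g)⁻¹ = g * (g * v * g⁻¹) * g⁻¹ := by group
        _ = (g * δ) * v * g⁻¹ := by rw [e1]; group
        _ = δ * (g * v * g⁻¹) := by rw [h6]; group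
        _ = v := by rw [e1, ← mul_assoc, hδδ, one_mul]
    calc g * g * v = (g * g * v * (g * g)⁻¹) * (g * g) := by group
      _ = v * (g * g) := by rw [e2]
  obtain ⟨n, hn, hN⟩ := SymCyc.exists_pow g 1
  have hgR : g ∈ R := ⟨hg, h1, h2⟩
  have h6 := h4 (g ^ n) (pow_mem hgR n) hN
  have hn' : n = 2 * (n / 2) + 1 := by
    have : n % 2 = 1 := by simpa using hn
    omega
  intro v hv
  have c1 : Commute (g ^ n) v := h6 v hv
  have c2 : Commute ((g * g) ^ (n / 2)) v := (show Commute (g * g) v from h5 v hv).pow_left _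
  have e1 : g = ((g * g) ^ (n / 2))⁻¹ * g ^ n := by
    rw [← pow_two, ← pow_mul]
    conv_rhs => rw [hn', pow_succ]
    rw [show 2 * (n / 2) + 1 = 2 * (n / 2) + 1 from rfl]
    have : 2 * ((2 * (n / 2) + 1) / 2) = 2 * (n / 2) := by omega
    rw [this, inv_mul_cancel_left]
  have c3 : Commute (((g * g) ^ (n / 2))⁻¹ * g ^ n) v := (c2.inv_left).mul_left c1
  rw [← e1] at c3
  exact c3.eq

/-- **The module data of the chosen configuration.** -/
theorem syT (c : Config M₀ T H s) [Finite G] (hno : NoOver (zl T H) H)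
    (N : SymK T H (zl T H) D k m) (hk : 0 < k)
    (hm : 1 ≤ m) (hDV : D ≤ zl T H) (hDn : ∀ h ∈ H, ∀ v ∈ D, h * v * h⁻¹ ∈ D) :
    SyT T H (o2 H) (zl T H) D (0 : Fin (2 ^ m + 1)) N.e where
  n3 := by
    have : 2 ≤ 2 ^ m := by
      calc 2 = 2 ^ 1 := (pow_one 2).symm
        _ ≤ 2 ^ m := Nat.pow_le_pow_right (by norm_num) hm
    omega
  n4 := by
    intro h4
    have h5 : 2 ∣ 2 ^ m := dvd_pow_self 2 (by omega)
    omega
  DV := hDV
  Vn := zl_norm
  Dn := hDn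
  comm := MinH.comm (minH c)
  sq := MinH.sq (minH c)
  mul := N.mul
  even := N.even
  surj := N.surj
  ker := N.ker
  lift := N.lift
  perm := N.perm
  cent := fun g hg h1 h2 => cent c N hk hm hDV hDn hg h1 h2
  TH := c.TY
  Tp := c.two
  QT := o2_le_syl c.syl
  VQ := MinH.zl_le_o2 (minH c)
  Qn := fun g hg x hx => conj_mem_of_norm (le_normalizer_o2 H hg) hx
  VcQ := MinH.o2_cent (minH c)
  cT := fun x hx hc => cT c hx hc
  syl := fun x hx h2 => syl_elt c.syl hx h2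
  trans := N.trans
  fix0 := N.fix0
  gen := fun K hT hK => N.gen K hT fun g hg τ ha hd => hK g τ ⟨hg, hd, ha⟩
  offD := by
    intro A hA a ha
    by_cases hne : A ≤ centralizer (zl T H : Set G)
    · refine ⟨1, ⟨c.TY (hA.2.1 ha), fun d hd => (mem_centralizer_iff.1 (hne ha) d (hDV hd)).symm,
        fun v hv i x => ?_⟩, fun i x hx => absurd rfl hx⟩
      have h1 := mem_centralizer_iff.1 (hne ha) v hv
      have h2 : a * v * a⁻¹ = v := by rw [← h1]; group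
      rw [h2, Equiv.Perm.one_apply, Pi.one_apply, Equiv.Perm.one_apply]
    · obtain ⟨h1, h2⟩ := N.off A hA.2.1 (FFOf.off_of_AA (minH c) hA hne)
      obtain ⟨τ, hτ, hτ'⟩ := h2 a ha
      refine ⟨τ, ⟨c.TY (hA.2.1 ha), h1 a ha, hτ⟩, fun i x hx => ?_⟩
      obtain ⟨h3, b, hb, hb'⟩ := hτ' i x hx
      exact ⟨h3, b, hb, c.TY (hA.2.1 hb), h1 b hb, hb'⟩
  nJ := by
    obtain ⟨A, hA, hoff⟩ := FFOf.exists_off c
    have h1 := hoff.ne
    by_contra hcon
    push Not at hcon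
    exact h1 fun a ha => mem_centralizer_iff.2 fun v hv => (hcon A hA a ha v hv).symm
  noOver := fun A hA => hno A (hA.2.1.trans c.TY) hA.1
  cycle := by
    obtain ⟨p, h1, -, h3, h4⟩ := SymCyc.exists_cyc m hm
    exact ⟨p, m, h1, h3, h4⟩
  prop := by
    intro X hTX hXH hle
    by_contra hcon
    have h1 : X ≤ M₀ := c.min X hTX (lt_of_le_of_ne hXH fun h => hcon h.ge)
    have h2 : (H ⊓ centralizer (zl T H : Set G)) ⊔ T ≤ M₀ :=
      c.min _ le_sup_right (lt_of_le_of_ne (sup_le inf_le_left c.TY) (cent_sup_ne c))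
    exact c.notM (hle.trans (sup_le h1 (le_sup_left.trans h2)))

/-- **L1 for `q = 2`**: `FFThm.SymK` (with `m ≥ 1`) and no over-offenders give the Baumann input. -/
theorem main (c : Config M₀ T H s) [Finite G] (hno : NoOver (zl T H) H) (hk : 0 < k) (hm : 1 ≤ m)
    (N : SymK T H (zl T H) (cv T H) k m) :
    ∃ (ι : Type) (N' : ι → Subgroup G) (d t r : ι → G), Nonempty ι ∧
      BauS.In H T (o2 H) (zl T H) N' d t r ∧ BauS.PermR T (zl T H) d r := by
  have h := syT c hno N hk hm FFOf.cv_le FFOf.cv_norm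
  obtain ⟨ι, J, X, Y, t, r, hc⟩ := h.exists_ch
  obtain ⟨j, x, y, hT⟩ := h.exists_tr
  obtain ⟨i, -⟩ := hc.ex j x y hT
  exact ⟨ι, _, _, t, r, ⟨i⟩, hc.main h SymCyc.exists_pow, hc.permR h⟩

end Cfsg.Agent.Omega.SQ1.FFSym
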