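import Cfsg.Agent.Omega.SQ1.FFTwoA

/-!
# SQ1: natural `SL₂(2)`-modules are even-subset modules of `S₃`

`symOf : NatK F T H V D k → |F| = 2 → SymK T H V D k 1` : the vector `(x₀, x₁)` corresponds to the even subset
`(x₁, x₀ + x₁, x₀)` of the three points; the line `x₁ = 0` corresponds to the point `0`.
-/

set_option autoImplicit false
set_option linter.unusedSectionVars false
set_option linter.unusedVariables false

namespace Cfsg.Agent.Omega.SQ1.SymOfNat

open Subgroup Cfsg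
open Cfsg.Agent.Omega.FFThm
open Cfsg.Agent.Omega.NatPair (ap ap_zero' ap_one')
open Cfsg.Agent.Lib.SL2Mat
open Equiv (swap)

universe u

/-! ### The finite model -/

/-- `(x₀, x₁) ↦ (x₁, x₀ + x₁, x₀)` -/
def cv2 (x : Fin 2 → ZMod 2) : Fin (2 ^ 1 + 1) → ZMod 2 := fun z =>
  if z = 0 then x 1 else if z = 1 then x 0 + x 1 else x 0

theorem cv2_add (x y : Fin 2 → ZMod 2) : cv2 (x + y) = cv2 x + cv2 y := by
  funext z
  simp only [cv2, Pi.add_apply]
  split_ifs <;> ring

theorem cv2_even (x : Fin 2 → ZMod 2) : ∑ z, cv2 x z = 0 := by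
  revert x; decide

theorem cv2_surj (y : Fin (2 ^ 1 + 1) → ZMod 2) (h : ∑ z, y z = 0) : ∃ x, cv2 x = y := by
  revert y; decide

theorem cv2_zero (x : Fin 2 → ZMod 2) : cv2 x = 0 ↔ x = 0 := by
  revert x; decide

theorem cv2_inj {x y : Fin 2 → ZMod 2} (h : cv2 x = cv2 y) : x = y := by
  have h1 : cv2 (x - y) = 0 := by
    have h2 := cv2_add (x - y) y
    rw [sub_add_cancel, h] at h2
    have h3 : 0 + cv2 y = cv2 (x - y) + cv2 y := by rw [zero_add]; exact h2
    exact (add_right_cancel h3).symm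
  exact sub_eq_zero.1 ((cv2_zero _).1 h1)

/-- a linear map given by the images of the basis vectors -/
def lin (p q : Fin 2 → ZMod 2) (x : Fin 2 → ZMod 2) : Fin 2 → ZMod 2 :=
  fun j => x 0 * p j + x 1 * q j

theorem lin_perm (p q : Fin 2 → ZMod 2) (hp : p ≠ 0) (hq : q ≠ 0) (hpq : p ≠ q) :
    ∃ τ : Equiv.Perm (Fin (2 ^ 1 + 1)), ∀ x z, cv2 (lin p q x) (τ z) = cv2 x z := by
  revert p q; decide

/-- every permutation of the three points comes from a matrix of determinant one -/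
theorem perm_mat (τ : Equiv.Perm (Fin (2 ^ 1 + 1))) : ∃ a b c d : ZMod 2, a * d - b * c = 1 ∧
    ∀ x z, cv2 (fun j => if j = 0 then a * x 0 + b * x 1 else c * x 0 + d * x 1) (τ z) = cv2 x z := by
  revert τ; decide

theorem lin_zero (p q : Fin 2 → ZMod 2) : lin p q 0 = 0 := by
  funext j; simp [lin]

variable {G : Type u} [Group G] {F : Type} [Field F] {H T V D : Subgroup G} {k : ℕ}

/-- the coordinates over `ZMod 2` -/
def en (φ : F ≃+* ZMod 2) (N : NatK F T H V D k) (v : G) (i : Fin k) : Fin 2 → ZMod 2 :=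
  fun j => φ (N.e v i j)

variable (φ : F ≃+* ZMod 2) (N : NatK F T H V D k)

theorem en_mul {v w : G} (hv : v ∈ V) (hw : w ∈ V) (i : Fin k) :
    en φ N (v * w) i = en φ N v i + en φ N w i := by
  funext j
  simp only [en, Pi.add_apply]
  rw [N.mul v hv w hw, Pi.add_apply, Pi.add_apply, map_add]

theorem en_surj (x : Fin k → Fin 2 → ZMod 2) : ∃ v ∈ V, ∀ i, en φ N v i = x i := by
  obtain ⟨v, hv, he⟩ := N.surj fun i j => φ.symm (x i j)
  refine ⟨v, hv, fun i => ?_⟩
  funext j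
  simp only [en, he, RingEquiv.apply_symm_apply]

theorem en_zero (v : G) (i : Fin k) : en φ N v i = 0 ↔ N.e v i = 0 := by
  constructor
  · intro h
    funext j
    have h1 := congrFun h j
    simp only [en, Pi.zero_apply] at h1
    exact (map_eq_zero_iff φ φ.injective).1 h1
  · intro h
    funext j
    simp only [en, h, Pi.zero_apply, map_zero]

theorem en_mat {g v : G} {i : Fin k} {A : Matrix.SpecialLinearGroup (Fin 2) F}
    (h : N.e (g * v * g⁻¹) i = ap A (N.e v i)) : en φ N (g * v * g⁻¹) i =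
      fun j => if j = 0 then φ (ent A 0 0) * en φ N v i 0 + φ (ent A 0 1) * en φ N v i 1
        else φ (ent A 1 0) * en φ N v i 0 + φ (ent A 1 1) * en φ N v i 1 := by
  funext j
  simp only [en, h]
  fin_cases j
  · simp only [Fin.zero_eta, Fin.isValue, ap_zero', map_add, map_mul, if_true]
  · simp only [Fin.mk_one, Fin.isValue, ap_one', map_add, map_mul, one_ne_zero, if_false]

theorem block (hVn : ∀ h ∈ H, ∀ v ∈ V, h * v * h⁻¹ ∈ V) {g : G} (hg : g ∈ H) {i i' : Fin k}
    (hσ : ∀ v ∈ V, N.e (g * v * g⁻¹) i' = 0 ↔ N.e v i = 0) :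
    ∃ τ : Equiv.Perm (Fin (2 ^ 1 + 1)), ∀ v ∈ V, ∀ z,
      cv2 (en φ N (g * v * g⁻¹) i') (τ z) = cv2 (en φ N v i) z := by
  have hσ' : ∀ v ∈ V, en φ N (g * v * g⁻¹) i' = 0 ↔ en φ N v i = 0 := fun v hv => by
    rw [en_zero, en_zero]; exact hσ v hv
  obtain ⟨u, hu, hue⟩ := en_surj φ N fun _ => ![1, 0]
  obtain ⟨w, hw, hwe⟩ := en_surj φ N fun _ => ![0, 1]
  have hgm : ∀ a b : G, g * (a * b) * g⁻¹ = (g * a * g⁻¹) * (g * b * g⁻¹) := fun a b => by group
  have hadd : ∀ a ∈ V, ∀ b ∈ V, en φ N (g * (a * b) * g⁻¹) i' =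
      en φ N (g * a * g⁻¹) i' + en φ N (g * b * g⁻¹) i' := fun a ha b hb => by
    rw [hgm, en_mul φ N (hVn g hg a ha) (hVn g hg b hb)]
  set p := en φ N (g * u * g⁻¹) i' with hp
  set q := en φ N (g * w * g⁻¹) i' with hq
  have hp0 : p ≠ 0 := fun h0 => by
    have h1 := (hσ' u hu).1 h0
    rw [hue i] at h1
    exact absurd (congrFun h1 0) (by decide)
  have hq0 : q ≠ 0 := fun h0 => by
    have h1 := (hσ' w hw).1 h0
    rw [hwe i] at h1
    exact absurd (congrFun h1 1) (by decide)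
  have h2 : ∀ x : Fin 2 → ZMod 2, x + x = 0 := by decide
  have hpq : p ≠ q := fun h0 => by
    have h1 := (hσ' (u * w) (V.mul_mem hu hw)).1 (by rw [hadd u hu w hw, ← hp, ← hq, h0]; exact h2 q)
    rw [en_mul φ N hu hw, hue i, hwe i] at h1
    exact absurd (congrFun h1 0) (by decide)
  -- the action is `lin p q`
  have key : ∀ v ∈ V, en φ N (g * v * g⁻¹) i' = lin p q (en φ N v i) := by
    intro v hv
    have hz : ∀ a ∈ V, en φ N a i = en φ N v i → en φ N (g * v * g⁻¹) i' = en φ N (g * a * g⁻¹) i' := by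
      intro a ha hae
      have h1 := (hσ' (v * a) (V.mul_mem hv ha)).2 (by rw [en_mul φ N hv ha, hae]; exact h2 _)
      rw [hadd v hv a ha] at h1
      have h3 := h2 (en φ N (g * a * g⁻¹) i')
      exact add_right_cancel (h1.trans h3.symm)
    have hcases : ∀ x : Fin 2 → ZMod 2, x = 0 ∨ x = ![1, 0] ∨ x = ![0, 1] ∨ x = ![1, 0] + ![0, 1] := by
      decide
    rcases hcases (en φ N v i) with h | h | h | h
    · rw [h, lin_zero]
      exact (hσ' v hv).2 h
    · rw [hz u hu (by rw [hue i, h]), h, ← hp]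
      funext j
      simp [lin]
    · rw [hz w hw (by rw [hwe i, h]), h, ← hq]
      funext j
      simp [lin]
    · rw [hz (u * w) (V.mul_mem hu hw) (by rw [en_mul φ N hu hw, hue i, hwe i, h]), h,
        hadd u hu w hw, ← hp, ← hq]
      funext j
      simp [lin]
  obtain ⟨τ, hτ⟩ := lin_perm p q hp0 hq0 hpq
  exact ⟨τ, fun v hv z => by rw [key v hv]; exact hτ _ z⟩

/-- the coordinates of the even-subset module -/
def E (v : G) : Fin k → Fin (2 ^ 1 + 1) → ZMod 2 := fun i => cv2 (en φ N v i)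

theorem perm (hVn : ∀ h ∈ H, ∀ v ∈ V, h * v * h⁻¹ ∈ V) {g : G} (hg : g ∈ H) :
    ∃ σ τ, ActsSym (E φ N) V g σ τ := by
  obtain ⟨σ, hσ⟩ := N.perm g hg
  choose τ hτ using fun i => block φ N hVn hg (i := i) (i' := σ i) fun v hv => hσ v hv i
  exact ⟨σ, τ, fun v hv i z => hτ i v hv z⟩

theorem of_SL (hVn : ∀ h ∈ H, ∀ v ∈ V, h * v * h⁻¹ ∈ V) {g : G} (hg : g ∈ H)
    {A : Fin k → Matrix.SpecialLinearGroup (Fin 2) F} (h : ActsSL N.e V D g A) :
    ∃ τ, ActsSym (E φ N) V g 1 τ := by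
  have h0 : ∀ i, ∀ v ∈ V, N.e (g * v * g⁻¹) i = 0 ↔ N.e v i = 0 := by
    intro i v hv
    rw [h.1 v hv i]
    constructor
    · intro h1
      have h2 := NatPair.ap_inv_ap (A i) (N.e v i)
      rw [h1] at h2
      rw [← h2]
      apply NatPair.ext2
      · rw [ap_zero']; simp
      · rw [ap_one']; simp
    · intro h1
      rw [h1]
      apply NatPair.ext2
      · rw [ap_zero']; simp
      · rw [ap_one']; simp
  choose τ hτ using fun i => block φ N hVn hg (i := i) (i' := i) (h0 i)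
  exact ⟨τ, fun v hv i z => hτ i v hv z⟩

theorem exists_E (y : Fin k → Fin (2 ^ 1 + 1) → ZMod 2) (hy : ∀ i, ∑ x, y i x = 0) :
    ∃ v ∈ V, E φ N v = y := by
  choose x hx using fun i => cv2_surj (y i) (hy i)
  obtain ⟨v, hv, he⟩ := en_surj φ N x
  exact ⟨v, hv, funext fun i => by rw [E, he i, hx i]⟩

theorem up_act {g v : G} {i : Fin k} {b : F} (h : N.e (g * v * g⁻¹) i = ap (up b) (N.e v i)) :
    en φ N (g * v * g⁻¹) i = ![en φ N v i 0 + φ b * en φ N v i 1, en φ N v i 1] := by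
  rw [en_mat φ N h]
  funext j
  fin_cases j
  · simp
  · simp

theorem cv2_up_one (x : Fin 2 → ZMod 2) (z : Fin (2 ^ 1 + 1)) :
    cv2 ![x 0 + 1 * x 1, x 1] (swap 1 2 z) = cv2 x z := by
  revert x z; decide

theorem cv2_up_zero (x : Fin 2 → ZMod 2) (z : Fin (2 ^ 1 + 1)) :
    cv2 ![x 0 + 0 * x 1, x 1] z = cv2 x z := by
  revert x z; decide

theorem z2 : ∀ a : ZMod 2, a = 0 ∨ a = 1 := by decide

theorem up_sym {g : G} {b : Fin k → F} (h : ActsSL N.e V D g fun i => up (b i)) :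
    ActsSym (E φ N) V g 1 fun i => if φ (b i) = 0 then 1 else swap 1 2 := by
  intro v hv i z
  have h1 := up_act φ N (h.1 v hv i)
  change cv2 (en φ N (g * v * g⁻¹) i) _ = cv2 (en φ N v i) z
  rw [h1]
  rcases z2 (φ (b i)) with h2 | h2
  · simp only [h2, if_true, Equiv.Perm.one_apply]
    exact cv2_up_zero _ z
  · simp only [h2, one_ne_zero, if_false]
    exact cv2_up_one _ z

/-- **Natural `SL₂(2)`-modules as even-subset modules of `S₃`.** -/
noncomputable def symOf' (hVn : ∀ h ∈ H, ∀ v ∈ V, h * v * h⁻¹ ∈ V) (hTH : T ≤ H) :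
    SymK T H V D k 1 where
  e := E φ N
  mul := fun v hv w hw => funext fun i => by
    simp only [E, Pi.add_apply]
    rw [en_mul φ N hv hw, cv2_add]
  even := fun v _ i => cv2_even _
  surj := exists_E φ N
  ker := fun v hv => by
    rw [← N.ker v hv]
    constructor
    · intro h
      funext i
      exact (en_zero φ N v i).1 ((cv2_zero _).1 (congrFun h i))
    · intro h
      funext i
      exact (cv2_zero _).2 ((en_zero φ N v i).2 (congrFun h i))
  lift := by
    intro τ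
    choose a b c d hdet hact using fun i => perm_mat (τ i)
    have hdet' : ∀ i, φ.symm (a i) * φ.symm (d i) - φ.symm (b i) * φ.symm (c i) = 1 := fun i => by
      rw [← map_mul, ← map_mul, ← map_sub, hdet i, map_one]
    obtain ⟨g, hg, h1, h2⟩ := N.lift fun i => mk _ _ _ _ (hdet' i)
    refine ⟨g, hg, fun v hv i z => ?_, h2⟩
    have h3 := en_mat φ N (h1 v hv i)
    simp only [mk_00, mk_01, mk_10, mk_11, RingEquiv.apply_symm_apply] at h3
    change cv2 (en φ N (g * v * g⁻¹) i) (τ i z) = cv2 (en φ N v i) z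
    rw [h3]
    exact hact i _ z
  perm := fun g hg => perm φ N hVn hg
  trans := by
    intro i j
    obtain ⟨t, ht, hij⟩ := N.trans i j
    obtain ⟨σ, τ, hστ⟩ := perm φ N hVn (hTH ht)
    refine ⟨t, ht, σ, τ, hστ, ?_⟩
    by_contra hne
    obtain ⟨w, hw, hwe⟩ := exists_E φ N (FFTwo.pr j 0 1) fun l => FFTwo.pr_even j (by decide) l
    have hv := hVn t⁻¹ (H.inv_mem (hTH ht)) w hw
    rw [inv_inv] at hv
    have e1 : t * (t⁻¹ * w * t) * t⁻¹ = w := by group
    have h1 : N.e (t⁻¹ * w * t) i = 0 := by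
      rw [← en_zero φ N, ← cv2_zero]
      funext z
      have h2 := hστ _ hv i z
      rw [e1, hwe, FFTwo.pr_ne _ _ _ hne] at h2
      exact h2.symm
    have h3 := (hij _ hv).2 h1
    rw [e1, ← en_zero φ N, ← cv2_zero] at h3
    have h4 := congrFun h3 0
    have h5 : cv2 (en φ N w j) 0 = FFTwo.pr j 0 1 j 0 := congrFun (congrFun hwe j) 0
    rw [h5, FFTwo.pr_a] at h4
    exact one_ne_zero h4
  fix0 := by
    intro t ht σ τ hστ i
    by_contra hne
    obtain ⟨σ', hσ'⟩ := N.line t ht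
    obtain ⟨c, hc1, hc2⟩ := FFTwo.exists_third (m := 1) le_rfl 0 (τ i 0)
    obtain ⟨w, hw, hwe⟩ := exists_E φ N (FFTwo.pr (σ' i) 0 c) fun l => FFTwo.pr_even _ hc1.symm l
    have hv := hVn t⁻¹ (H.inv_mem (hTH ht)) w hw
    rw [inv_inv] at hv
    have e1 : t * (t⁻¹ * w * t) * t⁻¹ = w := by group
    have h1 := hστ _ hv i 0
    rw [e1, hwe, FFTwo.pr_out _ _ hne hc2.symm] at h1
    have h2 : φ (N.e (t⁻¹ * w * t) i 1) = 0 := h1.symm
    have h3 := (hσ' _ hv i).2 ((map_eq_zero_iff φ φ.injective).1 h2)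
    rw [e1] at h3
    have h4 : E φ N w (σ' i) 0 = φ (N.e w (σ' i) 1) := rfl
    rw [hwe, FFTwo.pr_a, h3, map_zero] at h4
    exact one_ne_zero h4
  gen := by
    intro K hTK hK
    refine N.gen K hTK fun h hh A hA => ?_
    obtain ⟨τ, hτ⟩ := of_SL φ N hVn hh hA
    exact hK h hh τ hτ hA.2
  off := by
    intro A hAT hoff
    obtain ⟨I, hI1, hI2⟩ := N.off A hAT hoff
    refine ⟨fun a ha => ?_, fun a ha => ?_⟩
    · obtain ⟨b, -, hb⟩ := hI1 a ha
      exact hb.2
    · obtain ⟨b, hbI, hb⟩ := hI1 a ha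
      refine ⟨_, up_sym φ N hb, ?_⟩
      intro i x hx
      rcases z2 (φ (b i)) with h2 | h2
      · simp only [h2, if_true, Equiv.Perm.one_apply, ne_eq, not_true_eq_false] at hx
      · have hiI : i ∈ I := by
          by_contra hiI
          rw [hbI i hiI, map_zero] at h2
          exact zero_ne_one h2
        simp only [h2, one_ne_zero, if_false] at hx ⊢
        refine ⟨by rw [← Equiv.Perm.mul_apply, Equiv.swap_mul_self, Equiv.Perm.one_apply], ?_⟩
        obtain ⟨c, hc, hcb⟩ := hI2 (Pi.single i 1) fun l hl => by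
          rw [Pi.single_eq_of_ne]
          rintro rfl
          exact hl hiI
        refine ⟨c, hc, ?_⟩
        have h3 := up_sym φ N hcb
        convert h3 using 1
        funext l
        by_cases hl : l = i
        · subst hl
          rw [Function.update_self, Pi.single_eq_same, map_one, if_neg one_ne_zero]
          revert hx
          revert x
          decide
        · rw [Function.update_of_ne hl, Pi.single_eq_of_ne hl, map_zero, if_pos rfl]
          rfl

/-- **Natural `SL₂(2)`-modules as even-subset modules of `S₃`.** -/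
noncomputable def symOf [Finite F] (N : NatK F T H V D k) (hF : Nat.card F = 2)
    (hVn : ∀ h ∈ H, ∀ v ∈ V, h * v * h⁻¹ ∈ V) (hTH : T ≤ H) : SymK T H V D k 1 := by
  classical
  letI : Fintype F := Fintype.ofFinite F
  exact symOf' (ZMod.ringEquivOfPrime F Nat.prime_two (by rw [← Nat.card_eq_fintype_card, hF])).symm
    N hVn hTH

end Cfsg.Agent.Omega.SQ1.SymOfNat
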