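import Cfsg.Agent.Omega.SQ1.EndTwo
import Cfsg.Agent.Omega.SQ1.SymOfNat
import Cfsg.Agent.Omega.SQ1.Main
import Cfsg.Agent.Omega.SQ1.FFSymMain

/-!
# SQ1, `q = 2`: `Main.EndTwo`

`SymTwo` : the FF output with even-subset modules (`m ≥ 1`) gives the Baumann data `BauS.In`, `BauS.PermR`
(`FFSym.main`, helper525); `endTwo_of : SymTwo → Main.EndTwo`; `endTwo : Main.EndTwo`.
-/

set_option autoImplicit false

namespace Cfsg.Agent.Omega.SQ1.EndTwoOf

open Subgroup Cfsg Cfsg.Agent.ZN Cfsg.Agent.ZN.ChoiceBase Cfsg.Agent.ZN.ChoiceSit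
open Cfsg.Agent.Omega.FFThm (NatK SymK NoOver)
open Cfsg.Agent.Omega.FrameFF (cv)
open Cfsg.Agent.Omega.SQ1.Choice (Config)
open Cfsg.Agent.Omega.SQ1

universe u

/-- The Baumann data from the FF output. -/
def SymTwo : Prop :=
  ∀ (G : Type u) [Group G] [Finite G] (M T H : Subgroup G) (s : G), Config M T H s →
    NoOver (zl T H) H → ∀ k m : ℕ, 0 < k → 1 ≤ m → SymK T H (zl T H) (cv T H) k m →
      ∃ (ι : Type) (N : ι → Subgroup G) (d t r : ι → G),
        BauS.In H T (o2 H) (zl T H) N d t r ∧ BauS.PermR T (zl T H) d r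

theorem nonempty_of {G : Type u} [Group G] [Finite G] {M T H : Subgroup G} {s : G}
    (c : Config M T H s) {ι : Type} {N : ι → Subgroup G} {d t r : ι → G}
    (h : BauS.In H T (o2 H) (zl T H) N d t r) : Nonempty ι := by
  by_contra hne
  rw [not_nonempty_iff] at hne
  apply VOf.nle c
  have h1 := h.Jt
  rwa [Set.range_eq_empty, Subgroup.closure_empty, bot_sup_eq] at h1

/-- **`q = 2`.** -/
theorem endTwo_of (hS : SymTwo.{u}) : Main.EndTwo.{u} := by
  intro G _ _ S M T H s h hno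
  have := h.simple
  have key : ∀ k m : ℕ, 0 < k → 1 ≤ m → SymK T H (zl T H) (cv T H) k m → False := by
    intro k m hk hm N
    obtain ⟨ι, N, d, t, r, h1, h2⟩ := hS G M T H s h.cfg hno k m hk hm N
    have := nonempty_of h.cfg h1
    exact h.rank (EndTwo.two_case h.char2 h.cfg h1 h2)
  refine ⟨fun F _ _ _ hF k hk N => ?_, fun k m hk hm N => key k m hk (by omega) N⟩
  exact key k 1 hk le_rfl (SymOfNat.symOf N hF VOf.zl_norm h.cfg.TY)

theorem symTwo : SymTwo.{u} := by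
  intro G _ _ M T H s c hno k m hk hm N
  obtain ⟨ι, N', d, t, r, -, h1, h2⟩ := FFSym.main c hno hk hm N
  exact ⟨ι, N', d, t, r, h1, h2⟩

/-- **The case `q = 2`.** -/
theorem endTwo : Main.EndTwo.{u} := endTwo_of symTwo

end Cfsg.Agent.Omega.SQ1.EndTwoOf
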