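import Cfsg.Agent.Omega.SQ1.Main
import Cfsg.Agent.Omega.SQ1.CoOf
import Cfsg.Agent.Omega.SQ1.EndMany
import Cfsg.Agent.Omega.SQ1.EndTwoOf
import Cfsg.Agent.Omega.FFBr.Final

/-!
# SQ1 = case I of the frame (project OMEGA): `noConfig : FrameI.NoConfig`, `nodeI : Frame.NodeI`

`Main.EndOne` (helper87), `Main.EndMany` (helper346, helper437), `Main.EndTwo` (helper663, helper525) and
the FF theorem `FFBr.ffthm` (helper51, helper431, helper645, helper385) are proved.
-/

set_option autoImplicit false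

namespace Cfsg.Agent.Omega.SQ1.NodeI

universe u

/-- **Case I from the FF theorem and the case `q = 2`.** -/
theorem noConfig_of (hFF : FFThm.Stmt.{u}) (h2 : Main.EndTwo.{u}) : FrameI.NoConfig.{u} :=
  Main.noConfig hFF CoOf.endOne EndManyOf.endMany h2

/-- **Node I from the FF theorem and the case `q = 2`.** -/
theorem nodeI_of (hFF : FFThm.Stmt.{u}) (h2 : Main.EndTwo.{u}) : Frame.NodeI.{u} :=
  FrameI.nodeI_of_noConfig (noConfig_of hFF h2)

/-- **Case I from the FF theorem.** -/
theorem noConfig_of_stmt (hFF : FFThm.Stmt.{u}) : FrameI.NoConfig.{u} :=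
  noConfig_of hFF EndTwoOf.endTwo

/-- **Node I from the FF theorem.** -/
theorem nodeI_of_stmt (hFF : FFThm.Stmt.{u}) : Frame.NodeI.{u} :=
  FrameI.nodeI_of_noConfig (noConfig_of_stmt hFF)

/-- **Case I: no configuration.** -/
theorem noConfig : FrameI.NoConfig.{u} := noConfig_of_stmt FFBr.ffthm

/-- **Node I.** -/
theorem nodeI : Frame.NodeI.{u} := nodeI_of_stmt FFBr.ffthm

end Cfsg.Agent.Omega.SQ1.NodeI
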