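import Cfsg.Agent.Omega.SQ1.FFOf
import Cfsg.Agent.Omega.SQ1.BauSMin

/-!
# SQ1, `q = 2`: from the FF theorem to the input of the Baumann argument, part 1

`S : SymK T H V D k m` : `V / D` is the sum of `k` even-subset modules of `S_{2^m+1}` (`m ≥ 1`; for `m = 1`
these are natural `SL₂(2)`-modules).  `Ac S g τ` : `g` acts on the coordinates as `τ` (fixing every block) and
centralises `D`.

* `Ctx.k2` : an element of `H` acting trivially on `V / D` and on `D` centralises `V`;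
* `Ctx.tr_fix`, `Ctx.tr_move` : an element `t` with `Ac S t (x y)` acts on `V` as a transvection.
-/

set_option autoImplicit false
set_option linter.unusedSectionVars false
set_option linter.unusedVariables false

namespace Cfsg.Agent.Omega.SQ1.FFTwo

open Subgroup Cfsg Cfsg.Agent.PLocal.ThompsonJ Cfsg.Agent.ZN Cfsg.Agent.ZN.ChoiceBase
open Cfsg.Agent.ZN.ChoiceSit
open Cfsg.Agent.Omega.FFThm
open Cfsg.Agent.Omega.SQ1.BauS (Sim PermR)
open Equiv (swap)

universe u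

variable {G : Type u} [Group G] {H T Q V D : Subgroup G} {k m : ℕ}

/-- the point set -/
abbrev Pt (m : ℕ) : Type := Fin (2 ^ m + 1)

/-- `g` acts as `τ` on the coordinates and centralises `D`. -/
def Ac (S : SymK T H V D k m) (g : G) (τ : Fin k → Equiv.Perm (Pt m)) : Prop :=
  ActsSym S.e V g 1 τ ∧ ∀ d ∈ D, g * d = d * g

/-- the pair vector -/
def pr (i : Fin k) (a b : Pt m) : Fin k → Pt m → ZMod 2 :=
  fun j z => if j = i ∧ (z = a ∨ z = b) then 1 else 0

/-- The standing hypotheses. -/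
structure Ctx (Q : Subgroup G) (S : SymK T H V D k m) : Prop where
  m1 : 1 ≤ m
  k0 : 0 < k
  syl : Syl T H
  QT : Q ≤ T
  VQ : V ≤ Q
  Qn : ∀ h ∈ H, ∀ x ∈ Q, h * x * h⁻¹ ∈ Q
  Vn : ∀ h ∈ H, ∀ x ∈ V, h * x * h⁻¹ ∈ V
  Vsq : ∀ v ∈ V, v ^ 2 = 1
  VcQ : ∀ x ∈ Q, ∀ v ∈ V, x * v = v * x
  DV : D ≤ V
  Dn : ∀ h ∈ H, ∀ x ∈ D, h * x * h⁻¹ ∈ D
  k1 : ∀ x ∈ T, (∀ v ∈ V, S.e (x * v * x⁻¹) = S.e v) → x ∈ Q

theorem exists_out (s : Finset (Pt m)) (h : s.card < 2 ^ m + 1) : ∃ b, b ∉ s := by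
  by_contra hc
  push Not at hc
  have h1 : s = Finset.univ := Finset.eq_univ_iff_forall.2 hc
  rw [h1, Finset.card_univ, Fintype.card_fin] at h
  exact lt_irrefl _ h

theorem exists_third (hm : 1 ≤ m) (a b : Pt m) : ∃ c, c ≠ a ∧ c ≠ b := by
  have h2 : 2 ≤ 2 ^ m := by
    calc 2 = 2 ^ 1 := rfl
      _ ≤ 2 ^ m := Nat.pow_le_pow_right (by norm_num) hm
  obtain ⟨c, hc⟩ := exists_out (m := m) {a, b} (lt_of_le_of_lt Finset.card_le_two (by omega))
  simp only [Finset.mem_insert, Finset.mem_singleton, not_or] at hc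
  exact ⟨c, hc.1, hc.2⟩

theorem pr_even (i : Fin k) {a b : Pt m} (hab : a ≠ b) (j : Fin k) : ∑ z, pr i a b j z = 0 := by
  by_cases hj : j = i
  · subst hj
    have h1 : ∀ z : Pt m, pr j a b j z = if z = a ∨ z = b then 1 else 0 := fun z => by
      simp [pr]
    rw [Finset.sum_congr rfl fun z _ => h1 z, Finset.sum_boole]
    have h2 : (Finset.univ.filter fun z : Pt m => z = a ∨ z = b) = {a, b} := by
      ext z
      simp
    rw [h2, Finset.card_pair hab]
    rfl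
  · exact Finset.sum_eq_zero fun z _ => by simp [pr, hj]

theorem pr_a (i : Fin k) (a b : Pt m) : pr i a b i a = 1 := by simp [pr]

theorem pr_b (i : Fin k) (a b : Pt m) : pr i a b i b = 1 := by simp [pr]

theorem pr_out (i : Fin k) {a b z : Pt m} (j : Fin k) (h1 : z ≠ a) (h2 : z ≠ b) :
    pr i a b j z = 0 := by simp [pr, h1, h2]

theorem pr_ne {i j : Fin k} (a b z : Pt m) (h : j ≠ i) : pr i a b j z = 0 := by simp [pr, h]

theorem pr_comm (i : Fin k) (a b : Pt m) : pr i a b = pr i b a := by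
  funext j z
  simp only [pr, or_comm]

/-- `(a,b) + (b,c) = (a,c)` -/
theorem pr_add (i : Fin k) {a b c : Pt m} (hab : a ≠ b) (hbc : b ≠ c) (hac : a ≠ c) :
    pr i a b + pr i b c = pr i a c := by
  funext j z
  simp only [Pi.add_apply, pr]
  by_cases hj : j = i
  · by_cases h1 : z = a
    · subst h1
      simp [hj, hab, hac]
    · by_cases h2 : z = b
      · subst h2
        simp [hj, h1, hbc]
        rfl
      · by_cases h3 : z = c
        · subst h3
          simp [hj, h1, h2]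
        · simp [h1, h2, h3]
  · simp [hj]

section basic

variable {S : SymK T H V D k m}

theorem e_one (S : SymK T H V D k m) : S.e 1 = 0 := by
  have h1 := S.mul 1 V.one_mem 1 V.one_mem
  rw [one_mul] at h1
  have h2 : S.e 1 + 0 = S.e 1 + S.e 1 := by rw [add_zero]; exact h1
  exact (add_left_cancel h2).symm

theorem two_fun (f : Fin k → Pt m → ZMod 2) : f + f = 0 := by
  funext i z
  have : ∀ x : ZMod 2, x + x = 0 := by decide
  exact this _

theorem e_inv (S : SymK T H V D k m) {v : G} (hv : v ∈ V) : S.e v⁻¹ = S.e v := by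
  have h1 := S.mul v hv v⁻¹ (V.inv_mem hv)
  rw [mul_inv_cancel, e_one] at h1
  exact (add_left_cancel ((two_fun (S.e v)).trans h1)).symm

theorem eD (S : SymK T H V D k m) {d : G} (hd : d ∈ D) (hDV : D ≤ V) : S.e d = 0 :=
  (S.ker d (hDV hd)).2 hd

theorem mem_D_of_eq (S : SymK T H V D k m) {v w : G} (hv : v ∈ V) (hw : w ∈ V)
    (h : S.e v = S.e w) : v * w⁻¹ ∈ D := by
  rw [← S.ker _ (V.mul_mem hv (V.inv_mem hw)), S.mul v hv _ (V.inv_mem hw), e_inv S hw, h]
  exact two_fun _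

theorem exists_pr (S : SymK T H V D k m) (i : Fin k) {a b : Pt m} (hab : a ≠ b) :
    ∃ u ∈ V, S.e u = pr i a b := S.surj _ fun j => pr_even i hab j

/-- the action in terms of the inverse -/
theorem ActsSym.apply {g : G} {τ : Fin k → Equiv.Perm (Pt m)} (h : ActsSym S.e V g 1 τ) {v : G}
    (hv : v ∈ V) (i : Fin k) (x : Pt m) : S.e (g * v * g⁻¹) i x = S.e v i ((τ i).symm x) := by
  have h1 := h v hv i ((τ i).symm x)
  rw [Equiv.apply_symm_apply] at h1
  exact h1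

theorem ActsSym.inj (hm : 1 ≤ m) {g : G} {τ τ' : Fin k → Equiv.Perm (Pt m)}
    (h : ActsSym S.e V g 1 τ) (h' : ActsSym S.e V g 1 τ') : τ = τ' := by
  funext i
  have key : ∀ x, (τ i).symm x = (τ' i).symm x := by
    intro x
    by_contra hne
    obtain ⟨c, hc1, hc2⟩ := exists_third hm ((τ i).symm x) ((τ' i).symm x)
    obtain ⟨u, hu, hue⟩ := exists_pr S i hc1.symm
    have h1 := ActsSym.apply h hu i x
    have h2 := ActsSym.apply h' hu i x
    rw [h1, hue, pr_a, pr_out i i (Ne.symm hne) hc2.symm] at h2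
    exact one_ne_zero h2
  have h1 : (τ i).symm = (τ' i).symm := Equiv.ext key
  have h2 := congrArg Equiv.symm h1
  rwa [Equiv.symm_symm, Equiv.symm_symm] at h2

end basic

namespace Ctx

variable {S : SymK T H V D k m} (C : Ctx Q S)

include C

theorem TH : T ≤ H := C.syl.1

theorem QH : Q ≤ H := C.QT.trans C.TH

theorem Vc {v w : G} (hv : v ∈ V) (hw : w ∈ V) : v * w = w * v := C.VcQ v (C.VQ hv) w hw

theorem Vmul {v : G} (hv : v ∈ V) : v * v = 1 := by rw [← pow_two]; exact C.Vsq v hv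

theorem Vinv {v : G} (hv : v ∈ V) : v⁻¹ = v := inv_eq_of_mul_eq_one_left (C.Vmul hv)

theorem ac_one : Ac S 1 1 := ⟨fun v hv i x => by simp, fun d _ => by simp⟩

theorem ac_mul {g h : G} {τ τ' : Fin k → Equiv.Perm (Pt m)} (hg : Ac S g τ) (hhH : h ∈ H)
    (hh : Ac S h τ') : Ac S (g * h) (τ * τ') := by
  refine ⟨fun v hv i x => ?_, fun d hd => ?_⟩
  · have e : g * h * v * (g * h)⁻¹ = g * (h * v * h⁻¹) * g⁻¹ := by group
    have h1 := hg.1 _ (C.Vn h hhH v hv) i (τ' i x)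
    have h2 := hh.1 v hv i x
    rw [e, ← h2]
    exact h1
  · rw [mul_assoc, hh.2 d hd, ← mul_assoc, hg.2 d hd, mul_assoc]

theorem ac_inv {g : G} {τ : Fin k → Equiv.Perm (Pt m)} (hgH : g ∈ H) (hg : Ac S g τ) :
    Ac S g⁻¹ τ⁻¹ := by
  refine ⟨fun v hv i x => ?_, fun d hd => ?_⟩
  · have hw := C.Vn g⁻¹ (H.inv_mem hgH) v hv
    have h1 := hg.1 _ hw i ((τ i).symm x)
    rw [Equiv.apply_symm_apply] at h1
    have e : g * (g⁻¹ * v * g⁻¹⁻¹) * g⁻¹ = v := by group
    rw [e] at h1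
    exact h1.symm
  · have h1 := hg.2 d hd
    calc g⁻¹ * d = g⁻¹ * (d * g) * g⁻¹ := by group
      _ = g⁻¹ * (g * d) * g⁻¹ := by rw [h1]
      _ = d * g⁻¹ := by group

/-- conjugation of an action by an element with block permutation `σ` -/
theorem acts_conj {x g : G} (hx : x ∈ H) (hg : g ∈ H) {σ : Equiv.Perm (Fin k)}
    {ρ τ τ' : Fin k → Equiv.Perm (Pt m)} (hxa : ActsSym S.e V x σ ρ) (hga : Ac S g τ)
    (hτ : ∀ i z, τ' (σ i) (ρ i z) = ρ i (τ i z)) : Ac S (x * g * x⁻¹) τ' := by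
  refine ⟨fun v hv j y => ?_, fun d hd => ?_⟩
  · obtain ⟨i, rfl⟩ := σ.surjective j
    obtain ⟨z, rfl⟩ := (ρ i).surjective y
    have hw := C.Vn x⁻¹ (H.inv_mem hx) v hv
    rw [inv_inv] at hw
    have e1 : x * g * x⁻¹ * v * (x * g * x⁻¹)⁻¹ = x * (g * (x⁻¹ * v * x) * g⁻¹) * x⁻¹ := by group
    have e2 : x * (x⁻¹ * v * x) * x⁻¹ = v := by group
    rw [e1]
    change S.e _ (σ i) (τ' (σ i) (ρ i z)) = _
    rw [hτ, hxa _ (C.Vn g hg _ hw) i (τ i z)]
    have h1 := hga.1 _ hw i z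
    change S.e _ i (τ i z) = _ at h1
    rw [h1]
    have h2 := hxa _ hw i z
    rw [e2] at h2
    exact h2.symm
  · have hd' := C.Dn x⁻¹ (H.inv_mem hx) d hd
    rw [inv_inv] at hd'
    have h1 := hga.2 _ hd'
    calc x * g * x⁻¹ * d = x * (g * (x⁻¹ * d * x)) * x⁻¹ := by group
      _ = x * ((x⁻¹ * d * x) * g) * x⁻¹ := by rw [h1]
      _ = _ := by group

theorem cT {t : G} (ht : t ∈ T) (hc : ∀ v ∈ V, t * v = v * t) : t ∈ Q :=
  C.k1 t ht fun v hv => by rw [hc v hv, mul_inv_cancel_right]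

/-- a 2-element of `H` acting trivially on `V / D` lies in `Q` -/
theorem k1' [Finite G] {x : G} (hx : x ∈ H) {N : ℕ} (hN : x ^ 2 ^ N = 1)
    (h : ∀ v ∈ V, S.e (x * v * x⁻¹) = S.e v) : x ∈ Q := by
  have : Fact (Nat.Prime 2) := ⟨Nat.prime_two⟩
  have h2 : IsPGroup 2 (zpowers x) := by
    rw [IsPGroup.iff_card]
    have h3 := orderOf_dvd_of_pow_eq_one hN
    obtain ⟨l, -, hl⟩ := (Nat.dvd_prime_pow Nat.prime_two).1 h3
    exact ⟨l, by rw [Nat.card_zpowers, hl]⟩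
  obtain ⟨P, hP, hxP⟩ := exists_syl h2 (zpowers_le.2 hx)
  obtain ⟨y, hy, hyP⟩ := syl_conj hP C.syl
  have hyx : y * x * y⁻¹ ∈ T := by
    rw [← hyP, mem_cj]
    have e : y⁻¹ * (y * x * y⁻¹) * y = x := by group
    rw [e]
    exact hxP (mem_zpowers x)
  have h4 : y * x * y⁻¹ ∈ Q := by
    refine C.k1 _ hyx fun v hv => ?_
    obtain ⟨σ, ρ, hσ⟩ := S.perm y hy
    have hw := C.Vn y⁻¹ (H.inv_mem hy) v hv
    rw [inv_inv] at hw
    have e1 : y * x * y⁻¹ * v * (y * x * y⁻¹)⁻¹ = y * (x * (y⁻¹ * v * y) * x⁻¹) * y⁻¹ := by group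
    have e2 : y * (y⁻¹ * v * y) * y⁻¹ = v := by group
    funext j z
    obtain ⟨i, rfl⟩ := σ.surjective j
    obtain ⟨z, rfl⟩ := (ρ i).surjective z
    rw [e1, hσ _ (C.Vn x hx _ hw) i z, h _ hw]
    have h5 := hσ _ hw i z
    rw [e2] at h5
    exact h5.symm
  have h5 := C.Qn y⁻¹ (H.inv_mem hy) _ h4
  have e : y⁻¹ * (y * x * y⁻¹) * y⁻¹⁻¹ = x := by group
  rwa [e] at h5

omit C in
theorem e_pow_of_triv {x : G} (hx : ∀ v ∈ V, x * v * x⁻¹ ∈ V)
    (h : ∀ v ∈ V, S.e (x * v * x⁻¹) = S.e v) (N : ℕ) :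
    ∀ v ∈ V, x ^ N * v * (x ^ N)⁻¹ ∈ V ∧ S.e (x ^ N * v * (x ^ N)⁻¹) = S.e v := by
  induction N with
  | zero => intro v hv; simp [hv]
  | succ N ih =>
    intro v hv
    have e : x ^ (N + 1) * v * (x ^ (N + 1))⁻¹ = x ^ N * (x * v * x⁻¹) * (x ^ N)⁻¹ := by
      rw [pow_succ]; group
    rw [e]
    obtain ⟨h1, h2⟩ := ih _ (hx v hv)
    exact ⟨h1, h2.trans (h v hv)⟩

/-- an element of `H` which acts trivially on `V / D` and on `D` centralises `V` -/
theorem k2 [Finite G] {g : G} (hg : g ∈ H) (h1 : ∀ v ∈ V, S.e (g * v * g⁻¹) = S.e v)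
    (h2 : ∀ d ∈ D, g * d = d * g) : ∀ v ∈ V, g * v * g⁻¹ = v := by
  -- `g²` centralises `V`
  have hsq : ∀ v ∈ V, g ^ 2 * v * (g ^ 2)⁻¹ = v := by
    intro v hv
    have hgv := C.Vn g hg v hv
    have hd := mem_D_of_eq S hgv hv (h1 v hv)
    set d := g * v * g⁻¹ * v⁻¹ with hdd
    have e1 : g * v * g⁻¹ = d * v := by rw [hdd]; group
    have hd1 := h2 d hd
    have hd2 := C.Vmul (C.DV hd)
    calc g ^ 2 * v * (g ^ 2)⁻¹ = g * (g * v * g⁻¹) * g⁻¹ := by rw [pow_two]; group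
      _ = g * d * v * g⁻¹ := by rw [e1]; group
      _ = d * (g * v * g⁻¹) := by rw [hd1]; group
      _ = (d * d) * v := by rw [e1]; group
      _ = v := by rw [hd2, one_mul]
  let K : Subgroup G := centralizer (V : Set G)
  have hK : ∀ x : G, (∀ v ∈ V, x * v * x⁻¹ = v) ↔ x ∈ K := by
    intro x
    constructor
    · intro h
      refine mem_centralizer_iff.2 fun v hv => ?_
      have := h v hv
      calc v * x = (x * v * x⁻¹) * x := by rw [this]
        _ = x * v := by group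
    · intro h v hv
      rw [← mem_centralizer_iff.1 h v hv, mul_inv_cancel_right]
  rw [hK]
  have hsqK : g ^ 2 ∈ K := (hK _).1 hsq
  -- the order
  obtain ⟨a, b, hb, hab⟩ := Nat.exists_eq_two_pow_mul_odd (n := orderOf g) (orderOf_pos g).ne'
  have hgb : (g ^ b) ^ 2 ^ a = 1 := by
    rw [← pow_mul, mul_comm, ← hab]
    exact pow_orderOf_eq_one g
  have h3 : g ^ b ∈ K := by
    have h4 : g ^ b ∈ Q := C.k1' (H.pow_mem hg b) hgb fun v hv =>
      (e_pow_of_triv (C.Vn g hg) h1 b v hv).2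
    exact mem_centralizer_iff.2 fun v hv => (C.VcQ _ h4 v hv).symm
  obtain ⟨c, hc⟩ := hb
  have h4 : g = g ^ b * ((g ^ 2) ^ c)⁻¹ := by
    rw [hc, pow_add, pow_one, pow_mul, mul_assoc, ]
    group
  rw [h4]
  exact K.mul_mem h3 (K.inv_mem (K.pow_mem hsqK c))

theorem sim [Finite G] {g h : G} (hg : g ∈ H) (hh : h ∈ H) {τ : Fin k → Equiv.Perm (Pt m)}
    (h1 : Ac S g τ) (h2 : Ac S h τ) : Sim V g h := by
  have h3 : Ac S (h⁻¹ * g) 1 := by
    have := C.ac_mul (C.ac_inv hh h2) hg h1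
    rwa [inv_mul_cancel] at this
  have h4 := C.k2 (H.mul_mem (H.inv_mem hh) hg) (fun v hv => by
    funext i z
    exact h3.1 v hv i z) h3.2
  intro v hv
  have h5 := h4 v hv
  calc g * v * g⁻¹ = h * (h⁻¹ * g * v * (h⁻¹ * g)⁻¹) * h⁻¹ := by group
    _ = h * v * h⁻¹ := by rw [h5]

theorem sim_one [Finite G] {g : G} (hg : g ∈ H) (h1 : Ac S g 1) : Sim V g 1 :=
  C.sim hg H.one_mem h1 C.ac_one

/-- the action on pair vectors -/
theorem acts_pr {g w : G} (hw : w ∈ V) {σ : Equiv.Perm (Fin k)} {τ : Fin k → Equiv.Perm (Pt m)}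
    (h : ActsSym S.e V g σ τ) {j : Fin k} {p c : Pt m} (he : S.e w = pr j p c) :
    S.e (g * w * g⁻¹) = pr (σ j) (τ j p) (τ j c) := by
  funext l y
  obtain ⟨l, rfl⟩ := σ.surjective l
  obtain ⟨z, rfl⟩ := (τ l).surjective y
  rw [h w hw l z, he]
  by_cases hl : l = j
  · subst hl
    simp [pr]
  · rw [pr_ne _ _ _ hl, pr_ne _ _ _ fun e => hl (σ.injective e)]

theorem fix_congr {t u z : G} (ht : ∀ d ∈ D, t * d = d * t) (hu : u ∈ V) (hz : z ∈ V)
    (he : S.e u = S.e z) (h : t * z * t⁻¹ = z) : t * u * t⁻¹ = u := by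
  have hd := mem_D_of_eq S hu hz he
  have h1 := ht _ hd
  calc t * u * t⁻¹ = (t * (u * z⁻¹)) * z * t⁻¹ := by group
    _ = (u * z⁻¹) * (t * z * t⁻¹) := by rw [h1]; group
    _ = u := by rw [h]; group

omit C in
theorem exists_fourth (hm : 1 ≤ m) {a b p q : Pt m} (hab : a ≠ b) (hpq : p ≠ q) (hpa : p ≠ a)
    (hpb : p ≠ b) (hqa : q ≠ a) (hqb : q ≠ b) : ∃ c, c ≠ p ∧ c ≠ q ∧ c ≠ a ∧ c ≠ b := by
  have h4 : ({p, q, a, b} : Finset (Pt m)).card = 4 := by
    rw [Finset.card_insert_of_notMem, Finset.card_insert_of_notMem, Finset.card_pair hab]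
    · simp [hqa, hqb]
    · simp [hpq, hpa, hpb]
  have h5 : ({p, q, a, b} : Finset (Pt m)).card ≤ 2 ^ m + 1 := by
    have := Finset.card_le_univ ({p, q, a, b} : Finset (Pt m))
    rwa [Fintype.card_fin] at this
  obtain ⟨l, rfl⟩ : ∃ l, m = l + 1 := ⟨m - 1, by omega⟩
  obtain ⟨c, hc⟩ := exists_out (m := l + 1) {p, q, a, b} (by rw [h4] at h5 ⊢; rw [pow_succ] at h5 ⊢; omega)
  simp only [Finset.mem_insert, Finset.mem_singleton, not_or] at hc
  exact ⟨c, hc.1, hc.2.1, hc.2.2.1, hc.2.2.2⟩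

theorem fix_pair [Finite G] {t : G} (ht : t ∈ H) {i : Fin k} {a b : Pt m} (hab : a ≠ b)
    (h : Ac S t (Pi.mulSingle i (swap a b))) {j : Fin k} {p q : Pt m} (hpq : p ≠ q)
    (hj : j = i → p ≠ a ∧ p ≠ b ∧ q ≠ a ∧ q ≠ b) {u : G} (hu : u ∈ V) (he : S.e u = pr j p q) :
    t * u * t⁻¹ = u := by
  obtain ⟨c, hcp, hcq, hc⟩ : ∃ c, c ≠ p ∧ c ≠ q ∧ (j = i → c ≠ a ∧ c ≠ b) := by
    by_cases hji : j = i
    · obtain ⟨h1, h2, h3, h4⟩ := hj hji
      obtain ⟨c, h5, h6, h7, h8⟩ := exists_fourth C.m1 hab hpq h1 h2 h3 h4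
      exact ⟨c, h5, h6, fun _ => ⟨h7, h8⟩⟩
    · obtain ⟨c, h1, h2⟩ := exists_third C.m1 p q
      exact ⟨c, h1, h2, fun h => absurd h hji⟩
  obtain ⟨w, hw, hwe⟩ := exists_pr S j hcp.symm
  obtain ⟨g, hg, hgA⟩ := S.lift (Pi.mulSingle j (swap p q))
  have hgA' : Ac S g (Pi.mulSingle j (swap p q)) := hgA
  have hgw := C.Vn g hg w hw
  have h1 : S.e (g * w * g⁻¹) = pr j q c := by
    have := C.acts_pr hw hgA'.1 hwe
    rw [Pi.mulSingle_eq_same, Equiv.swap_apply_left, Equiv.swap_apply_of_ne_of_ne hcp hcq] at this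
    exact this
  -- `t` moves `w` by an element of `D`
  have h2 : S.e (t * w * t⁻¹) = S.e w := by
    have := C.acts_pr hw h.1 hwe
    rw [this, hwe]
    by_cases hji : j = i
    · subst hji
      obtain ⟨h3, h4, -, -⟩ := hj rfl
      obtain ⟨h5, h6⟩ := hc rfl
      rw [Pi.mulSingle_eq_same, Equiv.swap_apply_of_ne_of_ne h3 h4,
        Equiv.swap_apply_of_ne_of_ne h5 h6]
      rfl
    · rw [Pi.mulSingle_eq_of_ne hji]
      rfl
  have htw := C.Vn t ht w hw
  have hf := mem_D_of_eq S htw hw h2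
  set f := t * w * t⁻¹ * w⁻¹ with hfd
  have e1 : t * w * t⁻¹ = f * w := by rw [hfd]; group
  -- `g⁻¹ t g` acts as `t`
  have hcomm : Commute (Pi.mulSingle j (swap p q) : Fin k → Equiv.Perm (Pt m))
      (Pi.mulSingle i (swap a b)) := by
    by_cases hji : j = i
    · subst hji
      obtain ⟨h3, h4, h5, h6⟩ := hj rfl
      have h7 : Commute (swap p q) (swap a b) := by
        apply Equiv.Perm.Disjoint.commute
        apply Equiv.Perm.disjoint_swap_swap
        simp [hpq, h3, h4, h5, h6, hab]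
      exact h7.map (MonoidHom.mulSingle (fun _ : Fin k => Equiv.Perm (Pt m)) j)
    · exact Pi.mulSingle_commute hji _ _
  have h3 : Sim V (g⁻¹ * t * g) t := by
    have h4 := C.ac_mul (C.ac_mul (C.ac_inv hg hgA') ht h) hg hgA'
    have h5 : (Pi.mulSingle j (swap p q) : Fin k → Equiv.Perm (Pt m))⁻¹ *
        Pi.mulSingle i (swap a b) * Pi.mulSingle j (swap p q) = Pi.mulSingle i (swap a b) := by
      rw [mul_assoc, ← hcomm.eq, inv_mul_cancel_left]
    rw [h5] at h4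
    exact C.sim (H.mul_mem (H.mul_mem (H.inv_mem hg) ht) hg) ht h4 h
  have hfV := C.DV hf
  have h4 : t * (w * (g * w * g⁻¹)) * t⁻¹ = w * (g * w * g⁻¹) := by
    have h5 : t * (g * w * g⁻¹) * t⁻¹ = f * (g * w * g⁻¹) := by
      calc t * (g * w * g⁻¹) * t⁻¹ = g * (g⁻¹ * t * g * w * (g⁻¹ * t * g)⁻¹) * g⁻¹ := by group
        _ = g * (f * w) * g⁻¹ := by rw [h3 w hw, e1]
        _ = (g * f) * w * g⁻¹ := by group
        _ = f * (g * w * g⁻¹) := by rw [hgA'.2 f hf]; group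
    calc t * (w * (g * w * g⁻¹)) * t⁻¹ = (t * w * t⁻¹) * (t * (g * w * g⁻¹) * t⁻¹) := by group
      _ = f * (w * f) * (g * w * g⁻¹) := by rw [h5, e1]; group
      _ = (f * f) * (w * (g * w * g⁻¹)) := by rw [← C.Vc hfV hw]; group
      _ = _ := by rw [C.Vmul hfV, one_mul]
  refine C.fix_congr h.2 hu (V.mul_mem hw hgw) ?_ h4
  rw [he, S.mul w hw _ hgw, hwe, h1, pr_comm j q c, pr_add j hcp.symm hcq hpq]

/-- the centre of the transvection -/
theorem fix_d [Finite G] {t : G} (ht : t ∈ H) {i : Fin k} {a b : Pt m} (hab : a ≠ b)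
    (h : Ac S t (Pi.mulSingle i (swap a b))) {u : G} (hu : u ∈ V) (he : S.e u = pr i a b) :
    t * u * t⁻¹ = u := by
  obtain ⟨c, hca, hcb⟩ := exists_third C.m1 a b
  obtain ⟨w, hw, hwe⟩ := exists_pr S i hca.symm
  have htw := C.Vn t ht w hw
  have h1 : S.e (t * w * t⁻¹) = pr i b c := by
    have := C.acts_pr hw h.1 hwe
    rw [Pi.mulSingle_eq_same, Equiv.swap_apply_left, Equiv.swap_apply_of_ne_of_ne hca hcb] at this
    exact this
  have h2 : Sim V (t * t) 1 := by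
    have h3 := C.ac_mul h ht h
    have h4 : (Pi.mulSingle i (swap a b) : Fin k → Equiv.Perm (Pt m)) * Pi.mulSingle i (swap a b) = 1 := by
      rw [← Pi.mulSingle_mul, Equiv.swap_mul_self, Pi.mulSingle_one]
    rw [h4] at h3
    exact C.sim_one (H.mul_mem ht ht) h3
  refine C.fix_congr h.2 hu (V.mul_mem htw hw) ?_ ?_
  · rw [he, S.mul _ htw w hw, h1, hwe, add_comm (pr i b c) (pr i a c), pr_comm i b c,
      pr_add i hca.symm hcb hab]
  · have h3 := h2 w hw
    rw [one_mul, inv_one, mul_one] at h3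
    calc t * (t * w * t⁻¹ * w) * t⁻¹ = (t * t * w * (t * t)⁻¹) * (t * w * t⁻¹) := by group
      _ = w * (t * w * t⁻¹) := by rw [h3]
      _ = _ := C.Vc hw htw

theorem tr_fix [Finite G] {t : G} (ht : t ∈ H) {i : Fin k} {a b : Pt m} (hab : a ≠ b)
    (h : Ac S t (Pi.mulSingle i (swap a b))) {v : G} (hv : v ∈ V) (he : S.e v i a = S.e v i b) :
    t * v * t⁻¹ = v := by
  classical
  obtain ⟨N, hN⟩ : ∃ N, (Finset.univ.filter fun p : Fin k × Pt m => S.e v p.1 p.2 ≠ 0).card = N :=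
    ⟨_, rfl⟩
  have key : ∀ x : ZMod 2, x ≠ 0 → x = 1 := by decide
  induction N using Nat.strong_induction_on generalizing v with
  | _ N ih =>
  -- the reduction step
  have step : ∀ (j : Fin k) (p q : Pt m), p ≠ q → S.e v j p ≠ 0 → S.e v j q ≠ 0 →
      ∀ u ∈ V, S.e u = pr j p q → t * u * t⁻¹ = u →
      ((pr j p q : Fin k → Pt m → ZMod 2) i a = pr j p q i b) → t * v * t⁻¹ = v := by
    intro j p q hpq hp hq u hu hue hut hab'
    have hvu := V.mul_mem hv hu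
    have h1 : S.e (v * u) = S.e v + pr j p q := by rw [S.mul v hv u hu, hue]
    have h2 : (Finset.univ.filter fun x : Fin k × Pt m => S.e (v * u) x.1 x.2 ≠ 0) ⊂
        (Finset.univ.filter fun x : Fin k × Pt m => S.e v x.1 x.2 ≠ 0) := by
      rw [Finset.ssubset_iff_of_subset]
      · refine ⟨(j, p), by simpa using hp, ?_⟩
        simp only [Finset.mem_filter, Finset.mem_univ, true_and, not_not, h1, Pi.add_apply, pr_a,
          key _ hp]
        decide
      · intro x hx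
        simp only [Finset.mem_filter, Finset.mem_univ, true_and, h1, Pi.add_apply] at hx ⊢
        intro h0
        rw [h0, zero_add] at hx
        apply hx
        by_cases hxj : x.1 = j
        · by_cases hxp : x.2 = p
          · exact absurd h0 (by rw [hxj, hxp]; exact hp)
          · by_cases hxq : x.2 = q
            · exact absurd h0 (by rw [hxj, hxq]; exact hq)
            · exact pr_out _ _ hxp hxq
        · exact pr_ne _ _ _ hxj
    have h3 := ih _ (by rw [← hN]; exact Finset.card_lt_card h2) hvu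
      (by rw [h1]; simp only [Pi.add_apply]; rw [he, hab']) rfl
    have h4 : v = v * u * u := by rw [mul_assoc, C.Vmul hu, mul_one]
    calc t * v * t⁻¹ = t * (v * u * u) * t⁻¹ := by rw [← h4]
      _ = (t * (v * u) * t⁻¹) * (t * u * t⁻¹) := by group
      _ = v * u * u := by rw [h3, hut]
      _ = v := h4.symm
  by_cases h0 : S.e v = 0
  · have hd := (S.ker v hv).1 h0
    rw [h.2 v hd, mul_inv_cancel_right]
  by_cases ha : S.e v i a = 0
  · obtain ⟨j, hj⟩ := Function.ne_iff.1 h0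
    obtain ⟨p, hp⟩ := Function.ne_iff.1 hj
    rw [Pi.zero_apply, Pi.zero_apply] at hp
    obtain ⟨q, hqp, hq⟩ : ∃ q, q ≠ p ∧ S.e v j q ≠ 0 := by
      by_contra hc
      push Not at hc
      have h1 := S.even v hv j
      rw [Finset.sum_eq_single p (fun q _ hqp => hc q hqp) (fun h => absurd (Finset.mem_univ _) h)]
        at h1
      exact hp h1
    have hcond : j = i → p ≠ a ∧ p ≠ b ∧ q ≠ a ∧ q ≠ b := by
      rintro rfl
      refine ⟨?_, ?_, ?_, ?_⟩
      · rintro rfl; exact hp ha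
      · rintro rfl; exact hp (he ▸ ha)
      · rintro rfl; exact hq ha
      · rintro rfl; exact hq (he ▸ ha)
    obtain ⟨u, hu, hue⟩ := exists_pr S j hqp.symm
    refine step j p q hqp.symm hp hq u hu hue (C.fix_pair ht hab h hqp.symm hcond hu hue) ?_
    by_cases hji : j = i
    · obtain ⟨h1, h2, h3, h4⟩ := hcond hji
      rw [pr_out _ _ h1.symm h3.symm, pr_out _ _ h2.symm h4.symm]
    · rw [pr_ne _ _ _ (Ne.symm hji), pr_ne _ _ _ (Ne.symm hji)]
  · obtain ⟨u, hu, hue⟩ := exists_pr S i hab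
    exact step i a b hab ha (he ▸ ha) u hu hue (C.fix_d ht hab h hu hue) (by rw [pr_a, pr_b])

/-- `t` acts as a transvection. -/
theorem tr_move [Finite G] {t : G} (ht : t ∈ H) {i : Fin k} {a b : Pt m} (hab : a ≠ b)
    (h : Ac S t (Pi.mulSingle i (swap a b))) : ∃ d ∈ V, S.e d = pr i a b ∧
      ∀ v ∈ V, S.e v i a ≠ S.e v i b → t * v * t⁻¹ = d * v := by
  obtain ⟨c, hca, hcb⟩ := exists_third C.m1 a b
  obtain ⟨w, hw, hwe⟩ := exists_pr S i hca.symm
  have htw := C.Vn t ht w hw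
  have h1 : S.e (t * w * t⁻¹) = pr i b c := by
    have := C.acts_pr hw h.1 hwe
    rw [Pi.mulSingle_eq_same, Equiv.swap_apply_left, Equiv.swap_apply_of_ne_of_ne hca hcb] at this
    exact this
  refine ⟨t * w * t⁻¹ * w, V.mul_mem htw hw, ?_, ?_⟩
  · rw [S.mul _ htw w hw, h1, hwe, add_comm (pr i b c) (pr i a c), pr_comm i b c,
      pr_add i hca.symm hcb hab]
  · intro v hv hne
    have hvw := V.mul_mem hv hw
    have h2 : S.e (v * w) i a = S.e (v * w) i b := by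
      rw [S.mul v hv w hw]
      simp only [Pi.add_apply]
      rw [hwe, pr_a, pr_out i i (Ne.symm hab) hcb.symm]
      have key : ∀ x y : ZMod 2, x ≠ y → x + 1 = y + 0 := by decide
      exact key _ _ hne
    have h3 := C.tr_fix ht hab h hvw h2
    have h4 := C.Vmul hw
    calc t * v * t⁻¹ = (t * (v * w) * t⁻¹) * (t * w * t⁻¹)⁻¹ := by group
      _ = v * w * (t * w * t⁻¹) := by rw [h3, C.Vinv htw]
      _ = (t * w * t⁻¹) * (v * w) := C.Vc hvw htw
      _ = (t * w * t⁻¹) * (w * v) := by rw [C.Vc hv hw]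
      _ = _ := by group

end Ctx

end Cfsg.Agent.Omega.SQ1.FFTwo
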