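import Cfsg.Agent.Omega.SQ1.BauL

/-!
# SQ1.3: the fields of the pushing up theorem for the minimal block, one summand
-/

set_option autoImplicit false

namespace Cfsg.Agent.Omega.SQ1.Bau

open Subgroup Cfsg Cfsg.Agent.PLocal.ThompsonJ Cfsg.Agent.ZN Cfsg.Agent.ZN.ChoiceBase
open Cfsg.Agent.PLocal.ElemAbSup
open scoped Pointwise commutatorElement

universe u

variable {G : Type u} [Group G]

/-- `L` is minimal among the subgroups of `H` which contain `B` and move `V1`. -/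
structure Blk (H T V1 L : Subgroup G) : Prop where
  BL : bau T ≤ L
  LH : L ≤ H
  mv : ∃ l ∈ L, Mv V1 l
  min : ∀ X : Subgroup G, X ≤ L → bau T ≤ X → (∃ x ∈ X, Mv V1 x) → L ≤ X

theorem exists_min [Finite G] (P : Subgroup G → Prop) {X : Subgroup G} (hX : P X) :
    ∃ L, P L ∧ L ≤ X ∧ ∀ U, P U → U ≤ L → L ≤ U := by
  classical
  obtain ⟨L, hL, hmin⟩ := (Set.toFinite {U : Subgroup G | P U ∧ U ≤ X}).exists_minimalFor id _
    ⟨X, hX, le_rfl⟩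
  exact ⟨L, hL.1, hL.2, fun U hU hUL => hmin ⟨hU, hUL.trans hL.2⟩ hUL⟩

namespace In

variable {H T Q V V1 V0 : Subgroup G} {q : ℕ}

theorem exists_blk (h : In H T Q V V1 V0 q) [Finite G] : ∃ L, Blk H T V1 L := by
  obtain ⟨g, hg, hm⟩ := h.ne
  obtain ⟨L, ⟨h1, h2, h3⟩, -, h5⟩ := exists_min
    (fun L : Subgroup G => bau T ≤ L ∧ L ≤ H ∧ ∃ l ∈ L, Mv V1 l) (X := H)
    ⟨(bau_le T).trans h.TH, le_rfl, g, hg, hm⟩
  exact ⟨L, h1, h2, h3, fun X hX hB hmx => h5 X ⟨hB, hX.trans h2, hmx⟩ hX⟩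

end In

namespace Blk

open In (Y Z_le_Y V_le_Y)

variable {H T Q V V1 V0 L : Subgroup G} {q : ℕ}

/-- `L = ⟨B, x⟩` for `x ∈ B^l - Q`. -/
theorem gen_left (k : Blk H T V1 L) (h : In H T Q V V1 V0 q) [Finite G] {l b : G} (hl : l ∈ L)
    (hm : Mv V1 l) (hb : b ∈ bau T) (hbQ : b ∉ Q) {X : Subgroup G} (hX : bau T ≤ X)
    (hx : l * b * l⁻¹ ∈ X) : L ≤ X :=
  (k.min (X ⊓ L) inf_le_right (le_inf hX k.BL) ⟨l * b * l⁻¹,
    mem_inf.2 ⟨hx, mul_mem (mul_mem hl (k.BL hb)) (inv_mem hl)⟩,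
    h.bau_mv (k.LH hl) hm hb hbQ⟩).trans inf_le_left

/-- `L = ⟨b, B^l⟩` for `b ∈ B - Q`. -/
theorem gen_right (k : Blk H T V1 L) (h : In H T Q V V1 V0 q) [Finite G] {l b : G} (hl : l ∈ L)
    (hm : Mv V1 l) (hb : b ∈ bau T) (hbQ : b ∉ Q) {X : Subgroup G} (hX : b ∈ X)
    (hx : ∀ c ∈ bau T, l * c * l⁻¹ ∈ X) : L ≤ X := by
  have h1 : L ≤ cj l⁻¹ X := by
    refine k.gen_left h (inv_mem hl) (mv_inv.2 hm) hb hbQ (fun c hc => ?_) ?_
    · rw [mem_cj, inv_inv]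
      exact hx c hc
    · rw [mem_cj]
      have e : l⁻¹⁻¹ * (l⁻¹ * b * l⁻¹⁻¹) * l⁻¹ = b := by group
      rwa [e]
  intro y hy
  have h2 := h1 (mul_mem (mul_mem (inv_mem hl) hy) hl)
  rw [mem_cj] at h2
  have e : l⁻¹⁻¹ * (l⁻¹ * y * l) * l⁻¹ = y := by group
  rwa [e] at h2

/-- `L ≤ ⟨B, B^l⟩`. -/
theorem gen (k : Blk H T V1 L) (h : In H T Q V V1 V0 q) [Finite G] {l : G} (hl : l ∈ L)
    (hm : Mv V1 l) {X : Subgroup G} (hX : bau T ≤ X) (hx : ∀ c ∈ bau T, l * c * l⁻¹ ∈ X) :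
    L ≤ X := by
  obtain ⟨b, hb, hbQ⟩ := h.exists_b
  exact k.gen_left h hl hm hb hbQ hX (hx b hb)

/-- `⟨T, L⟩ = H`. -/
theorem sup_T (k : Blk H T V1 L) (h : In H T Q V V1 V0 q) {X : Subgroup G}
    (hT : T ≤ X) (hL : L ≤ X) : H ≤ X := by
  obtain ⟨l, hl, hm⟩ := k.mv
  exact (h.max (X ⊓ H) (le_inf hT h.TH) inf_le_right ⟨l, ⟨hL hl, k.LH hl⟩, hm⟩).trans inf_le_left

/-- `C_Y(L) = Z ∩ Z^l`. -/
theorem cent_iff (k : Blk H T V1 L) (h : In H T Q V V1 V0 q) [Finite G] {l y : G} (hl : l ∈ L)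
    (hm : Mv V1 l) (hy : y ∈ Y T V) :
    (∀ x ∈ L, x * y = y * x) ↔ y ∈ zj T ∧ l⁻¹ * y * l ∈ zj T := by
  constructor
  · intro hx
    obtain ⟨b, hb, hbQ⟩ := h.exists_b
    have h1 : y ∈ zj T := h.cent_Y hb hbQ hy (hx b (k.BL hb))
    refine ⟨h1, ?_⟩
    have h2 := hx l hl
    have e : l⁻¹ * y * l = y := by rw [mul_assoc, ← h2]; group
    rwa [e]
  · rintro ⟨h1, h2⟩
    have h3 : L ≤ centralizer ({y} : Set G) := by
      refine k.gen h hl hm (fun b hb => ?_) fun c hc => ?_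
      · rw [mem_centralizer_iff]
        intro w hw
        rw [show w = y from hw]
        exact (mem_bau.1 hb).2 _ h1
      · rw [mem_centralizer_iff]
        intro w hw
        rw [show w = y from hw]
        have h4 := (mem_bau.1 hc).2 _ h2
        calc y * (l * c * l⁻¹) = l * (l⁻¹ * y * l * c) * l⁻¹ := by group
          _ = l * (c * (l⁻¹ * y * l)) * l⁻¹ := by rw [h4]
          _ = l * c * l⁻¹ * y := by group
    intro x hx
    exact ((mem_centralizer_iff.1 (h3 hx)) y rfl).symm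

/-- `V0` is centralised by `L`. -/
theorem cent_V0 (k : Blk H T V1 L) (h : In H T Q V V1 V0 q) [Finite G] {v : G} (hv : v ∈ V0) :
    ∀ x ∈ L, x * v = v * x := by
  obtain ⟨l, hl, hm⟩ := k.mv
  rw [k.cent_iff h hl hm (V_le_Y T V (h.V1V (h.V01 hv)))]
  have h1 := h.V0n l⁻¹ (inv_mem (k.LH hl)) v hv
  rw [inv_inv] at h1
  exact ⟨h.V1_le_Z (h.V01 hv), h.V1_le_Z (h.V01 h1)⟩

/-- `L ∩ Q = B ∩ Q`. -/
theorem inf_Q (k : Blk H T V1 L) (h : In H T Q V V1 V0 q) [Finite G] {x : G} (hx : x ∈ L)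
    (hxQ : x ∈ Q) : x ∈ bau T ⊓ Q := by
  obtain ⟨l, hl, hm⟩ := k.mv
  refine h.mem_star_iff.2 ⟨h.QT hxQ, fun y hy => ?_⟩
  obtain ⟨v, hv, z, hz, hz', rfl⟩ := h.mem_Y_split (k.LH hl) hm hy
  have e1 := h.VcQ x hxQ v hv
  have e2 := (k.cent_iff h hl hm (Z_le_Y T V hz)).2 ⟨hz, hz'⟩ x hx
  calc x * (v * z) = (x * v) * z := by group
    _ = v * (x * z) := by rw [e1]; group
    _ = v * z * x := by rw [e2]; group

theorem norm_star (k : Blk H T V1 L) (h : In H T Q V V1 V0 q) [Finite G] :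
    ∀ l ∈ L, ∀ x ∈ bau T ⊓ Q, l * x * l⁻¹ ∈ bau T ⊓ Q := fun l hl => h.star_norm l (k.LH hl)

theorem norm_Y (k : Blk H T V1 L) (h : In H T Q V V1 V0 q) [Finite G] :
    ∀ l ∈ L, ∀ x ∈ Y T V, l * x * l⁻¹ ∈ Y T V := fun l hl => h.Y_norm l (k.LH hl)

/-- `H` is generated by the conjugates of `B` and `T`; so `T`-invariant subgroups of `V0` are
normal in `H`. -/
theorem norm_of_T (k : Blk H T V1 L) (h : In H T Q V V1 V0 q) [Finite G] {R : Subgroup G}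
    (hT : ∀ t ∈ T, ∀ r ∈ R, t * r * t⁻¹ ∈ R) (hL : ∀ r ∈ R, ∀ x ∈ L, x * r = r * x) :
    ∀ x ∈ H, ∀ r ∈ R, x * r * x⁻¹ ∈ R := by
  have h1 : H ≤ normalizer (R : Set G) := by
    refine k.sup_T h (fun t ht => mem_normalizer_of_cj_le ?_)
      (fun l hl => mem_normalizer_of_cj_le ?_)
    · rintro _ ⟨r, hr, rfl⟩; exact hT t ht r hr
    · rintro _ ⟨r, hr, rfl⟩
      have e : (MulAut.conj l).toMonoidHom r = r := by
        simp only [MulEquiv.toMonoidHom_eq_coe, MonoidHom.coe_coe, MulAut.conj_apply]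
        rw [hL r hr l hl]; group
      rw [e]; exact hr
  exact fun x hx r hr => (mem_normalizer_iff.1 (h1 hx) r).1 hr

/-- The elements of `D` centralised by `L` lie in `V0`. -/
theorem D_cent_le (k : Blk H T V1 L) (h : In H T Q V V1 V0 q) [Finite G] {d : G}
    (hd : d ∈ DD T V) (hc : ∀ x ∈ L, x * d = d * x) : d ∈ V0 := by
  obtain ⟨l, hl, hm⟩ := k.mv
  have h1 := ((k.cent_iff h hl hm (V_le_Y T V (h.D_le_V hd))).1 hc)
  rw [← h.V_inf_X (k.LH hl) hm]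
  exact mem_inf.2 ⟨h.D_le_V hd, mem_inf.2 ⟨h1.1, mem_cj.2 h1.2⟩⟩

/-- The core condition with respect to `L` and `A` follows from the one for `H` and `A`. -/
theorem core (k : Blk H T V1 L) (h : In H T Q V V1 V0 q) [Finite G] {A : Subgroup G} (hTA : T ≤ A)
    (hcore : ∀ R : Subgroup G, R ≤ T → (∀ x ∈ H, ∀ r ∈ R, x * r * x⁻¹ ∈ R) →
      (∀ a ∈ A, ∀ r ∈ R, a * r * a⁻¹ ∈ R) → R = ⊥)
    {R : Subgroup G} (hR : R ≤ T) (hL : ∀ l ∈ L, ∀ r ∈ R, l * r * l⁻¹ ∈ R)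
    (hA : ∀ a ∈ A, ∀ r ∈ R, a * r * a⁻¹ ∈ R) : R = ⊥ := by
  refine hcore R hR ?_ hA
  have h1 : H ≤ normalizer (R : Set G) := by
    refine k.sup_T h (fun t ht => mem_normalizer_of_cj_le ?_)
      (fun l hl => mem_normalizer_of_cj_le ?_)
    · rintro _ ⟨r, hr, rfl⟩; exact hA t (hTA ht) r hr
    · rintro _ ⟨r, hr, rfl⟩; exact hL l hl r hr
  exact fun x hx r hr => (mem_normalizer_iff.1 (h1 hx) r).1 hr

/-- (2.3): if `D^t` is centralised by `L` for some `t ∈ A - T` then `C_D(L) = 1`. -/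
theorem split (k : Blk H T V1 L) (h : In H T Q V V1 V0 q) [Finite G] {A : Subgroup G}
    (hAT : A ≤ normalizer (T : Set G))
    (idx : ∀ a ∈ A, ∀ b ∈ A, a ∉ T → b ∉ T → a⁻¹ * b ∈ T)
    (hcore : ∀ R : Subgroup G, R ≤ T → (∀ x ∈ H, ∀ r ∈ R, x * r * x⁻¹ ∈ R) →
      (∀ a ∈ A, ∀ r ∈ R, a * r * a⁻¹ ∈ R) → R = ⊥)
    {t : G} (ht : t ∈ A) (htT : t ∉ T)
    (hc : ∀ d ∈ DD T V, ∀ x ∈ L, x * (t * d * t⁻¹) = (t * d * t⁻¹) * x)
    {d : G} (hd : d ∈ DD T V) (hdc : ∀ x ∈ L, x * d = d * x) : d = 1 := by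
  let D0 : Subgroup G := DD T V ⊓ V0
  have hD0 : d ∈ D0 := ⟨hd, k.D_cent_le h hd hdc⟩
  have hT0 : ∀ t ∈ T, ∀ r ∈ D0, t * r * t⁻¹ ∈ D0 := fun t ht r hr =>
    ⟨h.T_norm_D ht hr.1, h.V0n t (h.TH ht) r hr.2⟩
  have hL0 : ∀ r ∈ D0, ∀ x ∈ L, x * r = r * x := fun r hr => k.cent_V0 h hr.2
  have hH0 := k.norm_of_T h hT0 hL0
  -- the conjugate
  let D1 : Subgroup G := cj t D0
  have hL1 : ∀ r ∈ D1, ∀ x ∈ L, x * r = r * x := by
    rintro _ ⟨r, hr, rfl⟩ x hx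
    exact hc r hr.1 x hx
  have hTt : ∀ u ∈ T, t⁻¹ * u * t ∈ T := fun u hu => by
    have := (mem_normalizer_iff.1 (hAT (inv_mem ht)) u).1 hu
    rwa [inv_inv] at this
  have hT1 : ∀ u ∈ T, ∀ r ∈ D1, u * r * u⁻¹ ∈ D1 := by
    intro u hu r hr
    rw [mem_cj] at hr ⊢
    have := hT0 _ (hTt u hu) _ hr
    have e : t⁻¹ * u * t * (t⁻¹ * r * t) * (t⁻¹ * u * t)⁻¹ = t⁻¹ * (u * r * u⁻¹) * t := by group
    rwa [e] at this
  have hH1 := k.norm_of_T h hT1 hL1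
  have hDT : D0 ≤ T := fun x hx => h.QT (h.VQ (h.D_le_V hx.1))
  have hD1T : D1 ≤ T := by
    rintro _ ⟨r, hr, rfl⟩
    exact (mem_normalizer_iff.1 (hAT ht) r).1 (hDT hr)
  have key : D0 ⊔ D1 = ⊥ := by
    refine hcore _ (sup_le hDT hD1T) ?_ ?_
    · have : H ≤ normalizer ((D0 ⊔ D1 : Subgroup G) : Set G) := fun x hx =>
        mem_normalizer_of_cj_le (by
          rw [cj, Subgroup.map_sup]
          refine sup_le ?_ ?_
          · rintro _ ⟨r, hr, rfl⟩; exact mem_sup_left (hH0 x hx r hr)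
          · rintro _ ⟨r, hr, rfl⟩; exact mem_sup_right (hH1 x hx r hr))
      exact fun x hx r hr => (mem_normalizer_iff.1 (this hx) r).1 hr
    · have : A ≤ normalizer ((D0 ⊔ D1 : Subgroup G) : Set G) := by
        intro a ha
        refine mem_normalizer_of_cj_le ?_
        rw [cj, Subgroup.map_sup]
        by_cases haT : a ∈ T
        · refine sup_le ?_ ?_
          · rintro _ ⟨r, hr, rfl⟩; exact mem_sup_left (hT0 a haT r hr)
          · rintro _ ⟨r, hr, rfl⟩; exact mem_sup_right (hT1 a haT r hr)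
        · have h1 : t⁻¹ * a ∈ T := idx t ht a ha htT haT
          have ht' : t⁻¹ ∉ T := fun h0 => htT (by simpa using inv_mem h0)
          have h2 : a * t ∈ T := by
            have := idx a⁻¹ (inv_mem ha) t ht (fun h0 => haT (by simpa using inv_mem h0)) htT
            rwa [inv_inv] at this
          refine sup_le ?_ ?_
          · rintro _ ⟨r, hr, rfl⟩
            refine mem_sup_right ?_
            change a * r * a⁻¹ ∈ D1
            rw [mem_cj]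
            have := hT0 _ h1 r hr
            have e : t⁻¹ * a * r * (t⁻¹ * a)⁻¹ = t⁻¹ * (a * r * a⁻¹) * t := by group
            rwa [e] at this
          · rintro _ ⟨r, hr, rfl⟩
            refine mem_sup_left ?_
            change a * r * a⁻¹ ∈ D0
            have hr' : t⁻¹ * r * t ∈ D0 := mem_cj.1 hr
            have := hT0 _ h2 _ hr'
            have e : a * t * (t⁻¹ * r * t) * (a * t)⁻¹ = a * r * a⁻¹ := by group
            rwa [e] at this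
      exact fun x hx r hr => (mem_normalizer_iff.1 (this hx) r).1 hr
  have h3 : d ∈ (D0 ⊔ D1 : Subgroup G) := mem_sup_left hD0
  rw [key, mem_bot] at h3
  exact h3

end Blk

end Cfsg.Agent.Omega.SQ1.Bau
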