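import Cfsg.Agent.Omega.SQ1.BauL
import Cfsg.Agent.ZN.ChoiceSit

/-!
# SQ1.3: Baumann blocks, any number of natural `SL₂(q)`-summands

`V / V0` is the direct sum of the `N i / V0`, each a natural `SL₂(q)`-module for its own factor,
`C_T(V) = Q` (`C_H(V) / Q` may be a nontrivial group of odd order).  `A i ∈ A(T)` acts only on `N i`,
as a full Sylow subgroup of the `i`-th factor.
-/

set_option autoImplicit false

namespace Cfsg.Agent.Omega.SQ1.BauK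

open Subgroup Cfsg Cfsg.Agent.PLocal.ThompsonJ Cfsg.Agent.ZN Cfsg.Agent.ZN.ChoiceBase
open Cfsg.Agent.PLocal.ElemAbSup
open Cfsg.Agent.Omega.SQ1.Bau (mem_AA_of_comm zj_le_AA elem_comm elem_sq mem_sup_comm card_sup_comm
  mem_sup_norm Mv not_mv_iff mv_inv)
open scoped Pointwise commutatorElement

universe u

variable {G : Type u} [Group G]

/-! ### Planes -/

/-- `W / W0` is a "plane" for `P`, `W1 / W0` one of its lines. -/
structure Pl (P W W1 W0 : Subgroup G) (q : ℕ) : Prop where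
  Wn : ∀ h ∈ P, ∀ x ∈ W, h * x * h⁻¹ ∈ W
  Wc : ∀ v ∈ W, ∀ w ∈ W, v * w = w * v
  W1W : W1 ≤ W
  W01 : W0 ≤ W1
  W0n : ∀ h ∈ P, ∀ x ∈ W0, h * x * h⁻¹ ∈ W0
  card : Nat.card W = Nat.card W1 * q
  card1 : Nat.card W1 = Nat.card W0 * q
  opp : ∀ h ∈ P, Mv W1 h → ∀ v ∈ W1, h * v * h⁻¹ ∈ W1 → h * v * h⁻¹ ∈ W0

namespace Pl

variable {P W W1 W0 : Subgroup G} {q : ℕ}

theorem inter (h : Pl P W W1 W0 q) {g : G} (hg : g ∈ P) (hm : Mv W1 g) : W1 ⊓ cj g W1 = W0 := by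
  apply le_antisymm
  · intro v hv
    obtain ⟨hv1, hv2⟩ := mem_inf.1 hv
    rw [mem_cj] at hv2
    have := h.opp g hg hm (g⁻¹ * v * g) hv2 (by
      have e : g * (g⁻¹ * v * g) * g⁻¹ = v := by group
      rwa [e])
    have e : g * (g⁻¹ * v * g) * g⁻¹ = v := by group
    rwa [e] at this
  · intro v hv
    refine mem_inf.2 ⟨h.W01 hv, ?_⟩
    rw [mem_cj]
    have := h.W0n g⁻¹ (inv_mem hg) v hv
    rw [inv_inv] at this
    exact h.W01 this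

theorem cj_le (h : Pl P W W1 W0 q) {g : G} (hg : g ∈ P) : cj g W1 ≤ W := by
  intro v hv
  rw [mem_cj] at hv
  have := h.Wn g hg _ (h.W1W hv)
  have e : g * (g⁻¹ * v * g) * g⁻¹ = v := by group
  rwa [e] at this

theorem sup_conj (h : Pl P W W1 W0 q) [Finite G] {g : G} (hg : g ∈ P) (hm : Mv W1 g) :
    W1 ⊔ cj g W1 = W := by
  have hc : ∀ a ∈ W1, ∀ b ∈ cj g W1, a * b = b * a := fun a ha b hb =>
    h.Wc a (h.W1W ha) b (h.cj_le hg hb)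
  have h1 := card_sup_comm hc
  rw [h.inter hg hm, card_cj] at h1
  refine Subgroup.eq_of_le_of_card_ge (sup_le h.W1W (h.cj_le hg)) ?_
  have hp : 0 < Nat.card W0 := Nat.card_pos
  have e : Nat.card ↥(W1 ⊔ cj g W1) * Nat.card W0 = Nat.card W * Nat.card W0 := by
    rw [h1, h.card]
    nth_rw 2 [h.card1]
    ring
  exact (Nat.eq_of_mul_eq_mul_right hp e).ge

theorem split (h : Pl P W W1 W0 q) [Finite G] {g : G} (hg : g ∈ P) (hm : Mv W1 g) {v : G}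
    (hv : v ∈ W) : ∃ a ∈ W1, ∃ b ∈ W1, v = a * (g * b * g⁻¹) := by
  rw [← h.sup_conj hg hm] at hv
  obtain ⟨a, ha, b, hb, rfl⟩ := mem_sup_comm (fun a ha b hb =>
    h.Wc a (h.W1W ha) b (h.cj_le hg hb)) hv
  rw [mem_cj] at hb
  exact ⟨a, ha, _, hb, by group⟩

/-- A nontrivial transvection-like element with axis `W1^g ≠ W1` moves `W1`. -/
theorem moves (h : Pl P W W1 W0 q) [Finite G] {g b : G} (hg : g ∈ P) (hm : Mv W1 g)
    (hb1 : ∀ v ∈ W, b * v * b⁻¹ * v⁻¹ ∈ W1) (hb2 : ∀ v ∈ W1, b * v = v * b)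
    (hb3 : ∃ v ∈ W, b * v * b⁻¹ * v⁻¹ ∉ W0) : Mv W1 (g * b * g⁻¹) := by
  by_contra hcon
  unfold Mv at hcon
  push Not at hcon
  set x := g * b * g⁻¹ with hx
  have key : ∀ v : G, x * v * x⁻¹ * v⁻¹ =
      g * (b * (g⁻¹ * v * g) * b⁻¹ * (g⁻¹ * v * g)⁻¹) * g⁻¹ := by
    intro v
    rw [hx]; group
  have hgV : ∀ v ∈ W, g⁻¹ * v * g ∈ W := fun v hv => by
    have := h.Wn g⁻¹ (inv_mem hg) v hv
    rwa [inv_inv] at this
  have h1 : ∀ v ∈ W1, x * v * x⁻¹ * v⁻¹ ∈ W0 := by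
    intro v hv
    have h2 : x * v * x⁻¹ * v⁻¹ ∈ W1 := mul_mem (hcon v hv) (inv_mem hv)
    rw [key v] at h2 ⊢
    exact h.opp g hg hm _ (hb1 _ (hgV v (h.W1W hv))) h2
  have h3 : ∀ v ∈ W, x * v * x⁻¹ * v⁻¹ ∈ W0 := by
    intro v hv
    obtain ⟨a, ha, c, hc, rfl⟩ := h.split hg hm hv
    have e1 : x * (g * c * g⁻¹) * x⁻¹ = g * c * g⁻¹ := by
      have : x * (g * c * g⁻¹) * x⁻¹ = g * (b * c * b⁻¹) * g⁻¹ := by rw [hx]; group
      rw [this, hb2 c hc]; group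
    have e2 : x * (a * (g * c * g⁻¹)) * x⁻¹ * (a * (g * c * g⁻¹))⁻¹ =
        x * a * x⁻¹ * (x * (g * c * g⁻¹) * x⁻¹) * (g * c * g⁻¹)⁻¹ * a⁻¹ := by group
    rw [e2, e1]
    have e3 : x * a * x⁻¹ * (g * c * g⁻¹) * (g * c * g⁻¹)⁻¹ * a⁻¹ = x * a * x⁻¹ * a⁻¹ := by group
    rw [e3]
    exact h1 a ha
  obtain ⟨v, hv, hv0⟩ := hb3
  apply hv0
  have h4 := h3 (g * v * g⁻¹) (h.Wn g hg v hv)
  rw [key] at h4
  have h5 := h.W0n g⁻¹ (inv_mem hg) _ h4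
  have e : g⁻¹ * (g * (b * (g⁻¹ * (g * v * g⁻¹) * g) * b⁻¹ * (g⁻¹ * (g * v * g⁻¹) * g)⁻¹) * g⁻¹) *
      g⁻¹⁻¹ = b * v * b⁻¹ * v⁻¹ := by group
  rwa [e] at h5

end Pl

/-! ### The input -/

/-- `C_V(J(T))`. -/
def V1 (T V : Subgroup G) : Subgroup G := V ⊓ centralizer (jj T : Set G)

theorem mem_V1 {T V : Subgroup G} {v : G} :
    v ∈ V1 T V ↔ v ∈ V ∧ ∀ j ∈ jj T, j * v = v * j := by
  rw [V1, mem_inf, mem_centralizer_iff]
  rfl

/-- Input of the Baumann argument for several summands. -/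
structure InK (H T Q V V0 : Subgroup G) {ι : Type} (N A : ι → Subgroup G) (q : ℕ) : Prop where
  TH : T ≤ H
  QT : Q ≤ T
  VQ : V ≤ Q
  Qn : ∀ h ∈ H, ∀ x ∈ Q, h * x * h⁻¹ ∈ Q
  Vn : ∀ h ∈ H, ∀ x ∈ V, h * x * h⁻¹ ∈ V
  Vsq : ∀ v ∈ V, v ^ 2 = 1
  VcQ : ∀ x ∈ Q, ∀ v ∈ V, x * v = v * x
  cT : ∀ t ∈ T, (∀ v ∈ V, t * v = v * t) → t ∈ Q
  syl : ChoiceSit.Syl T H
  V0n : ∀ h ∈ H, ∀ x ∈ V0, h * x * h⁻¹ ∈ V0
  V0N : ∀ i, V0 ≤ N i
  NV : ∀ i, N i ≤ V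
  Nperm : ∀ h ∈ H, ∀ i, ∃ j, cj h (N i) = N j
  Ninf : ∀ i j, i ≠ j → N i ⊓ N j ≤ V0
  Nsup : V ≤ ⨆ i, N i
  JN : ∀ a ∈ jj T, ∀ i, ∀ v ∈ N i, a * v * a⁻¹ ∈ N i
  V0J : ∀ a ∈ jj T, ∀ v ∈ V0, a * v = v * a
  card1 : ∀ i, Nat.card (N i) = Nat.card ↥(V1 T V ⊓ N i) * q
  card0 : ∀ i, Nat.card ↥(V1 T V ⊓ N i) = Nat.card V0 * q
  one_lt : 1 < q
  AT : ∀ i, A i ∈ AA T
  Acent : ∀ i j, i ≠ j → ∀ a ∈ A i, ∀ v ∈ N j, a * v = v * a
  Anle : ∀ i, ¬ A i ≤ Q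
  Acard : ∀ i, Nat.card (A i) = Nat.card ↥(A i ⊓ Q) * q
  full : ∀ i, ∀ b ∈ jj T, ∃ a ∈ A i, ∀ v ∈ N i, a * v * a⁻¹ = b * v * b⁻¹
  cb : ∀ i, ∀ b ∈ jj T, (∃ v ∈ N i, b * v ≠ v * b) → ∀ v ∈ N i, b * v = v * b → v ∈ V1 T V
  quad : ∀ i, ∀ b ∈ jj T, ∀ v ∈ N i, b * v * b⁻¹ * v⁻¹ ∈ V1 T V
  faith : ∀ i, ∀ b ∈ jj T, (∃ v ∈ N i, b * v ≠ v * b) → ∃ v ∈ N i, b * v * b⁻¹ * v⁻¹ ∉ V0
  field : ∀ t ∈ T, (∀ v ∈ V1 T V, t * v = v * t) → t ∈ jj T ⊔ Q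
  off : ∀ E ∈ AA T, Nat.card E * Nat.card ↥(V ⊓ centralizer (E : Set G)) =
    Nat.card ↥(E ⊓ Q) * Nat.card V
  opp : ∀ i, ∀ h ∈ H, cj h (N i) = N i → Mv (V1 T V ⊓ N i) h →
    ∀ v ∈ V1 T V ⊓ N i, h * v * h⁻¹ ∈ V1 T V ⊓ N i → h * v * h⁻¹ ∈ V0
  ne : ∀ i, ∃ h ∈ H, cj h (N i) = N i ∧ Mv (V1 T V ⊓ N i) h
  max : ∀ X : Subgroup G, T ≤ X → X ≤ H → (∃ x ∈ X, Mv (V1 T V) x) → H ≤ X

namespace InK

variable {H T Q V V0 : Subgroup G} {ι : Type} {N A : ι → Subgroup G} {q : ℕ}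

theorem Vcomm (h : InK H T Q V V0 N A q) : ∀ v ∈ V, ∀ w ∈ V, v * w = w * v :=
  fun v hv w hw => h.VcQ v (h.VQ hv) w hw

theorem Velem (h : InK H T Q V V0 N A q) : IsElementaryAbelian 2 V :=
  isElementaryAbelian_iff.2 ⟨h.Vcomm, h.Vsq⟩

theorem V1V : V1 T V ≤ V := inf_le_left

theorem Q_norm (h : InK H T Q V V0 N A q) [Finite G] : H ≤ normalizer (Q : Set G) := fun g hg =>
  mem_normalizer_of_cj_le (by
    rintro _ ⟨x, hx, rfl⟩
    exact h.Qn g hg x hx)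

theorem V0V1 (h : InK H T Q V V0 N A q) (i : ι) : V0 ≤ V1 T V ⊓ N i := fun v hv =>
  ⟨mem_V1.2 ⟨h.NV i (h.V0N i hv), fun j hj => h.V0J j hj v hv⟩, h.V0N i hv⟩

theorem cent_inf (h : InK H T Q V V0 N A q) [Finite G] {E : Subgroup G} (hE : E ∈ AA T) :
    (E ⊓ Q) ⊓ V = V ⊓ centralizer (E : Set G) := by
  apply le_antisymm
  · rintro v ⟨⟨hvE, -⟩, hvV⟩
    exact ⟨hvV, mem_centralizer_iff.2 fun a ha => elem_comm hE.1 a ha v hvE⟩
  · rintro v ⟨hvV, hvc⟩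
    have hvE : v ∈ E := mem_AA_of_comm hE (h.QT (h.VQ hvV)) (h.Vsq v hvV)
      fun a ha => mem_centralizer_iff.1 hvc a ha
    exact ⟨⟨hvE, h.VQ hvV⟩, hvV⟩

/-- `(E ∩ Q) V` is again a member of `A(T)`. -/
theorem replace (h : InK H T Q V V0 N A q) [Finite G] {E : Subgroup G} (hE : E ∈ AA T) :
    (E ⊓ Q) ⊔ V ∈ AA T := by
  have hc : ∀ a ∈ E ⊓ Q, ∀ v ∈ V, a * v = v * a := fun a ha v hv => h.VcQ a ha.2 v hv
  have h1 : IsElementaryAbelian 2 ((E ⊓ Q) ⊔ V : Subgroup G) :=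
    isElementaryAbelian_sup (isElementaryAbelian_mono hE.1 inf_le_left) h.Velem
      fun v hv => mem_centralizer_iff.2 fun a ha => hc a ha v hv
  rw [mem_AA_iff]
  refine ⟨h1, sup_le (inf_le_right.trans h.QT) (h.VQ.trans h.QT), ?_⟩
  have h2 := card_sup_comm hc
  rw [h.cent_inf hE, ← h.off E hE] at h2
  have h3 : Nat.card ↥((E ⊓ Q) ⊔ V : Subgroup G) = Nat.card E :=
    Nat.eq_of_mul_eq_mul_right Nat.card_pos h2
  rw [h3, mm_eq hE]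

theorem exists_AQ (h : InK H T Q V V0 N A q) [Finite G] : ∃ E ∈ AA T, E ≤ Q ∧ V ≤ E := by
  obtain ⟨E, hE⟩ := AA_nonempty T
  exact ⟨_, h.replace hE, sup_le inf_le_right h.VQ, le_sup_right⟩

theorem Z_le_Q (h : InK H T Q V V0 N A q) [Finite G] : zj T ≤ Q := by
  obtain ⟨E, hE, hEQ, -⟩ := h.exists_AQ
  exact (zj_le_AA hE).trans hEQ

theorem mm_le (h : InK H T Q V V0 N A q) [Finite G] : mm T ≤ mm Q := by
  obtain ⟨E, hE, hEQ, -⟩ := h.exists_AQ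
  rw [mm_eq hE]
  exact card_le_mm hE.1 hEQ

theorem AA_of_le (h : InK H T Q V V0 N A q) {E : Subgroup G} (hE : E ∈ AA T)
    (hEQ : E ≤ Q) : E ∈ AA Q :=
  ⟨hE.1, hEQ, fun B hB hBQ => hE.2.2 B hB (hBQ.trans h.QT)⟩

theorem jjQ_le (h : InK H T Q V V0 N A q) [Finite G] : jj Q ≤ jj T := jj_mono h.QT h.mm_le

theorem Z_le_zjQ (h : InK H T Q V V0 N A q) [Finite G] : zj T ≤ zj Q := by
  intro z hz
  obtain ⟨E, hE, hEQ, -⟩ := h.exists_AQ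
  have hz' := mem_zj.1 hz
  exact mem_zj.2 ⟨le_jj (h.AA_of_le hE hEQ) (zj_le_AA hE hz), hz'.2.1,
    fun y hy => hz'.2.2 y (h.jjQ_le hy)⟩

theorem V_le_zjQ (h : InK H T Q V V0 N A q) [Finite G] : V ≤ zj Q := by
  intro v hv
  obtain ⟨E, hE, hEQ, hVE⟩ := h.exists_AQ
  exact mem_zj.2 ⟨le_jj (h.AA_of_le hE hEQ) (hVE hv), h.Vsq v hv,
    fun y hy => h.VcQ y (jj_le Q hy) v hv⟩

/-- `zj Q = V C_{zj Q}(E)` for every `E ∈ A(T)`. -/
theorem split_A (h : InK H T Q V V0 N A q) [Finite G] {E : Subgroup G} (hE : E ∈ AA T) {y : G}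
    (hy : y ∈ zj Q) : ∃ v ∈ V, ∃ c ∈ zj Q, (∀ a ∈ E, a * c = c * a) ∧ y = v * c := by
  have hE' := h.replace hE
  have hE'Q : (E ⊓ Q) ⊔ V ≤ Q := sup_le inf_le_right h.VQ
  have hEj : E ⊓ Q ≤ jj Q := le_sup_left.trans (le_jj (h.AA_of_le hE' hE'Q))
  have hc : ∀ a ∈ E ⊓ Q, ∀ z ∈ zj Q, a * z = z * a := fun a ha z hz =>
    (mem_zj.1 hz).2.2 a (hEj ha)
  have h1 : IsElementaryAbelian 2 ((E ⊓ Q) ⊔ zj Q : Subgroup G) :=
    isElementaryAbelian_sup (isElementaryAbelian_mono hE.1 inf_le_left) (Bau.In.zj_elem Q)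
      fun v hv => mem_centralizer_iff.2 fun a ha => hc a ha v hv
  have h2 := hE.2.2 _ h1 (sup_le (inf_le_right.trans h.QT) ((Bau.In.zj_le Q).trans h.QT))
  have h3 := card_sup_comm hc
  set C := (E ⊓ Q) ⊓ zj Q with hC
  have h4 : Nat.card ↥(E ⊓ Q) * Nat.card (zj Q) ≤ Nat.card E * Nat.card C := by
    rw [← h3]; exact Nat.mul_le_mul_right _ h2
  have hVC : ∀ v ∈ V, ∀ c ∈ C, v * c = c * v := fun v hv c hc' => (h.VcQ c hc'.1.2 v hv).symm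
  have h5 := card_sup_comm hVC
  have h6 : V ⊓ C = V ⊓ centralizer (E : Set G) := by
    rw [hC, ← h.cent_inf hE, inf_comm, inf_right_comm]
    exact inf_eq_left.2 (inf_le_right.trans h.V_le_zjQ)
  rw [h6] at h5
  have h7 := h.off E hE
  have hVC2 : V ⊔ C = zj Q := by
    refine Subgroup.eq_of_le_of_card_ge (sup_le h.V_le_zjQ inf_le_right) ?_
    have hp : 0 < Nat.card ↥(E ⊓ Q) * Nat.card ↥(V ⊓ centralizer (E : Set G)) :=
      Nat.mul_pos Nat.card_pos Nat.card_pos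
    refine Nat.le_of_mul_le_mul_right ?_ hp
    calc Nat.card (zj Q) * (Nat.card ↥(E ⊓ Q) * Nat.card ↥(V ⊓ centralizer (E : Set G)))
        = (Nat.card ↥(E ⊓ Q) * Nat.card (zj Q)) * Nat.card ↥(V ⊓ centralizer (E : Set G)) := by
          ring
      _ ≤ (Nat.card E * Nat.card C) * Nat.card ↥(V ⊓ centralizer (E : Set G)) :=
          Nat.mul_le_mul_right _ h4
      _ = (Nat.card E * Nat.card ↥(V ⊓ centralizer (E : Set G))) * Nat.card C := by ring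
      _ = (Nat.card ↥(E ⊓ Q) * Nat.card V) * Nat.card C := by rw [h7]
      _ = Nat.card ↥(E ⊓ Q) * (Nat.card ↥(V ⊔ C) *
            Nat.card ↥(V ⊓ centralizer (E : Set G))) := by rw [h5]; ring
      _ = _ := by ring
  rw [← hVC2] at hy
  obtain ⟨v, hv, c, hc', rfl⟩ := mem_sup_comm hVC hy
  exact ⟨v, hv, c, hc'.2, fun a ha => elem_comm hE.1 a ha c hc'.1.1, rfl⟩

/-- `[zj Q, a] ≤ {[a, v]}` for `a ∈ E ∈ A(T)`. -/
theorem comm_eq (h : InK H T Q V V0 N A q) [Finite G] {E : Subgroup G} (hE : E ∈ AA T) {a y : G}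
    (ha : a ∈ E) (hy : y ∈ zj Q) : ∃ v ∈ V, a * y * a⁻¹ * y⁻¹ = a * v * a⁻¹ * v⁻¹ := by
  obtain ⟨v, hv, c, hc, hac, rfl⟩ := h.split_A hE hy
  refine ⟨v, hv, ?_⟩
  have e : a * (v * c) * a⁻¹ * (v * c)⁻¹ = a * v * a⁻¹ * (a * c * a⁻¹) * c⁻¹ * v⁻¹ := by group
  have e2 : a * c * a⁻¹ = c := by rw [hac a ha]; group
  rw [e, e2]
  group

theorem zjQ_norm (h : InK H T Q V V0 N A q) [Finite G] {g : G} (hg : g ∈ H) {y : G}
    (hy : y ∈ zj Q) : g * y * g⁻¹ ∈ zj Q :=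
  (mem_normalizer_iff.1 (normalizer_le_of_cj (F := zj) zj_cj Q (h.Q_norm hg)) y).1 hy

theorem N_le_normalizer (h : InK H T Q V V0 N A q) [Finite G] (i : ι) :
    jj T ≤ normalizer (N i : Set G) := fun a ha => mem_normalizer_of_cj_le (by
    rintro _ ⟨v, hv, rfl⟩
    exact h.JN a ha i v hv)

/-- `A i` acts only on `N i`. -/
theorem A_act (h : InK H T Q V V0 N A q) {i : ι} {a v : G} (ha : a ∈ A i) (hv : v ∈ V) :
    a * v * a⁻¹ * v⁻¹ ∈ N i := by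
  have haH : a ∈ H := h.TH ((h.AT i).2.1 ha)
  have haJ : a ∈ jj T := le_jj (h.AT i) ha
  let S : Subgroup G :=
    { carrier := {w | w ∈ V ∧ a * w * a⁻¹ * w⁻¹ ∈ N i}
      mul_mem' := by
        rintro x y ⟨hx, hx'⟩ ⟨hy, hy'⟩
        refine ⟨mul_mem hx hy, ?_⟩
        have hyV : a * y * a⁻¹ * y⁻¹ ∈ V := mul_mem (h.Vn a haH y hy) (inv_mem hy)
        have e : a * (x * y) * a⁻¹ * (x * y)⁻¹ =
          (a * x * a⁻¹) * ((a * y * a⁻¹ * y⁻¹) * x⁻¹) := by group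
        rw [e, h.Vcomm _ hyV _ (inv_mem hx), ← mul_assoc]
        exact mul_mem hx' hy'
      one_mem' := ⟨one_mem _, by simp⟩
      inv_mem' := by
        rintro x ⟨hx, hx'⟩
        refine ⟨inv_mem hx, ?_⟩
        have hxV : a * x * a⁻¹ ∈ V := h.Vn a haH x hx
        have e : a * x⁻¹ * a⁻¹ * x⁻¹⁻¹ = (a * x * a⁻¹)⁻¹ * x := by group
        rw [e, h.Vcomm _ (inv_mem hxV) _ hx]
        have e2 : x * (a * x * a⁻¹)⁻¹ = (a * x * a⁻¹ * x⁻¹)⁻¹ := by group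
        rw [e2]
        exact inv_mem hx' }
  have hS : (⨆ j, N j) ≤ S := by
    refine iSup_le fun j w hw => ⟨h.NV j hw, ?_⟩
    by_cases hij : i = j
    · subst hij
      exact mul_mem (h.JN a haJ i w hw) (inv_mem hw)
    · have e : a * w * a⁻¹ * w⁻¹ = 1 := by rw [h.Acent i j hij a ha w hw]; group
      rw [e]; exact one_mem _
  exact (hS (h.Nsup hv)).2

theorem jj_act (h : InK H T Q V V0 N A q) [Finite G] : ∀ j ∈ jj T, ∀ y ∈ zj Q,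
    j * y * j⁻¹ * y⁻¹ ∈ V := by
  let S : Subgroup G :=
    { carrier := {g | g ∈ H ∧ ∀ y ∈ zj Q, g * y * g⁻¹ * y⁻¹ ∈ V}
      mul_mem' := by
        rintro a b ⟨ha, ha'⟩ ⟨hb, hb'⟩
        refine ⟨mul_mem ha hb, fun y hy => ?_⟩
        have e : a * b * y * (a * b)⁻¹ * y⁻¹ =
          (a * (b * y * b⁻¹ * y⁻¹) * a⁻¹) * (a * y * a⁻¹ * y⁻¹) := by group
        rw [e]
        exact mul_mem (h.Vn a ha _ (hb' y hy)) (ha' y hy)
      one_mem' := ⟨one_mem _, fun y _ => by simp⟩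
      inv_mem' := by
        rintro a ⟨ha, ha'⟩
        refine ⟨inv_mem ha, fun y hy => ?_⟩
        have e : a⁻¹ * y * a⁻¹⁻¹ * y⁻¹ = a⁻¹ * (a * y * a⁻¹ * y⁻¹)⁻¹ * a⁻¹⁻¹ := by group
        rw [e]
        exact h.Vn _ (inv_mem ha) _ (inv_mem (ha' y hy)) }
  have hS : jj T ≤ S := by
    rw [jj_eq]
    refine sSup_le fun E hE => fun a ha => ⟨h.TH (hE.2.1 ha), fun y hy => ?_⟩
    obtain ⟨v, hv, e⟩ := h.comm_eq hE ha hy
    rw [e]
    exact mul_mem (h.Vn a (h.TH (hE.2.1 ha)) v hv) (inv_mem hv)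
  exact fun j hj => (hS hj).2

/-! ### The planes `N i` -/

/-- The stabiliser of `N i` in `H`. -/
def St (H : Subgroup G) (W : Subgroup G) : Subgroup G := H ⊓ normalizer (W : Set G)

theorem mem_St {W : Subgroup G} {g : G} : g ∈ St H W ↔ g ∈ H ∧ cj g W = W := by
  rw [St, mem_inf, mem_normalizer_iff_cj]

theorem pl (h : InK H T Q V V0 N A q) (i : ι) :
    Pl (St H (N i)) (N i) (V1 T V ⊓ N i) V0 q where
  Wn _ hg x hx := (mem_normalizer_iff.1 hg.2 x).1 hx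
  Wc v hv w hw := h.Vcomm v (h.NV i hv) w (h.NV i hw)
  W1W := inf_le_right
  W01 := h.V0V1 i
  W0n g hg x hx := h.V0n g hg.1 x hx
  card := h.card1 i
  card1 := h.card0 i
  opp g hg hm v hv hv' := h.opp i g hg.1 (mem_St.1 hg).2 hm v hv hv'

theorem A_exists (h : InK H T Q V V0 N A q) [Finite G] (i : ι) :
    ∃ a ∈ A i, a ∉ Q ∧ ∃ v ∈ N i, a * v ≠ v * a := by
  obtain ⟨a, ha, haQ⟩ := SetLike.not_le_iff_exists.1 (h.Anle i)
  refine ⟨a, ha, haQ, ?_⟩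
  by_contra hc
  push Not at hc
  apply haQ
  refine h.cT a ((h.AT i).2.1 ha) fun v hv => ?_
  have h1 : (⨆ j, N j) ≤ centralizer ({a} : Set G) := by
    refine iSup_le fun j w hw => mem_centralizer_iff.2 fun x hx => ?_
    rw [show x = a from hx]
    by_cases hij : i = j
    · subst hij; exact hc w hw
    · exact h.Acent i j hij a ha w hw
  exact mem_centralizer_iff.1 (h1 (h.Nsup hv)) a rfl

theorem quad_i (h : InK H T Q V V0 N A q) {i : ι} {b v : G} (hb : b ∈ jj T) (hv : v ∈ N i) :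
    b * v * b⁻¹ * v⁻¹ ∈ V1 T V ⊓ N i :=
  mem_inf.2 ⟨h.quad i b hb v hv, mul_mem (h.JN b hb i v hv) (inv_mem hv)⟩

theorem moves_jj (h : InK H T Q V V0 N A q) [Finite G] {i : ι} {g b : G} (hg : g ∈ St H (N i))
    (hm : Mv (V1 T V ⊓ N i) g) (hb : b ∈ jj T) (hbN : ∃ v ∈ N i, b * v ≠ v * b) :
    Mv (V1 T V ⊓ N i) (g * b * g⁻¹) :=
  (h.pl i).moves hg hm (fun _ hv => h.quad_i hb hv) (fun _ hv => (mem_V1.1 hv.1).2 b hb)
    (h.faith i b hb hbN)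

/-- An element of the stabiliser of `N i` moving the line moves `V1`. -/
theorem mv_V1 {i : ι} {g : G} (hg : g ∈ St H (N i))
    (hm : Mv (V1 T V ⊓ N i) g) : Mv (V1 T V) g := by
  obtain ⟨v, hv, hv'⟩ := hm
  exact ⟨v, hv.1, fun h1 => hv' ⟨h1, (mem_normalizer_iff.1 hg.2 v).1 hv.2⟩⟩

/-! ### `Y = Z V` -/

theorem ZcV (h : InK H T Q V V0 N A q) [Finite G] : ∀ z ∈ zj T, ∀ v ∈ V, z * v = v * z :=
  fun z hz v hv => h.VcQ z (h.Z_le_Q hz) v hv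

theorem V1_le_Z (h : InK H T Q V V0 N A q) [Finite G] : V1 T V ≤ zj T := by
  intro v hv
  have hv' := mem_V1.1 hv
  exact mem_zj.2 ⟨mem_jj_of_comm (h.QT (h.VQ hv'.1)) (h.Vsq v hv'.1) hv'.2, h.Vsq v hv'.1, hv'.2⟩

theorem Z_inf_V (h : InK H T Q V V0 N A q) [Finite G] : zj T ⊓ V = V1 T V := by
  apply le_antisymm
  · rintro z ⟨hz, hv⟩
    exact mem_V1.2 ⟨hv, (mem_zj.1 hz).2.2⟩
  · exact fun v hv => ⟨h.V1_le_Z hv, hv.1⟩

theorem Z_inf_N (h : InK H T Q V V0 N A q) [Finite G] (i : ι) :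
    zj T ⊓ N i = V1 T V ⊓ N i := by
  rw [← h.Z_inf_V, inf_assoc, inf_eq_right.2 (h.NV i)]

/-- `Y` is normal in `H`. -/
theorem Y_norm (h : InK H T Q V V0 N A q) [Finite G] [Nonempty ι] :
    ∀ g ∈ H, ∀ y ∈ zj T ⊔ V, g * y * g⁻¹ ∈ zj T ⊔ V := by
  let M : Subgroup G := H ⊓ normalizer ((zj T ⊔ V : Subgroup G) : Set G)
  have hTM : T ≤ M := by
    intro t ht
    refine ⟨h.TH ht, mem_normalizer_of_cj_le ?_⟩
    rw [cj, Subgroup.map_sup]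
    refine sup_le ?_ ?_
    · rintro _ ⟨z, hz, rfl⟩
      exact mem_sup_left (Bau.In.T_norm_Z T ht hz)
    · rintro _ ⟨v, hv, rfl⟩
      exact mem_sup_right (h.Vn t (h.TH ht) v hv)
  obtain ⟨i⟩ := ‹Nonempty ι›
  obtain ⟨g, hg, hgN, hm⟩ := h.ne i
  obtain ⟨a, ha, haQ, haN⟩ := h.A_exists i
  have haJ : a ∈ jj T := le_jj (h.AT i) ha
  have haH : a ∈ H := h.TH (jj_le T haJ)
  have hgS : g ∈ St H (N i) := mem_St.2 ⟨hg, hgN⟩
  have haS : a ∈ St H (N i) := ⟨haH, h.N_le_normalizer i haJ⟩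
  have hxS : g * a * g⁻¹ ∈ St H (N i) := mul_mem (mul_mem hgS haS) (inv_mem hgS)
  have hx : g * a * g⁻¹ ∈ M := by
    have hxH : g * a * g⁻¹ ∈ H := hxS.1
    refine ⟨hxH, mem_normalizer_of_cj_le ?_⟩
    rw [cj, Subgroup.map_sup]
    refine sup_le ?_ ?_
    · rintro _ ⟨z, hz, rfl⟩
      simp only [MulEquiv.toMonoidHom_eq_coe, MonoidHom.coe_coe, MulAut.conj_apply]
      have hz1 : g⁻¹ * z * g ∈ zj Q := by
        have := h.zjQ_norm (inv_mem hg) (h.Z_le_zjQ hz)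
        rwa [inv_inv] at this
      have h2 := h.Vn g hg _ (h.jj_act a haJ _ hz1)
      have e : g * a * g⁻¹ * z * (g * a * g⁻¹)⁻¹ =
        g * (a * (g⁻¹ * z * g) * a⁻¹ * (g⁻¹ * z * g)⁻¹) * g⁻¹ * z := by group
      rw [e]
      exact mul_mem (mem_sup_right h2) (mem_sup_left hz)
    · rintro _ ⟨v, hv, rfl⟩
      exact mem_sup_right (h.Vn _ hxH v hv)
  have hH := h.max M hTM inf_le_left ⟨_, hx, mv_V1 hxS (h.moves_jj hgS hm haJ haN)⟩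
  exact fun g hg y hy => (mem_normalizer_iff.1 (hH hg).2 y).1 hy

theorem bau_dec (h : InK H T Q V V0 N A q) [Finite G] {b : G} (hb : b ∈ bau T) :
    ∃ j ∈ jj T, ∃ x ∈ Q, b = j * x := by
  have h1 := h.field b (bau_le T hb) fun v hv => ((mem_bau.1 hb).2 v (h.V1_le_Z hv)).symm
  exact mem_sup_norm (fun j hj => h.Q_norm (h.TH (jj_le T hj))) h1

/-- The action of `b ∈ B` on `V` is the action of an element of `J(T)`. -/
theorem bau_act (h : InK H T Q V V0 N A q) [Finite G] {b : G} (hb : b ∈ bau T) :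
    ∃ j ∈ jj T, ∀ v ∈ V, b * v * b⁻¹ = j * v * j⁻¹ := by
  obtain ⟨j, hj, x, hx, rfl⟩ := h.bau_dec hb
  refine ⟨j, hj, fun v hv => ?_⟩
  have e : j * x * v * (j * x)⁻¹ = j * (x * v * x⁻¹) * j⁻¹ := by group
  have e2 : x * v * x⁻¹ = v := by rw [h.VcQ x hx v hv]; group
  rw [e, e2]

theorem bau_N (h : InK H T Q V V0 N A q) [Finite G] {i : ι} {b v : G} (hb : b ∈ bau T)
    (hv : v ∈ N i) : b * v * b⁻¹ ∈ N i := by
  obtain ⟨j, hj, e⟩ := h.bau_act hb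
  rw [e v (h.NV i hv)]
  exact h.JN j hj i v hv

theorem bau_V1 (h : InK H T Q V V0 N A q) [Finite G] {b v : G} (hb : b ∈ bau T)
    (hv : v ∈ V1 T V) : b * v = v * b := ((mem_bau.1 hb).2 v (h.V1_le_Z hv)).symm

theorem bau_quad (h : InK H T Q V V0 N A q) [Finite G] {i : ι} {b v : G} (hb : b ∈ bau T)
    (hv : v ∈ N i) : b * v * b⁻¹ * v⁻¹ ∈ V1 T V ⊓ N i := by
  obtain ⟨j, hj, e⟩ := h.bau_act hb
  rw [e v (h.NV i hv)]
  exact h.quad_i hj hv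

theorem comm_iff {b v : G} : b * v = v * b ↔ b * v * b⁻¹ = v := by
  constructor
  · intro h; rw [h]; group
  · intro h
    calc b * v = b * v * b⁻¹ * b := by group
      _ = v * b := by rw [h]

/-- `Q_L = C_B(N i)`. -/
def QL (T N : Subgroup G) : Subgroup G := bau T ⊓ centralizer (N : Set G)

theorem mem_QL {T N : Subgroup G} {x : G} :
    x ∈ QL T N ↔ x ∈ bau T ∧ ∀ v ∈ N, x * v = v * x := by
  rw [QL, mem_inf, mem_centralizer_iff]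
  constructor
  · rintro ⟨h1, h2⟩; exact ⟨h1, fun v hv => (h2 v hv).symm⟩
  · rintro ⟨h1, h2⟩; exact ⟨h1, fun v hv => (h2 v hv).symm⟩

theorem not_QL {T N : Subgroup G} {x : G} (hx : x ∈ bau T) (hx' : x ∉ QL T N) :
    ∃ v ∈ N, x * v ≠ v * x := by
  by_contra hc
  push Not at hc
  exact hx' (mem_QL.2 ⟨hx, hc⟩)

theorem bau_moves (h : InK H T Q V V0 N A q) [Finite G] {i : ι} {g b : G} (hg : g ∈ St H (N i))
    (hm : Mv (V1 T V ⊓ N i) g) (hb : b ∈ bau T) (hbN : b ∉ QL T (N i)) :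
    Mv (V1 T V ⊓ N i) (g * b * g⁻¹) := by
  obtain ⟨w, hw, hwb⟩ := not_QL hb hbN
  obtain ⟨j, hj, e⟩ := h.bau_act hb
  have hjN : ∃ v ∈ N i, j * v ≠ v * j := ⟨w, hw, fun h1 => hwb (by
    rw [comm_iff] at h1 ⊢
    rw [e w (h.NV i hw)]; exact h1)⟩
  refine (h.pl i).moves hg hm (fun v hv => h.bau_quad hb hv) (fun v hv => h.bau_V1 hb hv.1) ?_
  obtain ⟨v, hv, hv0⟩ := h.faith i j hj hjN
  exact ⟨v, hv, by rwa [e v (h.NV i hv)]⟩

theorem N_cent (h : InK H T Q V V0 N A q) [Finite G] {i : ι} {b v : G} (hb : b ∈ bau T)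
    (hbN : b ∉ QL T (N i)) (hv : v ∈ N i) (hbv : b * v = v * b) : v ∈ V1 T V := by
  obtain ⟨w, hw, hwb⟩ := not_QL hb hbN
  obtain ⟨j, hj, e⟩ := h.bau_act hb
  refine h.cb i j hj ⟨w, hw, fun h1 => hwb ?_⟩ v hv ?_
  · rw [comm_iff] at h1 ⊢
    rw [e w (h.NV i hw)]; exact h1
  · rw [comm_iff] at hbv ⊢
    rw [← e v (h.NV i hv)]; exact hbv

/-! ### `V_L = Z N i` -/

theorem ZcN (h : InK H T Q V V0 N A q) [Finite G] (i : ι) :
    ∀ z ∈ zj T, ∀ v ∈ N i, z * v = v * z :=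
  fun z hz v hv => h.ZcV z hz v (h.NV i hv)

/-- `V_L = Z N`. -/
def VL (T N : Subgroup G) : Subgroup G := zj T ⊔ N

theorem mem_VL (h : InK H T Q V V0 N A q) [Finite G] {i : ι} {y : G} (hy : y ∈ VL T (N i)) :
    ∃ z ∈ zj T, ∃ v ∈ N i, y = z * v := mem_sup_comm (h.ZcN i) hy

theorem VL_elem (h : InK H T Q V V0 N A q) [Finite G] (i : ι) :
    IsElementaryAbelian 2 (VL T (N i)) :=
  isElementaryAbelian_sup (Bau.In.zj_elem T) (isElementaryAbelian_mono h.Velem (h.NV i))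
    fun v hv => mem_centralizer_iff.2 fun z hz => h.ZcN i z hz v hv

theorem VL_le_Q (h : InK H T Q V V0 N A q) [Finite G] (i : ι) : VL T (N i) ≤ Q :=
  sup_le h.Z_le_Q ((h.NV i).trans h.VQ)

/-- `C_{V_L}(b) = Z` for `b ∈ B - Q_L`. -/
theorem cent_VL (h : InK H T Q V V0 N A q) [Finite G] {i : ι} {b y : G} (hb : b ∈ bau T)
    (hbN : b ∉ QL T (N i)) (hy : y ∈ VL T (N i)) (hby : b * y = y * b) : y ∈ zj T := by
  obtain ⟨z, hz, v, hv, rfl⟩ := h.mem_VL hy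
  refine mul_mem hz (h.V1_le_Z (h.N_cent hb hbN hv ?_))
  have hbz : z * b = b * z := (mem_bau.1 hb).2 z hz
  have e2 : b * (z * v) * b⁻¹ = z * (b * v * b⁻¹) := by
    calc b * (z * v) * b⁻¹ = (b * z) * v * b⁻¹ := by group
      _ = (z * b) * v * b⁻¹ := by rw [hbz]
      _ = _ := by group
  rw [comm_iff] at hby ⊢
  rw [e2] at hby
  exact mul_left_cancel hby

theorem mem_QL_iff (h : InK H T Q V V0 N A q) [Finite G] {i : ι} {x : G} :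
    x ∈ QL T (N i) ↔ x ∈ bau T ∧ ∀ y ∈ VL T (N i), x * y = y * x := by
  rw [mem_QL]
  refine and_congr_right fun hx => ⟨fun h1 y hy => ?_, fun h1 v hv => h1 v (mem_sup_right hv)⟩
  obtain ⟨z, hz, v, hv, rfl⟩ := h.mem_VL hy
  have e1 : z * x = x * z := (mem_bau.1 hx).2 z hz
  calc x * (z * v) = (x * z) * v := by group
    _ = z * (x * v) := by rw [← e1]; group
    _ = z * v * x := by rw [h1 v hv]; group

theorem VL_le_bau (h : InK H T Q V V0 N A q) [Finite G] (i : ι) : VL T (N i) ≤ bau T := by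
  intro y hy
  refine mem_bau.2 ⟨h.QT (h.VL_le_Q i hy), fun z hz => ?_⟩
  exact elem_comm (h.VL_elem i) z (mem_sup_left hz) y hy

theorem VL_le_QL (h : InK H T Q V V0 N A q) [Finite G] (i : ι) : VL T (N i) ≤ QL T (N i) :=
  fun y hy => h.mem_QL_iff.2 ⟨h.VL_le_bau i hy, fun w hw => elem_comm (h.VL_elem i) y hy w hw⟩

theorem card_VL (h : InK H T Q V V0 N A q) [Finite G] (i : ι) :
    Nat.card (VL T (N i)) = Nat.card (zj T) * q := by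
  have h1 := card_sup_comm (h.ZcN i)
  rw [h.Z_inf_N, h.card1 i] at h1
  have hp : 0 < Nat.card ↥(V1 T V ⊓ N i) := Nat.card_pos
  have e : Nat.card (VL T (N i)) * Nat.card ↥(V1 T V ⊓ N i) =
      Nat.card (zj T) * q * Nat.card ↥(V1 T V ⊓ N i) := by
    rw [VL, h1]; ring
  exact Nat.eq_of_mul_eq_mul_right hp e

/-- `B = A_i Q_L`. -/
theorem bau_eq (h : InK H T Q V V0 N A q) [Finite G] {i : ι} {b : G} (hb : b ∈ bau T) :
    ∃ a ∈ A i, ∃ x ∈ QL T (N i), b = a * x := by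
  obtain ⟨j, hj, e⟩ := h.bau_act hb
  obtain ⟨a, ha, e2⟩ := h.full i j hj
  have haB : a ∈ bau T := jj_le_bau T (le_jj (h.AT i) ha)
  refine ⟨a, ha, a⁻¹ * b, mem_QL.2 ⟨mul_mem (inv_mem haB) hb, fun v hv => ?_⟩, by group⟩
  rw [comm_iff]
  have e3 : a⁻¹ * b * v * (a⁻¹ * b)⁻¹ = a⁻¹ * (b * v * b⁻¹) * a := by group
  rw [e3, e v (h.NV i hv), ← e2 v hv]
  group

theorem card_bau (h : InK H T Q V V0 N A q) [Finite G] (i : ι) :
    Nat.card (bau T) = Nat.card (QL T (N i)) * q := by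
  have hAB : A i ≤ bau T := (le_jj (h.AT i)).trans (jj_le_bau T)
  have h1 := Cfsg.Agent.Lib.ProductSet.card_mul_card_inf (A i) (QL T (N i))
  have h2 : (A i : Set G) * ((QL T (N i) : Subgroup G) : Set G) =
      ((bau T : Subgroup G) : Set G) := by
    ext b
    constructor
    · rintro ⟨a, ha, x, hx, rfl⟩
      exact mul_mem (hAB ha) (mem_QL.1 hx).1
    · intro hb
      obtain ⟨a, ha, x, hx, rfl⟩ := h.bau_eq (i := i) hb
      exact ⟨a, ha, x, hx, rfl⟩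
  have h3 : A i ⊓ QL T (N i) = A i ⊓ Q := by
    apply le_antisymm
    · rintro a ⟨ha, ha2⟩
      refine ⟨ha, ?_⟩
      by_contra haQ
      have hc := (mem_QL.1 ha2).2
      apply haQ
      refine h.cT a ((h.AT i).2.1 ha) fun v hv => ?_
      have h4 : (⨆ j, N j) ≤ centralizer ({a} : Set G) := by
        refine iSup_le fun j w hw => mem_centralizer_iff.2 fun x hx => ?_
        rw [show x = a from hx]
        by_cases hij : i = j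
        · subst hij; exact hc w hw
        · exact h.Acent i j hij a ha w hw
      exact mem_centralizer_iff.1 (h4 (h.Nsup hv)) a rfl
    · rintro a ⟨ha, ha2⟩
      exact ⟨ha, mem_QL.2 ⟨hAB ha, fun v hv => h.VcQ a ha2 v (h.NV i hv)⟩⟩
  rw [h3, h.Acard i] at h1
  have hp : 0 < Nat.card ↥(A i ⊓ Q) := Nat.card_pos
  have e : Nat.card ((A i : Set G) * ((QL T (N i) : Subgroup G) : Set G) : Set G) =
    Nat.card (bau T) := by
    rw [h2]; rfl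
  rw [e] at h1
  have e2 : Nat.card (bau T) * Nat.card ↥(A i ⊓ Q) =
      Nat.card (QL T (N i)) * q * Nat.card ↥(A i ⊓ Q) := by
    rw [h1]; ring
  exact Nat.eq_of_mul_eq_mul_right hp e2

theorem bau_sq (h : InK H T Q V V0 N A q) [Finite G] {i : ι} {b : G} (hb : b ∈ bau T) :
    b * b ∈ QL T (N i) := by
  refine mem_QL.2 ⟨mul_mem hb hb, fun v hv => ?_⟩
  obtain ⟨a, ha, x, hx, e⟩ := h.bau_eq (i := i) hb
  have hxc : ∀ w ∈ N i, x * w * x⁻¹ = w := fun w hw => comm_iff.1 ((mem_QL.1 hx).2 w hw)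
  have haa : a * a = 1 := by have := elem_sq (h.AT i).1 a ha; rwa [pow_two] at this
  have h1 : ∀ w ∈ N i, b * w * b⁻¹ = a * w * a⁻¹ := fun w hw => by
    rw [e]
    have : a * x * w * (a * x)⁻¹ = a * (x * w * x⁻¹) * a⁻¹ := by group
    rw [this, hxc w hw]
  rw [comm_iff]
  have e2 : b * b * v * (b * b)⁻¹ = b * (b * v * b⁻¹) * b⁻¹ := by group
  rw [e2, h1 _ (h.bau_N hb hv), h1 v hv]
  have e3 : a * (a * v * a⁻¹) * a⁻¹ = (a * a) * v * (a * a)⁻¹ := by group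
  rw [e3, haa]; group

end InK

end Cfsg.Agent.Omega.SQ1.BauK
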