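import Cfsg.Agent.Omega.SQ1.BauK
import Cfsg.Agent.Omega.SQ1.BauBlk

/-!
# SQ1.3: the minimal block `L_i` over `B`, any number of summands
-/

set_option autoImplicit false

namespace Cfsg.Agent.Omega.SQ1.BauK

open Subgroup Cfsg Cfsg.Agent.PLocal.ThompsonJ Cfsg.Agent.ZN Cfsg.Agent.ZN.ChoiceBase
open Cfsg.Agent.PLocal.ElemAbSup
open Cfsg.Agent.Omega.SQ1.Bau (mem_AA_of_comm zj_le_AA elem_comm elem_sq mem_sup_comm card_sup_comm
  mem_sup_norm Mv not_mv_iff mv_inv exists_min)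
open scoped Pointwise commutatorElement

universe u

variable {G : Type u} [Group G]

/-- The elements of `H` which act only on `W` (modulo `W` on `Y`). -/
def RR (H T V : Subgroup G) {ι : Type} (N : ι → Subgroup G) (i : ι) : Subgroup G where
  carrier := {r | r ∈ H ∧ r ∈ normalizer (N i : Set G) ∧ (∀ j, i ≠ j → ∀ v ∈ N j, r * v = v * r) ∧
    ∀ y ∈ zj T ⊔ V, r * y * r⁻¹ * y⁻¹ ∈ N i}
  mul_mem' := by
    rintro a b ⟨ha1, ha2, ha3, ha4⟩ ⟨hb1, hb2, hb3, hb4⟩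
    refine ⟨mul_mem ha1 hb1, mul_mem ha2 hb2, fun j hj v hv => ?_, fun y hy => ?_⟩
    · calc a * b * v = a * (b * v) := by group
        _ = (a * v) * b := by rw [hb3 j hj v hv]; group
        _ = v * (a * b) := by rw [ha3 j hj v hv]; group
    · have e : a * b * y * (a * b)⁻¹ * y⁻¹ =
        (a * (b * y * b⁻¹ * y⁻¹) * a⁻¹) * (a * y * a⁻¹ * y⁻¹) := by group
      rw [e]
      exact mul_mem ((mem_normalizer_iff.1 ha2 _).1 (hb4 y hy)) (ha4 y hy)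
  one_mem' := ⟨one_mem _, one_mem _, fun _ _ v _ => by simp, fun y _ => by simp⟩
  inv_mem' := by
    rintro a ⟨ha1, ha2, ha3, ha4⟩
    refine ⟨inv_mem ha1, inv_mem ha2, fun j hj v hv => ?_, fun y hy => ?_⟩
    · exact ((show Commute a v from ha3 j hj v hv).inv_left).eq
    · have e : a⁻¹ * y * a⁻¹⁻¹ * y⁻¹ = a⁻¹ * (a * y * a⁻¹ * y⁻¹)⁻¹ * a⁻¹⁻¹ := by group
      rw [e]
      exact (mem_normalizer_iff.1 (inv_mem ha2) _).1 (inv_mem (ha4 y hy))

theorem mem_RR {H T V : Subgroup G} {ι : Type} {N : ι → Subgroup G} {i : ι} {r : G} :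
    r ∈ RR H T V N i ↔ r ∈ H ∧ r ∈ normalizer (N i : Set G) ∧
      (∀ j, i ≠ j → ∀ v ∈ N j, r * v = v * r) ∧ ∀ y ∈ zj T ⊔ V, r * y * r⁻¹ * y⁻¹ ∈ N i := Iff.rfl

/-- `P_i = R_i B`. -/
def PP (H T V : Subgroup G) {ι : Type} (N : ι → Subgroup G) (i : ι) : Subgroup G :=
  RR H T V N i ⊔ bau T

/-- The minimal block. -/
structure BlkK (H T V : Subgroup G) {ι : Type} (N : ι → Subgroup G) (i : ι) (L : Subgroup G) :
    Prop where
  BL : bau T ≤ L
  LP : L ≤ PP H T V N i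
  mv : ∃ l ∈ L, Mv (V1 T V ⊓ N i) l
  min : ∀ X : Subgroup G, X ≤ L → bau T ≤ X → (∃ x ∈ X, Mv (V1 T V ⊓ N i) x) → L ≤ X

namespace InK

variable {H T Q V V0 : Subgroup G} {ι : Type} {N A : ι → Subgroup G} {q : ℕ}

theorem bau_norm_N (h : InK H T Q V V0 N A q) [Finite G] (i : ι) :
    bau T ≤ normalizer (N i : Set G) := fun b hb => mem_normalizer_of_cj_le (by
    rintro _ ⟨v, hv, rfl⟩
    exact h.bau_N hb hv)

theorem norm_of_conj {X : Subgroup G} [Finite G] {g : G} (hX : ∀ x ∈ X, g * x * g⁻¹ ∈ X) :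
    g ∈ normalizer (X : Set G) := mem_normalizer_of_cj_le (by
    rintro _ ⟨v, hv, rfl⟩
    exact hX v hv)

theorem T_norm_Y (h : InK H T Q V V0 N A q) {t y : G} (ht : t ∈ T)
    (hy : y ∈ zj T ⊔ V) : t * y * t⁻¹ ∈ zj T ⊔ V := by
  have h1 : (zj T ⊔ V).map (MulAut.conj t).toMonoidHom ≤ zj T ⊔ V := by
    rw [Subgroup.map_sup]
    refine sup_le ?_ ?_
    · rintro _ ⟨z, hz, rfl⟩
      exact mem_sup_left (Bau.In.T_norm_Z T ht hz)
    · rintro _ ⟨v, hv, rfl⟩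
      exact mem_sup_right (h.Vn t (h.TH ht) v hv)
  exact h1 ⟨y, hy, rfl⟩

theorem bau_norm_RR (h : InK H T Q V V0 N A q) [Finite G] (i : ι) :
    bau T ≤ normalizer (RR H T V N i : Set G) := by
  intro b hb
  have hbT := bau_le T hb
  have hbH := h.TH hbT
  refine norm_of_conj ?_
  rintro r hr
  obtain ⟨h1, h2, h3, h4⟩ := mem_RR.1 hr
  refine mem_RR.2 ⟨mul_mem (mul_mem hbH h1) (inv_mem hbH),
    mul_mem (mul_mem (h.bau_norm_N i hb) h2) (inv_mem (h.bau_norm_N i hb)), fun j hj v hv => ?_,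
    fun y hy => ?_⟩
  · have hv' : b⁻¹ * v * b ∈ N j := by
      have := h.bau_N (inv_mem hb) hv
      rwa [inv_inv] at this
    have h5 := h3 j hj _ hv'
    calc b * r * b⁻¹ * v = b * (r * (b⁻¹ * v * b)) * b⁻¹ := by group
      _ = b * (b⁻¹ * v * b * r) * b⁻¹ := by rw [h5]
      _ = v * (b * r * b⁻¹) := by group
  · have hy' : b⁻¹ * y * b ∈ zj T ⊔ V := by
      have := h.T_norm_Y (inv_mem hbT) hy
      rwa [inv_inv] at this
    have e : b * r * b⁻¹ * y * (b * r * b⁻¹)⁻¹ * y⁻¹ =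
      b * (r * (b⁻¹ * y * b) * r⁻¹ * (b⁻¹ * y * b)⁻¹) * b⁻¹ := by group
    rw [e]
    exact h.bau_N hb (h4 _ hy')

theorem mem_PP (h : InK H T Q V V0 N A q) [Finite G] {i : ι} {x : G} (hx : x ∈ PP H T V N i) :
    ∃ r ∈ RR H T V N i, ∃ b ∈ bau T, x = r * b := by
  have h1 : x ∈ (RR H T V N i : Set G) * (bau T : Set G) := by
    rw [← Subgroup.coe_mul_of_right_le_normalizer_left _ _ (h.bau_norm_RR i)]
    exact hx
  obtain ⟨a, ha, b, hb, rfl⟩ := Set.mem_mul.1 h1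
  exact ⟨a, ha, b, hb, rfl⟩

theorem PP_le_St (h : InK H T Q V V0 N A q) [Finite G] (i : ι) : PP H T V N i ≤ St H (N i) :=
  sup_le (fun _ hr => ⟨(mem_RR.1 hr).1, (mem_RR.1 hr).2.1⟩)
    (fun _ hb => ⟨h.TH (bau_le T hb), h.bau_norm_N i hb⟩)

/-- `P_i` normalises `V_L = Z N_i`. -/
theorem PP_VL (h : InK H T Q V V0 N A q) [Finite G] {i : ι} {x y : G} (hx : x ∈ PP H T V N i)
    (hy : y ∈ VL T (N i)) : x * y * x⁻¹ ∈ VL T (N i) := by
  have key : PP H T V N i ≤ normalizer (VL T (N i) : Set G) := by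
    refine sup_le (fun r hr => norm_of_conj fun y hy => ?_) (fun b hb => norm_of_conj
      fun y hy => ?_)
    · obtain ⟨z, hz, v, hv, rfl⟩ := h.mem_VL hy
      obtain ⟨h1, h2, h3, h4⟩ := mem_RR.1 hr
      have e : r * (z * v) * r⁻¹ = (r * z * r⁻¹ * z⁻¹) * z * (r * v * r⁻¹) := by group
      rw [e]
      exact mul_mem (mul_mem (mem_sup_right (h4 z (mem_sup_left hz))) (mem_sup_left hz))
        (mem_sup_right ((mem_normalizer_iff.1 h2 v).1 hv))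
    · obtain ⟨z, hz, v, hv, rfl⟩ := h.mem_VL hy
      have e : b * (z * v) * b⁻¹ = (b * z * b⁻¹) * (b * v * b⁻¹) := by group
      rw [e]
      exact mul_mem (mem_sup_left (Bau.In.T_norm_Z T (bau_le T hb) hz))
        (mem_sup_right (h.bau_N hb hv))
  exact (mem_normalizer_iff.1 (key hx) y).1 hy

theorem V0_lt (h : InK H T Q V V0 N A q) [Finite G] (i : ι) : ¬ N i ≤ V0 := by
  intro hle
  have h1 : Nat.card (N i) ≤ Nat.card V0 := Subgroup.card_le_of_le hle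
  rw [h.card1 i, h.card0 i] at h1
  have hp : 0 < Nat.card V0 := Nat.card_pos
  have hq := h.one_lt
  have h2 : Nat.card V0 * 2 ≤ Nat.card V0 * q := Nat.mul_le_mul_left _ hq
  have h3 : Nat.card V0 * q * 1 ≤ Nat.card V0 * q * q := Nat.mul_le_mul_left _ hq.le
  omega

/-- A conjugate of an element of `A i` by an element of the stabiliser of `N i` lies in `RR`. -/
theorem conj_mem_RR (h : InK H T Q V V0 N A q) [Finite G] {i : ι} {g a : G}
    (hg : g ∈ St H (N i)) (ha : a ∈ A i) : g * a * g⁻¹ ∈ RR H T V N i := by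
  have haJ : a ∈ jj T := le_jj (h.AT i) ha
  have haH : a ∈ H := h.TH (jj_le T haJ)
  have haS : a ∈ St H (N i) := ⟨haH, h.N_le_normalizer i haJ⟩
  have hxS : g * a * g⁻¹ ∈ St H (N i) := mul_mem (mul_mem hg haS) (inv_mem hg)
  refine mem_RR.2 ⟨hxS.1, hxS.2, fun j hj v hv => ?_, fun y hy => ?_⟩
  · obtain ⟨j', hj'⟩ := h.Nperm g⁻¹ (inv_mem hg.1) j
    have hij' : i ≠ j' := by
      intro e
      subst e
      have h1 : N j = N i := by
        have := congrArg (cj g) hj'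
        rw [cj_cj_inv, (mem_St.1 hg).2] at this
        exact this
      apply h.V0_lt i
      have := h.Ninf i j hj
      rwa [h1, inf_idem] at this
    have hv' : g⁻¹ * v * g ∈ N j' := by
      rw [← hj', mem_cj, inv_inv]
      have e : g * (g⁻¹ * v * g) * g⁻¹ = v := by group
      rwa [e]
    have h2 := h.Acent i j' hij' a ha _ hv'
    calc g * a * g⁻¹ * v = g * (a * (g⁻¹ * v * g)) * g⁻¹ := by group
      _ = g * (g⁻¹ * v * g * a) * g⁻¹ := by rw [h2]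
      _ = v * (g * a * g⁻¹) := by group
  · have hyQ : y ∈ zj Q := (sup_le h.Z_le_zjQ h.V_le_zjQ : zj T ⊔ V ≤ zj Q) hy
    have hy' : g⁻¹ * y * g ∈ zj Q := by
      have := h.zjQ_norm (inv_mem hg.1) hyQ
      rwa [inv_inv] at this
    obtain ⟨v, hv, e1⟩ := h.comm_eq (h.AT i) ha hy'
    have e : g * a * g⁻¹ * y * (g * a * g⁻¹)⁻¹ * y⁻¹ =
      g * (a * (g⁻¹ * y * g) * a⁻¹ * (g⁻¹ * y * g)⁻¹) * g⁻¹ := by group
    rw [e, e1]
    exact (mem_normalizer_iff.1 hg.2 _).1 (h.A_act ha hv)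

theorem exists_blk (h : InK H T Q V V0 N A q) [Finite G] (i : ι) :
    ∃ L, BlkK H T V N i L := by
  obtain ⟨g, hg, hgN, hm⟩ := h.ne i
  obtain ⟨a, ha, haQ, haN⟩ := h.A_exists i
  have hgS : g ∈ St H (N i) := mem_St.2 ⟨hg, hgN⟩
  have hmx := h.moves_jj hgS hm (le_jj (h.AT i) ha) haN
  obtain ⟨L, ⟨h1, h2, h3⟩, -, h5⟩ := exists_min
    (fun L : Subgroup G => bau T ≤ L ∧ L ≤ PP H T V N i ∧ ∃ l ∈ L, Mv (V1 T V ⊓ N i) l)
    (X := PP H T V N i) ⟨le_sup_right, le_rfl, _, mem_sup_left (h.conj_mem_RR hgS ha), hmx⟩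
  exact ⟨L, h1, h2, h3, fun X hX hB hmx => h5 X ⟨hB, hX.trans h2, hmx⟩ hX⟩

/-- Baumann subgroups of Sylow 2-subgroups of `H` containing `B`. -/
theorem bau_of_le (h : InK H T Q V V0 N A q) [Finite G] {S : Subgroup G} (hS : S ≤ H)
    (h2 : IsPGroup 2 S) (hB : bau T ≤ S) : ∀ r ∈ S, (∀ z ∈ zj T, r * z = z * r) → r ∈ bau T := by
  obtain ⟨S', hS', hle⟩ := ChoiceSit.exists_syl h2 hS
  obtain ⟨x, -, hx⟩ := ChoiceSit.syl_conj hS' h.syl
  have hmm : mm S' = mm T := by rw [← hx, mm_cj]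
  have hle1 : jj T ≤ S' := (jj_le_bau T).trans (hB.trans hle)
  have hJ : jj T ≤ jj S' := by
    rw [jj_eq T]
    refine sSup_le fun E hE => ?_
    refine le_jj (mem_AA_iff.2 ⟨hE.1, (le_jj hE).trans hle1, ?_⟩)
    rw [hmm, mm_eq hE]
  have hcJ : Nat.card (jj S') = Nat.card (jj T) := by
    rw [← hx, jj_cj, card_cj]
  have hJe : jj S' = jj T := (Subgroup.eq_of_le_of_card_ge hJ hcJ.le).symm
  have hZ : zj S' = zj T := zj_congr hJe
  have hcB : Nat.card (bau S') = Nat.card (bau T) := by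
    rw [← hx, bau_cj, card_cj]
  have hBle : bau T ≤ bau S' := fun b hb => mem_bau.2 ⟨hle (hB hb), by
    rw [hZ]; exact (mem_bau.1 hb).2⟩
  have hBe : bau S' = bau T := (Subgroup.eq_of_le_of_card_ge hBle hcB.le).symm
  intro r hr hrz
  rw [← hBe]
  exact mem_bau.2 ⟨hle hr, by rw [hZ]; exact fun z hz => (hrz z hz).symm⟩

theorem bau_norm_QL (h : InK H T Q V V0 N A q) [Finite G] {i : ι} {b x : G} (hb : b ∈ bau T)
    (hx : x ∈ QL T (N i)) : b * x * b⁻¹ ∈ QL T (N i) := by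
  obtain ⟨h1, h2⟩ := mem_QL.1 hx
  refine mem_QL.2 ⟨mul_mem (mul_mem hb h1) (inv_mem hb), fun v hv => ?_⟩
  have hv' : b⁻¹ * v * b ∈ N i := by
    have := h.bau_N (inv_mem hb) hv
    rwa [inv_inv] at this
  calc b * x * b⁻¹ * v = b * (x * (b⁻¹ * v * b)) * b⁻¹ := by group
    _ = b * (b⁻¹ * v * b * x) * b⁻¹ := by rw [h2 _ hv']
    _ = v * (b * x * b⁻¹) := by group

end InK

namespace BlkK

open InK (St VL QL mem_QL mem_St comm_iff not_QL)

variable {H T Q V V0 L : Subgroup G} {ι : Type} {N A : ι → Subgroup G} {q : ℕ} {i : ι}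

theorem LS (k : BlkK H T V N i L) (h : InK H T Q V V0 N A q) [Finite G] : L ≤ St H (N i) :=
  k.LP.trans (h.PP_le_St i)

theorem LH (k : BlkK H T V N i L) (h : InK H T Q V V0 N A q) [Finite G] : L ≤ H :=
  fun _ hl => (k.LS h hl).1

theorem VL_norm (k : BlkK H T V N i L) (h : InK H T Q V V0 N A q) [Finite G] :
    ∀ l ∈ L, ∀ y ∈ VL T (N i), l * y * l⁻¹ ∈ VL T (N i) := fun l hl _ hy => h.PP_VL (k.LP hl) hy

/-- `C_L(V_L)`. -/
def CL (L : Subgroup G) (T W : Subgroup G) : Subgroup G := L ⊓ centralizer (VL T W : Set G)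

theorem mem_CL {W : Subgroup G} {x : G} :
    x ∈ CL L T W ↔ x ∈ L ∧ ∀ w ∈ VL T W, x * w = w * x := by
  rw [CL, mem_inf, mem_centralizer_iff]
  exact ⟨fun ⟨h1, h2⟩ => ⟨h1, fun v hv => (h2 v hv).symm⟩,
    fun ⟨h1, h2⟩ => ⟨h1, fun v hv => (h2 v hv).symm⟩⟩

theorem CL_norm (k : BlkK H T V N i L) (h : InK H T Q V V0 N A q) [Finite G] :
    ∀ l ∈ L, ∀ x ∈ CL L T (N i), l * x * l⁻¹ ∈ CL L T (N i) := by
  intro l hl x hx
  obtain ⟨h1, h2⟩ := mem_CL.1 hx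
  refine mem_CL.2 ⟨mul_mem (mul_mem hl h1) (inv_mem hl), fun w hw => ?_⟩
  have hw' : l⁻¹ * w * l ∈ VL T (N i) := by
    have := k.VL_norm h l⁻¹ (inv_mem hl) w hw
    rwa [inv_inv] at this
  calc l * x * l⁻¹ * w = l * (x * (l⁻¹ * w * l)) * l⁻¹ := by group
    _ = l * (l⁻¹ * w * l * x) * l⁻¹ := by rw [h2 _ hw']
    _ = w * (l * x * l⁻¹) := by group

/-- `Q_L` is a Sylow 2-subgroup of `C_L(V_L)`. -/
theorem syl_CL (k : BlkK H T V N i L) (h : InK H T Q V V0 N A q) [Finite G] :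
    ChoiceSit.Syl (QL T (N i)) (CL L T (N i)) := by
  have hQC : QL T (N i) ≤ CL L T (N i) := fun x hx =>
    mem_CL.2 ⟨k.BL (mem_QL.1 hx).1, (h.mem_QL_iff.1 hx).2⟩
  have h2B : IsPGroup 2 (bau T) := h.syl.2.1.to_le (bau_le T)
  have h2Q : IsPGroup 2 (QL T (N i)) := h2B.to_le inf_le_left
  -- a Sylow 2-subgroup of `B C`
  have hBn : bau T ≤ normalizer (CL L T (N i) : Set G) := fun b hb =>
    InK.norm_of_conj (k.CL_norm h b (k.BL hb))
  obtain ⟨S, hS, hBS⟩ := ChoiceSit.exists_syl h2B (le_sup_left : bau T ≤ bau T ⊔ CL L T (N i))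
  have hSL : S ≤ L := hS.1.trans (sup_le k.BL inf_le_left)
  have hSB : ∀ r ∈ S, (∀ z ∈ zj T, r * z = z * r) → r ∈ bau T :=
    h.bau_of_le (hSL.trans (k.LH h)) hS.2.1 hBS
  -- `S ∩ C = Q_L`
  have hSC : S ⊓ CL L T (N i) = QL T (N i) := by
    apply le_antisymm
    · rintro r ⟨hr1, hr2⟩
      have hr3 := (mem_CL.1 hr2).2
      exact h.mem_QL_iff.2 ⟨hSB r hr1 fun z hz => hr3 z (mem_sup_left hz), hr3⟩
    · exact fun r hr => ⟨hBS (mem_QL.1 hr).1, hQC hr⟩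
  refine ⟨hQC, h2Q, fun R hR h2 hQR => ?_⟩
  -- conjugate `R` into `S`
  obtain ⟨S1, hS1, hRS1⟩ := ChoiceSit.exists_syl h2
    (hR.trans (le_sup_right : CL L T (N i) ≤ bau T ⊔ CL L T (N i)))
  obtain ⟨x, hx, e⟩ := ChoiceSit.syl_conj hS1 hS
  have hxL : x ∈ L := (sup_le k.BL inf_le_left : bau T ⊔ CL L T (N i) ≤ L) hx
  have h3 : cj x R ≤ S ⊓ CL L T (N i) := by
    rintro _ ⟨r, hr, rfl⟩
    refine ⟨?_, k.CL_norm h x hxL r (hR hr)⟩
    rw [← e]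
    exact ⟨r, hRS1 hr, rfl⟩
  rw [hSC] at h3
  have h4 := Subgroup.card_le_of_le h3
  rw [card_cj] at h4
  exact (Subgroup.eq_of_le_of_card_ge hQR h4).symm

/-- `Q_L` is normal in `L` (Frattini argument and minimality of `L`). -/
theorem QL_norm (k : BlkK H T V N i L) (h : InK H T Q V V0 N A q) [Finite G] :
    ∀ l ∈ L, ∀ x ∈ QL T (N i), l * x * l⁻¹ ∈ QL T (N i) := by
  have hsyl := k.syl_CL h
  have h1 : L ≤ L ⊓ normalizer (QL T (N i) : Set G) := by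
    refine k.min _ inf_le_left (le_inf k.BL fun b hb => InK.norm_of_conj
      fun x hx => h.bau_norm_QL hb hx) ?_
    obtain ⟨l, hl, v, hv, hlv⟩ := k.mv
    have h2 : ChoiceSit.Syl (cj l (QL T (N i))) (CL L T (N i)) := by
      refine ⟨?_, isPGroup_cj l hsyl.2.1, fun R hR h2 hle => ?_⟩
      · rintro _ ⟨x, hx, rfl⟩
        exact k.CL_norm h l hl x (hsyl.1 hx)
      · have h3 : cj l⁻¹ R ≤ CL L T (N i) := by
          rintro _ ⟨r, hr, rfl⟩
          exact k.CL_norm h l⁻¹ (inv_mem hl) r (hR hr)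
        have h4 := hsyl.2.2 _ h3 (isPGroup_cj _ h2) (cj_le_iff.1 hle)
        rw [← h4, cj_cj_inv]
    obtain ⟨c, hc, e⟩ := ChoiceSit.syl_conj h2 hsyl
    rw [cj_cj] at e
    refine ⟨c * l, mem_inf.2 ⟨mul_mem (mem_CL.1 hc).1 hl, mem_normalizer_iff_cj.2 e⟩, v, hv, ?_⟩
    have hlvN : l * v * l⁻¹ ∈ N i := (mem_normalizer_iff.1 (k.LS h hl).2 v).1 hv.2
    have h5 := (mem_CL.1 hc).2 _ (mem_sup_right hlvN)
    have e2 : c * l * v * (c * l)⁻¹ = (c * (l * v * l⁻¹)) * c⁻¹ := by group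
    rw [e2, h5, mul_inv_cancel_right]
    exact hlv
  exact fun l hl x hx => (mem_normalizer_iff.1 (h1 hl).2 x).1 hx

/-- `L = ⟨B, x⟩` for `x ∈ B^l - Q_L`. -/
theorem gen_left (k : BlkK H T V N i L) (h : InK H T Q V V0 N A q) [Finite G] {l b : G}
    (hl : l ∈ L) (hm : Mv (V1 T V ⊓ N i) l) (hb : b ∈ bau T) (hbQ : b ∉ QL T (N i))
    {X : Subgroup G} (hX : bau T ≤ X) (hx : l * b * l⁻¹ ∈ X) : L ≤ X :=
  (k.min (X ⊓ L) inf_le_right (le_inf hX k.BL) ⟨l * b * l⁻¹,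
    mem_inf.2 ⟨hx, mul_mem (mul_mem hl (k.BL hb)) (inv_mem hl)⟩,
    h.bau_moves (k.LS h hl) hm hb hbQ⟩).trans inf_le_left

/-- `L = ⟨b, B^l⟩` for `b ∈ B - Q_L`. -/
theorem gen_right (k : BlkK H T V N i L) (h : InK H T Q V V0 N A q) [Finite G] {l b : G}
    (hl : l ∈ L) (hm : Mv (V1 T V ⊓ N i) l) (hb : b ∈ bau T) (hbQ : b ∉ QL T (N i))
    {X : Subgroup G} (hX : b ∈ X) (hx : ∀ c ∈ bau T, l * c * l⁻¹ ∈ X) : L ≤ X := by
  have h1 : L ≤ cj l⁻¹ X := by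
    refine k.gen_left h (inv_mem hl) (mv_inv.2 hm) hb hbQ (fun c hc => ?_) ?_
    · rw [mem_cj, inv_inv]
      exact hx c hc
    · rw [mem_cj]
      have e : l⁻¹⁻¹ * (l⁻¹ * b * l⁻¹⁻¹) * l⁻¹ = b := by group
      rwa [e]
  intro y hy
  have h2 := h1 (mul_mem (mul_mem (inv_mem hl) hy) hl)
  rw [mem_cj] at h2
  have e : l⁻¹⁻¹ * (l⁻¹ * y * l) * l⁻¹ = y := by group
  rwa [e] at h2

theorem exists_b (h : InK H T Q V V0 N A q) [Finite G] (i : ι) :
    ∃ b ∈ bau T, b ∉ QL T (N i) := by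
  obtain ⟨a, ha, -, w, hw, haw⟩ := h.A_exists i
  exact ⟨a, jj_le_bau T (le_jj (h.AT i) ha), fun h1 => haw ((mem_QL.1 h1).2 w hw)⟩

theorem gen (k : BlkK H T V N i L) (h : InK H T Q V V0 N A q) [Finite G] {l : G} (hl : l ∈ L)
    (hm : Mv (V1 T V ⊓ N i) l) {X : Subgroup G} (hX : bau T ≤ X)
    (hx : ∀ c ∈ bau T, l * c * l⁻¹ ∈ X) : L ≤ X := by
  obtain ⟨b, hb, hbQ⟩ := exists_b h i
  exact k.gen_left h hl hm hb hbQ hX (hx b hb)

/-- `⟨T, L⟩ = H`. -/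
theorem sup_T (k : BlkK H T V N i L) (h : InK H T Q V V0 N A q) [Finite G] {X : Subgroup G}
    (hT : T ≤ X) (hL : L ≤ X) : H ≤ X := by
  obtain ⟨l, hl, hm⟩ := k.mv
  exact (h.max (X ⊓ H) (le_inf hT h.TH) inf_le_right ⟨l, mem_inf.2 ⟨hL hl, k.LH h hl⟩,
    InK.mv_V1 (k.LS h hl) hm⟩).trans inf_le_left

/-! ### `D = [V_L, B]` -/

/-- `[V_L, B]`. -/
def DK (T N : Subgroup G) : Subgroup G := ⁅VL T N, bau T⁆

theorem D_le (h : InK H T Q V V0 N A q) [Finite G] (i : ι) : DK T (N i) ≤ V1 T V ⊓ N i := by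
  rw [DK, commutator_le]
  intro y hy b hb
  obtain ⟨z, hz, v, hv, rfl⟩ := h.mem_VL hy
  have e1 : z * b = b * z := (mem_bau.1 hb).2 z hz
  have e2 : z * v = v * z := h.ZcN i z hz v hv
  have e : ⁅z * v, b⁆ = (b * v * b⁻¹ * v⁻¹)⁻¹ := by
    rw [commutatorElement_def]
    calc z * v * b * (z * v)⁻¹ * b⁻¹ = (z * (v * b * v⁻¹)) * z⁻¹ * b⁻¹ := by group
      _ = ((v * b * v⁻¹) * z) * z⁻¹ * b⁻¹ := by
        rw [show z * (v * b * v⁻¹) = (v * b * v⁻¹) * z from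
          ((show Commute z v from e2).mul_right (show Commute z b from e1)).mul_right
            (show Commute z v from e2).inv_right]
      _ = _ := by group
  rw [e]
  exact inv_mem (h.bau_quad hb hv)

theorem D_le_Z (h : InK H T Q V V0 N A q) [Finite G] (i : ι) : DK T (N i) ≤ zj T :=
  fun _ hd => h.V1_le_Z (D_le h i hd).1

theorem D_not_le (h : InK H T Q V V0 N A q) [Finite G] (i : ι) : ¬ DK T (N i) ≤ V0 := by
  intro hle
  obtain ⟨a, ha, -, haN⟩ := h.A_exists i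
  obtain ⟨v, hv, hv0⟩ := h.faith i a (le_jj (h.AT i) ha) haN
  apply hv0
  have h1 := inv_mem (hle (commutator_mem_commutator (H₁ := VL T (N i)) (mem_sup_right hv)
    (jj_le_bau T (le_jj (h.AT i) ha))))
  have e : (⁅v, a⁆)⁻¹ = a * v * a⁻¹ * v⁻¹ := by rw [commutatorElement_def]; group
  rwa [e] at h1

/-- `l` moves the line iff `D^l` is not contained in `Z`. -/
theorem mv_iff (k : BlkK H T V N i L) (h : InK H T Q V V0 N A q) [Finite G] {g : G}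
    (hg : g ∈ L) : Mv (V1 T V ⊓ N i) g ↔ ∃ d ∈ DK T (N i), g * d * g⁻¹ ∉ zj T := by
  constructor
  · intro hm
    by_contra hc
    push Not at hc
    apply D_not_le h i
    intro d hd
    have hd' := D_le h i hd
    have h1 : g * d * g⁻¹ ∈ zj T ⊓ N i :=
      ⟨hc d hd, (mem_normalizer_iff.1 (k.LS h hg).2 d).1 hd'.2⟩
    rw [h.Z_inf_N] at h1
    have h2 := (h.pl i).opp g (k.LS h hg) hm d hd' h1
    have h3 := h.V0n g⁻¹ (inv_mem (k.LH h hg)) _ h2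
    have e : g⁻¹ * (g * d * g⁻¹) * g⁻¹⁻¹ = d := by group
    rwa [e] at h3
  · rintro ⟨d, hd, hd'⟩
    exact ⟨d, D_le h i hd, fun h1 => hd' (h.V1_le_Z h1.1)⟩

/-- `side`: `V_L^{l t} ≤ V_L V_L^t`. -/
theorem side (k : BlkK H T V N i L) (h : InK H T Q V V0 N A q) [Finite G] {t l v : G}
    (ht : t ∈ T) (hl : l ∈ L) (hv : v ∈ VL T (N i)) :
    l * (t * v * t⁻¹) * l⁻¹ ∈ VL T (N i) ⊔ cj t (VL T (N i)) := by
  obtain ⟨z, hz, w, hw, rfl⟩ := h.mem_VL hv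
  obtain ⟨j, hj⟩ := h.Nperm t (h.TH ht) i
  have hz' : t * z * t⁻¹ ∈ zj T := Bau.In.T_norm_Z T ht hz
  have hw' : t * w * t⁻¹ ∈ N j := by rw [← hj]; exact ⟨w, hw, rfl⟩
  have e : l * (t * (z * w) * t⁻¹) * l⁻¹ =
    (l * (t * z * t⁻¹) * l⁻¹) * (l * (t * w * t⁻¹) * l⁻¹) := by group
  rw [e]
  refine mul_mem (mem_sup_left (k.VL_norm h l hl _ (mem_sup_left hz'))) ?_
  by_cases hij : i = j
  · subst hij
    exact mem_sup_left (k.VL_norm h l hl _ (mem_sup_right hw'))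
  · obtain ⟨r, hr, b, hb, rfl⟩ := h.mem_PP (k.LP hl)
    have hbw : b * (t * w * t⁻¹) * b⁻¹ ∈ N j := h.bau_N hb hw'
    have e2 : r * b * (t * w * t⁻¹) * (r * b)⁻¹ = r * (b * (t * w * t⁻¹) * b⁻¹) * r⁻¹ := by group
    rw [e2, comm_iff.1 ((mem_RR.1 hr).2.2.1 j hij _ hbw)]
    refine mem_sup_right ?_
    have h3 : N j ≤ cj t (VL T (N i)) := by
      rw [← hj]; exact cj_mono t le_sup_right
    exact h3 hbw

theorem T_norm_J {t a : G} (ht : t ∈ T) (ha : a ∈ jj T) : t * a * t⁻¹ ∈ jj T :=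
  (mem_normalizer_iff.1 (normalizer_le_jj T (le_normalizer ht)) a).1 ha

theorem T_norm_bau {t a : G} (ht : t ∈ T) (ha : a ∈ bau T) : t * a * t⁻¹ ∈ bau T :=
  (mem_normalizer_iff.1 (normalizer_le_bau T (le_normalizer ht)) a).1 ha

theorem cj_D {t : G} (ht : t ∈ T) {W W' : Subgroup G} (hW : cj t W = W') :
    cj t (DK T W) = DK T W' := by
  have h1 : cj t (zj T) = zj T := cj_eq_of_mem_normalizer
    (normalizer_le_of_cj (F := zj) zj_cj T (le_normalizer ht))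
  have h2 : cj t (bau T) = bau T := cj_eq_of_mem_normalizer (normalizer_le_bau T (le_normalizer ht))
  rw [cj] at h1 h2 hW
  rw [cj, DK, DK, map_commutator, VL, Subgroup.map_sup, h1, h2, hW, VL]

/-- `indep`: `D^t = D` implies `V_L^t = V_L` (`t ∈ T`). -/
theorem indep (h : InK H T Q V V0 N A q) [Finite G] {t : G} (ht : t ∈ T)
    (hD : cj t (DK T (N i)) ≤ DK T (N i)) : cj t (VL T (N i)) = VL T (N i) := by
  obtain ⟨j, hj⟩ := h.Nperm t (h.TH ht) i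
  have hij : i = j := by
    by_contra hne
    apply D_not_le h i
    have h1 : cj t (DK T (N i)) = DK T (N i) := Subgroup.eq_of_le_of_card_ge hD (card_cj _ _).ge
    have h2 := cj_D ht hj
    rw [h1] at h2
    intro d hd
    have hd2 : d ∈ DK T (N j) := by rwa [← h2]
    exact h.Ninf i j hne ⟨(D_le h i hd).2, (D_le h j hd2).2⟩
  subst hij
  have h1 : cj t (zj T) = zj T := cj_eq_of_mem_normalizer
    (normalizer_le_of_cj (F := zj) zj_cj T (le_normalizer ht))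
  rw [cj] at h1 hj
  rw [cj, VL, Subgroup.map_sup, h1, hj]

/-- The core condition with respect to `L` and `A` follows from the one for `H` and `A`. -/
theorem core (k : BlkK H T V N i L) (h : InK H T Q V V0 N A q) [Finite G] {M : Subgroup G}
    (hTM : T ≤ M)
    (hcore : ∀ R : Subgroup G, R ≤ T → (∀ x ∈ H, ∀ r ∈ R, x * r * x⁻¹ ∈ R) →
      (∀ a ∈ M, ∀ r ∈ R, a * r * a⁻¹ ∈ R) → R = ⊥)
    {R : Subgroup G} (hR : R ≤ T) (hL : ∀ l ∈ L, ∀ r ∈ R, l * r * l⁻¹ ∈ R)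
    (hA : ∀ a ∈ M, ∀ r ∈ R, a * r * a⁻¹ ∈ R) : R = ⊥ := by
  refine hcore R hR ?_ hA
  have h1 : H ≤ normalizer (R : Set G) :=
    k.sup_T h (fun t ht => InK.norm_of_conj (hA t (hTM ht))) fun l hl => InK.norm_of_conj (hL l hl)
  exact fun x hx r hr => (mem_normalizer_iff.1 (h1 hx) r).1 hr

end BlkK

end Cfsg.Agent.Omega.SQ1.BauK
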