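import Cfsg.Agent.Omega.SQ1.Bau

/-!
# SQ1: Baumann blocks for the types `S₃ × ⋯ × S₃` and `S_{2^m+1} × ⋯ × S_{2^m+1}` (`q = 2`)

`T` is a Sylow 2-subgroup of `H`, `Q = C_T(V)` is normal in `H`, `V` is an elementary abelian normal
subgroup of `H`.  The image of `J(T)` in `Aut(V)` is generated by commuting transvections `t i`
(`[V, t i] = ⟨d i⟩`), and `r i` acts on `V` with order three, `[V, r i] = N i` of order four, `t i`
inverts `r i` and `t j` commutes with `r i` for `j ≠ i` (as automorphisms of `V`).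

This covers `S₃ ≀`, `S₅ ≀`, `S_{2^m+1} ≀`, with `C_H(V)` of odd order modulo `Q`.
(Text: bb OMEGA 12030 of helper525, see also #6862.)
-/

set_option autoImplicit false

namespace Cfsg.Agent.Omega.SQ1.BauS

open Subgroup Cfsg Cfsg.Agent.PLocal.ThompsonJ Cfsg.Agent.ZN Cfsg.Agent.ZN.ChoiceBase
open Cfsg.Agent.PLocal.ElemAbSup
open Cfsg.Agent.Omega.SQ1.Bau (mem_AA_of_comm zj_le_AA elem_comm elem_sq mem_sup_comm card_sup_comm
  mem_sup_norm)
open scoped Pointwise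

universe u w

variable {G : Type u} [Group G]

/-- `x` and `y` act in the same way on `V`. -/
def Sim (V : Subgroup G) (x y : G) : Prop := ∀ v ∈ V, x * v * x⁻¹ = y * v * y⁻¹

namespace Sim

variable {V : Subgroup G} {x y z x' y' : G}

theorem rfl' : Sim V x x := fun _ _ => rfl

theorem symm (h : Sim V x y) : Sim V y x := fun v hv => (h v hv).symm

theorem trans (h : Sim V x y) (h' : Sim V y z) : Sim V x z := fun v hv => (h v hv).trans (h' v hv)

theorem mul_left (z : G) (h : Sim V x y) : Sim V (z * x) (z * y) := fun v hv => by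
  have e1 : z * x * v * (z * x)⁻¹ = z * (x * v * x⁻¹) * z⁻¹ := by group
  have e2 : z * y * v * (z * y)⁻¹ = z * (y * v * y⁻¹) * z⁻¹ := by group
  rw [e1, e2, h v hv]

theorem mul_right (hz : ∀ v ∈ V, z * v * z⁻¹ ∈ V) (h : Sim V x y) : Sim V (x * z) (y * z) :=
  fun v hv => by
  have e1 : x * z * v * (x * z)⁻¹ = x * (z * v * z⁻¹) * x⁻¹ := by group
  have e2 : y * z * v * (y * z)⁻¹ = y * (z * v * z⁻¹) * y⁻¹ := by group
  rw [e1, e2, h _ (hz v hv)]

theorem mul (hy : ∀ v ∈ V, y * v * y⁻¹ ∈ V) (h : Sim V x x') (h' : Sim V y y') :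
    Sim V (x * y) (x' * y') := (h.mul_right hy).trans (h'.mul_left x')

theorem inv (hx : ∀ v ∈ V, x⁻¹ * v * x ∈ V) (h : Sim V x y) : Sim V x⁻¹ y⁻¹ := fun v hv => by
  have h1 := h _ (hx v hv)
  have e1 : x * (x⁻¹ * v * x) * x⁻¹ = v := by group
  rw [e1] at h1
  rw [inv_inv, inv_inv]
  calc x⁻¹ * v * x = y⁻¹ * (y * (x⁻¹ * v * x) * y⁻¹) * y := by group
    _ = _ := by rw [← h1]

end Sim

/-- Input of the Baumann argument for `q = 2`. -/
structure In (H T Q V : Subgroup G) {ι : Type w} (N : ι → Subgroup G) (d t r : ι → G) : Prop where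
  TH : T ≤ H
  QT : Q ≤ T
  VQ : V ≤ Q
  Tp : IsPGroup 2 T
  Qn : ∀ h ∈ H, ∀ x ∈ Q, h * x * h⁻¹ ∈ Q
  Vn : ∀ h ∈ H, ∀ x ∈ V, h * x * h⁻¹ ∈ V
  Vsq : ∀ v ∈ V, v ^ 2 = 1
  VcQ : ∀ x ∈ Q, ∀ v ∈ V, x * v = v * x
  two : ∀ x ∈ H, (∀ v ∈ V, x * v = v * x) → (∃ n : ℕ, x ^ 2 ^ n = 1) → x ∈ Q
  tJ : ∀ i, t i ∈ jj T
  rH : ∀ i, r i ∈ H
  Jt : jj T ≤ closure (Set.range t) ⊔ Q
  tsq : ∀ i, Sim V (t i * t i) 1
  tt : ∀ i j, Sim V (t i * t j) (t j * t i)
  tr : ∀ i, Sim V (t i * r i) ((r i)⁻¹ * t i)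
  tr' : ∀ i j, i ≠ j → Sim V (t j * r i) (r i * t j)
  r3 : ∀ i, Sim V (r i * r i * r i) 1
  dN : ∀ i, d i ∈ N i
  d1 : ∀ i, d i ≠ 1
  NV : ∀ i, N i ≤ V
  cardN : ∀ i, Nat.card (N i) = 4
  t_comm : ∀ i, ∀ v ∈ V, t i * v * (t i)⁻¹ = v ∨ t i * v * (t i)⁻¹ = d i * v
  r_comm : ∀ i, ∀ v ∈ V, r i * v * (r i)⁻¹ * v⁻¹ ∈ N i
  r_fix : ∀ i, ∀ v ∈ N i, r i * v * (r i)⁻¹ = v → v = 1
  perm : ∀ x ∈ T, ∀ i, ∃ j, x * d i * x⁻¹ = d j ∧ ∀ v ∈ N i, x * v * x⁻¹ ∈ N j
  field : ∀ x ∈ T, (∀ v ∈ V, (∀ y ∈ jj T, y * v = v * y) → x * v = v * x) →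
    x ∈ closure (Set.range t) ⊔ Q
  off : ∀ A ∈ AA T, Nat.card A * Nat.card ↥(V ⊓ centralizer (A : Set G)) ≤
    Nat.card ↥(A ⊓ Q) * Nat.card V
  max : ∀ X : Subgroup G, T ≤ X → X ≤ H → ∀ i, (∃ x ∈ X, Sim V x (r i)) → H ≤ X

namespace In

variable {H T Q V : Subgroup G} {ι : Type w} {N : ι → Subgroup G} {d t r : ι → G}

theorem Vcomm (h : In H T Q V N d t r) : ∀ v ∈ V, ∀ w ∈ V, v * w = w * v :=
  fun v hv w hw => h.VcQ v (h.VQ hv) w hw

theorem Velem (h : In H T Q V N d t r) : IsElementaryAbelian 2 V :=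
  isElementaryAbelian_iff.2 ⟨h.Vcomm, h.Vsq⟩

theorem H_norm_Q (h : In H T Q V N d t r) [Finite G] : H ≤ normalizer (Q : Set G) := fun g hg =>
  mem_normalizer_of_cj_le (by
    intro x hx
    rw [mem_cj] at hx
    have := h.Qn g hg _ hx
    have e : g * (g⁻¹ * x * g) * g⁻¹ = x := by group
    rwa [e] at this)

theorem Vn' (h : In H T Q V N d t r) {g : G} (hg : g ∈ H) : ∀ v ∈ V, g⁻¹ * v * g ∈ V := by
  intro v hv
  have := h.Vn g⁻¹ (inv_mem hg) v hv
  rwa [inv_inv] at this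

theorem mulself (h : In H T Q V N d t r) {v : G} (hv : v ∈ V) : v * v = 1 := by
  rw [← pow_two]; exact h.Vsq v hv

theorem inv_eq (h : In H T Q V N d t r) {v : G} (hv : v ∈ V) : v⁻¹ = v :=
  inv_eq_of_mul_eq_one_left (h.mulself hv)

theorem dV (h : In H T Q V N d t r) (i : ι) : d i ∈ V := h.NV i (h.dN i)

theorem tT (h : In H T Q V N d t r) (i : ι) : t i ∈ T := jj_le T (h.tJ i)

theorem tH (h : In H T Q V N d t r) (i : ι) : t i ∈ H := h.TH (h.tT i)

theorem cT (h : In H T Q V N d t r) {x : G} (hx : x ∈ T) (hc : ∀ v ∈ V, x * v = v * x) :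
    x ∈ Q := by
  obtain ⟨n, hn⟩ := h.Tp ⟨x, hx⟩
  exact h.two x (h.TH hx) hc ⟨n, by simpa using congrArg Subtype.val hn⟩

/-! ### The action of `t i`, `r i` on `N j` -/

theorem r_N (h : In H T Q V N d t r) (i : ι) {v : G} (hv : v ∈ N i) : r i * v * (r i)⁻¹ ∈ N i := by
  have h1 := mul_mem (h.r_comm i v (h.NV i hv)) hv
  have e : r i * v * (r i)⁻¹ * v⁻¹ * v = r i * v * (r i)⁻¹ := by group
  rwa [e] at h1

theorem t_d (h : In H T Q V N d t r) (i : ι) : t i * d i * (t i)⁻¹ = d i := by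
  rcases h.t_comm i (d i) (h.dV i) with h1 | h1
  · exact h1
  · exfalso
    rw [h.mulself (h.dV i)] at h1
    apply h.d1 i
    have : d i = (t i)⁻¹ * (t i * d i * (t i)⁻¹) * t i := by group
    rw [this, h1]; group

/-- the third element -/
theorem r_d_ne (h : In H T Q V N d t r) (i : ι) : r i * d i * (r i)⁻¹ ≠ d i :=
  fun h1 => h.d1 i (h.r_fix i _ (h.dN i) h1)

theorem r_d_ne_one (h : In H T Q V N d t r) (i : ι) : r i * d i * (r i)⁻¹ ≠ 1 := fun h1 => by
  apply h.d1 i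
  have : d i = (r i)⁻¹ * (r i * d i * (r i)⁻¹) * r i := by group
  rw [this, h1]; group

theorem r3' (h : In H T Q V N d t r) (i : ι) {v : G} (hv : v ∈ V) :
    r i * (r i * (r i * v * (r i)⁻¹) * (r i)⁻¹) * (r i)⁻¹ = v := by
  have h1 := h.r3 i v hv
  have e : r i * (r i * (r i * v * (r i)⁻¹) * (r i)⁻¹) * (r i)⁻¹ =
    r i * r i * r i * v * (r i * r i * r i)⁻¹ := by group
  rw [e, h1]; group

/-- `v v^r v^{r^2} = 1` for `v ∈ N i`. -/
theorem r_prod (h : In H T Q V N d t r) (i : ι) {v : G} (hv : v ∈ N i) :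
    v * (r i * v * (r i)⁻¹) * (r i * (r i * v * (r i)⁻¹) * (r i)⁻¹) = 1 := by
  have h1 := h.r_N i hv
  have h2 := h.r_N i h1
  refine h.r_fix i _ (mul_mem (mul_mem hv h1) h2) ?_
  have e : r i * (v * (r i * v * (r i)⁻¹) * (r i * (r i * v * (r i)⁻¹) * (r i)⁻¹)) * (r i)⁻¹ =
    (r i * v * (r i)⁻¹) * (r i * (r i * v * (r i)⁻¹) * (r i)⁻¹) *
      (r i * (r i * (r i * v * (r i)⁻¹) * (r i)⁻¹) * (r i)⁻¹) := by group
  rw [e, h.r3' i (h.NV i hv)]
  rw [h.Vcomm _ (mul_mem (h.NV i h1) (h.NV i h2)) _ (h.NV i hv)]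
  group

/-- The elements of `N i`. -/
theorem mem_N (h : In H T Q V N d t r) [Finite G] (i : ι) {v : G} (hv : v ∈ N i) :
    v = 1 ∨ v = d i ∨ v = r i * d i * (r i)⁻¹ ∨ v = d i * (r i * d i * (r i)⁻¹) := by
  classical
  by_contra hc
  push Not at hc
  obtain ⟨h1, h2, h3, h4⟩ := hc
  set m := r i * d i * (r i)⁻¹ with hm
  have hmN : m ∈ N i := h.r_N i (h.dN i)
  have hmV := h.NV i hmN
  have hm1 : m ≠ 1 := h.r_d_ne_one i
  have hmd : m ≠ d i := h.r_d_ne i
  let f : Fin 5 → N i := ![1, ⟨d i, h.dN i⟩, ⟨m, hmN⟩, ⟨d i * m, mul_mem (h.dN i) hmN⟩, ⟨v, hv⟩]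
  have hdm1 : d i * m ≠ 1 := fun e => hmd (by
    rw [← h.inv_eq (h.dV i)]; exact (eq_inv_of_mul_eq_one_right e))
  have hf : Function.Injective f := by
    intro a b hab
    have hab' : ((f a : N i) : G) = f b := congrArg Subtype.val hab
    fin_cases a <;> fin_cases b <;> simp [f] at hab' ⊢
    · exact h.d1 i hab'.symm
    · exact hm1 hab'.symm
    · exact hdm1 hab'.symm
    · exact h1 hab'.symm
    · exact h.d1 i hab'
    · exact hmd hab'.symm
    · exact hm1 hab'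
    · exact h2 hab'.symm
    · exact hm1 hab'
    · exact hmd hab'
    · exact h.d1 i hab'
    · exact h3 hab'.symm
    · exact hdm1 hab'
    · exact hm1 hab'
    · exact h.d1 i hab'
    · exact h4 hab'.symm
    · exact h1 hab'
    · exact h2 hab'
    · exact h3 hab'
    · exact h4 hab'
  have h5 := Nat.card_le_card_of_injective f hf
  rw [h.cardN, Nat.card_fin] at h5
  omega

/-- `t i` moves the elements of `N i` outside `⟨d i⟩`. -/
theorem t_m (h : In H T Q V N d t r) (i : ι) :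
    t i * (r i * d i * (r i)⁻¹) * (t i)⁻¹ = d i * (r i * d i * (r i)⁻¹) := by
  set m := r i * d i * (r i)⁻¹ with hm
  have hmV : m ∈ V := h.NV i (h.r_N i (h.dN i))
  rcases h.t_comm i m hmV with h1 | h1
  · exfalso
    have h2 := h.tr i (d i) (h.dV i)
    have e1 : t i * r i * d i * (t i * r i)⁻¹ = t i * m * (t i)⁻¹ := by rw [hm]; group
    have e2 : (r i)⁻¹ * t i * d i * ((r i)⁻¹ * t i)⁻¹ = (r i)⁻¹ * (t i * d i * (t i)⁻¹) * r i := by
      group
    rw [e1, e2, h1, h.t_d] at h2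
    -- `m = r⁻¹ d r`
    have h3 : r i * m * (r i)⁻¹ = d i := by rw [h2]; group
    have h4 := h.r3' i (h.dV i)
    rw [← hm, h3, ← hm] at h4
    exact h.r_d_ne i h4
  · exact h1

theorem t_ne (h : In H T Q V N d t r) [Finite G] (i : ι) {v : G} (hv : v ∈ N i)
    (hfix : t i * v * (t i)⁻¹ = v) : v = 1 ∨ v = d i := by
  have hd0 := h.d1 i
  have hm := h.t_m i
  rcases h.mem_N i hv with h1 | h1 | h1 | h1
  · exact Or.inl h1
  · exact Or.inr h1
  · exfalso
    rw [h1, hm] at hfix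
    exact hd0 (by simpa using hfix)
  · exfalso
    rw [h1] at hfix
    have e : t i * (d i * (r i * d i * (r i)⁻¹)) * (t i)⁻¹ =
      (t i * d i * (t i)⁻¹) * (t i * (r i * d i * (r i)⁻¹) * (t i)⁻¹) := by group
    rw [e, hm, h.t_d] at hfix
    exact hd0 (by simpa using hfix)

theorem t_N (h : In H T Q V N d t r) (i : ι) {v : G} (hv : v ∈ N i) : t i * v * (t i)⁻¹ ∈ N i := by
  rcases h.t_comm i v (h.NV i hv) with h1 | h1
  · rw [h1]; exact hv
  · rw [h1]; exact mul_mem (h.dN i) hv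

/-- `r i` centralises `d j` for `j ≠ i`. -/
theorem r_d' (h : In H T Q V N d t r) {i j : ι} (hij : i ≠ j) : r i * d j * (r i)⁻¹ = d j := by
  set m := r j * d j * (r j)⁻¹ with hm
  have hmV : m ∈ V := h.NV j (h.r_N j (h.dN j))
  have h1 := h.tr' i j hij m hmV
  have e1 : r i * t j * m * (r i * t j)⁻¹ = r i * (t j * m * (t j)⁻¹) * (r i)⁻¹ := by group
  have e2 : t j * r i * m * (t j * r i)⁻¹ = t j * (r i * m * (r i)⁻¹) * (t j)⁻¹ := by group
  rw [e1, e2, h.t_m j, ← hm] at h1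
  have e3 : r i * (d j * m) * (r i)⁻¹ = (r i * d j * (r i)⁻¹) * (r i * m * (r i)⁻¹) := by group
  rw [e3] at h1
  rcases h.t_comm j _ (h.Vn _ (h.rH i) m hmV) with h2 | h2
  · exfalso
    rw [h2] at h1
    have h3 : r i * d j * (r i)⁻¹ = 1 := by simpa using h1.symm
    apply h.d1 j
    have : d j = (r i)⁻¹ * (r i * d j * (r i)⁻¹) * r i := by group
    rw [this, h3]; group
  · rw [h2] at h1
    exact (mul_right_cancel h1).symm

/-- `t j` centralises `N i` for `j ≠ i`. -/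
theorem t_N' (h : In H T Q V N d t r) {i j : ι} (hij : i ≠ j) {v : G} (hv : v ∈ N i) :
    t j * v * (t j)⁻¹ = v := by
  have hvV := h.NV i hv
  have h1 := h.r_N i hv
  have h2 := h.r_N i h1
  have step : ∀ w ∈ N i, t j * w * (t j)⁻¹ = d j * w →
      t j * (r i * w * (r i)⁻¹) * (t j)⁻¹ = d j * (r i * w * (r i)⁻¹) := by
    intro w hw hw'
    have h3 := h.tr' i j hij w (h.NV i hw)
    have e1 : r i * t j * w * (r i * t j)⁻¹ = r i * (t j * w * (t j)⁻¹) * (r i)⁻¹ := by group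
    have e2 : t j * r i * w * (t j * r i)⁻¹ = t j * (r i * w * (r i)⁻¹) * (t j)⁻¹ := by group
    rw [e1, e2, hw'] at h3
    rw [h3]
    have e3 : r i * (d j * w) * (r i)⁻¹ = (r i * d j * (r i)⁻¹) * (r i * w * (r i)⁻¹) := by group
    rw [e3, h.r_d' hij]
  rcases h.t_comm j v hvV with h3 | h3
  · exact h3
  · exfalso
    have h4 := step v hv h3
    have h5 := step _ h1 h4
    have h6 := h.r_prod i hv
    have h7 : t j * (v * (r i * v * (r i)⁻¹) * (r i * (r i * v * (r i)⁻¹) * (r i)⁻¹)) * (t j)⁻¹ =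
        1 := by rw [h6]; group
    have e : t j * (v * (r i * v * (r i)⁻¹) * (r i * (r i * v * (r i)⁻¹) * (r i)⁻¹)) * (t j)⁻¹ =
      (t j * v * (t j)⁻¹) * (t j * (r i * v * (r i)⁻¹) * (t j)⁻¹) *
        (t j * (r i * (r i * v * (r i)⁻¹) * (r i)⁻¹) * (t j)⁻¹) := by group
    rw [e, h3, h4, h5] at h7
    have hd := h.dV j
    have c1 := h.Vcomm v hvV _ hd
    have c2 := h.Vcomm _ (h.NV i h1) _ hd
    set a := r i * v * (r i)⁻¹
    set b := r i * a * (r i)⁻¹
    have e2 : d j * v * (d j * a) * (d j * b) = (d j * d j) * (v * a * b) * d j := by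
      have c3 := h.Vcomm _ (h.NV i h2) _ hd
      calc d j * v * (d j * a) * (d j * b) = d j * (v * d j) * (a * d j) * b := by group
        _ = d j * (d j * v) * (d j * a) * b := by rw [c1, c2]
        _ = d j * d j * (v * d j) * a * b := by group
        _ = d j * d j * (d j * v) * a * b := by rw [c1]
        _ = d j * d j * (d j * (v * a * b)) := by group
        _ = d j * d j * ((v * a * b) * d j) := by
          rw [h.Vcomm _ hd _ (mul_mem (mul_mem hvV (h.NV i h1)) (h.NV i h2))]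
        _ = _ := by group
    rw [e2, h6, h.mulself hd] at h7
    exact h.d1 j (by simpa using h7)

theorem t_d' (h : In H T Q V N d t r) (i j : ι) : t j * d i * (t j)⁻¹ = d i := by
  by_cases hij : i = j
  · subst hij; exact h.t_d i
  · exact h.t_N' hij (h.dN i)

theorem d_inj (h : In H T Q V N d t r) {i j : ι} (hij : d i = d j) : i = j := by
  by_contra hne
  have h1 := h.r_d' hne
  rw [← hij] at h1
  exact h.r_d_ne i h1

/-! ### Elements acting as products of the `t i` -/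

/-- `x` centralises all `d j`, normalises every `N j` and acts on it like `t j` or trivially, has
commutators in `⟨d j⟩`, its square centralises `V`, and it centralises or inverts every `r j`. -/
structure Good (V : Subgroup G) (N : ι → Subgroup G) (d t r : ι → G) (x : G) : Prop where
  fixd : ∀ j, x * d j * x⁻¹ = d j
  actN : ∀ j, (∀ v ∈ N j, x * v * x⁻¹ = v) ∨ ∀ v ∈ N j, x * v * x⁻¹ = t j * v * (t j)⁻¹
  comm : ∀ v ∈ V, x * v * x⁻¹ * v⁻¹ ∈ Subgroup.closure (Set.range d)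
  actr : ∀ j, Sim V (x * r j) (r j * x) ∨ Sim V (x * r j) ((r j)⁻¹ * x)

theorem D_le_V (h : In H T Q V N d t r) : closure (Set.range d) ≤ V := by
  rw [closure_le]
  rintro _ ⟨j, rfl⟩
  exact h.dV j

/-- The subgroup of elements acting as products of the `t i`. -/
def EE (t : ι → G) (Q : Subgroup G) : Subgroup G := closure (Set.range t) ⊔ Q

theorem t_EE (i : ι) : t i ∈ EE t Q := mem_sup_left (subset_closure ⟨i, rfl⟩)

theorem EE_le_T (h : In H T Q V N d t r) : EE t Q ≤ T :=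
  sup_le (by rw [closure_le]; rintro _ ⟨i, rfl⟩; exact h.tT i) h.QT

theorem EE_le_H (h : In H T Q V N d t r) : EE t Q ≤ H := h.EE_le_T.trans h.TH

theorem Q_sim (h : In H T Q V N d t r) {x : G} (hx : x ∈ Q) : Sim V x 1 := fun v hv => by
  rw [h.VcQ x hx v hv]; group

/-- The action of an element of `EE` on `V`, as a product of `t i`. -/
theorem EE_induction (h : In H T Q V N d t r) {P : G → Prop} (h1 : P 1)
    (ht : ∀ i x, x ∈ EE t Q → P x → P (t i * x))
    (hs : ∀ x y, x ∈ EE t Q → y ∈ EE t Q → Sim V x y → P x → P y) {x : G} (hx : x ∈ EE t Q) :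
    P x := by
  obtain ⟨a, ha, b, hb, rfl⟩ := mem_sup_norm (B := Q) (A := closure (Set.range t)) (by
    intro y hy
    have hyH : y ∈ H := h.EE_le_H (mem_sup_left hy)
    rw [mem_normalizer_iff]
    intro z
    refine ⟨fun hz => h.Qn y hyH z hz, fun hz => ?_⟩
    have := h.Qn y⁻¹ (inv_mem hyH) _ hz
    have e : y⁻¹ * (y * z * y⁻¹) * y⁻¹⁻¹ = z := by group
    rwa [e] at this) hx
  have hQV : Sim V (a * b) a := by
    have h2 := (h.Q_sim hb).mul_left a
    rwa [mul_one] at h2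
  have haE : a ∈ EE t Q := mem_sup_left ha
  refine hs a _ haE hx hQV.symm ?_
  clear hQV hx
  induction ha using closure_induction_left with
  | one => exact h1
  | mul_left x hx y hy ih =>
    obtain ⟨i, rfl⟩ := hx
    exact ht i y (mem_sup_left hy) (ih (mem_sup_left hy))
  | inv_mul_cancel x hx y hy ih =>
    obtain ⟨i, rfl⟩ := hx
    have hyE : y ∈ EE t Q := mem_sup_left hy
    have h3 : Sim V (t i * y) ((t i)⁻¹ * y) := by
      have h4 : Sim V (t i * t i * y) (1 * y) :=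
        (h.tsq i).mul_right (h.Vn y (h.EE_le_H hyE))
      have h5 := h4.mul_left (t i)⁻¹
      have e1 : (t i)⁻¹ * (t i * t i * y) = t i * y := by group
      rwa [e1, one_mul] at h5
    exact hs _ _ (mul_mem (t_EE i) hyE) (mul_mem (inv_mem (t_EE i)) hyE) h3 (ht i y hyE (ih hyE))

theorem EE_good (h : In H T Q V N d t r) {x : G} (hx : x ∈ EE t Q) : Good V N d t r x := by
  refine h.EE_induction (P := Good V N d t r) ?_ ?_ ?_ hx
  · exact ⟨fun j => by group, fun j => Or.inl fun v _ => by group, fun v _ => by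
      have e : (1 : G) * v * 1⁻¹ * v⁻¹ = 1 := by group
      rw [e]; exact one_mem _, fun j => Or.inl (by rw [one_mul, mul_one]; exact Sim.rfl')⟩
  · intro i x hxE hx
    have hxH := h.EE_le_H hxE
    refine ⟨fun j => ?_, fun j => ?_, fun v hv => ?_, fun j => ?_⟩
    · have e : t i * x * d j * (t i * x)⁻¹ = t i * (x * d j * x⁻¹) * (t i)⁻¹ := by group
      rw [e, hx.fixd j, h.t_d' j i]
    · by_cases hij : j = i
      · subst hij
        rcases hx.actN j with h1 | h1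
        · refine Or.inr fun v hv => ?_
          have e : t j * x * v * (t j * x)⁻¹ = t j * (x * v * x⁻¹) * (t j)⁻¹ := by group
          rw [e, h1 v hv]
        · refine Or.inl fun v hv => ?_
          have e : t j * x * v * (t j * x)⁻¹ = t j * (x * v * x⁻¹) * (t j)⁻¹ := by group
          rw [e, h1 v hv]
          have e2 : t j * (t j * v * (t j)⁻¹) * (t j)⁻¹ = t j * t j * v * (t j * t j)⁻¹ := by group
          rw [e2, h.tsq j v (h.NV j hv)]; group
      · rcases hx.actN j with h1 | h1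
        · refine Or.inl fun v hv => ?_
          have e : t i * x * v * (t i * x)⁻¹ = t i * (x * v * x⁻¹) * (t i)⁻¹ := by group
          rw [e, h1 v hv, h.t_N' hij hv]
        · refine Or.inr fun v hv => ?_
          have e : t i * x * v * (t i * x)⁻¹ = t i * (x * v * x⁻¹) * (t i)⁻¹ := by group
          rw [e, h1 v hv, h.t_N' hij (h.t_N j hv)]
    · have h1 := hx.comm v hv
      have hw : x * v * x⁻¹ ∈ V := h.Vn x hxH v hv
      have e : t i * x * v * (t i * x)⁻¹ * v⁻¹ =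
        (t i * (x * v * x⁻¹) * (t i)⁻¹ * (x * v * x⁻¹)⁻¹) * (x * v * x⁻¹ * v⁻¹) := by group
      rw [e]
      refine mul_mem ?_ h1
      rcases h.t_comm i _ hw with h2 | h2
      · rw [h2, mul_inv_cancel]; exact one_mem _
      · rw [h2, mul_inv_cancel_right]; exact subset_closure ⟨i, rfl⟩
    · have hrN := h.Vn _ (h.rH j)
      -- `t i * (x * r j)`
      rcases hx.actr j with h1 | h1
      · have h2 : Sim V (t i * x * r j) (t i * r j * x) := by
          have := h1.mul_left (t i)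
          rwa [← mul_assoc, ← mul_assoc] at this
        by_cases hij : j = i
        · subst hij
          refine Or.inr (h2.trans ?_)
          have := (h.tr j).mul_right (h.Vn x hxH)
          rwa [mul_assoc ((r j)⁻¹)] at this
        · refine Or.inl (h2.trans ?_)
          have := (h.tr' j i hij).mul_right (h.Vn x hxH)
          rwa [mul_assoc (r j)] at this
      · have h2 : Sim V (t i * x * r j) (t i * (r j)⁻¹ * x) := by
          have := h1.mul_left (t i)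
          rwa [← mul_assoc, ← mul_assoc] at this
        have hriV := h.Vn _ (inv_mem (h.rH j))
        by_cases hij : j = i
        · subst hij
          refine Or.inl (h2.trans ?_)
          -- `t r⁻¹ ~ r t`
          have h3 : Sim V (t j * (r j)⁻¹) (r j * t j) := by
            have h4 := ((h.tr j).mul_left (r j)).mul_right hriV
            have e1 : r j * (t j * r j) * (r j)⁻¹ = r j * t j := by group
            have e2 : r j * ((r j)⁻¹ * t j) * (r j)⁻¹ = t j * (r j)⁻¹ := by group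
            rw [e1, e2] at h4
            exact h4.symm
          have := h3.mul_right (h.Vn x hxH)
          rwa [mul_assoc (r j)] at this
        · refine Or.inr (h2.trans ?_)
          have h3 : Sim V (t i * (r j)⁻¹) ((r j)⁻¹ * t i) := by
            have h4 := ((h.tr' j i hij).mul_left (r j)⁻¹).mul_right hriV
            have e1 : (r j)⁻¹ * (t i * r j) * (r j)⁻¹ = (r j)⁻¹ * t i := by group
            have e2 : (r j)⁻¹ * (r j * t i) * (r j)⁻¹ = t i * (r j)⁻¹ := by group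
            rw [e1, e2] at h4
            exact h4.symm
          have := h3.mul_right (h.Vn x hxH)
          rwa [mul_assoc ((r j)⁻¹)] at this
  · intro x y hxE hyE hxy hx
    have hxH := h.EE_le_H hxE
    refine ⟨fun j => ?_, fun j => ?_, fun v hv => ?_, fun j => ?_⟩
    · rw [← hxy _ (h.dV j), hx.fixd j]
    · rcases hx.actN j with h1 | h1
      · exact Or.inl fun v hv => by rw [← hxy _ (h.NV j hv), h1 v hv]
      · exact Or.inr fun v hv => by rw [← hxy _ (h.NV j hv), h1 v hv]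
    · rw [← hxy v hv]; exact hx.comm v hv
    · have hrN := h.Vn _ (h.rH j)
      rcases hx.actr j with h1 | h1
      · exact Or.inl (((hxy.mul_right hrN).symm.trans h1).trans (hxy.mul_left _))
      · exact Or.inr (((hxy.mul_right hrN).symm.trans h1).trans (hxy.mul_left _))

theorem EE_sq (h : In H T Q V N d t r) {x : G} (hx : x ∈ EE t Q) {v : G} (hv : v ∈ V) :
    x * x * v * (x * x)⁻¹ = v := by
  have hg := h.EE_good hx
  have h1 := hg.comm v hv
  have h2 : ∀ y ∈ closure (Set.range d), x * y * x⁻¹ = y := by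
    intro y hy
    induction hy using closure_induction with
    | mem y hy => obtain ⟨j, rfl⟩ := hy; exact hg.fixd j
    | one => group
    | mul a b _ _ ha hb =>
      have e : x * (a * b) * x⁻¹ = (x * a * x⁻¹) * (x * b * x⁻¹) := by group
      rw [e, ha, hb]
    | inv a _ ha =>
      have e : x * a⁻¹ * x⁻¹ = (x * a * x⁻¹)⁻¹ := by group
      rw [e, ha]
  have h3 := h2 _ h1
  have hcV : x * v * x⁻¹ * v⁻¹ ∈ V := h.D_le_V h1
  have e1 : x * x * v * (x * x)⁻¹ = x * (x * v * x⁻¹ * v⁻¹) * x⁻¹ * (x * v * x⁻¹ * v⁻¹) * v := by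
    group
  rw [e1, h3, h.mulself hcV, one_mul]

/-! ### The Baumann argument -/

theorem cA_le (_h : In H T Q V N d t r) [Finite G] {A : Subgroup G} (hA : A ∈ AA T) :
    V ⊓ centralizer (A : Set G) ≤ A := by
  rintro v ⟨hv, hvc⟩
  exact mem_AA_of_comm hA (_h.QT (_h.VQ hv)) (_h.Vsq v hv) fun a ha => mem_centralizer_iff.1 hvc a ha

/-- `(A ∩ Q) V` is again a member of `A(T)`. -/
theorem replace (h : In H T Q V N d t r) [Finite G] {A : Subgroup G} (hA : A ∈ AA T) :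
    (A ⊓ Q) ⊔ V ∈ AA T := by
  have hc : ∀ a ∈ A ⊓ Q, ∀ v ∈ V, a * v = v * a := fun a ha v hv => h.VcQ a ha.2 v hv
  have h1 : IsElementaryAbelian 2 ((A ⊓ Q) ⊔ V : Subgroup G) :=
    isElementaryAbelian_sup (isElementaryAbelian_mono hA.1 inf_le_left) h.Velem
      fun v hv => mem_centralizer_iff.2 fun a ha => hc a ha v hv
  rw [mem_AA_iff]
  refine ⟨h1, sup_le (inf_le_right.trans h.QT) (h.VQ.trans h.QT), ?_⟩
  have h2 := card_sup_comm hc
  have h3 := h.off A hA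
  have h4 : Nat.card ↥((A ⊓ Q) ⊓ V) ≤ Nat.card ↥(V ⊓ centralizer (A : Set G)) :=
    Subgroup.card_le_of_le fun v hv => ⟨hv.2, mem_centralizer_iff.2 fun a ha =>
      elem_comm hA.1 a ha v hv.1.1⟩
  rw [← h2] at h3
  rw [mm_eq hA]
  have hp : 0 < Nat.card ↥((A ⊓ Q) ⊓ V) := Nat.card_pos
  exact Nat.le_of_mul_le_mul_right ((Nat.mul_le_mul_left _ h4).trans h3) hp

theorem exists_AQ (h : In H T Q V N d t r) [Finite G] : ∃ A ∈ AA T, A ≤ Q ∧ V ≤ A := by
  obtain ⟨A, hA⟩ := AA_nonempty T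
  exact ⟨_, h.replace hA, sup_le inf_le_right h.VQ, le_sup_right⟩

theorem Z_le_Q (h : In H T Q V N d t r) [Finite G] : zj T ≤ Q := by
  obtain ⟨A, hA, hAQ, -⟩ := h.exists_AQ
  exact (zj_le_AA hA).trans hAQ

theorem mm_le (h : In H T Q V N d t r) [Finite G] : mm T ≤ mm Q := by
  obtain ⟨A, hA, hAQ, -⟩ := h.exists_AQ
  rw [mm_eq hA]
  exact card_le_mm hA.1 hAQ

theorem AA_of_le (h : In H T Q V N d t r) {A : Subgroup G} (hA : A ∈ AA T)
    (hAQ : A ≤ Q) : A ∈ AA Q :=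
  ⟨hA.1, hAQ, fun B hB hBQ => hA.2.2 B hB (hBQ.trans h.QT)⟩

theorem jjQ_le (h : In H T Q V N d t r) [Finite G] : jj Q ≤ jj T := jj_mono h.QT h.mm_le

theorem Z_le_zjQ (h : In H T Q V N d t r) [Finite G] : zj T ≤ zj Q := by
  intro z hz
  obtain ⟨A, hA, hAQ, -⟩ := h.exists_AQ
  have hz' := mem_zj.1 hz
  exact mem_zj.2 ⟨le_jj (h.AA_of_le hA hAQ) (zj_le_AA hA hz), hz'.2.1,
    fun y hy => hz'.2.2 y (h.jjQ_le hy)⟩

theorem V_le_zjQ (h : In H T Q V N d t r) [Finite G] : V ≤ zj Q := by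
  intro v hv
  obtain ⟨A, hA, hAQ, hVA⟩ := h.exists_AQ
  exact mem_zj.2 ⟨le_jj (h.AA_of_le hA hAQ) (hVA hv), h.Vsq v hv,
    fun y hy => h.VcQ y (jj_le Q hy) v hv⟩

/-- `zj Q = V C_{zj Q}(A)`. -/
theorem split_A (h : In H T Q V N d t r) [Finite G] {A : Subgroup G} (hA : A ∈ AA T)
    {y : G} (hy : y ∈ zj Q) :
    ∃ v ∈ V, ∃ c ∈ zj Q, (∀ a ∈ A, a * c = c * a) ∧ y = v * c := by
  have hA' := h.replace hA
  have hA'Q : (A ⊓ Q) ⊔ V ≤ Q := sup_le inf_le_right h.VQ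
  have hAj : A ⊓ Q ≤ jj Q := le_sup_left.trans (le_jj (h.AA_of_le hA' hA'Q))
  have hc : ∀ a ∈ A ⊓ Q, ∀ z ∈ zj Q, a * z = z * a := fun a ha z hz =>
    (mem_zj.1 hz).2.2 a (hAj ha)
  have h1 : IsElementaryAbelian 2 ((A ⊓ Q) ⊔ zj Q : Subgroup G) :=
    isElementaryAbelian_sup (isElementaryAbelian_mono hA.1 inf_le_left) (Bau.In.zj_elem Q)
      fun v hv => mem_centralizer_iff.2 fun a ha => hc a ha v hv
  have h2 := hA.2.2 _ h1 (sup_le (inf_le_right.trans h.QT) ((Bau.In.zj_le Q).trans h.QT))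
  have h3 := card_sup_comm hc
  set C := (A ⊓ Q) ⊓ zj Q with hC
  have hVC : ∀ v ∈ V, ∀ c ∈ C, v * c = c * v := fun v hv c hc' => (h.VcQ c hc'.1.2 v hv).symm
  have h5 := card_sup_comm hVC
  have h6 : Nat.card ↥(V ⊓ C) ≤ Nat.card ↥(V ⊓ centralizer (A : Set G)) :=
    Subgroup.card_le_of_le fun v hv => ⟨hv.1, mem_centralizer_iff.2 fun a ha =>
      elem_comm hA.1 a ha v hv.2.1.1⟩
  have h7 := h.off A hA
  set c := Nat.card ↥(V ⊓ centralizer (A : Set G)) with hcdef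
  have hcp : 0 < c := Nat.card_pos
  have hAp : 0 < Nat.card ↥(A ⊓ Q) := Nat.card_pos
  have h8 : Nat.card (zj Q) ≤ Nat.card ↥(V ⊔ C) := by
    have e1 : (Nat.card ↥(A ⊓ Q) * c) * Nat.card (zj Q) ≤
        (Nat.card ↥(A ⊓ Q) * c) * Nat.card ↥(V ⊔ C) := by
      calc (Nat.card ↥(A ⊓ Q) * c) * Nat.card (zj Q)
          = (Nat.card ↥(A ⊓ Q) * Nat.card (zj Q)) * c := by ring
        _ = Nat.card ↥((A ⊓ Q) ⊔ zj Q : Subgroup G) * Nat.card C * c := by rw [← h3]
        _ ≤ Nat.card A * Nat.card C * c :=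
            Nat.mul_le_mul_right _ (Nat.mul_le_mul_right _ h2)
        _ = (Nat.card A * c) * Nat.card C := by ring
        _ ≤ (Nat.card ↥(A ⊓ Q) * Nat.card V) * Nat.card C := Nat.mul_le_mul_right _ h7
        _ = Nat.card ↥(A ⊓ Q) * (Nat.card V * Nat.card C) := by ring
        _ = Nat.card ↥(A ⊓ Q) * (Nat.card ↥(V ⊔ C) * Nat.card ↥(V ⊓ C)) := by rw [h5]
        _ ≤ Nat.card ↥(A ⊓ Q) * (Nat.card ↥(V ⊔ C) * c) :=
            Nat.mul_le_mul_left _ (Nat.mul_le_mul_left _ h6)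
        _ = _ := by ring
    exact Nat.le_of_mul_le_mul_left e1 (Nat.mul_pos hAp hcp)
  have h9 : V ⊔ C = zj Q :=
    Subgroup.eq_of_le_of_card_ge (sup_le h.V_le_zjQ inf_le_right) h8
  rw [← h9] at hy
  obtain ⟨v, hv, c, hc', rfl⟩ := mem_sup_comm hVC hy
  exact ⟨v, hv, c, hc'.2, fun a ha => elem_comm hA.1 a ha c hc'.1.1, rfl⟩

theorem zjQ_norm (h : In H T Q V N d t r) [Finite G] {g : G} (hg : g ∈ H) {y : G}
    (hy : y ∈ zj Q) : g * y * g⁻¹ ∈ zj Q :=
  (mem_normalizer_iff.1 (normalizer_le_of_cj (F := zj) zj_cj Q (h.H_norm_Q hg)) y).1 hy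

theorem jj_act (h : In H T Q V N d t r) [Finite G] : ∀ j ∈ jj T, ∀ y ∈ zj Q,
    j * y * j⁻¹ * y⁻¹ ∈ V := by
  let S : Subgroup G :=
    { carrier := {g | g ∈ H ∧ ∀ y ∈ zj Q, g * y * g⁻¹ * y⁻¹ ∈ V}
      mul_mem' := by
        rintro a b ⟨ha, ha'⟩ ⟨hb, hb'⟩
        refine ⟨mul_mem ha hb, fun y hy => ?_⟩
        have e : a * b * y * (a * b)⁻¹ * y⁻¹ =
          (a * (b * y * b⁻¹ * y⁻¹) * a⁻¹) * (a * y * a⁻¹ * y⁻¹) := by group
        rw [e]
        exact mul_mem (h.Vn a ha _ (hb' y hy)) (ha' y hy)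
      one_mem' := ⟨one_mem _, fun y _ => by simp⟩
      inv_mem' := by
        rintro a ⟨ha, ha'⟩
        refine ⟨inv_mem ha, fun y hy => ?_⟩
        have e : a⁻¹ * y * a⁻¹⁻¹ * y⁻¹ = a⁻¹ * (a * y * a⁻¹ * y⁻¹)⁻¹ * a⁻¹⁻¹ := by group
        rw [e]
        exact h.Vn _ (inv_mem ha) _ (inv_mem (ha' y hy)) }
  have hS : jj T ≤ S := by
    rw [jj_eq]
    refine sSup_le fun A hA => fun a ha => ⟨h.TH (hA.2.1 ha), fun y hy => ?_⟩
    obtain ⟨v, hv, c, hc, hac, rfl⟩ := h.split_A hA hy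
    have e : a * (v * c) * a⁻¹ * (v * c)⁻¹ = a * v * a⁻¹ * (a * c * a⁻¹) * c⁻¹ * v⁻¹ := by group
    have e2 : a * c * a⁻¹ = c := by rw [hac a ha]; group
    rw [e, e2]
    have e3 : a * v * a⁻¹ * c * c⁻¹ * v⁻¹ = (a * v * a⁻¹) * v⁻¹ := by group
    rw [e3]
    exact mul_mem (h.Vn a (h.TH (hA.2.1 ha)) v hv) (inv_mem hv)
  exact fun j hj => (hS hj).2

/-! ### The group `Y = V Z` -/

theorem ZcV (h : In H T Q V N d t r) [Finite G] : ∀ z ∈ zj T, ∀ v ∈ V, z * v = v * z :=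
  fun z hz v hv => h.VcQ z (h.Z_le_Q hz) v hv

/-- `Y = Z V`. -/
def Y (T V : Subgroup G) : Subgroup G := zj T ⊔ V

theorem mem_Y (h : In H T Q V N d t r) [Finite G] {y : G} (hy : y ∈ Y T V) :
    ∃ z ∈ zj T, ∃ v ∈ V, y = z * v := mem_sup_comm h.ZcV hy

theorem Z_le_Y (T V : Subgroup G) : zj T ≤ Y T V := le_sup_left

theorem V_le_Y (T V : Subgroup G) : V ≤ Y T V := le_sup_right

theorem Y_le_Q (h : In H T Q V N d t r) [Finite G] : Y T V ≤ Q := sup_le h.Z_le_Q h.VQ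

theorem Y_elem (h : In H T Q V N d t r) [Finite G] : IsElementaryAbelian 2 (Y T V) :=
  isElementaryAbelian_sup (Bau.In.zj_elem T) h.Velem
    fun v hv => mem_centralizer_iff.2 fun z hz => h.ZcV z hz v hv

/-- A conjugate of `J(T)` and `T` generate `H`. -/
theorem max' (h : In H T Q V N d t r) (i : ι) {X : Subgroup G} (hT : T ≤ X) (hX : X ≤ H)
    (hx : r i * t i * (r i)⁻¹ ∈ X) : H ≤ X := by
  refine h.max X hT hX i ⟨(r i * t i * (r i)⁻¹ * (t i)⁻¹) * (r i * t i * (r i)⁻¹ * (t i)⁻¹),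
    mul_mem (mul_mem hx (inv_mem (hT (h.tT i)))) (mul_mem hx (inv_mem (hT (h.tT i)))), ?_⟩
  have hrV := h.Vn _ (h.rH i)
  have hriV := h.Vn _ (inv_mem (h.rH i))
  have htV := h.Vn _ (h.tH i)
  have htiV := h.Vn _ (inv_mem (h.tH i))
  -- `t r⁻¹ ~ r t`
  have h3 : Sim V (t i * (r i)⁻¹) (r i * t i) := by
    have h4 := ((h.tr i).mul_left (r i)).mul_right hriV
    have e1 : r i * (t i * r i) * (r i)⁻¹ = r i * t i := by group
    have e2 : r i * ((r i)⁻¹ * t i) * (r i)⁻¹ = t i * (r i)⁻¹ := by group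
    rw [e1, e2] at h4
    exact h4.symm
  have h4 : Sim V (r i * t i * (r i)⁻¹ * (t i)⁻¹) (r i * r i) := by
    have h5 := (h3.mul_left (r i)).mul_right htiV
    have e1 : r i * (t i * (r i)⁻¹) * (t i)⁻¹ = r i * t i * (r i)⁻¹ * (t i)⁻¹ := by group
    have e2 : r i * (r i * t i) * (t i)⁻¹ = r i * r i := by group
    rwa [e1, e2] at h5
  have h5 : Sim V ((r i * t i * (r i)⁻¹ * (t i)⁻¹) * (r i * t i * (r i)⁻¹ * (t i)⁻¹))
      (r i * r i * (r i * r i)) := h4.mul (fun v hv => h.Vn _ (mul_mem (mul_mem (mul_mem (h.rH i)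
        (h.tH i)) (inv_mem (h.rH i))) (inv_mem (h.tH i))) v hv) h4
  refine h5.trans ?_
  have h6 := (h.r3 i).mul_right hrV
  rw [one_mul] at h6
  have e : r i * r i * (r i * r i) = r i * r i * r i * r i := by group
  rwa [e]

/-- `Y` is normal in `H`. -/
theorem Y_norm (h : In H T Q V N d t r) [Finite G] (i : ι) :
    ∀ g ∈ H, ∀ y ∈ Y T V, g * y * g⁻¹ ∈ Y T V := by
  let M : Subgroup G := H ⊓ normalizer ((Y T V : Subgroup G) : Set G)
  have hTN : T ≤ M := by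
    intro t ht
    refine ⟨h.TH ht, mem_normalizer_of_cj_le ?_⟩
    rw [cj, Y, Subgroup.map_sup]
    refine sup_le ?_ ?_
    · rintro _ ⟨z, hz, rfl⟩
      exact Z_le_Y T V (Bau.In.T_norm_Z T ht hz)
    · rintro _ ⟨v, hv, rfl⟩
      exact V_le_Y T V (h.Vn t (h.TH ht) v hv)
  have hx : r i * t i * (r i)⁻¹ ∈ M := by
    have hg := h.rH i
    have hj := h.tJ i
    have hxH : r i * t i * (r i)⁻¹ ∈ H := mul_mem (mul_mem hg (h.tH i)) (inv_mem hg)
    refine ⟨hxH, mem_normalizer_of_cj_le ?_⟩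
    rw [cj, Y, Subgroup.map_sup]
    refine sup_le ?_ ?_
    · rintro _ ⟨z, hz, rfl⟩
      simp only [MulEquiv.toMonoidHom_eq_coe, MonoidHom.coe_coe, MulAut.conj_apply]
      have hz1 : (r i)⁻¹ * z * r i ∈ zj Q := by
        have := h.zjQ_norm (inv_mem hg) (h.Z_le_zjQ hz)
        rwa [inv_inv] at this
      have h2 := h.Vn _ hg _ (h.jj_act _ hj _ hz1)
      have e : r i * t i * (r i)⁻¹ * z * (r i * t i * (r i)⁻¹)⁻¹ =
        r i * (t i * ((r i)⁻¹ * z * r i) * (t i)⁻¹ * ((r i)⁻¹ * z * r i)⁻¹) * (r i)⁻¹ * z := by group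
      rw [e]
      exact mul_mem (V_le_Y T V h2) (Z_le_Y T V hz)
    · rintro _ ⟨v, hv, rfl⟩
      exact V_le_Y T V (h.Vn _ hxH v hv)
  have hH := h.max' i hTN inf_le_left hx
  exact fun g hg y hy => (mem_normalizer_iff.1 (hH hg).2 y).1 hy

theorem d_mem_Z (h : In H T Q V N d t r) [Finite G] (i : ι) : d i ∈ zj T := by
  have hc : ∀ y ∈ jj T, y * d i = d i * y := fun y hy => by
    have h1 := (h.EE_good (h.Jt hy)).fixd i
    calc y * d i = (y * d i * y⁻¹) * y := by group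
      _ = _ := by rw [h1]
  exact mem_zj.2 ⟨mem_jj_of_comm (h.QT (h.VQ (h.dV i))) (h.Vsq _ (h.dV i)) hc, h.Vsq _ (h.dV i), hc⟩

theorem D_le_Z (h : In H T Q V N d t r) [Finite G] : closure (Set.range d) ≤ zj T := by
  rw [closure_le]
  rintro _ ⟨j, rfl⟩
  exact h.d_mem_Z j

theorem t_bau (h : In H T Q V N d t r) (i : ι) : t i ∈ bau T := jj_le_bau T (h.tJ i)

theorem bau_EE (h : In H T Q V N d t r) [Finite G] : bau T ≤ EE t Q := fun b hb =>
  h.field b (bau_le T hb) fun v hv hc => ((mem_bau.1 hb).2 v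
    (mem_zj.2 ⟨mem_jj_of_comm (h.QT (h.VQ hv)) (h.Vsq v hv) hc, h.Vsq v hv, hc⟩)).symm

theorem bau_H (h : In H T Q V N d t r) : bau T ≤ H := (bau_le T).trans h.TH

/-- `Q* = B ∩ Q = C_T(Y)`. -/
theorem mem_star_iff (h : In H T Q V N d t r) [Finite G] {x : G} :
    x ∈ bau T ⊓ Q ↔ x ∈ T ∧ ∀ y ∈ Y T V, x * y = y * x := by
  constructor
  · rintro ⟨h1, h2⟩
    refine ⟨bau_le T h1, fun y hy => ?_⟩
    obtain ⟨z, hz, v, hv, rfl⟩ := h.mem_Y hy
    have e1 : z * x = x * z := (mem_bau.1 h1).2 z hz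
    have e2 : x * v = v * x := h.VcQ x h2 v hv
    calc x * (z * v) = (x * z) * v := by group
      _ = z * (x * v) := by rw [← e1]; group
      _ = z * v * x := by rw [e2]; group
  · rintro ⟨h1, h2⟩
    exact ⟨mem_bau.2 ⟨h1, fun z hz => (h2 z (Z_le_Y T V hz)).symm⟩,
      h.cT h1 fun v hv => h2 v (V_le_Y T V hv)⟩

/-- `Q* = B ∩ Q` is normal in `H`. -/
theorem star_norm (h : In H T Q V N d t r) [Finite G] (i : ι) :
    ∀ g ∈ H, ∀ x ∈ bau T ⊓ Q, g * x * g⁻¹ ∈ bau T ⊓ Q := by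
  intro g hg x hx
  have h1 := h.mem_star_iff.1 hx
  refine h.mem_star_iff.2 ⟨h.QT (h.Qn g hg x hx.2), fun y hy => ?_⟩
  have hy' : g⁻¹ * y * g ∈ Y T V := by
    have := h.Y_norm i g⁻¹ (inv_mem hg) y hy
    rwa [inv_inv] at this
  have h2 := h1.2 _ hy'
  calc g * x * g⁻¹ * y = g * (x * (g⁻¹ * y * g)) * g⁻¹ := by group
    _ = g * ((g⁻¹ * y * g) * x) * g⁻¹ := by rw [h2]
    _ = y * (g * x * g⁻¹) := by group

end In

end Cfsg.Agent.Omega.SQ1.BauS
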