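import Cfsg.Agent.Omega.SQ1.Match

/-!
# SQ1: the structure of one block after the matching

For a block `L` over `B` (structure `PushUp.Dat`) which has a noncommuting conjugate:
`V = Z Z^l` for moving `l`, `[v, b] ∈ C(L)` only in the trivial cases.
(bb OMEGA #12483.)
-/

set_option autoImplicit false

namespace Cfsg.Agent.Omega.SQ1.Block

open Cfsg.Agent.MinSimple.PushUp Cfsg.Agent.Omega.PushUp Cfsg.Agent.Omega.SQ1.Match

variable {G : Type*} [Group G]

/-- If `U ≤ B` covers as many cosets of `Q` as `B`, then `B = U Q`. -/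
theorem exists_mul_of_relIndex [Finite G] {Q B U : Subgroup G} (hUB : U ≤ B)
    (hle : Q.relIndex B ≤ Q.relIndex U) {b : G} (hb : b ∈ B) :
    ∃ u ∈ U, ∃ q ∈ Q, b = u * q := by
  classical
  let f := Subgroup.quotientSubgroupOfEmbeddingOfLE Q hUB
  have hbij : Function.Bijective f := Function.Injective.bijective_of_nat_card_le f.injective hle
  obtain ⟨x, hx⟩ := hbij.2 (QuotientGroup.mk (⟨b, hb⟩ : B))
  obtain ⟨u, rfl⟩ := QuotientGroup.mk_surjective x
  have h1 : (QuotientGroup.mk (⟨u.1, hUB u.2⟩ : B) : B ⧸ Q.subgroupOf B) =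
      QuotientGroup.mk (⟨b, hb⟩ : B) := hx
  rw [QuotientGroup.eq] at h1
  refine ⟨u, u.2, (u : G)⁻¹ * b, ?_, by simp⟩
  simpa [Subgroup.mem_subgroupOf] using h1

/-- comparison of indices by an elementwise injection -/
theorem relIndex_le_of_map [Finite G] {Q B F Z : Subgroup G} (f : G → G)
    (hf : ∀ b ∈ B, f b ∈ Z)
    (hinj : ∀ b ∈ B, ∀ c ∈ B, (f b)⁻¹ * f c ∈ F → b⁻¹ * c ∈ Q) :
    Q.relIndex B ≤ F.relIndex Z := by
  classical
  have : Function.Injective (fun x : B ⧸ Q.subgroupOf B =>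
      (QuotientGroup.mk (⟨f (Quotient.out x : B), hf _ (Quotient.out x : B).2⟩ : Z) :
        Z ⧸ F.subgroupOf Z)) := by
    intro x y hxy
    simp only at hxy
    rw [QuotientGroup.eq, Subgroup.mem_subgroupOf] at hxy
    have h1 := hinj _ (Quotient.out x : B).2 _ (Quotient.out y : B).2 (by simpa using hxy)
    have h2 : (QuotientGroup.mk (Quotient.out x : B) : B ⧸ Q.subgroupOf B) =
        QuotientGroup.mk (Quotient.out y : B) := by
      rw [QuotientGroup.eq, Subgroup.mem_subgroupOf]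
      simpa using h1
    rwa [QuotientGroup.out_eq', QuotientGroup.out_eq'] at h2
  exact Nat.card_le_card_of_injective _ this

theorem Dm_relIndex (g : G) (H K : Subgroup G) : (Dm H g).relIndex (Dm K g) = H.relIndex K :=
  Subgroup.relIndex_map_map_of_injective _ _ (MulAut.conj g).injective

theorem Dm_le_iff {g : G} {H K : Subgroup G} : Dm H g ≤ K ↔ ∀ x ∈ H, cj g x ∈ K := by
  constructor
  · intro h x hx; exact h (cj_mem_Dm hx)
  · intro h x hx
    rw [mem_Dm] at hx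
    have := h _ hx
    rwa [cj_cj_inv] at this

theorem Dm_eq_of [Finite G] {g : G} {H : Subgroup G} (h : ∀ x ∈ H, cj g x ∈ H) : Dm H g = H := by
  apply Subgroup.eq_of_le_of_card_ge (Dm_le_iff.2 h)
  rw [Dm, Subgroup.card_map_of_injective (MulAut.conj g).injective]

variable {A T L B Q V Z D : Subgroup G}

section dat

variable (h : Dat A T L B Q V Z D)

include h

/-- `|V : Z| = |B : Q|` -/
theorem idx_eq [Finite G] : Z.relIndex V = Q.relIndex B := by
  apply le_antisymm _ h.card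
  obtain ⟨t, ht, v, hv, u, hu, hne⟩ := h.exists_noncommuting
  have hc : ∀ m < 0, ∀ w ∈ W A L m, Com V w := fun m hm => absurd hm (Nat.not_lt_zero m)
  exact h.crit_card hc (show t ∈ W A L 0 from ht) (fun hcom => hne (hcom v hv u hu))

/-- `Z ∩ Z^m ≤ C(L)` for moving `m` -/
theorem cent_inter {m : G} (hm : m ∈ L) (hmv : Mv D Z m) {z : G} (hz : z ∈ Z)
    (hz' : cj m⁻¹ z ∈ Z) {y : G} (hy : y ∈ L) : y * z = z * y := by
  have hle : L ≤ Subgroup.centralizer {z} := by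
    apply h.gen m hm hmv
    · intro b hb
      rw [Subgroup.mem_centralizer_iff]
      intro x hx
      rw [Set.mem_singleton_iff] at hx
      rw [hx]
      exact (h.BcZ b hb z hz).symm
    · intro b hb
      rw [Subgroup.mem_centralizer_iff]
      intro x hx
      rw [Set.mem_singleton_iff] at hx
      rw [hx]
      have h1 := (cj_comm (g := m)).2 (h.BcZ b hb _ hz')
      rw [cj_cj_inv] at h1
      exact h1.symm
  exact (Subgroup.mem_centralizer_iff.1 (hle hy) z rfl).symm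

/-- an element of `V` in a conjugate of `Z` -/
theorem inj_aux {l : G} (hl : l ∈ L) (hmv : Mv D Z l) {z : G} (hz : z ∈ Z) {b : G} (hb : b ∈ B)
    (hf : ∀ y ∈ L, y * (cj l z * b * (cj l z)⁻¹ * b⁻¹) = (cj l z * b * (cj l z)⁻¹ * b⁻¹) * y) :
    b ∈ Q ∨ cj l z ∈ Z := by
  by_cases hbQ : b ∈ Q
  · exact Or.inl hbQ
  right
  have hm := h.ti l hl hmv b hb hbQ
  have hmL : l⁻¹ * b * l ∈ L := L.mul_mem (L.mul_mem (L.inv_mem hl) (h.BL hb)) hl
  set f := cj l z * b * (cj l z)⁻¹ * b⁻¹ with hfd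
  have hzV : cj l z ∈ V := h.cjV hl (h.ZV hz)
  have hfD : f ∈ D := h.comm _ hzV b hb
  have hfZ : f ∈ Z := h.DZ hfD
  -- `cj b (cj l z) = f⁻¹ * cj l z`
  have e1 : cj b (cj l z) = f⁻¹ * cj l z := by rw [hfd]; simp [cj, mul_assoc]
  have e2 : cj l⁻¹ f = f := cj_eq_self.2 (hf _ (L.inv_mem hl))
  set w := cj b (cj l z) with hw
  have hwl : cj l⁻¹ w ∈ Z := by
    rw [e1, cj_prod, cj_inv, e2, cj_inv_cj]
    exact Z.mul_mem (Z.inv_mem hfZ) hz
  have e3 : cj l⁻¹ w = cj (l⁻¹ * b * l) z := by rw [hw]; simp [cj, mul_assoc]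
  have hcen : ∀ y ∈ L, y * cj l⁻¹ w = cj l⁻¹ w * y := by
    intro y hy
    apply cent_inter h hmL hm hwl _ hy
    rw [e3, cj_inv_cj]; exact hz
  have e4 : w = cj l⁻¹ w := by
    have h1 := cj_eq_self.2 (hcen l hl)
    rw [cj_cj_inv] at h1
    exact h1
  have hwZ : w ∈ Z := by rw [e4]; exact hwl
  have h2 : cj l z = f * w := by rw [e1]; simp
  rw [h2]; exact Z.mul_mem hfZ hwZ

/-- `V = Z Z^l` for moving `l` -/
theorem VZZ [Finite G] {l : G} (hl : l ∈ L) (hmv : Mv D Z l) {v : G} (hv : v ∈ V) :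
    ∃ z ∈ Z, ∃ z' ∈ Z, v = z * cj l z' := by
  have hVl : Dm V l = V := Dm_eq_of fun x hx => h.cjV hl hx
  obtain ⟨d, hd, hdZ⟩ := hmv
  have hmv : Mv D Z l := ⟨d, hd, hdZ⟩
  have hdZ' := h.DZ hd
  have hx : cj l d ∈ V := h.cjV hl (h.ZV hdZ')
  have h1 : Q.relIndex B ≤ (Dm Z l).relIndex Z := by
    apply relIndex_le_of_map (fun b => cj l d * b * (cj l d)⁻¹ * b⁻¹)
    · intro b hb; exact h.DZ (h.comm _ hx b hb)
    · intro b hb c hc hbc
      have hcB : b⁻¹ * c ∈ B := B.mul_mem (B.inv_mem hb) hc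
      -- the commutator is a homomorphism in `b`
      have hcb := h.comm _ hx b hb
      have hcc := h.comm _ hx c hc
      have hcbc := h.comm _ hx _ hcB
      have e : cj l d * (b⁻¹ * c) * (cj l d)⁻¹ * (b⁻¹ * c)⁻¹ =
          (cj l d * b * (cj l d)⁻¹ * b⁻¹)⁻¹ * (cj l d * c * (cj l d)⁻¹ * c⁻¹) := by
        set x := cj l d
        have r1 := h.BcZ b hb _ (h.DZ hcb)
        have r2 : b⁻¹ * (x * b * x⁻¹ * b⁻¹)⁻¹ * b = (x * b * x⁻¹ * b⁻¹)⁻¹ := by
          have : Commute b (x * b * x⁻¹ * b⁻¹)⁻¹ := Commute.inv_right r1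
          rw [mul_assoc, ← this.eq, ← mul_assoc, inv_mul_cancel, one_mul]
        have r3 := h.BcZ b⁻¹ (B.inv_mem hb) _ (h.DZ hcc)
        calc x * (b⁻¹ * c) * x⁻¹ * (b⁻¹ * c)⁻¹
            = (b⁻¹ * (x * b * x⁻¹ * b⁻¹)⁻¹ * b) * (b⁻¹ * (x * c * x⁻¹ * c⁻¹)) * b := by
              simp [mul_assoc]
          _ = (x * b * x⁻¹ * b⁻¹)⁻¹ * ((x * c * x⁻¹ * c⁻¹) * b⁻¹) * b := by rw [r2, r3]
          _ = _ := by simp [mul_assoc]
      have hF : ∀ y ∈ L, y * (cj l d * (b⁻¹ * c) * (cj l d)⁻¹ * (b⁻¹ * c)⁻¹) =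
          (cj l d * (b⁻¹ * c) * (cj l d)⁻¹ * (b⁻¹ * c)⁻¹) * y := by
        intro y hy
        apply cent_inter h hl hmv (h.DZ hcbc) _ hy
        rw [e]
        exact mem_Dm.1 hbc
      rcases inj_aux h hl hmv hdZ' hcB hF with h2 | h2
      · exact h2
      · exact absurd h2 hdZ
  have h2 : (Dm Z l).relIndex V = Z.relIndex V := by
    conv_lhs => rw [← hVl]
    exact Dm_relIndex l Z V
  obtain ⟨z, hz, z', hz', he⟩ := exists_mul_of_relIndex (Q := Dm Z l) (B := V) (U := Z) h.ZV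
    (by rw [h2, idx_eq h]; exact h1) hv
  exact ⟨z, hz, cj l⁻¹ z', mem_Dm.1 hz', by rw [cj_cj_inv]; exact he⟩

/-- `|B : Q| ≤ |Z : Z ∩ Z^l|` -/
theorem idx_ZZ [Finite G] {l : G} (hl : l ∈ L) (hmv : Mv D Z l) :
    Q.relIndex B ≤ (Dm Z l).relIndex Z := by
  classical
  have hVl : Dm V l = V := Dm_eq_of fun x hx => h.cjV hl hx
  have h2 : (Dm Z l).relIndex V = Z.relIndex V := by
    conv_lhs => rw [← hVl]
    exact Dm_relIndex l Z V
  rw [← idx_eq h, ← h2]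
  apply relIndex_le_of_map (fun v => if hv : v ∈ V then Classical.choose (VZZ h hl hmv hv) else 1)
  · intro b hb
    rw [dif_pos hb]
    exact (Classical.choose_spec (VZZ h hl hmv hb)).1
  · intro b hb c hc hbc
    rw [dif_pos hb, dif_pos hc] at hbc
    obtain ⟨hz, z', hz', he⟩ := Classical.choose_spec (VZZ h hl hmv hb)
    obtain ⟨hy, y', hy', he'⟩ := Classical.choose_spec (VZZ h hl hmv hc)
    set z := Classical.choose (VZZ h hl hmv hb)
    set y := Classical.choose (VZZ h hl hmv hc)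
    rw [he, he']
    have e : (z * cj l z')⁻¹ * (y * cj l y') = (cj l z')⁻¹ * (z⁻¹ * y) * cj l y' := by
      simp [mul_assoc]
    rw [e]
    exact (Dm Z l).mul_mem ((Dm Z l).mul_mem ((Dm Z l).inv_mem (cj_mem_Dm hz')) hbc)
      (cj_mem_Dm hy')

/-- `[v, b] ∈ C(L)` only if `v ∈ Z` or `b ∈ Q` -/
theorem star [Finite G] {v : G} (hv : v ∈ V) (hvZ : v ∉ Z) {b : G} (hb : b ∈ B)
    (hf : ∀ y ∈ L, y * (v * b * v⁻¹ * b⁻¹) = (v * b * v⁻¹ * b⁻¹) * y) : b ∈ Q := by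
  obtain ⟨l, hl, hmv⟩ := h.moves
  obtain ⟨z, hz, z', hz', rfl⟩ := VZZ h hl hmv hv
  have hx : cj l z' ∈ V := h.cjV hl (h.ZV hz')
  have hcb := h.comm _ hx b hb
  have e : (z * cj l z') * b * (z * cj l z')⁻¹ * b⁻¹ = cj l z' * b * (cj l z')⁻¹ * b⁻¹ := by
    set x := cj l z'
    have r1 : b * z⁻¹ = z⁻¹ * b := h.BcZ b hb _ (Z.inv_mem hz)
    have r2 : z * (x * b * x⁻¹ * b⁻¹) = (x * b * x⁻¹ * b⁻¹) * z :=
      h.BcZ z (h.VB (h.ZV hz)) _ (h.DZ hcb)
    calc (z * x) * b * (z * x)⁻¹ * b⁻¹ = z * x * b * x⁻¹ * (z⁻¹ * b⁻¹) := by simp [mul_assoc]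
      _ = z * x * b * x⁻¹ * (b⁻¹ * z⁻¹) := by
        have : Commute b⁻¹ z⁻¹ := Commute.inv_left r1
        rw [this.eq]
      _ = (z * (x * b * x⁻¹ * b⁻¹)) * z⁻¹ := by simp [mul_assoc]
      _ = _ := by rw [r2]; simp [mul_assoc]
  rw [e] at hf
  rcases inj_aux h hl hmv hz' hb hf with h1 | h1
  · exact h1
  · exact absurd (Z.mul_mem hz h1) hvZ

end dat

end Cfsg.Agent.Omega.SQ1.Block
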