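import Mathlib.GroupTheory.Nilpotent
import Mathlib.GroupTheory.PGroup
import Mathlib.GroupTheory.Sylow
import Mathlib.Tactic

/-!
# The subgroup generated by the elements of odd order of a subgroup
-/

set_option autoImplicit false

namespace Cfsg.Agent.Omega.SQ1.BlockO

open Subgroup

variable {G : Type*} [Group G]

/-- the subgroup generated by the elements of odd order of `L` -/
def O2 (L : Subgroup G) : Subgroup G := closure {x | x ∈ L ∧ Odd (orderOf x)}

theorem O2_le (L : Subgroup G) : O2 L ≤ L := by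
  rw [O2, closure_le]
  exact fun x hx => hx.1

theorem mem_O2 {L : Subgroup G} {x : G} (hx : x ∈ L) (ho : Odd (orderOf x)) : x ∈ O2 L :=
  subset_closure ⟨hx, ho⟩

theorem O2_norm {L : Subgroup G} {l x : G} (hl : l ∈ L) (hx : x ∈ O2 L) : l * x * l⁻¹ ∈ O2 L := by
  have hle : O2 L ≤ (O2 L).comap (MulAut.conj l).toMonoidHom := by
    conv_lhs => rw [O2]
    rw [closure_le]
    rintro y ⟨hy, ho⟩
    simp only [coe_comap, Set.mem_preimage, SetLike.mem_coe]
    have e : (MulAut.conj l).toMonoidHom y = l * y * l⁻¹ := by simp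
    rw [e]
    refine mem_O2 (mul_mem (mul_mem hl hy) (inv_mem hl)) ?_
    have : orderOf (l * y * l⁻¹) = orderOf y := by
      have h1 := orderOf_injective (MulAut.conj l).toMonoidHom (MulAut.conj l).injective y
      rwa [e] at h1
    rw [this]; exact ho
  have := hle hx
  simpa using this

/-- a suitable 2-power of each element of `L` lies in `O2 L` -/
theorem pow_mem_O2 [Finite G] {L : Subgroup G} {y : G} (hy : y ∈ L) : ∃ k, y ^ 2 ^ k ∈ O2 L := by
  obtain ⟨k, m, hm, he⟩ := Nat.exists_eq_two_pow_mul_odd (n := orderOf y) (orderOf_pos y).ne'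
  refine ⟨k, mem_O2 (pow_mem hy _) ?_⟩
  have h1 : orderOf (y ^ 2 ^ k) = m := by
    rw [orderOf_pow_of_dvd (by positivity) (by rw [he]; exact dvd_mul_right _ _), he]
    exact Nat.mul_div_cancel_left _ (by positivity)
  rw [h1]; exact hm

/-- In a finite group `L` with a normal subgroup `X` of 2-power index: a subgroup `B` which
generates `L` together with a conjugate supplements `X`. -/
theorem le_sup_of_gen [Finite G] {L X B : Subgroup G} (hXL : X ≤ L)
    (hXn : ∀ l ∈ L, ∀ x ∈ X, l * x * l⁻¹ ∈ X) (hq : ∀ y ∈ L, ∃ k, y ^ 2 ^ k ∈ X) (hBL : B ≤ L)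
    {l : G} (hl : l ∈ L)
    (hgen : ∀ K : Subgroup G, B ≤ K → (∀ b ∈ B, l * b * l⁻¹ ∈ K) → L ≤ K) : L ≤ X ⊔ B := by
  classical
  by_contra hcon
  -- a maximal proper subgroup over `X B`
  obtain ⟨M, ⟨hXM, hML, hLM⟩, hmax⟩ := Set.exists_max_image
    {M : Subgroup G | X ⊔ B ≤ M ∧ M ≤ L ∧ ¬ L ≤ M} (fun M => Nat.card M) (Set.toFinite _)
    ⟨X ⊔ B, le_rfl, sup_le hXL hBL, hcon⟩
  -- the quotient
  have hn : (X.subgroupOf L).Normal := by
    constructor
    intro n hn g
    rw [mem_subgroupOf] at hn ⊢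
    exact hXn g g.2 n hn
  have hp : IsPGroup 2 (L ⧸ X.subgroupOf L) := by
    intro g
    obtain ⟨y, rfl⟩ := QuotientGroup.mk_surjective g
    obtain ⟨k, hk⟩ := hq y y.2
    refine ⟨k, ?_⟩
    rw [← QuotientGroup.mk_pow, QuotientGroup.eq_one_iff, mem_subgroupOf]
    exact hk
  have : Group.IsNilpotent (L ⧸ X.subgroupOf L) := hp.isNilpotent
  have hnc := Group.normalizerCondition_of_isNilpotent (G := L ⧸ X.subgroupOf L)
  set π := QuotientGroup.mk' (X.subgroupOf L) with hπ
  have hcomap : ((M.subgroupOf L).map π).comap π = M.subgroupOf L := by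
    rw [comap_map_eq, QuotientGroup.ker_mk', sup_eq_left]
    intro x hx
    rw [mem_subgroupOf] at hx ⊢
    exact hXM (le_sup_left (a := X) hx)
  have hlt : (M.subgroupOf L).map π < ⊤ := by
    rw [lt_top_iff_ne_top]
    intro htop
    rw [htop, comap_top] at hcomap
    apply hLM
    intro y hy
    have : (⟨y, hy⟩ : L) ∈ M.subgroupOf L := by rw [← hcomap]; trivial
    exact mem_subgroupOf.1 this
  have hlt2 := hnc _ hlt
  obtain ⟨g, hg1, hg2⟩ := SetLike.exists_of_lt hlt2
  obtain ⟨y, rfl⟩ := QuotientGroup.mk_surjective g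
  have hyM : (y : G) ∉ M := by
    intro hyM
    apply hg2
    exact ⟨y, mem_subgroupOf.2 hyM, rfl⟩
  have hmemM : ∀ z : L, π z ∈ (M.subgroupOf L).map π ↔ (z : G) ∈ M := by
    intro z
    rw [← mem_comap, hcomap, mem_subgroupOf]
  have hyN : (y : G) ∈ normalizer (M : Set G) := by
    rw [mem_normalizer_iff] at hg1 ⊢
    intro z
    constructor
    · intro hz
      have h1 := (hg1 (π ⟨z, hML hz⟩)).1 ((hmemM _).2 hz)
      exact (hmemM (y * ⟨z, hML hz⟩ * y⁻¹)).1 h1
    · intro hz
      have hzL : z ∈ L := by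
        have := mul_mem (mul_mem (inv_mem y.2) (hML hz)) y.2
        simpa [mul_assoc] using this
      have h1 := (hg1 (π ⟨z, hzL⟩)).2 ((hmemM (y * ⟨z, hzL⟩ * y⁻¹)).2 hz)
      exact (hmemM ⟨z, hzL⟩).1 h1
  -- the normaliser of `M` in `L` is `L`
  have hLN : L ≤ normalizer (M : Set G) := by
    by_contra hLN
    have h1 := hmax (L ⊓ normalizer (M : Set G))
      ⟨hXM.trans (le_inf hML le_normalizer), inf_le_left, fun h => hLN (h.trans inf_le_right)⟩
    have h2 : M ≤ L ⊓ normalizer (M : Set G) := le_inf hML le_normalizer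
    have h3 := Subgroup.eq_of_le_of_card_ge h2 h1
    apply hyM
    rw [h3]
    exact ⟨y.2, hyN⟩
  apply hLM
  apply hgen M (le_sup_right.trans hXM)
  intro b hb
  exact (mem_normalizer_iff.1 (hLN hl) b).1 (hXM (le_sup_right (a := X) hb))

/-- an element of odd order which centralises the 2-element `[x, r]` centralises `r` -/
theorem comm_of_odd {x r c : G} (hn : Odd (orderOf x)) (hc : x * r * x⁻¹ = c * r)
    (hcx : x * c = c * x) {m : ℕ} (hm : c ^ 2 ^ m = 1) : x * r = r * x := by
  have hcx' : ∀ k : ℕ, x * c ^ k = c ^ k * x := fun k =>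
    ((show Commute x c from hcx).pow_right k).eq
  have key : ∀ k : ℕ, x ^ k * r * (x ^ k)⁻¹ = c ^ k * r := by
    intro k
    induction k with
    | zero => simp
    | succ k ih =>
      have : x ^ (k + 1) * r * (x ^ (k + 1))⁻¹ = x * (x ^ k * r * (x ^ k)⁻¹) * x⁻¹ := by
        rw [pow_succ']; group
      rw [this, ih]
      calc x * (c ^ k * r) * x⁻¹ = (x * c ^ k) * r * x⁻¹ := by group
        _ = c ^ k * (x * r * x⁻¹) := by rw [hcx' k]; group
        _ = c ^ (k + 1) * r := by rw [hc, pow_succ]; group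
  have h2 : c ^ orderOf x = 1 := by
    have := key (orderOf x)
    rw [pow_orderOf_eq_one] at this
    simpa using this.symm
  have h3 : orderOf c ∣ orderOf x := orderOf_dvd_of_pow_eq_one h2
  have h4 : orderOf c ∣ 2 ^ m := orderOf_dvd_of_pow_eq_one hm
  have h5 : Nat.Coprime (2 ^ m) (orderOf x) := Nat.Coprime.pow_left _ (Nat.coprime_two_left.2 hn)
  have h6 : orderOf c = 1 := Nat.eq_one_of_dvd_coprimes h5 h4 h3
  have h7 : c = 1 := orderOf_eq_one_iff.1 h6
  rw [h7, one_mul, mul_inv_eq_iff_eq_mul] at hc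
  exact hc

end Cfsg.Agent.Omega.SQ1.BlockO
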