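import Cfsg.Agent.Omega.SQ1.End0
import Cfsg.Agent.ZN.Facts

/-!
# The end `k = 1`, `q ≥ 4` (SQ1.7), part 1: `M ≤ N_G(B)`

`M` is the largest member of `L(S)` (`|M(S)| = 1`), `G` of characteristic 2 type.

* `Glob S M`: `G` is of characteristic 2 type, `M` the largest member of `L(S)`;
* `Tor T B D C₁ K`: the torus `K` of the block `L₁`;
* `Base.zc_R`: `Ω₁Z(O₂(M)) = D`;
* `Base.M_eq`: `M = N_G(B)`.
-/

set_option autoImplicit false
set_option Elab.async false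

namespace Cfsg.Agent.Omega.SQ1.End

open Subgroup Cfsg Cfsg.Agent.ZN Cfsg.Agent.Omega.MinPar
open Cfsg.Agent.Lib.GoldschmidtFusion (mem_map_conj card_map_conj exists_conj_le_in)

universe u

variable {G : Type u} [Group G]

/-! ### Odd elements acting on chains -/

theorem pow_conj_of {k e r : G} (h1 : k * r * k⁻¹ = e * r) (hc : k * e = e * k) (j : ℕ) :
    k ^ j * r * (k ^ j)⁻¹ = e ^ j * r := by
  induction j with
  | zero => simp
  | succ j ih =>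
    have hc2 : k * e ^ j = e ^ j * k := (show Commute k e from hc).pow_right j
    calc k ^ (j + 1) * r * (k ^ (j + 1))⁻¹ = k * (k ^ j * r * (k ^ j)⁻¹) * k⁻¹ := by
          rw [pow_succ' k j]; group
      _ = k * (e ^ j * r) * k⁻¹ := by rw [ih]
      _ = (k * e ^ j) * r * k⁻¹ := by group
      _ = e ^ j * (k * r * k⁻¹) := by rw [hc2]; group
      _ = e ^ (j + 1) * r := by rw [h1, pow_succ]; group

theorem eq_one_of_odd_of_two {e : G} {n m : ℕ} (hn : Odd n) (h1 : e ^ n = 1) (h2 : e ^ 2 ^ m = 1) :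
    e = 1 := by
  have h3 : orderOf e ∣ n := orderOf_dvd_of_pow_eq_one h1
  have h4 : orderOf e ∣ 2 ^ m := orderOf_dvd_of_pow_eq_one h2
  have h5 : Nat.Coprime n (2 ^ m) := (Nat.Coprime.pow_right m (Nat.coprime_two_right.2 hn))
  exact orderOf_eq_one_iff.1 (Nat.dvd_one.1 (h5 ▸ Nat.dvd_gcd h3 h4))

theorem odd_fix {k e r : G} {n m : ℕ} (hn : Odd n) (hk : k ^ n = 1) (h1 : k * r * k⁻¹ = e * r)
    (hc : k * e = e * k) (he : e ^ 2 ^ m = 1) : e = 1 := by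
  apply eq_one_of_odd_of_two hn _ he
  have h2 := pow_conj_of h1 hc n
  rw [hk] at h2
  have h3 : r = e ^ n * r := by simpa using h2
  exact (mul_eq_right.1 h3.symm)

/-- A finite group without nontrivial elements of odd order is a 2-group. -/
theorem isPGroup_two_of {K : Subgroup G} [Finite K] (h : ∀ k ∈ K, ∀ n : ℕ, Odd n → k ^ n = 1 → k = 1) :
    IsPGroup 2 K := by
  rcases Nat.eq_two_pow_or_exists_odd_prime_and_dvd (Nat.card K) with ⟨m, hm⟩ | ⟨p, hp, hdvd, hodd⟩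
  · exact IsPGroup.of_card hm
  · exfalso
    have : Fact p.Prime := ⟨hp⟩
    obtain ⟨x, hx⟩ := exists_prime_orderOf_dvd_card' p hdvd
    have h1 := h x x.2 p hodd (by
      have h2 := pow_orderOf_eq_one x
      rw [hx] at h2
      have h3 := congrArg Subtype.val h2
      simpa using h3)
    have h2 : x = 1 := Subtype.ext h1
    rw [h2, orderOf_one] at hx
    exact hp.one_lt.ne hx

/-- The stabiliser of the chain `D ≤ E ≤ R` in `C`. -/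
def chain [Finite G] (C R E D : Subgroup G) (hR : ∀ c ∈ C, ∀ r ∈ R, c * r * c⁻¹ ∈ R)
    (hD : ∀ c ∈ C, ∀ d ∈ D, c * d * c⁻¹ = d) : Subgroup G where
  carrier := {h | h ∈ C ∧ (∀ r ∈ E, h * r * h⁻¹ ∈ E) ∧ (∀ r ∈ R, h * r * h⁻¹ * r⁻¹ ∈ E) ∧
    ∀ r ∈ E, h * r * h⁻¹ * r⁻¹ ∈ D}
  one_mem' := ⟨one_mem _, by simp, by simp, by simp⟩
  mul_mem' := by
    rintro h k ⟨hC, h1, h2, h3⟩ ⟨kC, k1, k2, k3⟩
    refine ⟨C.mul_mem hC kC, ?_, ?_, ?_⟩
    · intro r hr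
      have e : h * k * r * (h * k)⁻¹ = h * (k * r * k⁻¹) * h⁻¹ := by group
      rw [e]; exact h1 _ (k1 r hr)
    · intro r hr
      have e : h * k * r * (h * k)⁻¹ * r⁻¹ = h * (k * r * k⁻¹ * r⁻¹) * h⁻¹ * (h * r * h⁻¹ * r⁻¹) := by
        group
      rw [e]; exact E.mul_mem (h1 _ (k2 r hr)) (h2 r hr)
    · intro r hr
      have e : h * k * r * (h * k)⁻¹ * r⁻¹ = h * (k * r * k⁻¹ * r⁻¹) * h⁻¹ * (h * r * h⁻¹ * r⁻¹) := by
        group
      rw [e, hD h hC _ (k3 r hr)]; exact D.mul_mem (k3 r hr) (h3 r hr)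
  inv_mem' := by
    rintro h ⟨hC, h1, h2, h3⟩
    have h1' := inv_conj_mem h1
    have hR' := inv_conj_mem (hR h hC)
    refine ⟨C.inv_mem hC, ?_, ?_, ?_⟩
    · intro r hr
      rw [inv_inv]; exact h1' r hr
    · intro r hr
      have e1 := h2 _ (hR' r hr)
      have e : h⁻¹ * r * h⁻¹⁻¹ * r⁻¹ = (h * (h⁻¹ * r * h) * h⁻¹ * (h⁻¹ * r * h)⁻¹)⁻¹ := by group
      rw [e]; exact E.inv_mem e1
    · intro r hr
      have e1 := h3 _ (h1' r hr)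
      have e : h⁻¹ * r * h⁻¹⁻¹ * r⁻¹ = (h * (h⁻¹ * r * h) * h⁻¹ * (h⁻¹ * r * h)⁻¹)⁻¹ := by group
      rw [e]; exact D.inv_mem e1

theorem mem_chain [Finite G] {C R E D : Subgroup G} {hR : ∀ c ∈ C, ∀ r ∈ R, c * r * c⁻¹ ∈ R}
    {hD : ∀ c ∈ C, ∀ d ∈ D, c * d * c⁻¹ = d} {h : G} : h ∈ chain C R E D hR hD ↔
      h ∈ C ∧ (∀ r ∈ E, h * r * h⁻¹ ∈ E) ∧ (∀ r ∈ R, h * r * h⁻¹ * r⁻¹ ∈ E) ∧
        ∀ r ∈ E, h * r * h⁻¹ * r⁻¹ ∈ D := Iff.rfl

/-- The stabiliser of the chain is a 2-group, if odd elements of `C` centralising `R` are trivial. -/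
theorem chain_two [Finite G] {C R E D : Subgroup G} {hR : ∀ c ∈ C, ∀ r ∈ R, c * r * c⁻¹ ∈ R}
    {hD : ∀ c ∈ C, ∀ d ∈ D, c * d * c⁻¹ = d} (hR2 : IsPGroup 2 R) (hER : E ≤ R) (hDE : D ≤ E)
    (hcR : C ⊓ centralizer (R : Set G) ≤ R) : IsPGroup 2 (chain C R E D hR hD) := by
  have hpow : ∀ e ∈ R, ∃ m : ℕ, e ^ 2 ^ m = 1 := by
    intro e he
    obtain ⟨m, hm⟩ := hR2 ⟨e, he⟩
    exact ⟨m, by simpa using congrArg Subtype.val hm⟩
  apply isPGroup_two_of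
  rintro k ⟨kC, -, k2, k3⟩ n hn hkn
  have hE : ∀ r ∈ E, k * r * k⁻¹ = r := by
    intro r hr
    obtain ⟨m, hm⟩ := hpow _ (hER (hDE (k3 r hr)))
    have h1 := odd_fix (k := k) (e := k * r * k⁻¹ * r⁻¹) (r := r) hn hkn (by group) (by
      have h2 := hD k kC _ (k3 r hr)
      exact mul_inv_eq_iff_eq_mul.1 h2) hm
    exact mul_inv_eq_one.1 h1
  have hRR : ∀ r ∈ R, k * r * k⁻¹ = r := by
    intro r hr
    obtain ⟨m, hm⟩ := hpow _ (hER (k2 r hr))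
    have h1 := odd_fix (k := k) (e := k * r * k⁻¹ * r⁻¹) (r := r) hn hkn (by group) (by
      have h2 := hE _ (k2 r hr)
      exact mul_inv_eq_iff_eq_mul.1 h2) hm
    exact mul_inv_eq_one.1 h1
  have hkR : k ∈ R := hcR ⟨kC, mem_centralizer_iff.2 fun r hr => (mul_inv_eq_iff_eq_mul.1 (hRR r hr)).symm⟩
  obtain ⟨m, hm⟩ := hpow k hkR
  exact eq_one_of_odd_of_two hn hkn hm

section

variable {P T B Q₁ Q₂ D C₁ C₂ : Subgroup G} {s : G} {q : ℕ}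

namespace Base

variable [Finite G] (h : Base P T B Q₁ Q₂ D C₁ C₂ s q)

include h

/-- Squares of elements of `B` lie in `D`. -/
theorem sqB {u : G} (hu : u ∈ B) : u * u ∈ D := by
  obtain ⟨a, ha, b, hb, rfl⟩ := h.prod u hu
  have h1 := h.comm12 ha hb
  rwa [h.inv1 ha, h.inv2 hb, mul_assoc (a * b) a b] at h1

/-- Elements of `C_T(D)` lie in `B`. -/
theorem mem_B_of_centD {t : G} (ht : t ∈ T) (hc : ∀ d ∈ D, t * d * t⁻¹ = d) : t ∈ B :=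
  h.cenD t ht hc

/-- (1.1) Elementary abelian normal subgroups of `S` lie in `D`. -/
theorem normal_elem_le {V : Subgroup G} (hV : V ≤ P) (hVn : ∀ x ∈ P, ∀ v ∈ V, x * v * x⁻¹ ∈ V)
    (hV2 : ∀ v ∈ V, v * v = 1) : V ≤ D := by
  have hVB : (V ⊓ B : Subgroup G) ≤ D := by
    have key : ∀ x ∈ V ⊓ B, s * x * s⁻¹ ∈ V ⊓ B := fun x hx =>
      ⟨hVn s h.sS x hx.1, h.S_B h.sS hx.2⟩
    rcases h.elem_le_or (inf_le_right : V ⊓ B ≤ B) (fun x hx => hV2 x hx.1) with h1 | h1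
    · intro x hx
      refine (h.memD x).2 ⟨h1 hx, ?_⟩
      have h2 := h.s2' (h1 (key x hx))
      have h3 : s⁻¹ * (s * x * s⁻¹) * s = x := by group
      rwa [h3] at h2
    · intro x hx
      refine (h.memD x).2 ⟨?_, h1 hx⟩
      have h2 := h.s1' (h1 (key x hx))
      have h3 : s⁻¹ * (s * x * s⁻¹) * s = x := by group
      rwa [h3] at h2
  have hVle : V ≤ B := by
    by_contra hnot
    obtain ⟨f, hf, hfB⟩ := Set.not_subset.1 hnot
    have hcf : ∀ b ∈ B, f * b * f⁻¹ * b⁻¹ ∈ D := by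
      intro b hb
      apply hVB
      refine ⟨?_, B.mul_mem (h.S_B (hV hf) hb) (B.inv_mem hb)⟩
      have h1 := V.mul_mem hf (hVn b (h.TS (h.BT hb)) _ (V.inv_mem hf))
      have h2 : f * (b * f⁻¹ * b⁻¹) = f * b * f⁻¹ * b⁻¹ := by group
      rwa [h2] at h1
    rcases h.mem_S (hV hf) with hfT | hfT
    · have hfr := h.free1 f hfT hfB (by rw [hV2 f hf]; exact one_mem _)
      obtain ⟨b, hb, hbD⟩ := h.exists_b
      have hbB := h.Q2B hb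
      have h1 : b⁻¹ * (f * b * f⁻¹) ∈ Q₁ := by
        have h2 := h.centD (D.inv_mem (hcf b hbB)) hbB
        have h3 := h.D1 (hcf b hbB)
        have h4 : b⁻¹ * (f * b * f⁻¹) = b⁻¹ * (f * b * f⁻¹ * b⁻¹) * b := by group
        rw [h4, mul_assoc, h.centD (hcf b hbB) hbB, inv_mul_cancel_left]
        exact h3
      obtain ⟨u, hu, hu2⟩ := hfr b hbB h1
      have h5 : u * (f * u * f⁻¹) ∈ Q₁ := by
        have h6 : u * (f * u * f⁻¹) = u * (f * u * f⁻¹ * u⁻¹) * u := by group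
        rw [h6, mul_assoc, h.centD (hcf u hu) hu, ← mul_assoc]
        exact h.D1 (D.mul_mem (h.sqB hu) (hcf u hu))
      have h7 : b⁻¹ ∈ Q₁ := by
        have h8 := Q₁.mul_mem hu2 (Q₁.inv_mem h5)
        rwa [mul_inv_cancel_right] at h8
      exact hbD ((h.memD b).2 ⟨by simpa using Q₁.inv_mem h7, hb⟩)
    · obtain ⟨a, ha, haD⟩ := h.exists_a
      have h1 := h.swap1 hfT ha
      have h2 := h.D2 (hcf a (h.Q1B ha))
      have h3 := Q₂.mul_mem (Q₂.inv_mem h2) h1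
      have h4 : (f * a * f⁻¹ * a⁻¹)⁻¹ * (f * a * f⁻¹) = a := by group
      rw [h4] at h3
      exact haD ((h.memD a).2 ⟨ha, h3⟩)
  exact fun x hx => hVB ⟨hx, hVle hx⟩

theorem P_D {x d : G} (hx : x ∈ P) (hd : d ∈ D) : x * d * x⁻¹ ∈ D := by
  rcases h.mem_S hx with h1 | h1
  · exact h.T_D h1 hd
  · exact (h.memD _).2 ⟨h.swap2 h1 (h.D2 hd), h.swap1 h1 (h.D1 hd)⟩

/-- Elements of `D` fixed by a swap are good. -/
theorem gd_of_swap {x d : G} (hx : s⁻¹ * x ∈ T) (hd : d ∈ D) (hd1 : d ≠ 1) (hxd : x * d * x⁻¹ = d) :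
    Gd D C₁ C₂ d := by
  have key : ∀ y ∈ C₁, y = x * y * x⁻¹ → y = 1 := by
    intro y hy hxy
    have h1 := h.sC1 _ (h.TC1 _ hx y hy)
    have h2 : s * (s⁻¹ * x * y * (s⁻¹ * x)⁻¹) * s⁻¹ = x * y * x⁻¹ := by group
    rw [h2, ← hxy] at h1
    have h3 : y ∈ C₁ ⊓ C₂ := ⟨hy, h1⟩
    rwa [h.C12, mem_bot] at h3
  have key' : ∀ y ∈ C₂, y = x * y * x⁻¹ → y = 1 := by
    intro y hy hxy
    have h1 := h.sC2 _ (h.TC2 _ hx y hy)
    have h2 : s * (s⁻¹ * x * y * (s⁻¹ * x)⁻¹) * s⁻¹ = x * y * x⁻¹ := by group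
    rw [h2, ← hxy] at h1
    have h3 : y ∈ C₁ ⊓ C₂ := ⟨h1, hy⟩
    rwa [h.C12, mem_bot] at h3
  exact ⟨hd, fun h1 => hd1 (key d h1 hxd.symm), fun h1 => hd1 (key' d h1 hxd.symm)⟩

end Base

/-- The global hypotheses: `M` is the largest member of `L(S)`. -/
structure Glob (S : Sylow 2 G) (M : Subgroup G) : Prop where
  c2t : IsCharacteristicTwoType G
  loc : IsLoc (S : Subgroup G) M
  uni : ∀ L : Subgroup G, IsLoc (S : Subgroup G) L → L ≤ M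

/-- The same with `N_G(B) ≤ M` in place of the maximality of `M`. -/
structure GlobN (S : Sylow 2 G) (M B : Subgroup G) : Prop where
  c2t : IsCharacteristicTwoType G
  loc : IsLoc (S : Subgroup G) M
  nB : normalizer (B : Set G) ≤ M

/-- The torus `K` of the block `L₁`. -/
structure Tor (T B D C₁ K : Subgroup G) : Prop where
  KB : ∀ k ∈ K, ∀ b ∈ B, k * b * k⁻¹ ∈ B
  KC : ∀ k ∈ K, ∀ c ∈ C₁, k * c * k⁻¹ = c
  C1D : C₁ ≤ D
  fix : ∀ d ∈ D, (∀ k ∈ K, k * d * k⁻¹ = d) → d ∈ C₁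
  irr : ∀ E : Subgroup G, E ≤ D → (∀ k ∈ K, ∀ e ∈ E, k * e * k⁻¹ ∈ E) → ¬ E ≤ C₁ →
    ∀ d ∈ D, ∃ e ∈ E, e⁻¹ * d ∈ C₁
  faith : ∀ t ∈ T, (∀ d ∈ D, d⁻¹ * (t * d * t⁻¹) ∈ C₁) → t ∈ B

namespace Base

variable [Finite G] {S : Sylow 2 G} {M : Subgroup G}
variable (h : Base (S : Subgroup G) T B Q₁ Q₂ D C₁ C₂ s q) (g : GlobN S M B)

include h g

omit g in
theorem normB_loc : IsLoc (S : Subgroup G) (normalizer (B : Set G)) := by
  apply isLoc_normalizer S (h.two.to_le (h.BT.trans h.TS))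
  · intro h1
    have h2 := h.one_lt_D
    have h3 : D = ⊥ := le_bot_iff.1 (h1 ▸ h.DB)
    rw [h3, Subgroup.card_bot] at h2
    exact lt_irrefl _ h2
  · intro x hx
    exact mem_normalizer_of (fun b hb => h.S_B hx hb)

omit g in
theorem toN (g : Glob S M) : GlobN S M B := ⟨g.c2t, g.loc, g.uni _ h.normB_loc⟩

theorem normB_le : normalizer (B : Set G) ≤ M := g.nB

omit h in
theorem R_le : o2 M ≤ (S : Subgroup G) := g.loc.o2_le S

omit g in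
theorem exists_z0 : ∃ z₀ ∈ zc (S : Subgroup G), Gd D C₁ C₂ z₀ := by
  have hSne : (S : Subgroup G) ≠ ⊥ := by
    intro h1
    have h2 := h.one_lt_D
    have h3 : D = ⊥ := le_bot_iff.1 (h1 ▸ (h.DB.trans (h.BT.trans h.TS)))
    rw [h3, Subgroup.card_bot] at h2
    exact lt_irrefl _ h2
  have h1 := ZN.zc_ne_bot S.isPGroup' hSne
  obtain ⟨⟨z, hz⟩, hz1⟩ := Subgroup.ne_bot_iff_exists_ne_one.1 h1
  have hz1' : z ≠ 1 := fun h2 => hz1 (Subtype.ext h2)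
  have hzc := mem_zc.1 hz
  have hzD : z ∈ D := by
    apply h.normal_elem_le (V := zc (S : Subgroup G)) (zc_le _) _ _ hz
    · intro x hx v hv
      have h3 := zc_comm hv hx
      rw [h3, mul_inv_cancel_right]; exact hv
    · intro v hv
      have h3 := zc_sq hv
      rwa [pow_two] at h3
  refine ⟨z, hz, h.gd_of_swap (x := s) (by rw [inv_mul_cancel]; exact one_mem _) hzD hz1' ?_⟩
  rw [hzc.2.1 s h.sS, mul_inv_cancel_right]

theorem zc_R_le : zc (o2 M) ≤ D := by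
  apply h.normal_elem_le ((zc_le _).trans (R_le g))
  · intro x hx v hv
    have h1 : x ∈ normalizer (zc (o2 M) : Set G) :=
      normalizer_le_normalizer_zc _ (ZN.le_normalizer_o2 M (g.loc.le hx))
    exact (mem_normalizer_iff.1 h1 v).1 hv
  · intro v hv
    have h3 := zc_sq hv
    rwa [pow_two] at h3

omit h g in
/-- `Ω₁Z(O₂(M))` is normal in `M`. -/
theorem M_zc {m v : G} (hm : m ∈ M) (hv : v ∈ zc (o2 M)) : m * v * m⁻¹ ∈ zc (o2 M) := by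
  have h1 : m ∈ normalizer (zc (o2 M) : Set G) :=
    normalizer_le_normalizer_zc _ (ZN.le_normalizer_o2 M hm)
  exact (mem_normalizer_iff.1 h1 v).1 hv

theorem zc_S_le : zc (S : Subgroup G) ≤ zc (o2 M) := by
  intro z hz
  have hzc := mem_zc.1 hz
  have h1 : z ∈ o2 M := by
    apply g.loc.char2 S g.c2t
    refine ⟨g.loc.le hzc.1, mem_centralizer_iff.2 fun r hr => ?_⟩
    exact hzc.2.1 r (R_le g hr)
  exact mem_zc.2 ⟨h1, fun r hr => hzc.2.1 r (R_le g hr), hzc.2.2⟩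

/-- (1.2) `Ω₁Z(O₂(M)) = D`. -/
theorem zc_R {K : Subgroup G} (τ : Tor T B D C₁ K) : zc (o2 M) = D := by
  set V := zc (o2 M) with hV
  have hVD : V ≤ D := h.zc_R_le g
  obtain ⟨z, hz, hzg⟩ := h.exists_z0
  have hzV : z ∈ V := h.zc_S_le g hz
  have hKM : ∀ k ∈ K, k ∈ M := fun k hk => h.normB_le g (mem_normalizer_of (τ.KB k hk))
  have hVC : ∀ d ∈ D, ∃ e ∈ V, e⁻¹ * d ∈ C₁ :=
    τ.irr V hVD (fun k hk e he => M_zc (hKM k hk) he) (fun h1 => hzg.2.1 (h1 hzV))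
  by_cases hRB : o2 M ≤ B
  · -- `D` centralises `R`
    apply le_antisymm hVD
    intro d hd
    have h1 : d ∈ o2 M := by
      apply g.loc.char2 S g.c2t
      refine ⟨g.loc.le (h.TS (h.BT (h.DB hd))), mem_centralizer_iff.2 fun r hr => ?_⟩
      exact (h.centD hd (hRB hr)).symm
    exact mem_zc.2 ⟨h1, fun r hr => (h.centD hd (hRB hr)).symm, by rw [pow_two]; exact h.sqD hd⟩
  obtain ⟨x, hx, hxB⟩ := Set.not_subset.1 hRB
  have hRV : ∀ r ∈ o2 M, ∀ v ∈ V, r * v * r⁻¹ = v := fun r hr v hv => by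
    rw [zc_comm hv hr, mul_inv_cancel_right]
  -- `T ∩ R ≤ B`
  have hRT : ∀ r ∈ o2 M, r ∈ T → r ∈ B := by
    intro r hr hrT
    apply τ.faith r hrT
    intro d hd
    obtain ⟨e, he, hc⟩ := hVC d hd
    -- `d = e c`
    have h1 := h.TC1 r hrT _ hc
    have h2 : d⁻¹ * (r * d * r⁻¹) = (e⁻¹ * d)⁻¹ * (r * (e⁻¹ * d) * r⁻¹) := by
      have h3 : r * e⁻¹ = e⁻¹ * r := by
        have h4 := mul_inv_eq_iff_eq_mul.1 (hRV r hr _ (V.inv_mem he))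
        exact h4
      calc d⁻¹ * (r * d * r⁻¹) = d⁻¹ * e * (e⁻¹ * r) * d * r⁻¹ := by group
        _ = d⁻¹ * e * (r * e⁻¹) * d * r⁻¹ := by rw [h3]
        _ = _ := by group
    rw [h2]
    exact C₁.mul_mem (C₁.inv_mem hc) h1
  have hsw : ∀ r ∈ o2 M, r ∉ B → s⁻¹ * r ∈ T := fun r hr hrB =>
    (h.mem_S (R_le g hr)).resolve_left fun h1 => hrB (hRT r hr h1)
  have hco : ∀ y ∈ o2 M, y ∉ B → x⁻¹ * y ∈ B := by
    intro y hy hyB
    apply hRT _ ((o2 M).mul_mem ((o2 M).inv_mem hx) hy)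
    have h2 := T.mul_mem (T.inv_mem (hsw x hx hxB)) (hsw y hy hyB)
    have h3 : (s⁻¹ * x)⁻¹ * (s⁻¹ * y) = x⁻¹ * y := by group
    rwa [h3] at h2
  -- `x` interchanges `C₁` and `C₂`
  have hsx1 : ∀ c ∈ C₁, x * c * x⁻¹ ∈ C₂ := by
    intro c hc
    have h1 := h.sC1 _ (h.TC1 _ (hsw x hx hxB) c hc)
    have h2 : s * (s⁻¹ * x * c * (s⁻¹ * x)⁻¹) * s⁻¹ = x * c * x⁻¹ := by group
    rwa [h2] at h1
  have hfixC : ∀ c ∈ C₁, x * c * x⁻¹ = c → c = 1 := by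
    intro c hc hxc
    have h1 := hsx1 c hc
    rw [hxc] at h1
    have h2 : c ∈ C₁ ⊓ C₂ := ⟨hc, h1⟩
    rwa [h.C12, mem_bot] at h2
  -- elements of `D` centralised by `x` lie in `V`
  have hfixD : ∀ d ∈ D, x * d * x⁻¹ = d → d ∈ V := by
    intro d hd hxd
    obtain ⟨e, he, hc⟩ := hVC d hd
    have h1 : e⁻¹ * d = 1 := by
      apply hfixC _ hc
      have h2 := hRV x hx _ (V.inv_mem he)
      calc x * (e⁻¹ * d) * x⁻¹ = (x * e⁻¹ * x⁻¹) * (x * d * x⁻¹) := by group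
        _ = e⁻¹ * d := by rw [h2, hxd]
    have h2 : d = e := by
      rw [inv_mul_eq_one] at h1
      exact h1.symm
    rw [h2]; exact he
  -- `x` centralises `C₁`, so `C₁ = 1`
  have hxx : x * x ∈ B := by
    by_contra h1
    have h2 := hco (x * x) ((o2 M).mul_mem hx hx) h1
    rw [inv_mul_cancel_left] at h2
    exact hxB h2
  have hC1 : ∀ c ∈ C₁, c = 1 := by
    intro c hc
    apply hfixC c hc
    have hcD := τ.C1D hc
    have hxc := h.P_D (R_le g hx) (D.inv_mem hcD)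
    -- `e = c x c⁻¹ x⁻¹`
    have heD : c * (x * c⁻¹ * x⁻¹) ∈ D := D.mul_mem hcD hxc
    have hxe : x * (c * (x * c⁻¹ * x⁻¹)) * x⁻¹ = c * (x * c⁻¹ * x⁻¹) := by
      have h1 : x * x * c⁻¹ * (x * x)⁻¹ = c⁻¹ := by
        rw [← h.centD (D.inv_mem hcD) hxx, mul_inv_cancel_right]
      have h2 : x * (c * (x * c⁻¹ * x⁻¹)) * x⁻¹ = (x * c⁻¹ * x⁻¹)⁻¹ * (x * x * c⁻¹ * (x * x)⁻¹) := by
        group
      rw [h2, h1, h.inv1 (h.D1 hxc), h.inv1 (h.D1 (D.inv_mem (D.inv_mem hcD)) |> fun h' => by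
        simpa using h'), h.c1 _ (h.D1 (by simpa [h.inv1 (h.D1 hcD)] using hxc)) _ (h.D1 hcD)]
    have heV : c * (x * c⁻¹ * x⁻¹) ∈ V := hfixD _ heD hxe
    have heK : c * (x * c⁻¹ * x⁻¹) ∈ C₁ := by
      apply τ.fix _ heD
      intro k hk
      have hkx : k * x * k⁻¹ ∈ o2 M :=
        (mem_normalizer_iff.1 (ZN.le_normalizer_o2 M (hKM k hk)) x).1 hx
      have hkxB : k * x * k⁻¹ ∉ B := by
        intro h1
        apply hxB
        have h2 := inv_conj_mem (τ.KB k hk) _ h1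
        have h3 : k⁻¹ * (k * x * k⁻¹) * k = x := by group
        rwa [h3] at h2
      have hr := hco _ hkx hkxB
      have h1 := h.centD (D.inv_mem hcD) hr
      have hkc : k * c * k⁻¹ = c := τ.KC k hk c hc
      have hkc' : k * c⁻¹ * k⁻¹ = c⁻¹ := τ.KC k hk _ (C₁.inv_mem hc)
      calc k * (c * (x * c⁻¹ * x⁻¹)) * k⁻¹
          = (k * c * k⁻¹) * ((k * x * k⁻¹) * (k * c⁻¹ * k⁻¹) * (k * x * k⁻¹)⁻¹) := by group
        _ = c * (x * (x⁻¹ * (k * x * k⁻¹) * c⁻¹) * (x⁻¹ * (k * x * k⁻¹))⁻¹ * x⁻¹) := by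
            rw [hkc, hkc']; group
        _ = c * (x * c⁻¹ * x⁻¹) := by rw [← h1]; group
    have he1 : c * (x * c⁻¹ * x⁻¹) = 1 := by
      apply hfixC _ heK
      exact hxe
    have h3 : x * c⁻¹ * x⁻¹ = c⁻¹ := by
      rw [mul_eq_one_iff_inv_eq] at he1
      exact he1.symm
    have h4 := congrArg Inv.inv h3
    have h5 : (x * c⁻¹ * x⁻¹)⁻¹ = x * c * x⁻¹ := by group
    rwa [h5, inv_inv] at h4
  apply le_antisymm hVD
  intro d hd
  obtain ⟨e, he, hc⟩ := hVC d hd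
  have h1 := hC1 _ hc
  rw [inv_mul_eq_one] at h1
  rw [← h1]; exact he

end Base

/-- The global hypotheses with `Ω₁Z(O₂(M)) = D`. -/
structure GlobD (S : Sylow 2 G) (M B D : Subgroup G) : Prop extends GlobN S M B where
  zcR : zc (o2 M) = D

namespace Base

variable [Finite G] {S : Sylow 2 G} {M : Subgroup G}
variable (h : Base (S : Subgroup G) T B Q₁ Q₂ D C₁ C₂ s q) (g : GlobD S M B D)

include h g

omit h in
theorem M_D {m d : G} (hm : m ∈ M) (hd : d ∈ D) : m * d * m⁻¹ ∈ D := by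
  rw [← g.zcR] at hd ⊢
  have h1 : m ∈ normalizer (zc (o2 M) : Set G) :=
    normalizer_le_normalizer_zc _ (ZN.le_normalizer_o2 M hm)
  exact (mem_normalizer_iff.1 h1 d).1 hd

omit h in
theorem R_D {r d : G} (hr : r ∈ o2 M) (hd : d ∈ D) : r * d * r⁻¹ = d := by
  rw [← g.zcR] at hd
  rw [zc_comm hd hr, mul_inv_cancel_right]

omit h g in
theorem M_R {m r : G} (hm : m ∈ M) (hr : r ∈ o2 M) : m * r * m⁻¹ ∈ o2 M :=
  (mem_normalizer_iff.1 (ZN.le_normalizer_o2 M hm) r).1 hr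

theorem B_le_M : B ≤ M := le_normalizer.trans (h.normB_le g.toGlobN)

/-- The group `C_M(D)`. -/
def CM (M D : Subgroup G) : Subgroup G := M ⊓ centralizer (D : Set G)

omit h g in
theorem CM_D {c d : G} (hc : c ∈ CM M D) (hd : d ∈ D) : c * d * c⁻¹ = d := by
  have h1 := mem_centralizer_iff.1 hc.2 d hd
  rw [← h1, mul_inv_cancel_right]

theorem M_CM {m c : G} (hm : m ∈ M) (hc : c ∈ CM M D) : m * c * m⁻¹ ∈ CM M D := by
  refine ⟨M.mul_mem (M.mul_mem hm hc.1) (M.inv_mem hm), mem_centralizer_iff.2 fun d hd => ?_⟩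
  have h1 : m⁻¹ * d * m ∈ D := inv_conj_mem (fun x hx => M_D g hm hx) d hd
  have h2 := mem_centralizer_iff.1 hc.2 _ h1
  calc d * (m * c * m⁻¹) = m * (m⁻¹ * d * m * c) * m⁻¹ := by group
    _ = m * (c * (m⁻¹ * d * m)) * m⁻¹ := by rw [h2]
    _ = m * c * m⁻¹ * d := by group

theorem B_le_CM : B ≤ CM M D := fun b hb =>
  ⟨h.B_le_M g hb, mem_centralizer_iff.2 fun _ hd => h.centD hd hb⟩

theorem R_le_CM : o2 M ≤ CM M D := fun r hr =>
  ⟨o2_le M hr, mem_centralizer_iff.2 fun _ hd => (mul_inv_eq_iff_eq_mul.1 (R_D g hr hd)).symm⟩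

theorem D_le_R : D ≤ o2 M := by
  rw [← g.zcR]; exact zc_le _

theorem CM_R : CM M D ⊓ centralizer (o2 M : Set G) ≤ o2 M := fun _ hx =>
  g.loc.char2 S g.c2t ⟨hx.1.1, hx.2⟩

/-- If `B ≤ O₂(M)` then `M ≤ N_G(B)`. -/
theorem M_le_of (hB : B ≤ o2 M) : M ≤ normalizer (B : Set G) := fun _ hm =>
  h.conj_B (fun _ hb => R_le g.toGlobN (M_R hm (hB hb)))

/-- The chain stabiliser is normalised by the elements of `M` normalising `E`. -/
theorem chain_conj {E : Subgroup G} {n : G} (hn : n ∈ M) (hE : ∀ r ∈ E, n * r * n⁻¹ ∈ E) {k : G}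
    (hk : k ∈ chain (CM M D) (o2 M) E D (fun _ hc _ hr => M_R hc.1 hr) (fun _ hc _ hd => CM_D hc hd)) :
    n * k * n⁻¹ ∈ chain (CM M D) (o2 M) E D (fun _ hc _ hr => M_R hc.1 hr)
      (fun _ hc _ hd => CM_D hc hd) := by
  obtain ⟨k0, k1, k2, k3⟩ := hk
  refine ⟨h.M_CM g hn k0, ?_, ?_, ?_⟩
  · intro r hr
    have h1 := hE _ (k1 _ (inv_conj_mem hE r hr))
    have h2 : n * (k * (n⁻¹ * r * n) * k⁻¹) * n⁻¹ = n * k * n⁻¹ * r * (n * k * n⁻¹)⁻¹ := by group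
    rwa [h2] at h1
  · intro r hr
    have h1 := hE _ (k2 _ (inv_conj_mem (X := o2 M) (fun x hx => M_R hn hx) r hr))
    have h2 : n * (k * (n⁻¹ * r * n) * k⁻¹ * (n⁻¹ * r * n)⁻¹) * n⁻¹ =
      n * k * n⁻¹ * r * (n * k * n⁻¹)⁻¹ * r⁻¹ := by group
    rwa [h2] at h1
  · intro r hr
    have h1 := M_D g hn (k3 _ (inv_conj_mem hE r hr))
    have h2 : n * (k * (n⁻¹ * r * n) * k⁻¹ * (n⁻¹ * r * n)⁻¹) * n⁻¹ =
      n * k * n⁻¹ * r * (n * k * n⁻¹)⁻¹ * r⁻¹ := by group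
    rwa [h2] at h1

/-- (1.3) If `O₂(M) ∩ B` is normal in `M` then `B ≤ O₂(M)`. -/
theorem B_le_of_normal (hn : ∀ m ∈ M, ∀ r ∈ o2 M ⊓ B, m * r * m⁻¹ ∈ o2 M ⊓ B) : B ≤ o2 M := by
  let K := chain (CM M D) (o2 M) (o2 M ⊓ B) D (fun c hc r hr => M_R hc.1 hr)
    (fun c hc d hd => CM_D hc hd)
  have hK2 : IsPGroup 2 K := chain_two (isPGroup_o2 M) inf_le_left
    (le_inf (h.D_le_R g) h.DB) (h.CM_R g)
  have hBK : B ≤ K := by
    intro b hb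
    refine ⟨h.B_le_CM g hb, hn b (h.B_le_M g hb), ?_, ?_⟩
    · intro r hr
      have h1 := (o2 M).mul_mem (M_R (h.B_le_M g hb) hr) ((o2 M).inv_mem hr)
      have h2 := B.mul_mem hb (h.S_B (R_le g.toGlobN hr) (B.inv_mem hb))
      have h3 : b * (r * b⁻¹ * r⁻¹) = b * r * b⁻¹ * r⁻¹ := by group
      rw [h3] at h2
      exact ⟨h1, h2⟩
    · intro r hr
      exact h.commB hb hr.2
  refine hBK.trans (ZN.le_o2 (fun k hk => hk.1.1) hK2 ?_)
  intro m hm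
  exact mem_normalizer_of (fun k hk => h.chain_conj g hm (hn m hm) hk)

/-- Elements of `C_S(D)` lie in `B ∪ xB`, for `x ∈ O₂(M) - B`. -/
theorem mem_or {x : G} (hx : x ∈ o2 M) (hxB : x ∉ B) {y : G} (hy : y ∈ (S : Subgroup G))
    (hyD : ∀ d ∈ D, y * d * y⁻¹ = d) : y ∈ B ∨ x⁻¹ * y ∈ B := by
  have hxT : s⁻¹ * x ∈ T := by
    refine (h.mem_S (R_le g.toGlobN hx)).resolve_left fun h1 => hxB ?_
    exact h.mem_B_of_centD h1 (fun d hd => R_D g hx hd)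
  rcases h.mem_S hy with h1 | h1
  · exact Or.inl (h.mem_B_of_centD h1 hyD)
  · right
    apply h.mem_B_of_centD
    · have h2 := T.mul_mem (T.inv_mem hxT) h1
      have h3 : (s⁻¹ * x)⁻¹ * (s⁻¹ * y) = x⁻¹ * y := by group
      rwa [h3] at h2
    · intro d hd
      have h2 : x⁻¹ * d * x = d := by
        have h3 := R_D g ((o2 M).inv_mem hx) hd
        rwa [inv_inv] at h3
      calc x⁻¹ * y * d * (x⁻¹ * y)⁻¹ = x⁻¹ * (y * d * y⁻¹) * x := by group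
        _ = d := by rw [hyD d hd, h2]

/-- A 2-subgroup of `C_M(D)` containing `O₂(M)` and normalised by `B` lies in `S`, if `O₂(M) ≰ B`. -/
theorem le_S {x : G} (hx : x ∈ o2 M) (hxB : x ∉ B) {K : Subgroup G} (hK : IsPGroup 2 K)
    (hKC : K ≤ CM M D) (hRK : o2 M ≤ K) (hBK : ∀ b ∈ B, ∀ k ∈ K, b * k * b⁻¹ ∈ K) :
    K ≤ (S : Subgroup G) := by
  have hp : Fact (Nat.Prime 2) := ⟨Nat.prime_two⟩
  have hB2 : IsPGroup 2 B := h.two.to_le (h.BT.trans h.TS)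
  have hKB : IsPGroup 2 (B ⊔ K : Subgroup G) :=
    IsPGroup.to_sup_of_normal_right' hB2 hK (fun b hb => mem_normalizer_of (hBK b hb))
  have hle : (S : Subgroup G) ⊓ CM M D ≤ B ⊔ K := by
    rintro y ⟨hyS, hyC⟩
    rcases h.mem_or g hx hxB hyS (fun d hd => CM_D hyC hd) with h1 | h1
    · exact (le_sup_left : B ≤ B ⊔ K) h1
    · have h2 := (B ⊔ K).mul_mem ((le_sup_right : K ≤ B ⊔ K) (hRK hx)) ((le_sup_left : B ≤ B ⊔ K) h1)
      rwa [mul_inv_cancel_left] at h2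
  have hKBC : (B ⊔ K : Subgroup G) ≤ CM M D := sup_le (h.B_le_CM g) hKC
  obtain ⟨n, hn, hn2⟩ := exists_conj_le_in S.isPGroup' (MinSimple.Basic.not_dvd_relIndex S g.loc.le)
    (hKBC.trans inf_le_left) hKB
  have h3 : (B ⊔ K : Subgroup G).map (MulAut.conj n).toMonoidHom ≤ (S : Subgroup G) ⊓ CM M D := by
    refine le_inf hn2 ?_
    rintro _ ⟨y, hy, rfl⟩
    exact h.M_CM g hn (hKBC hy)
  have h4 : (S : Subgroup G) ⊓ CM M D = B ⊔ K := by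
    apply Subgroup.eq_of_le_of_card_ge hle
    rw [← card_map_conj (B ⊔ K) n]
    exact Subgroup.card_le_of_le h3
  exact le_sup_right.trans (h4.symm.le.trans inf_le_left)

omit g in
/-- `|{b ∈ B : [x,b] ∈ D}| |Q₁| ≤ |B| |D|` for a swap `x`. -/
theorem card_delta {x : G} (hx : s⁻¹ * x ∈ T) {E : Subgroup G} (hE : E ≤ B)
    (hxE : ∀ e ∈ E, x * e * x⁻¹ * e⁻¹ ∈ D) : Nat.card E * Nat.card Q₁ ≤ Nat.card B * Nat.card D := by
  have h1 : (E ⊓ Q₁ : Subgroup G) ≤ D := by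
    rintro a ⟨ha, ha1⟩
    refine (h.memD a).2 ⟨ha1, ?_⟩
    have h2 := Q₂.mul_mem (Q₂.inv_mem (h.D2 (hxE a ha))) (h.swap1 hx ha1)
    have h3 : (x * a * x⁻¹ * a⁻¹)⁻¹ * (x * a * x⁻¹) = a := by group
    rwa [h3] at h2
  have h3 := Subgroup.relIndex_mul_relIndex ⊥ Q₁ B bot_le h.Q1B
  rw [Subgroup.relIndex_bot_left, Subgroup.relIndex_bot_left] at h3
  have h4 := Subgroup.relIndex_mul_relIndex ⊥ (E ⊓ Q₁) E bot_le inf_le_left
  rw [Subgroup.relIndex_bot_left, Subgroup.relIndex_bot_left, Subgroup.inf_relIndex_left] at h4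
  have h5 : Q₁.relIndex E ≤ Q₁.relIndex B :=
    Subgroup.relIndex_le_of_le_right hE (Subgroup.FiniteIndex.index_ne_zero)
  have h6 := Subgroup.card_le_of_le h1
  rw [← h4, ← h3]
  calc Nat.card (E ⊓ Q₁ : Subgroup G) * Q₁.relIndex E * Nat.card Q₁
      ≤ Nat.card D * Q₁.relIndex B * Nat.card Q₁ :=
        Nat.mul_le_mul_right _ (Nat.mul_le_mul h6 h5)
    _ = Nat.card Q₁ * Q₁.relIndex B * Nat.card D := by ring

/-- (1.4) `O₂(M) ∩ B` is normal in `M`. -/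
theorem R0_normal : ∀ m ∈ M, ∀ r ∈ o2 M ⊓ B, m * r * m⁻¹ ∈ o2 M ⊓ B := by
  by_contra hcon
  push Not at hcon
  obtain ⟨m, hm, r₁, hr₁, hm1⟩ := hcon
  have hxR : m * r₁ * m⁻¹ ∈ o2 M := M_R hm hr₁.1
  have hxB : m * r₁ * m⁻¹ ∉ B := fun h1 => hm1 ⟨hxR, h1⟩
  -- the conjugate `Bm` of `B`
  set x := m * r₁ * m⁻¹ with hxdef
  have hxBm : m⁻¹ * x * m ∈ B := by
    have : m⁻¹ * x * m = r₁ := by rw [hxdef]; group
    rw [this]; exact hr₁.2
  have hmD : ∀ d ∈ D, m⁻¹ * d * m ∈ D := inv_conj_mem (fun d hd => M_D g hm hd)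
  have hmR : ∀ r ∈ o2 M, m⁻¹ * r * m ∈ o2 M := inv_conj_mem (fun r hr => M_R hm hr)
  let Bm : Subgroup G := B.map (MulAut.conj m).toMonoidHom
  have hBm : ∀ y, y ∈ Bm ↔ m⁻¹ * y * m ∈ B := fun y => mem_map_conj
  have hxS := R_le g.toGlobN hxR
  have hxT : s⁻¹ * x ∈ T := by
    refine (h.mem_S hxS).resolve_left fun h1 => hxB ?_
    exact h.mem_B_of_centD h1 (fun d hd => R_D g hxR hd)
  have hDBm : D ≤ Bm := fun d hd => (hBm d).2 (h.DB (hmD d hd))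
  have hcommBm : ∀ y ∈ Bm, ∀ z ∈ Bm, y * z * y⁻¹ * z⁻¹ ∈ D := by
    intro y hy z hz
    have h1 := M_D g hm (h.commB ((hBm y).1 hy) ((hBm z).1 hz))
    have h2 : m * (m⁻¹ * y * m * (m⁻¹ * z * m) * (m⁻¹ * y * m)⁻¹ * (m⁻¹ * z * m)⁻¹) * m⁻¹ =
      y * z * y⁻¹ * z⁻¹ := by group
    rwa [h2] at h1
  -- the coset properties
  have hco : ∀ y ∈ o2 M, y ∈ B ∨ x⁻¹ * y ∈ B := fun y hy =>
    h.mem_or g hxR hxB (R_le g.toGlobN hy) (fun d hd => R_D g hy hd)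
  have hcom : ∀ y ∈ o2 M, y ∉ Bm → ∀ z ∈ o2 M, z ∉ Bm → y⁻¹ * z ∈ Bm := by
    intro y hy hy' z hz hz'
    have h1 := (hco _ (hmR y hy)).resolve_left (fun h2 => hy' ((hBm y).2 h2))
    have h2 := (hco _ (hmR z hz)).resolve_left (fun h2 => hz' ((hBm z).2 h2))
    rw [hBm]
    have h3 := B.mul_mem (B.inv_mem h1) h2
    have h4 : (x⁻¹ * (m⁻¹ * y * m))⁻¹ * (x⁻¹ * (m⁻¹ * z * m)) = m⁻¹ * (y⁻¹ * z) * m := by group
    rwa [h4] at h3
  have hcomB : ∀ b ∈ B, x * b * x⁻¹ * b⁻¹ ∈ o2 M ⊓ B := by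
    intro b hb
    refine ⟨?_, B.mul_mem (h.S_B hxS hb) (B.inv_mem hb)⟩
    have h1 := (o2 M).mul_mem hxR (M_R (h.B_le_M g hb) ((o2 M).inv_mem hxR))
    have h2 : x * (b * x⁻¹ * b⁻¹) = x * b * x⁻¹ * b⁻¹ := by group
    rwa [h2] at h1
  have hxxB : x * x ∈ B := by
    rcases hco (x * x) ((o2 M).mul_mem hxR hxR) with h1 | h1
    · exact h1
    · rw [inv_mul_cancel_left] at h1
      exact absurd h1 hxB
  -- `[x, b]` is centralised by `x` modulo `D`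
  have hdd : ∀ b ∈ B, x * (x * b * x⁻¹ * b⁻¹) * x⁻¹ * (x * b * x⁻¹ * b⁻¹)⁻¹ ∈ D := by
    intro b hb
    have h1 := h.commB hxxB hb
    have hb' := h.S_B hxS hb
    have h2 := h.sqB (B.mul_mem hb (B.inv_mem hb'))
    have h3 := D.mul_mem h1 h2
    have h4 : x * x * b * (x * x)⁻¹ * b⁻¹ * (b * (x * b * x⁻¹)⁻¹ * (b * (x * b * x⁻¹)⁻¹)) =
        x * (x * b * x⁻¹ * b⁻¹) * x⁻¹ * (x * b * x⁻¹ * b⁻¹)⁻¹ := by group
    rwa [h4] at h3
  -- the chain stabiliser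
  have hE : ∀ n ∈ B, ∀ r ∈ o2 M ⊓ B ⊓ Bm, n * r * n⁻¹ ∈ o2 M ⊓ B ⊓ Bm := by
    intro n hn r hr
    have h1 := h.commB hn hr.1.2
    have h2 : n * r * n⁻¹ = n * r * n⁻¹ * r⁻¹ * r := by group
    rw [h2]
    exact mul_mem (show n * r * n⁻¹ * r⁻¹ ∈ o2 M ⊓ B ⊓ Bm from
      ⟨⟨h.D_le_R g h1, h.DB h1⟩, hDBm h1⟩) hr
  have hEm : ∀ n ∈ Bm, ∀ r ∈ o2 M ⊓ B ⊓ Bm, n * r * n⁻¹ ∈ o2 M ⊓ B ⊓ Bm := by
    intro n hn r hr
    have h1 := hcommBm n hn r hr.2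
    have h2 : n * r * n⁻¹ = n * r * n⁻¹ * r⁻¹ * r := by group
    rw [h2]
    exact mul_mem (show n * r * n⁻¹ * r⁻¹ ∈ o2 M ⊓ B ⊓ Bm from
      ⟨⟨h.D_le_R g h1, h.DB h1⟩, hDBm h1⟩) hr
  let K := chain (CM M D) (o2 M) (o2 M ⊓ B ⊓ Bm) D (fun _ hc _ hr => M_R hc.1 hr)
    (fun _ hc _ hd => CM_D hc hd)
  have hK2 : IsPGroup 2 K := chain_two (isPGroup_o2 M) (inf_le_left.trans inf_le_left)
    (le_inf (le_inf (h.D_le_R g) h.DB) hDBm) (h.CM_R g)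
  -- `[R, R] ≤ R₁`
  have hRBm : ∀ y ∈ o2 M, ∀ r ∈ o2 M ⊓ B, y * r * y⁻¹ ∈ o2 M ⊓ B := fun y hy r hr =>
    ⟨M_R (o2_le M hy) hr.1, h.S_B (R_le g.toGlobN hy) hr.2⟩
  have hRB : ∀ y ∈ o2 M, ∀ z ∈ o2 M, y * z * y⁻¹ * z⁻¹ ∈ B := by
    intro y hy z hz
    have hyz : ∀ w ∈ o2 M, ∀ b ∈ B, w * b * w⁻¹ ∈ B := fun w hw b hb => h.S_B (R_le g.toGlobN hw) hb
    rcases hco y hy with h1 | h1
    · have h2 := B.mul_mem h1 (hyz z hz _ (B.inv_mem h1))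
      have h3 : y * (z * y⁻¹ * z⁻¹) = y * z * y⁻¹ * z⁻¹ := by group
      rwa [h3] at h2
    · rcases hco z hz with h4 | h4
      · exact B.mul_mem (hyz y hy z h4) (B.inv_mem h4)
      · -- `y = x y'`, `z = x z'`
        have h5 := hyz x hxR _ h1
        have h6 := hyz x hxR _ h4
        have h7 := hyz (x * x) ((o2 M).mul_mem hxR hxR) _ (B.mul_mem h4 (B.inv_mem h1))
        have h8 := hyz x hxR _ (hyz x hxR _ (B.inv_mem h4))
        have h9 : y * z * y⁻¹ * z⁻¹ = (x * (x⁻¹ * y) * x⁻¹) * (x * x * ((x⁻¹ * z) * (x⁻¹ * y)⁻¹) * (x * x)⁻¹)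
          * (x * (x⁻¹ * z)⁻¹ * x⁻¹) := by group
        rw [h9]
        refine B.mul_mem (B.mul_mem h5 h7) (hyz x hxR _ (B.inv_mem h4))
  have hRBm2 : ∀ y ∈ o2 M, ∀ z ∈ o2 M, y * z * y⁻¹ * z⁻¹ ∈ Bm := by
    intro y hy z hz
    rw [hBm]
    have h1 := hRB _ (hmR y hy) _ (hmR z hz)
    have h2 : m⁻¹ * y * m * (m⁻¹ * z * m) * (m⁻¹ * y * m)⁻¹ * (m⁻¹ * z * m)⁻¹ =
      m⁻¹ * (y * z * y⁻¹ * z⁻¹) * m := by group
    rwa [h2] at h1
  have hcr : ∀ r ∈ o2 M ⊓ B ⊓ Bm, ∀ y ∈ o2 M, y * r * y⁻¹ * r⁻¹ ∈ D := by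
    intro r hr y hy
    rcases hco y hy with h1 | h1
    · exact h.commB h1 hr.1.2
    · have h2 := h.commB h1 hr.1.2
      have h3 := hcommBm x ((hBm x).2 hxBm) r hr.2
      have h4 := D.mul_mem (h.P_D hxS h2) h3
      have h5 : x * (x⁻¹ * y * r * (x⁻¹ * y)⁻¹ * r⁻¹) * x⁻¹ * (x * r * x⁻¹ * r⁻¹) =
        y * r * y⁻¹ * r⁻¹ := by group
      rwa [h5] at h4
  have hRK : o2 M ≤ K := by
    intro y hy
    refine ⟨h.R_le_CM g hy, ?_, ?_, ?_⟩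
    · intro r hr
      have h1 := hcr r hr y hy
      have h2 : y * r * y⁻¹ = y * r * y⁻¹ * r⁻¹ * r := by group
      rw [h2]
      exact mul_mem (show y * r * y⁻¹ * r⁻¹ ∈ o2 M ⊓ B ⊓ Bm from
        ⟨⟨h.D_le_R g h1, h.DB h1⟩, hDBm h1⟩) hr
    · intro r hr
      exact ⟨⟨(o2 M).mul_mem (M_R (o2_le M hy) hr) ((o2 M).inv_mem hr), hRB y hy r hr⟩,
        hRBm2 y hy r hr⟩
    · intro r hr
      exact hcr r hr y hy
  -- `K ≤ S` after conjugation by `m⁻¹`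
  have hKS : ∀ k ∈ K, m⁻¹ * k * m ∈ (S : Subgroup G) := by
    intro k hk
    have h1 : K.map (MulAut.conj m⁻¹).toMonoidHom ≤ (S : Subgroup G) := by
      apply h.le_S g hxR hxB (hK2.map _)
      · rintro _ ⟨y, hy, rfl⟩
        exact h.M_CM g (M.inv_mem hm) hy.1
      · intro y hy
        rw [mem_map_conj, inv_inv]
        exact hRK (M_R hm hy)
      · rintro b hb _ ⟨y, hy, rfl⟩
        rw [mem_map_conj, inv_inv]
        have hbm : m * b * m⁻¹ ∈ Bm := (hBm _).2 (by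
          have : m⁻¹ * (m * b * m⁻¹) * m = b := by group
          rwa [this])
        have h2 := h.chain_conj g (M.mul_mem (M.mul_mem hm (h.B_le_M g hb)) (M.inv_mem hm))
          (hEm _ hbm) hy
        have h3 : m * (b * ((MulAut.conj m⁻¹).toMonoidHom y) * b⁻¹) * m⁻¹ =
            m * b * m⁻¹ * y * (m * b * m⁻¹)⁻¹ := by
          show m * (b * (m⁻¹ * y * m⁻¹⁻¹) * b⁻¹) * m⁻¹ = _
          group
        rw [h3]; exact h2
    have h2 : (MulAut.conj m⁻¹).toMonoidHom k ∈ (S : Subgroup G) := h1 ⟨k, hk, rfl⟩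
    have h3 : (MulAut.conj m⁻¹).toMonoidHom k = m⁻¹ * k * m := by
      show m⁻¹ * k * m⁻¹⁻¹ = _
      rw [inv_inv]
    rwa [h3] at h2
  -- elements `b ∈ B` with `[x, b] ∈ Bm` lie in `K`
  have hB1 : ∀ b ∈ B, x * b * x⁻¹ * b⁻¹ ∈ Bm → b ∈ K := by
    intro b hb hxb
    have hbD : ∀ y ∈ o2 M, b * y * b⁻¹ * y⁻¹ ∈ o2 M ⊓ B := by
      intro y hy
      refine ⟨(o2 M).mul_mem (M_R (h.B_le_M g hb) hy) ((o2 M).inv_mem hy), ?_⟩
      have h2 := B.mul_mem hb (h.S_B (R_le g.toGlobN hy) (B.inv_mem hb))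
      have h3 : b * (y * b⁻¹ * y⁻¹) = b * y * b⁻¹ * y⁻¹ := by group
      rwa [h3] at h2
    have hbx : b * x * b⁻¹ * x⁻¹ ∈ Bm := by
      have h1 := Bm.inv_mem hxb
      have h2 : (x * b * x⁻¹ * b⁻¹)⁻¹ = b * x * b⁻¹ * x⁻¹ := by group
      rwa [h2] at h1
    refine ⟨h.B_le_CM g hb, hE b hb, ?_, ?_⟩
    · intro y hy
      refine ⟨hbD y hy, ?_⟩
      rcases hco y hy with h1 | h1
      · exact hDBm (h.commB hb h1)
      · have h2 := h.P_D hxS (h.commB hb h1)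
        have h3 := Bm.mul_mem hbx (hDBm h2)
        have h4 : b * x * b⁻¹ * x⁻¹ * (x * (b * (x⁻¹ * y) * b⁻¹ * (x⁻¹ * y)⁻¹) * x⁻¹) =
          b * y * b⁻¹ * y⁻¹ := by group
        rwa [h4] at h3
    · intro r hr
      exact h.commB hb hr.1.2
  by_cases hcase : ∀ r ∈ o2 M ⊓ B, x * r * x⁻¹ * r⁻¹ ∈ D
  · -- case (i)
    let Δ : Subgroup G :=
      { carrier := {b | b ∈ B ∧ x * b * x⁻¹ * b⁻¹ ∈ D}
        one_mem' := ⟨one_mem _, by simp⟩
        mul_mem' := by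
          rintro b c ⟨hb, hb2⟩ ⟨hc, hc2⟩
          refine ⟨B.mul_mem hb hc, ?_⟩
          have h1 := D.mul_mem hb2 (h.P_D (h.TS (h.BT hb)) hc2)
          have h2 : x * b * x⁻¹ * b⁻¹ * (b * (x * c * x⁻¹ * c⁻¹) * b⁻¹) =
            x * (b * c) * x⁻¹ * (b * c)⁻¹ := by group
          rwa [h2] at h1
        inv_mem' := by
          rintro b ⟨hb, hb2⟩
          refine ⟨B.inv_mem hb, ?_⟩
          have h1 := h.P_D (h.TS (h.BT (B.inv_mem hb))) (D.inv_mem hb2)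
          have h2 : b⁻¹ * (x * b * x⁻¹ * b⁻¹)⁻¹ * b⁻¹⁻¹ = x * b⁻¹ * x⁻¹ * b⁻¹⁻¹ := by group
          rwa [h2] at h1 }
    have hΔ : ∀ b ∈ B, x * b * x⁻¹ * b⁻¹ ∈ Bm → b ∈ Δ := by
      intro b hb hxb
      refine ⟨hb, ?_⟩
      have h1 := hKS b (hB1 b hb hxb)
      have hbCM := h.B_le_CM g hb
      have h2 := h.mem_or g hxR hxB h1 (fun d hd => by
        have h3 := CM_D hbCM (M_D g hm hd)
        calc m⁻¹ * b * m * d * (m⁻¹ * b * m)⁻¹ = m⁻¹ * (b * (m * d * m⁻¹) * b⁻¹) * m := by group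
          _ = d := by rw [h3]; group)
      rcases h2 with h2 | h2
      · exact hcommBm x ((hBm x).2 hxBm) b ((hBm b).2 h2)
      · -- `b = x' b'`
        have hx' : m * x * m⁻¹ ∈ o2 M := M_R hm hxR
        have hb' : (m * x * m⁻¹)⁻¹ * b ∈ Bm := by
          rw [hBm]
          have h3 : m⁻¹ * ((m * x * m⁻¹)⁻¹ * b) * m = x⁻¹ * (m⁻¹ * b * m) := by group
          rwa [h3]
        have h3 := hcommBm x ((hBm x).2 hxBm) _ hb'
        have h4 : x * (m * x * m⁻¹) * x⁻¹ * (m * x * m⁻¹)⁻¹ ∈ D := by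
          rcases hco _ hx' with h5 | h5
          · exact hcase _ ⟨hx', h5⟩
          · have h6 := hcase _ ⟨(o2 M).mul_mem ((o2 M).inv_mem hxR) hx', h5⟩
            have h7 := h.P_D hxS h6
            have h8 : x * (x * (x⁻¹ * (m * x * m⁻¹)) * x⁻¹ * (x⁻¹ * (m * x * m⁻¹))⁻¹) * x⁻¹ =
              x * (m * x * m⁻¹) * x⁻¹ * (m * x * m⁻¹)⁻¹ := by group
            rwa [h8] at h7
        have h5 := D.mul_mem h4 (h.P_D (R_le g.toGlobN hx') h3)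
        have h6 : x * (m * x * m⁻¹) * x⁻¹ * (m * x * m⁻¹)⁻¹ * (m * x * m⁻¹ *
            (x * ((m * x * m⁻¹)⁻¹ * b) * x⁻¹ * ((m * x * m⁻¹)⁻¹ * b)⁻¹) * (m * x * m⁻¹)⁻¹) =
            x * b * x⁻¹ * b⁻¹ := by group
        rwa [h6] at h5
    have hcard : Nat.card B ≤ 2 * Nat.card Δ := by
      by_cases hall : ∀ b ∈ B, x * b * x⁻¹ * b⁻¹ ∈ Bm
      · exact card_le_two_mul B.one_mem (fun b hb => Or.inl (hΔ b hb (hall b hb)))
      · push Not at hall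
        obtain ⟨f, hf, hfx⟩ := hall
        apply card_le_two_mul hf
        intro b hb
        by_cases hbx : x * b * x⁻¹ * b⁻¹ ∈ Bm
        · exact Or.inl (hΔ b hb hbx)
        · right
          apply hΔ _ (B.mul_mem (B.inv_mem hf) hb)
          have h1 := hcom _ (hcomB f hf).1 hfx _ (hcomB b hb).1 hbx
          have h2 : (x * f * x⁻¹ * f⁻¹)⁻¹ * (x * b * x⁻¹ * b⁻¹) ∈ o2 M ⊓ B ⊓ Bm :=
            ⟨(o2 M ⊓ B).mul_mem ((o2 M ⊓ B).inv_mem (hcomB f hf)) (hcomB b hb), h1⟩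
          have h3 := (hE _ (B.inv_mem hf) _ h2).2
          have h4 : f⁻¹ * ((x * f * x⁻¹ * f⁻¹)⁻¹ * (x * b * x⁻¹ * b⁻¹)) * f⁻¹⁻¹ =
            x * (f⁻¹ * b) * x⁻¹ * (f⁻¹ * b)⁻¹ := by group
          rwa [h4] at h3
    have h1 := h.card_delta hxT (E := Δ) (fun b hb => hb.1) (fun b hb => hb.2)
    have h2 := h.card1
    have h3 := h.hq
    have h4 : 0 < Nat.card D := Nat.card_pos
    have h5 : 0 < Nat.card B := Nat.card_pos
    rw [h2] at h1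
    have h6 : Nat.card B * (q * Nat.card D) ≤ 2 * (Nat.card B * Nat.card D) :=
      calc Nat.card B * (q * Nat.card D) ≤ 2 * Nat.card Δ * (q * Nat.card D) :=
            Nat.mul_le_mul_right _ hcard
        _ = 2 * (Nat.card Δ * (q * Nat.card D)) := by ring
        _ ≤ _ := Nat.mul_le_mul_left _ h1
    have h7 : Nat.card B * (q * Nat.card D) = q * (Nat.card B * Nat.card D) := by ring
    rw [h7] at h6
    have h8 : q ≤ 2 := Nat.le_of_mul_le_mul_right h6 (Nat.mul_pos h5 h4)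
    omega
  · -- case (ii)
    push Not at hcase
    obtain ⟨r₀, hr₀, hr₀x⟩ := hcase
    have hr₀m : r₀ ∉ Bm := fun h1 => hr₀x (hcommBm x ((hBm x).2 hxBm) r₀ h1)
    have hall : ∀ b ∈ B, x * b * x⁻¹ * b⁻¹ ∈ Bm := by
      intro b hb
      by_contra hc
      have h1 := hcom _ (hcomB b hb).1 hc r₀ hr₀.1 hr₀m
      have h2 := hcommBm x ((hBm x).2 hxBm) _ h1
      have h3 := hdd b hb
      apply hr₀x
      have h4 := D.mul_mem h3 (h.P_D (R_le g.toGlobN (hcomB b hb).1) h2)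
      have h5 : x * (x * b * x⁻¹ * b⁻¹) * x⁻¹ * (x * b * x⁻¹ * b⁻¹)⁻¹ *
          (x * b * x⁻¹ * b⁻¹ * (x * ((x * b * x⁻¹ * b⁻¹)⁻¹ * r₀) * x⁻¹ *
            ((x * b * x⁻¹ * b⁻¹)⁻¹ * r₀)⁻¹) * (x * b * x⁻¹ * b⁻¹)⁻¹) = x * r₀ * x⁻¹ * r₀⁻¹ := by
        group
      rwa [h5] at h4
    have h1 : m⁻¹ ∈ normalizer (B : Set G) := by
      apply h.conj_B
      intro b hb
      have h2 := hKS b (hB1 b hb (hall b hb))
      rwa [inv_inv]
    have h2 := (normalizer (B : Set G)).inv_mem h1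
    rw [inv_inv] at h2
    exact hxB ((mem_normalizer_iff.1 h2 r₁).1 hr₁.2)

/-- **(1)** `M ≤ N_G(B)`, if `Ω₁Z(O₂(M)) = D`. -/
theorem M_le' : M ≤ normalizer (B : Set G) :=
  h.M_le_of g (h.B_le_of_normal g (h.R0_normal g))

omit g in
/-- **(1)** `M = N_G(B)` for every member `M ≥ N_G(B)` of `L(S)`. -/
theorem M_eq_of (g : GlobN S M B) {K : Subgroup G} (τ : Tor T B D C₁ K) :
    M = normalizer (B : Set G) :=
  le_antisymm (h.M_le' ⟨g, h.zc_R g τ⟩) (h.normB_le g)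

omit g in
/-- **(1)** `M = N_G(B)`. -/
theorem M_eq (g : Glob S M) {K : Subgroup G} (τ : Tor T B D C₁ K) :
    M = normalizer (B : Set G) :=
  h.M_eq_of (h.toN g) τ

end Base

end

end Cfsg.Agent.Omega.SQ1.End
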