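import Cfsg.Agent.Omega.SQ1.End0
import Cfsg.Agent.Omega.SQ1.EndThree
import Cfsg.Agent.MinSimple.Basic

/-!
# The end `k = 1`, `q ≥ 4` of the unique maximal 2-local case (SQ1.7, #11260), step (3): `T = B`

`T_le_B`: in the situation `Base` with blocks `L₁`, `L₂` over `Q₁`, `Q₂`, if all good elements `z` satisfy
`C_G(z) ≤ N_G(B)` and `G` is of characteristic 2 type, then `T = B`.
-/

set_option autoImplicit false
set_option Elab.async false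

namespace Cfsg.Agent.Omega.SQ1.End3

open Subgroup Cfsg
open Cfsg.Agent.Omega.SQ1.End
open scoped Pointwise

universe u

variable {G : Type u} [Group G]

/-- Sylow's theorem for an involution and a maximal 2-subgroup of a subgroup. -/
theorem exists_conj_mem [Finite G] {X P : Subgroup G} (hP : IsPGroup 2 P) (hPX : P ≤ X)
    (hmax : ∀ R : Subgroup G, IsPGroup 2 R → P ≤ R → R ≤ X → R ≤ P) {y : G} (hy : y ∈ X)
    (hy2 : y * y = 1) : ∃ g ∈ X, g * y * g⁻¹ ∈ P := by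
  have h1 : IsPGroup 2 (P.subgroupOf X) := hP.comap_of_injective _ X.subtype_injective
  obtain ⟨Q, hQ⟩ := h1.exists_le_sylow
  have h2 : (Q : Subgroup X).map X.subtype ≤ P := by
    apply hmax _ (Q.isPGroup'.map _) ?_ (map_subtype_le _)
    intro x hx
    exact ⟨⟨x, hPX hx⟩, hQ (mem_subgroupOf.2 hx), rfl⟩
  have h3 : IsPGroup 2 (zpowers (⟨y, hy⟩ : X)) := by
    have h4 : (⟨y, hy⟩ : X) ^ 2 = 1 := by
      apply Subtype.ext
      show y ^ 2 = 1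
      rw [pow_two]; exact hy2
    rintro ⟨_, i, rfl⟩
    refine ⟨1, ?_⟩
    apply Subtype.ext
    show ((⟨y, hy⟩ : X) ^ i) ^ 2 ^ 1 = 1
    rw [pow_one, ← zpow_natCast, ← zpow_mul, mul_comm, zpow_mul, zpow_natCast, h4, one_zpow]
  obtain ⟨R, hR⟩ := h3.exists_le_sylow
  obtain ⟨g, hg⟩ := MulAction.exists_smul_eq X R Q
  refine ⟨g, g.2, h2 ?_⟩
  refine ⟨g * ⟨y, hy⟩ * g⁻¹, ?_, rfl⟩
  have h4 : g * ⟨y, hy⟩ * g⁻¹ ∈ (g • R : Sylow 2 X) := by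
    have h5 : g * ⟨y, hy⟩ * g⁻¹ = MulAut.conj g • (⟨y, hy⟩ : X) := rfl
    rw [h5]
    exact Subgroup.smul_mem_pointwise_smul _ _ _ (hR (mem_zpowers _))
  rw [hg] at h4
  exact h4

/-- Descent of the square. -/
theorem sq_descent {t : G} {X Y : Subgroup G} (hcom : ∀ a ∈ X, ∀ b ∈ X, a * b * a⁻¹ * b⁻¹ ∈ Y)
    (htX : ∀ x ∈ X, t * x * t⁻¹ ∈ X) (hfr : Free t X Y) (ht : t * t ∈ X) :
    ∃ u ∈ X, (u⁻¹ * t) * (u⁻¹ * t) ∈ Y := by
  obtain ⟨u, hu, h1⟩ := hfr (t * t) ht (by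
    have : (t * t)⁻¹ * (t * (t * t) * t⁻¹) = 1 := by group
    rw [this]; exact one_mem _)
  refine ⟨u, hu, ?_⟩
  have hv := htX u hu
  set v := t * u * t⁻¹ with hvd
  have h2 := Y.inv_mem h1
  have h3 := hcom _ (X.inv_mem hu) _ (X.inv_mem hv)
  have h4 := Y.mul_mem h3 h2
  have h5 : u⁻¹ * v⁻¹ * u⁻¹⁻¹ * v⁻¹⁻¹ * ((t * t)⁻¹ * (u * v))⁻¹ = u⁻¹ * t * (u⁻¹ * t) := by
    rw [hvd]; group
  rwa [h5] at h4

/-- Descent of the conjugation. -/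
theorem conj_descent {y b : G} {X Y : Subgroup G} (hcom : ∀ a ∈ X, ∀ c ∈ Y, a * c * a⁻¹ ∈ Y)
    (hsq : ∀ a ∈ X, a * a ∈ Y) (hyX : ∀ x ∈ X, y * x * y⁻¹ ∈ X) (hfr : Free y X Y) (hy : y * y = 1)
    (hb : b ∈ X) (hby : (b * y) * (b * y) = 1) : ∃ u ∈ X, ∃ c ∈ Y, u⁻¹ * (b * y) * u = c * y := by
  have hyi : y⁻¹ = y := inv_eq_of_mul_eq_one_right hy
  have h1 : y * b * y⁻¹ = b⁻¹ := by
    rw [hyi, eq_comm, inv_eq_iff_mul_eq_one]
    calc b * (y * b * y) = (b * y) * (b * y) := by group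
      _ = 1 := hby
  obtain ⟨u, hu, h2⟩ := hfr b hb (by
    rw [h1]
    have h3 := Y.inv_mem (hsq b hb)
    rwa [mul_inv_rev] at h3)
  refine ⟨u, hu, u⁻¹ * b * (y * u * y⁻¹), ?_, ?_⟩
  · have hv := hyX u hu
    set v := y * u * y⁻¹ with hvd
    have h3 := Y.mul_mem (hcom v hv _ (Y.inv_mem h2)) (hsq v hv)
    have h4 : v * (b⁻¹ * (u * v))⁻¹ * v⁻¹ * (v * v) = u⁻¹ * b * v := by group
    rwa [h4] at h3
  · rw [hyi]
    calc u⁻¹ * (b * y) * u = u⁻¹ * b * (y * u) := by group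
      _ = u⁻¹ * b * (y * u) * (y * y) := by rw [hy, mul_one]
      _ = u⁻¹ * b * (y * u * y) * y := by group

/-- A fixed point outside `Y`. -/
theorem exists_fixed {y : G} {X Y : Subgroup G} (hc : ∀ a ∈ X, ∀ b ∈ X, a * b = b * a)
    (hsq : ∀ a ∈ X, a * a = 1) (hyX : ∀ x ∈ X, y * x * y⁻¹ ∈ X) (hfr : Free y X Y) (hy : y * y = 1)
    (hne : ∃ x ∈ X, x ∉ Y) : ∃ a ∈ X, a ∉ Y ∧ y * a = a * y := by
  have hfix : ∀ u ∈ X, y * (u * (y * u * y⁻¹)) = u * (y * u * y⁻¹) * y := by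
    intro u hu
    have h1 := hc _ hu _ (hyX u hu)
    have h2 : y * (u * (y * u * y⁻¹)) = (y * u * y⁻¹) * (y * y * u * (y * y)⁻¹) * y := by group
    rw [h2, hy, one_mul, inv_one, mul_one, h1]
  by_cases hall : ∀ x ∈ X, x * (y * x * y⁻¹) ∈ Y
  · exfalso
    obtain ⟨x, hx, hxY⟩ := hne
    have hxi : x⁻¹ = x := inv_eq_of_mul_eq_one_right (hsq x hx)
    obtain ⟨u, hu, h1⟩ := hfr x hx (by rw [hxi]; exact hall x hx)
    apply hxY
    have h2 := Y.mul_mem (hall u hu) (Y.inv_mem h1)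
    have h3 : u * (y * u * y⁻¹) * (x⁻¹ * (u * (y * u * y⁻¹)))⁻¹ = x := by group
    rwa [h3] at h2
  · push Not at hall
    obtain ⟨u, hu, h1⟩ := hall
    exact ⟨u * (y * u * y⁻¹), X.mul_mem hu (hyX u hu), h1, hfix u hu⟩

/-- The group `N ∪ yN`, `y` an involution normalising `N`. -/
def ext (N : Subgroup G) {y : G} (hy2 : y * y = 1) (hN : ∀ n ∈ N, y * n * y⁻¹ ∈ N) : Subgroup G where
  carrier := {x | x ∈ N ∨ y * x ∈ N}
  one_mem' := Or.inl (one_mem _)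
  mul_mem' := by
    rintro x x' (hx | hx) (hx' | hx')
    · exact Or.inl (N.mul_mem hx hx')
    · right
      have h1 := N.mul_mem (hN x hx) hx'
      have h2 : y * x * y⁻¹ * (y * x') = y * (x * x') := by group
      rwa [h2] at h1
    · right
      have h1 := N.mul_mem hx hx'
      rwa [mul_assoc] at h1
    · left
      have h1 := N.mul_mem (hN _ hx) hx'
      have h2 : y * (y * x) * y⁻¹ * (y * x') = (y * y) * (x * x') := by group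
      rwa [h2, hy2, one_mul] at h1
  inv_mem' := by
    rintro x (hx | hx)
    · exact Or.inl (N.inv_mem hx)
    · right
      have h1 := hN _ (N.inv_mem hx)
      have h2 : y * (y * x)⁻¹ * y⁻¹ = y * x⁻¹ * (y * y)⁻¹ := by group
      rwa [h2, hy2, inv_one, mul_one] at h1

theorem mem_ext {N : Subgroup G} {y : G} {hy2 : y * y = 1} {hN : ∀ n ∈ N, y * n * y⁻¹ ∈ N} {x : G} :
    x ∈ ext N hy2 hN ↔ x ∈ N ∨ y * x ∈ N := Iff.rfl

/-- A second point of the projective line fixed by an involution. -/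
theorem exists_c [Finite G] {S T B Q D C L N : Subgroup G} (hS : IsPGroup 2 S) (hTS : T ≤ S) (hBT : B ≤ T)
    (b1 : Blk T B Q D C L N) (hcom : ∀ a ∈ B, ∀ b ∈ B, a * b * a⁻¹ * b⁻¹ ∈ Q) (hsq : ∀ a ∈ B, a * a ∈ Q)
    (hQB : Q ≤ B) {y : G} (hy : y ∈ T) (hyB : y ∉ B) (hy2 : y * y = 1) (hyN : ∀ b ∈ B, y * b * y⁻¹ ∈ B)
    (hfr : Free y B Q) (hcj : ∀ b ∈ B, (b * y) * (b * y) = 1 → ∃ u ∈ B, u⁻¹ * (b * y) * u = y) :
    ∃ c ∈ L, c ∉ N ∧ c * y = y * c := by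
  have hyi : y⁻¹ = y := inv_eq_of_mul_eq_one_right hy2
  have hBL : B ≤ L := b1.BN.trans b1.NL
  have hconjQ : ∀ a ∈ B, ∀ x ∈ Q, a * x * a⁻¹ ∈ Q := fun a ha x hx => b1.QL a (hBL ha) x hx
  have hN := b1.TN y hy
  -- `y` is not in `L`
  have hPS : ext B hy2 hyN ≤ S := by
    rintro x (hx | hx)
    · exact hTS (hBT hx)
    · have h1 := S.mul_mem (S.inv_mem (hTS hy)) (hTS (hBT hx))
      rwa [inv_mul_cancel_left] at h1
  have hP : IsPGroup 2 (ext B hy2 hyN) := hS.to_le hPS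
  have hyP : y ∈ ext B hy2 hyN := Or.inr (by rw [hy2]; exact one_mem _)
  have hyL : y ∉ L := by
    intro hyL
    have h1 := b1.syl _ hP (fun x hx => Or.inl hx) (by
      rintro x (hx | hx)
      · exact hBL hx
      · have h1 := L.mul_mem (L.inv_mem hyL) (hBL hx)
        rwa [inv_mul_cancel_left] at h1)
    exact hyB (h1 ▸ hyP)
  have hconjL : ∀ l ∈ L, ∀ x, l * x * l⁻¹ ∈ L → x ∈ L := by
    intro l hl x hx
    have h1 := L.mul_mem (L.mul_mem (L.inv_mem hl) hx) hl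
    have h2 : l⁻¹ * (l * x * l⁻¹) * l = x := by group
    rwa [h2] at h1
  -- a point fixed by `y`
  obtain ⟨l, hl, hlN⟩ := b1.ne
  have hl' : y * l * y⁻¹ ∈ L := b1.TL y hy l hl
  have hlN' : y * l * y⁻¹ ∉ N := by
    intro h1
    have h2 := hN _ h1
    have h3 : y * (y * l * y⁻¹) * y⁻¹ = (y * y) * l * (y * y)⁻¹ := by group
    rw [h3, hy2, one_mul, inv_one, mul_one] at h2
    exact hlN h2
  obtain ⟨b, hb, hn⟩ := b1.tr l hl hlN _ hl' hlN'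
  have hbb : y * b * y⁻¹ * b ∈ Q := by
    apply b1.st _ (B.mul_mem (hyN b hb) hb) l hl hlN
    have h1 := N.inv_mem (N.mul_mem hn (hN _ hn))
    have h3 : (l⁻¹ * b⁻¹ * (y * l * y⁻¹) * (y * (l⁻¹ * b⁻¹ * (y * l * y⁻¹)) * y⁻¹))⁻¹
        = ((y * y) * l * (y * y)⁻¹)⁻¹ * (y * b * y⁻¹ * b) * l := by group
    rw [h3, hy2, one_mul, inv_one, mul_one] at h1
    exact h1
  obtain ⟨u, hu, hq⟩ := hfr b hb (by
    have h1 := hconjQ _ (B.inv_mem hb) _ hbb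
    have h2 := Q.mul_mem h1 (Q.inv_mem (hsq b hb))
    have h3 : b⁻¹ * (y * b * y⁻¹ * b) * b⁻¹⁻¹ * (b * b)⁻¹ = b⁻¹ * (y * b * y⁻¹) := by group
    rwa [h3] at h2)
  have hv := hyN u hu
  have hum : u * l ∈ L := L.mul_mem (hBL hu) hl
  have humN : u * l ∉ N := by
    intro h1
    have h2 := N.mul_mem (N.inv_mem (b1.BN hu)) h1
    rw [inv_mul_cancel_left] at h2
    exact hlN h2
  have hn1 : (u * l)⁻¹ * y * (u * l) * y⁻¹ ∈ N := by
    have h1 : u⁻¹ * (y * u * y⁻¹) * b ∈ Q := by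
      have h2 := Q.mul_mem (Q.mul_mem (hcom _ (B.inv_mem hu) _ hv) (hsq _ hv)) (Q.inv_mem hq)
      have h3 : u⁻¹ * (y * u * y⁻¹) * u⁻¹⁻¹ * (y * u * y⁻¹)⁻¹ * (y * u * y⁻¹ * (y * u * y⁻¹)) *
          (b⁻¹ * (u * (y * u * y⁻¹)))⁻¹ = u⁻¹ * (y * u * y⁻¹) * b := by group
      rwa [h3] at h2
    have h2 := b1.QL _ (L.inv_mem hl) _ h1
    have h3 := N.mul_mem (b1.BN (hQB h2)) hn
    have h4 : l⁻¹ * (u⁻¹ * (y * u * y⁻¹) * b) * l⁻¹⁻¹ * (l⁻¹ * b⁻¹ * (y * l * y⁻¹))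
        = (u * l)⁻¹ * y * (u * l) * y⁻¹ := by group
    rwa [h4] at h3
  set m := u * l with hm
  -- Sylow
  have hy1 : m⁻¹ * y * m * (m⁻¹ * y * m) = 1 := by
    have h1 : m⁻¹ * y * m * (m⁻¹ * y * m) = m⁻¹ * (y * y) * m := by group
    rw [h1, hy2]; group
  have hy1X : m⁻¹ * y * m ∈ ext N hy2 hN := by
    right
    have h1 := hN _ hn1
    have h2 : y * (m⁻¹ * y * m * y⁻¹) * y⁻¹ = y * (m⁻¹ * y * m) * (y * y)⁻¹ := by group
    rwa [h2, hy2, inv_one, mul_one] at h1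
  have hmax : ∀ R : Subgroup G, IsPGroup 2 R → ext B hy2 hyN ≤ R → R ≤ ext N hy2 hN →
      R ≤ ext B hy2 hyN := by
    intro R hR hPR hRX r hr
    have hyR := hPR hyP
    have h1 : R ⊓ L = B := b1.syl _ (hR.to_le inf_le_left)
      (fun x hx => ⟨hPR (Or.inl hx), hBL hx⟩) inf_le_right
    rcases hRX hr with h2 | h2
    · left
      rw [← h1]; exact ⟨hr, b1.NL h2⟩
    · right
      rw [← h1]; exact ⟨R.mul_mem hyR hr, b1.NL h2⟩
  obtain ⟨g, hg, hgP⟩ := exists_conj_mem hP (by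
    rintro x (hx | hx)
    · exact Or.inl (b1.BN hx)
    · exact Or.inr (b1.BN hx)) hmax hy1X hy1
  obtain ⟨n, hn', hnP⟩ : ∃ n ∈ N, n * (m⁻¹ * y * m) * n⁻¹ ∈ ext B hy2 hyN := by
    rcases hg with hg | hg
    · exact ⟨g, hg, hgP⟩
    · refine ⟨y * g, hg, ?_⟩
      have h1 := (ext B hy2 hyN).mul_mem ((ext B hy2 hyN).mul_mem hyP hgP) ((ext B hy2 hyN).inv_mem hyP)
      have h2 : y * (g * (m⁻¹ * y * m) * g⁻¹) * y⁻¹ = y * g * (m⁻¹ * y * m) * (y * g)⁻¹ := by group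
      rwa [h2] at h1
  have hk : n * m⁻¹ ∈ L := L.mul_mem (b1.NL hn') (L.inv_mem hum)
  rcases hnP with h1 | h1
  · exfalso
    apply hyL
    apply hconjL _ hk
    have h2 := hBL h1
    have h3 : n * (m⁻¹ * y * m) * n⁻¹ = n * m⁻¹ * y * (n * m⁻¹)⁻¹ := by group
    rwa [h3] at h2
  · have h2 := hyN _ h1
    have h3 : y * (y * (n * (m⁻¹ * y * m) * n⁻¹)) * y⁻¹ * y = y * y * (n * (m⁻¹ * y * m) * n⁻¹) := by
      group
    rw [hy2, one_mul] at h3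
    obtain ⟨w, hw, hw1⟩ := hcj _ h2 (by
      rw [h3]
      have h4 : n * (m⁻¹ * y * m) * n⁻¹ * (n * (m⁻¹ * y * m) * n⁻¹) =
        n * (m⁻¹ * (y * y) * m) * n⁻¹ := by group
      rw [h4, hy2]; group)
    rw [h3] at hw1
    refine ⟨m * n⁻¹ * w, L.mul_mem (L.mul_mem hum (L.inv_mem (b1.NL hn'))) (hBL hw), ?_, ?_⟩
    · intro h4
      apply humN
      have h5 := N.mul_mem (N.mul_mem h4 (N.inv_mem (b1.BN hw))) hn'
      have h6 : m * n⁻¹ * w * w⁻¹ * n = m := by group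
      rwa [h6] at h5
    · have h4 : m * n⁻¹ * w * (w⁻¹ * (n * (m⁻¹ * y * m) * n⁻¹) * w) = y * (m * n⁻¹ * w) := by group
      rw [hw1] at h4
      exact h4

/-! ### The elements `y`, `a`, `b`, `c₁`, `c₂` -/

section

variable {S T B Q₁ Q₂ D C₁ C₂ : Subgroup G} {s : G} {q : ℕ} [Finite G]

omit [Finite G] in
theorem sqB (h : Base S T B Q₁ Q₂ D C₁ C₂ s q) {x : G} (hx : x ∈ B) : x * x ∈ D := by
  obtain ⟨a, ha, b, hb, rfl⟩ := h.prod x hx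
  have h1 := h.comm12 ha hb
  rw [h.inv1 ha, h.inv2 hb] at h1
  have h2 : a * b * (a * b) = a * b * a * b := by group
  rw [h2]; exact h1

theorem exists_y (h : Base S T B Q₁ Q₂ D C₁ C₂ s q)
    (hfD : ∀ t ∈ T, t ∉ B → t * t ∈ B → Free t D ⊥) (hTB : ¬ T ≤ B) : ∃ y ∈ T, y ∉ B ∧ y * y = 1 := by
  classical
  obtain ⟨t, ht, htB⟩ := Set.not_subset.1 hTB
  have ht : t ∈ T := ht
  have hex : ∃ k : ℕ, t ^ 2 ^ k ∈ B := by
    obtain ⟨k, hk⟩ := h.two ⟨t, h.TS ht⟩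
    refine ⟨k, ?_⟩
    have h1 : t ^ 2 ^ k = 1 := by
      have := congrArg Subtype.val hk
      simpa using this
    rw [h1]; exact one_mem _
  have h0 : Nat.find hex ≠ 0 := by
    intro h0
    have h1 := Nat.find_spec hex
    rw [h0, pow_zero, pow_one] at h1
    exact htB h1
  obtain ⟨k, hk⟩ := Nat.exists_eq_succ_of_ne_zero h0
  have h1 : t ^ 2 ^ k ∉ B := Nat.find_min hex (by omega)
  have h2 : t ^ 2 ^ k * t ^ 2 ^ k ∈ B := by
    have h3 := Nat.find_spec hex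
    rw [hk, Nat.succ_eq_add_one, pow_succ, pow_mul, pow_two] at h3
    exact h3
  have h3 : t ^ 2 ^ k ∈ T := T.pow_mem ht _
  generalize t ^ 2 ^ k = r at h1 h2 h3
  have hnm : ∀ r u : G, r ∈ T → r ∉ B → u ∈ B → u⁻¹ * r ∈ T ∧ u⁻¹ * r ∉ B := by
    intro r u hr hrB hu
    refine ⟨T.mul_mem (h.BT (B.inv_mem hu)) hr, fun h4 => hrB ?_⟩
    have h5 := B.mul_mem hu h4
    rwa [mul_inv_cancel_left] at h5
  obtain ⟨u₁, hu₁, e₁⟩ := sq_descent (t := r) (X := B) (Y := Q₁) (fun a ha b hb => h.D1 (h.commB ha hb))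
    (fun x hx => h.S_B (h.TS h3) hx) (h.free1 r h3 h1 h2) h2
  obtain ⟨h3', h1'⟩ := hnm r u₁ h3 h1 hu₁
  generalize u₁⁻¹ * r = r₁ at e₁ h3' h1'
  obtain ⟨u₂, hu₂, e₂⟩ := sq_descent (t := r₁) (X := Q₁) (Y := D) (fun a ha b hb => by
      rw [h.c1 a ha b hb]; have : b * a * a⁻¹ * b⁻¹ = 1 := by group
      rw [this]; exact one_mem _)
    (h.T1 r₁ h3') (h.free1D r₁ h3' h1' (h.Q1B e₁)) e₁
  obtain ⟨h4', h5'⟩ := hnm r₁ u₂ h3' h1' (h.Q1B hu₂)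
  generalize u₂⁻¹ * r₁ = r₂ at e₂ h4' h5'
  obtain ⟨u₃, hu₃, e₃⟩ := sq_descent (t := r₂) (X := D) (Y := ⊥) (fun a ha b hb => by
      rw [h.c1 a (h.D1 ha) b (h.D1 hb)]; have : b * a * a⁻¹ * b⁻¹ = 1 := by group
      rw [this]; exact one_mem _)
    (fun x hx => h.T_D h4' hx) (hfD r₂ h4' h5' (h.DB e₂)) e₂
  obtain ⟨h6', h7'⟩ := hnm r₂ u₃ h4' h5' (h.DB hu₃)
  exact ⟨u₃⁻¹ * r₂, h6', h7', mem_bot.1 e₃⟩

/-- The involutions of `By` are conjugate. -/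
theorem conj_y (h : Base S T B Q₁ Q₂ D C₁ C₂ s q)
    (hfD : ∀ t ∈ T, t ∉ B → t * t ∈ B → Free t D ⊥) {y : G} (hy : y ∈ T) (hyB : y ∉ B) (hy2 : y * y = 1)
    {b : G} (hb : b ∈ B) (hby : (b * y) * (b * y) = 1) : ∃ u ∈ B, u⁻¹ * (b * y) * u = y := by
  have hyy : y * y ∈ B := by rw [hy2]; exact one_mem _
  have hsqc : ∀ u c : G, ((u⁻¹ * c * u) * (u⁻¹ * c * u)) = u⁻¹ * (c * c) * u := by intro u c; group
  obtain ⟨u₁, hu₁, c₁, hc₁, e₁⟩ := conj_descent (y := y) (X := B) (Y := Q₁)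
    (fun a ha c hc => h.conjQ1 ha hc) (fun a ha => h.D1 (sqB h ha)) (fun x hx => h.S_B (h.TS hy) hx)
    (h.free1 y hy hyB hyy) hy2 hb hby
  have f₁ : (c₁ * y) * (c₁ * y) = 1 := by rw [← e₁, hsqc, hby]; group
  obtain ⟨u₂, hu₂, c₂, hc₂, e₂⟩ := conj_descent (y := y) (X := Q₁) (Y := D)
    (fun a ha c hc => by rw [h.c1 a ha c (h.D1 hc), mul_inv_cancel_right]; exact hc)
    (fun a ha => by rw [h.sq1 a ha]; exact one_mem _) (h.T1 y hy)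
    (h.free1D y hy hyB hyy) hy2 hc₁ f₁
  have f₂ : (c₂ * y) * (c₂ * y) = 1 := by rw [← e₂, hsqc, f₁]; group
  obtain ⟨u₃, hu₃, c₃, hc₃, e₃⟩ := conj_descent (y := y) (X := D) (Y := ⊥)
    (fun a ha c hc => by rw [mem_bot.1 hc, mul_one, mul_inv_cancel]; exact one_mem _)
    (fun a ha => by rw [h.sqD ha]; exact one_mem _) (fun x hx => h.T_D hy hx)
    (hfD y hy hyB hyy) hy2 hc₂ f₂
  refine ⟨u₁ * u₂ * u₃, B.mul_mem (B.mul_mem hu₁ (h.Q1B hu₂)) (h.DB hu₃), ?_⟩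
  rw [mem_bot.1 hc₃, one_mul] at e₃
  calc (u₁ * u₂ * u₃)⁻¹ * (b * y) * (u₁ * u₂ * u₃)
      = u₃⁻¹ * (u₂⁻¹ * (u₁⁻¹ * (b * y) * u₁) * u₂) * u₃ := by group
    _ = y := by rw [e₁, e₂, e₃]

theorem exists_c1 {L N : Subgroup G} (h : Base S T B Q₁ Q₂ D C₁ C₂ s q)
    (hfD : ∀ t ∈ T, t ∉ B → t * t ∈ B → Free t D ⊥) (b1 : Blk T B Q₁ D C₁ L N) {y : G}
    (hy : y ∈ T) (hyB : y ∉ B) (hy2 : y * y = 1) : ∃ c ∈ L, c ∉ N ∧ c * y = y * c :=
  exists_c h.two h.TS h.BT b1 (fun a ha b hb => h.D1 (h.commB ha hb)) (fun a ha => h.D1 (sqB h ha))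
    h.Q1B hy hyB hy2 (fun b hb => h.S_B (h.TS hy) hb) (h.free1 y hy hyB (by rw [hy2]; exact one_mem _))
    (fun _ hb hby => conj_y h hfD hy hyB hy2 hb hby)

omit [Finite G] in
/-- `[x, a]` is good for `x ∈ B - D` and a suitable `a`. -/
theorem comm_good (h : Base S T B Q₁ Q₂ D C₁ C₂ s q) {a b x : G} (ha : a ∈ Q₁) (haD : a ∉ D)
    (hb : b ∈ Q₂) (hbD : b ∉ D) (hx : x ∈ B) (hxD : x ∉ D) :
    Gd D C₁ C₂ (a * x * a⁻¹ * x⁻¹) ∨ Gd D C₁ C₂ (x * b * x⁻¹ * b⁻¹) := by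
  obtain ⟨a', ha', b', hb', rfl⟩ := h.prod x hx
  by_cases h1 : b' ∈ D
  · right
    have h2 : a' ∉ D := fun h2 => hxD (D.mul_mem h2 h1)
    have h3 := h.good a' ha' h2 b hb hbD
    have h4 : a' * b' * b * (a' * b')⁻¹ * b⁻¹ = a' * b * a'⁻¹ * b⁻¹ := by
      have h5 : b' * b = b * b' := h.c2 b' hb' b hb
      calc a' * b' * b * (a' * b')⁻¹ * b⁻¹ = a' * (b' * b) * b'⁻¹ * a'⁻¹ * b⁻¹ := by group
        _ = _ := by rw [h5]; group
    rwa [h4]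
  · left
    have h3 := h.good a ha haD b' hb' h1
    have h4 : a * (a' * b') * a⁻¹ * (a' * b')⁻¹ = a * b' * a⁻¹ * b'⁻¹ := by
      have h5 : a * a' = a' * a := h.c1 a ha a' ha'
      have h6 : (a * b' * a⁻¹ * b'⁻¹) * a' = a' * (a * b' * a⁻¹ * b'⁻¹) :=
        h.centD h3.1 (h.Q1B ha')
      calc a * (a' * b') * a⁻¹ * (a' * b')⁻¹ = (a * a') * b' * a⁻¹ * b'⁻¹ * a'⁻¹ := by group
        _ = (a' * (a * b' * a⁻¹ * b'⁻¹)) * a'⁻¹ := by rw [h5]; group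
        _ = _ := by rw [← h6]; group
    rwa [h4]

/-- (3) `T = B`. -/
theorem T_le_B_of (hc : IsCharacteristicTwoType G) {L₁ N₁ L₂ N₂ : Subgroup G}
    (h : Base S T B Q₁ Q₂ D C₁ C₂ s q) (hfD : ∀ t ∈ T, t ∉ B → t * t ∈ B → Free t D ⊥)
    (b1 : Blk T B Q₁ D C₁ L₁ N₁) (b2 : Blk T B Q₂ D C₂ L₂ N₂)
    (hgood : ∀ z, Gd D C₁ C₂ z → centralizer ({z} : Set G) ≤ normalizer (B : Set G)) : T ≤ B := by
  by_contra hTB
  obtain ⟨y, hy, hyB, hy2⟩ := exists_y h hfD hTB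
  have hy1 : y ≠ 1 := fun h1 => hyB (h1 ▸ one_mem _)
  have hyy : y * y ∈ B := by rw [hy2]; exact one_mem _
  obtain ⟨c₁, hc₁, hc₁N, hc₁y⟩ := exists_c1 h hfD b1 hy hyB hy2
  obtain ⟨c₂, hc₂, hc₂N, hc₂y⟩ := exists_c1 h.symm hfD b2 hy hyB hy2
  obtain ⟨a, ha, haD, hya⟩ := exists_fixed h.c1 h.sq1 (h.T1 y hy) (h.free1D y hy hyB hyy) hy2 h.exists_a
  obtain ⟨b, hb, hbD, hyb⟩ := exists_fixed h.c2 h.sq2 (h.T2 y hy) (h.free2D y hy hyB hyy) hy2 h.exists_b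
  set z := a * b * a⁻¹ * b⁻¹ with hz
  have hzg : Gd D C₁ C₂ z := h.good a ha haD b hb hbD
  set H : Subgroup G := centralizer ({y} : Set G) with hH
  have memH : ∀ x, x ∈ H ↔ y * x = x * y := fun x => by rw [hH, mem_centralizer_singleton_iff, eq_comm]
  have haH : a ∈ H := (memH a).2 hya
  have hbH : b ∈ H := (memH b).2 hyb
  have hc₁H : c₁ ∈ H := (memH _).2 hc₁y.symm
  have hc₂H : c₂ ∈ H := (memH _).2 hc₂y.symm
  set R : Subgroup G := ZN.o2 H with hR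
  have hR2 : IsPGroup 2 R := MinSimple.VModule.o2_isPGroup H
  have hRH : R ≤ H := MinSimple.VModule.o2_le H
  have hRn : H ≤ normalizer (R : Set G) := MinSimple.VModule.le_normalizer_o2 H
  have hchar : H ⊓ centralizer (R : Set G) ≤ R :=
    MinSimple.Basic.char2_centralizer hc (by rw [pow_two]; exact hy2) hy1
  have hcj : ∀ g ∈ H, ∀ r ∈ R, g * r * g⁻¹ ∈ R := fun g hg r hr => (mem_normalizer_iff.1 (hRn hg) r).1 hr
  -- (3.1)
  have key : ∀ g ∈ R, Gd D C₁ C₂ g → False := by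
    intro g hg hgd
    have h1 := hcj _ hc₂H g hg
    have h2 : c₂ * g * c₂⁻¹ ∉ D := b2.line g hgd.1 hgd.2.2 c₂ hc₂ hc₂N
    have h3 : c₂ * g * c₂⁻¹ ∈ Q₂ := b2.QL c₂ hc₂ g (h.D2 hgd.1)
    have h4 : c₂ * g * c₂⁻¹ ∉ Q₁ := fun h4 => h2 ((h.memD _).2 ⟨h4, h3⟩)
    exact b1.ti _ (h.Q2B h3) h4 _ (h.Q2B h3) h4 c₁ hc₁ hc₁N R hR2 h1 (hcj _ hc₁H _ h1)
  have key2 : ∀ x ∈ R, x ∈ B → x ∈ D := by
    intro x hx hxB
    by_contra hxD
    rcases comm_good h ha haD hb hbD hxB hxD with h1 | h1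
    · refine key _ ?_ h1
      exact R.mul_mem (hcj a haH x hx) (R.inv_mem hx)
    · refine key _ ?_ h1
      have h2 := R.mul_mem hx (hcj b hbH _ (R.inv_mem hx))
      have h3 : x * (b * x⁻¹ * b⁻¹) = x * b * x⁻¹ * b⁻¹ := by group
      rwa [h3] at h2
  have h31 : ∀ x ∈ R, x ∈ B → x = 1 := by
    intro x hx hxB
    have hxD := key2 x hx hxB
    by_contra hx1
    by_cases h1 : x ∈ C₁
    · have h2 : x ∉ C₂ := fun h2 => hx1 (by
        have h3 : x ∈ C₁ ⊓ C₂ := ⟨h1, h2⟩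
        rwa [h.C12, mem_bot] at h3)
      exact b2.line x hxD h2 c₂ hc₂ hc₂N (key2 _ (hcj _ hc₂H x hx) (h.Q2B (b2.QL c₂ hc₂ x (h.D2 hxD))))
    · exact b1.line x hxD h1 c₁ hc₁ hc₁N (key2 _ (hcj _ hc₁H x hx) (h.Q1B (b1.QL c₁ hc₁ x (h.D1 hxD))))
  -- (3.2)
  have hzH : z ∈ H := H.mul_mem (H.mul_mem (H.mul_mem haH hbH) (H.inv_mem haH)) (H.inv_mem hbH)
  have h32 : ∀ r ∈ R, r * z = z * r → ∀ x ∈ H, x ∈ B → r * x = x * r := by
    intro r hr hrz x hxH hxB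
    have h1 : r ∈ normalizer (B : Set G) := hgood z hzg (mem_centralizer_singleton_iff.2 hrz)
    have h2 : r * x * r⁻¹ * x⁻¹ = 1 := by
      apply h31
      · have h3 := R.mul_mem hr (hcj x hxH _ (R.inv_mem hr))
        have h4 : r * (x * r⁻¹ * x⁻¹) = r * x * r⁻¹ * x⁻¹ := by group
        rwa [h4] at h3
      · exact B.mul_mem ((mem_normalizer_iff.1 h1 x).1 hxB) (B.inv_mem hxB)
    calc r * x = (r * x * r⁻¹ * x⁻¹) * (x * r) := by group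
      _ = x * r := by rw [h2, one_mul]
  set Bq : Subgroup G := H ⊓ B with hBq
  set Λ : Subgroup G := Bq ⊔ Bq.map (MulAut.conj c₁).toMonoidHom with hΛ
  have hΛH : Λ ≤ H := by
    apply sup_le inf_le_left
    rintro _ ⟨x, hx, rfl⟩
    exact H.mul_mem (H.mul_mem hc₁H hx.1) (H.inv_mem hc₁H)
  have hcen := EndThree.central_of (R := R) (Bq := Bq) (Λ := Λ) hR2 (h.two.to_le
    (inf_le_right.trans (h.BT.trans h.TS))) le_sup_left (hΛH.trans hRn) (a := a) (b := b)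
    ⟨haH, h.Q1B ha⟩ ⟨hbH, h.Q2B hb⟩ (by
      intro r hr hrz
      have h1 : ∀ x ∈ Bq, r * x = x * r := fun x hx => h32 r hr hrz x hx.1 hx.2
      have h2 : ∀ x ∈ Bq.map (MulAut.conj c₁).toMonoidHom, r * x = x * r := by
        rintro _ ⟨x, hx, rfl⟩
        show r * (c₁ * x * c₁⁻¹) = c₁ * x * c₁⁻¹ * r
        -- `c₁⁻¹ r c₁` commutes with `z`
        have h3 : c₁⁻¹ * r * c₁ ∈ R := by
          have := hcj _ (H.inv_mem hc₁H) r hr
          rwa [inv_inv] at this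
        have hzc : c₁ * z * c₁⁻¹ ∈ Bq :=
          ⟨H.mul_mem (H.mul_mem hc₁H hzH) (H.inv_mem hc₁H), h.Q1B (b1.QL c₁ hc₁ z (h.D1 hzg.1))⟩
        have h4 := h1 _ hzc
        have h5 : c₁⁻¹ * r * c₁ * z = z * (c₁⁻¹ * r * c₁) := by
          calc c₁⁻¹ * r * c₁ * z = c₁⁻¹ * (r * (c₁ * z * c₁⁻¹)) * c₁ := by group
            _ = z * (c₁⁻¹ * r * c₁) := by rw [h4]; group
        have h6 := h32 _ h3 h5 x hx.1 hx.2
        calc r * (c₁ * x * c₁⁻¹) = c₁ * (c₁⁻¹ * r * c₁ * x) * c₁⁻¹ := by group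
          _ = c₁ * x * c₁⁻¹ * r := by rw [h6]; group
      intro l hl
      have h7 : Λ ≤ centralizer ({r} : Set G) :=
        sup_le (fun x hx => mem_centralizer_singleton_iff.2 (h1 x hx).symm)
          (fun x hx => mem_centralizer_singleton_iff.2 (h2 x hx).symm)
      exact (mem_centralizer_singleton_iff.1 (h7 hl)).symm)
  have hbR : b ∈ R := by
    apply hchar
    refine ⟨hbH, mem_centralizer_iff.2 ?_⟩
    intro r hr
    exact hcen r hr b ((le_sup_left : Bq ≤ Λ) ⟨hbH, h.Q2B hb⟩)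
  exact hbD (key2 b hbR (h.Q2B hb))

end

end Cfsg.Agent.Omega.SQ1.End3
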