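import Cfsg.Agent.Omega.SQ1.End1
import Cfsg.Agent.ThreePrime.Transfer

/-!
# The end `k = 1`, `q ≥ 4` (SQ1.7), part 4: the case `T = B`

`|S : B| = 2`, the elements of `S - B` interchange `Q₁` and `Q₂`; good elements are conjugate under
`N_G(B)` and their centralizers lie in `N_G(B)`.  Then `G` has a subgroup of index 2.
-/

set_option autoImplicit false
set_option Elab.async false

namespace Cfsg.Agent.Omega.SQ1.End

open Subgroup Cfsg Cfsg.Agent.ZN Cfsg.Agent.Omega.MinPar
open Cfsg.Agent.Lib.GoldschmidtFusion (mem_map_conj card_map_conj exists_conj_le_in exists_sylow_in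
  lt_inf_normalizer)

universe u

variable {G : Type u} [Group G]

section

variable {T B Q₁ Q₂ D C₁ C₂ : Subgroup G} {s : G} {q : ℕ}

namespace Base

variable [Finite G] {S : Sylow 2 G} (h : Base (S : Subgroup G) T B Q₁ Q₂ D C₁ C₂ s q)

/-- (2) Elements conjugating a good element to a good element lie in `N_G(B)`. -/
theorem mem_NB (go1 : ∀ d e, Gd D C₁ C₂ d → Gd D C₁ C₂ e → ∃ n ∈ normalizer (B : Set G), n * d * n⁻¹ = e)
    (cent : ∀ z, Gd D C₁ C₂ z → centralizer ({z} : Set G) ≤ normalizer (B : Set G)) {z g : G}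
    (hz : Gd D C₁ C₂ z) (hg : Gd D C₁ C₂ (g * z * g⁻¹)) : g ∈ normalizer (B : Set G) := by
  obtain ⟨n, hn, hnz⟩ := go1 z _ hz hg
  have h1 : n⁻¹ * g ∈ centralizer ({z} : Set G) := by
    rw [mem_centralizer_singleton_iff]
    calc n⁻¹ * g * z = n⁻¹ * (g * z * g⁻¹) * g := by group
      _ = z * (n⁻¹ * g) := by rw [← hnz]; group
  have h2 := (normalizer (B : Set G)).mul_mem hn (cent z hz h1)
  rwa [mul_inv_cancel_left] at h2

include h

/-- Squares in `B` are good or trivial. -/
theorem sq_good {b : G} (hb : b ∈ B) (hb2 : b * b ≠ 1) : Gd D C₁ C₂ (b * b) := by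
  obtain ⟨a, ha, c, hc, rfl⟩ := h.prod b hb
  have h1 : a ∉ D := by
    intro h1
    exact hb2 (h.sq2 _ (Q₂.mul_mem (h.D2 h1) hc))
  have h2 : c ∉ D := by
    intro h2
    exact hb2 (h.sq1 _ (Q₁.mul_mem ha (h.D1 h2)))
  have h3 := h.good a ha h1 c hc h2
  rw [h.inv1 ha, h.inv2 hc] at h3
  have h4 : a * c * a * c = a * c * (a * c) := by group
  rwa [h4] at h3

/-- Involutions of `B` commuting with a swap are good. -/
theorem inv_good {x e : G} (hx : s⁻¹ * x ∈ T) (he : e ∈ B) (he2 : e * e = 1) (he1 : e ≠ 1)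
    (hxe : x * e * x⁻¹ = e) : Gd D C₁ C₂ e := by
  apply h.gd_of_swap hx _ he1 hxe
  rcases h.inv_mem_or he he2 with h1 | h1
  · have h2 := h.swap1 hx h1
    rw [hxe] at h2
    exact (h.memD e).2 ⟨h1, h2⟩
  · have h2 := h.swap2 hx h1
    rw [hxe] at h2
    exact (h.memD e).2 ⟨h2, h1⟩

theorem relIndex_B (hTB : T ≤ B) : B.relIndex (S : Subgroup G) = 2 := by
  rw [relIndex, Subgroup.index_eq_two_iff]
  refine ⟨⟨s, h.sS⟩⁻¹, fun b => ?_⟩
  rw [mem_subgroupOf, mem_subgroupOf]
  have hbs : ((b * (⟨s, h.sS⟩ : (S : Subgroup G))⁻¹ : (S : Subgroup G)) : G) = b * s⁻¹ := rfl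
  rw [hbs]
  have hsB : s ∉ B := fun h1 => h.s_notMem (h.BT h1)
  rcases h.mem_S b.2 with h1 | h1
  · right
    refine ⟨hTB h1, fun h2 => hsB ?_⟩
    have h3 := B.mul_mem (B.inv_mem h2) (hTB h1)
    have h4 : ((b : G) * s⁻¹)⁻¹ * b = s := by group
    rwa [h4] at h3
  · left
    have h2 := hTB (h.sT h1)
    have h3 : s * (s⁻¹ * (b : G)) * s⁻¹ = b * s⁻¹ := by group
    rw [h3] at h2
    refine ⟨h2, fun h4 => hsB ?_⟩
    have h5 := B.mul_mem (B.inv_mem h2) h4
    have h6 : ((b : G) * s⁻¹)⁻¹ * b = s := by group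
    rwa [h6] at h5

/-- **(4)** `T = B` is impossible. -/
theorem false_of_T_le (hTB : T ≤ B) (hG : ∀ N : Subgroup G, N.index ≠ 2)
    (go1 : ∀ d e, Gd D C₁ C₂ d → Gd D C₁ C₂ e → ∃ n ∈ normalizer (B : Set G), n * d * n⁻¹ = e)
    (cent : ∀ z, Gd D C₁ C₂ z → centralizer ({z} : Set G) ≤ normalizer (B : Set G))
    (fus1 : ∀ x ∈ Q₁, ∃ l : G, l * x * l⁻¹ ∈ D) (fus2 : ∀ x ∈ Q₂, ∃ l : G, l * x * l⁻¹ ∈ D)
    (dich : ∀ x ∈ (S : Subgroup G), x ∉ T → x * x = 1 →
      4 ≤ Nat.card (D ⊓ centralizer ({x} : Set G) : Subgroup G) ∨ Free x D ⊥) : False := by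
  have hp : Fact (Nat.Prime 2) := ⟨Nat.prime_two⟩
  have hBS : B ≤ (S : Subgroup G) := h.BT.trans h.TS
  -- an element of least order of `S - B`
  obtain ⟨x, ⟨hxS, hxB⟩, hmin⟩ := Set.exists_min_image {x : G | x ∈ (S : Subgroup G) ∧ x ∉ B} orderOf
    (Set.toFinite _) ⟨s, h.sS, fun h1 => h.s_notMem (h.BT h1)⟩
  have hxT : x ∉ T := fun h1 => hxB (hTB h1)
  have hsx : s⁻¹ * x ∈ T := (h.mem_S hxS).resolve_left hxT
  obtain ⟨g, hg, -⟩ := ThreePrime.Transfer.exists_conj S hBS (h.relIndex_B hTB) hG hxS hxB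
    (fun t ht htB => hmin t ⟨ht, htB⟩)
  have hnot : g ∉ normalizer (B : Set G) := fun h1 => hxB ((mem_normalizer_iff.1 h1 x).2 hg)
  by_cases hxx : x * x = 1
  swap
  · -- `|x| > 2`
    apply hnot
    have hxxB : x * x ∈ B := by
      apply hTB
      apply h.memT _ ((S : Subgroup G).mul_mem hxS hxS)
      intro a ha
      have h1 := h.swap2 hsx (h.swap1 hsx ha)
      have h2 : x * (x * a * x⁻¹) * x⁻¹ = x * x * a * (x * x)⁻¹ := by group
      rwa [h2] at h1
    have hb : g * x * g⁻¹ * (g * x * g⁻¹) = g * (x * x) * g⁻¹ := by group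
    have hbne : g * x * g⁻¹ * (g * x * g⁻¹) ≠ 1 := by
      rw [hb]
      intro h1
      apply hxx
      have h2 : x * x = g⁻¹ * (g * (x * x) * g⁻¹) * g := by group
      rw [h2, h1]; group
    have hgd := h.sq_good hg hbne
    rw [hb] at hgd
    apply mem_NB go1 cent _ hgd
    apply h.inv_good hsx hxxB _ hxx (by group)
    have h1 := h.sqD hgd.1
    have h2 : x * x * (x * x) = g⁻¹ * (g * (x * x) * g⁻¹ * (g * (x * x) * g⁻¹)) * g := by group
    rw [h2, h1]; group
  · -- `|x| = 2`
    set U : Subgroup G := B ⊓ centralizer ({x} : Set G) with hU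
    set W : Subgroup G := (S : Subgroup G) ⊓ centralizer ({x} : Set G) with hW
    have hcx : ∀ y, y ∈ centralizer ({x} : Set G) ↔ x * y * x⁻¹ = y := by
      intro y
      rw [mem_centralizer_singleton_iff, mul_inv_eq_iff_eq_mul]
      exact eq_comm
    have hUW : U ≤ W := inf_le_inf_right _ hBS
    have hxW : x ∈ W := ⟨hxS, (hcx x).2 (by group)⟩
    have hcoset : ∀ y ∈ W, y ∈ U ∨ x⁻¹ * y ∈ U := by
      rintro y ⟨hyS, hyx⟩
      rcases h.mem_S hyS with h1 | h1
      · exact Or.inl ⟨hTB h1, hyx⟩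
      · right
        refine ⟨hTB ?_, (centralizer ({x} : Set G)).mul_mem ((centralizer ({x} : Set G)).inv_mem hxW.2) hyx⟩
        have h2 := T.mul_mem (T.inv_mem hsx) h1
        have h3 : (s⁻¹ * x)⁻¹ * (s⁻¹ * y) = x⁻¹ * y := by group
        rwa [h3] at h2
    have hxinv : x⁻¹ = x := inv_eq_of_mul_eq_one_right hxx
    -- `N_G(W) ≤ N_G(B)`
    have hNW : ∀ n, (∀ w ∈ W, n * w * n⁻¹ ∈ W) → n ∈ normalizer (B : Set G) := by
      intro n hn
      by_cases hsq : ∃ u ∈ U, u * u ≠ 1
      · obtain ⟨u, hu, hu2⟩ := hsq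
        have h1 := h.sq_good hu.1 hu2
        have hv := hn u (hUW hu)
        have hvv : n * u * n⁻¹ * (n * u * n⁻¹) = n * (u * u) * n⁻¹ := by group
        have hne : n * (u * u) * n⁻¹ ≠ 1 := by
          intro h2
          apply hu2
          have h3 : u * u = n⁻¹ * (n * (u * u) * n⁻¹) * n := by group
          rw [h3, h2]; group
        apply mem_NB go1 cent h1
        rw [← hvv] at hne ⊢
        rcases hcoset _ hv with h2 | h2
        · exact h.sq_good h2.1 hne
        · have h3 := (hcx _).1 h2.2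
          have h4 : x⁻¹ * (n * u * n⁻¹) * (x⁻¹ * (n * u * n⁻¹)) = n * u * n⁻¹ * (n * u * n⁻¹) := by
            have h5 : x * (x⁻¹ * (n * u * n⁻¹)) = x⁻¹ * (n * u * n⁻¹) * x :=
              mul_inv_eq_iff_eq_mul.1 h3
            calc x⁻¹ * (n * u * n⁻¹) * (x⁻¹ * (n * u * n⁻¹))
                = x⁻¹ * (n * u * n⁻¹) * x * (n * u * n⁻¹) := by rw [hxinv]; group
              _ = x * (x⁻¹ * (n * u * n⁻¹)) * (n * u * n⁻¹) := by rw [h5]
              _ = _ := by group
          rw [← h4] at hne ⊢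
          exact h.sq_good h2.1 hne
      · push Not at hsq
        have hUD : U ≤ D := by
          intro u hu
          have hxu := (hcx u).1 hu.2
          rcases h.inv_mem_or hu.1 (hsq u hu) with h1 | h1
          · have h2 := h.swap1 hsx h1
            rw [hxu] at h2
            exact (h.memD u).2 ⟨h1, h2⟩
          · have h2 := h.swap2 hsx h1
            rw [hxu] at h2
            exact (h.memD u).2 ⟨h2, h1⟩
        have hUeq : U = D ⊓ centralizer ({x} : Set G) :=
          le_antisymm (le_inf hUD inf_le_right) (inf_le_inf_right _ h.DB)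
        rcases dich x hxS hxT hxx with h4 | hfr
        · -- `|U| ≥ 4`
          rw [← hUeq] at h4
          let Un : Subgroup G := U.map (MulAut.conj n).toMonoidHom
          have hUn : Nat.card Un = Nat.card U := card_map_conj U n
          have hUnW : Un ≤ W := by
            rintro _ ⟨u, hu, rfl⟩
            exact hn u (hUW hu)
          have hle : Nat.card Un ≤ 2 * Nat.card (Un ⊓ U : Subgroup G) := by
            by_cases hsub : Un ≤ U
            · exact card_le_two_mul Un.one_mem (fun e he => Or.inl ⟨he, hsub he⟩)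
            · obtain ⟨f, hf, hfU⟩ := Set.not_subset.1 hsub
              apply card_le_two_mul hf
              intro e he
              rcases hcoset e (hUnW he) with h5 | h5
              · exact Or.inl ⟨he, h5⟩
              · right
                have h6 := (hcoset f (hUnW hf)).resolve_left hfU
                refine ⟨Un.mul_mem (Un.inv_mem hf) he, ?_⟩
                have h7 := U.mul_mem (U.inv_mem h6) h5
                have h8 : (x⁻¹ * f)⁻¹ * (x⁻¹ * e) = f⁻¹ * e := by group
                rwa [h8] at h7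
          have h5 : 1 < Nat.card (Un ⊓ U : Subgroup G) := by omega
          rw [Subgroup.one_lt_card_iff_ne_bot] at h5
          obtain ⟨⟨d, hd⟩, hd1⟩ := Subgroup.ne_bot_iff_exists_ne_one.1 h5
          have hd1' : d ≠ 1 := fun h6 => hd1 (Subtype.ext h6)
          have hdn : n⁻¹ * d * n ∈ U := mem_map_conj.1 hd.1
          have h6 : Gd D C₁ C₂ d := h.gd_of_swap hsx (hUD hd.2) hd1' ((hcx d).1 hd.2.2)
          have h7 : Gd D C₁ C₂ (n⁻¹ * d * n) := by
            apply h.gd_of_swap hsx (hUD hdn) _ ((hcx _).1 hdn.2)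
            intro h8
            apply hd1'
            have h9 : d = n * (n⁻¹ * d * n) * n⁻¹ := by group
            rw [h9, h8]; group
          have h8 : n⁻¹ ∈ normalizer (B : Set G) := by
            apply mem_NB go1 cent h6
            rw [inv_inv]; exact h7
          have h9 := (normalizer (B : Set G)).inv_mem h8
          rwa [inv_inv] at h9
        · -- `x` acts freely on `D`
          exfalso
          obtain ⟨a, ha, haD⟩ := h.exists_a
          have ha' := h.swap1 hsx ha
          set a' := x * a * x⁻¹ with ha'def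
          have hxa' : x * a' * x⁻¹ = a := by
            calc x * a' * x⁻¹ = x * x * a * (x * x)⁻¹ := by rw [ha'def]; group
              _ = a := by rw [hxx]; group
          have hbB : a * a' ∈ B := B.mul_mem (h.Q1B ha) (h.Q2B ha')
          have hxb : x * (a * a') * x⁻¹ = a' * a := by
            calc x * (a * a') * x⁻¹ = (x * a * x⁻¹) * (x * a' * x⁻¹) := by group
              _ = a' * a := by rw [hxa']
          set d := (a * a')⁻¹ * (a' * a) with hddef
          have hdD : d ∈ D := by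
            have h1 := h.commB (B.inv_mem (h.Q2B ha')) (B.inv_mem (h.Q1B ha))
            have h2 : a'⁻¹ * a⁻¹ * a'⁻¹⁻¹ * a⁻¹⁻¹ = d := by rw [hddef]; group
            rwa [h2] at h1
          have hxb' : x * (a * a') * x⁻¹ = a * a' * d := by rw [hxb, hddef]; group
          have hxd : x * d * x⁻¹ = d := by
            have h1 : x * (x * (a * a') * x⁻¹) * x⁻¹ = a * a' := by
              calc x * (x * (a * a') * x⁻¹) * x⁻¹ = x * x * (a * a') * (x * x)⁻¹ := by group
                _ = a * a' := by rw [hxx]; group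
            rw [hxb'] at h1
            have h2 : a * a' * d * (x * d * x⁻¹) = a * a' := by
              calc a * a' * d * (x * d * x⁻¹) = x * (a * a') * x⁻¹ * (x * d * x⁻¹) := by rw [hxb']
                _ = x * (a * a' * d) * x⁻¹ := by group
                _ = a * a' := h1
            have h3 : d * (x * d * x⁻¹) = 1 := by
              have h4 : a * a' * (d * (x * d * x⁻¹)) = a * a' := by rw [← mul_assoc]; exact h2
              exact mul_eq_left.1 h4
            have h5 : x * d * x⁻¹ = d⁻¹ := by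
              rw [mul_eq_one_iff_inv_eq] at h3; exact h3.symm
            rw [h5, h.inv1 (h.D1 hdD)]
          obtain ⟨u, hu, hu2⟩ := hfr d hdD (by rw [hxd, inv_mul_cancel]; exact one_mem _)
          rw [mem_bot, inv_mul_eq_one] at hu2
          have hxu : x * u * x⁻¹ ∈ D := h.P_D hxS hu
          have hbu : a * a' * u ∈ U := by
            refine ⟨B.mul_mem hbB (h.DB hu), (hcx _).2 ?_⟩
            calc x * (a * a' * u) * x⁻¹ = x * (a * a') * x⁻¹ * (x * u * x⁻¹) := by group
              _ = a * a' * d * (x * u * x⁻¹) := by rw [hxb']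
              _ = a * a' * u * ((x * u * x⁻¹) * (x * u * x⁻¹)) := by rw [hu2]; group
              _ = a * a' * u := by rw [h.sqD hxu, mul_one]
          have h1 := D.mul_mem (hUD hbu) (D.inv_mem hu)
          rw [mul_inv_cancel_right] at h1
          have h2 := Q₂.mul_mem (h.D2 h1) (Q₂.inv_mem ha')
          rw [mul_inv_cancel_right] at h2
          exact haD ((h.memD a).2 ⟨ha, h2⟩)
    -- `W` is a maximal 2-subgroup of `C_G(x)`
    have hW2 : IsPGroup 2 W := h.two.to_le inf_le_left
    have hWmax : ∀ P : Subgroup G, IsPGroup 2 P → W ≤ P → P ≤ centralizer ({x} : Set G) → P = W := by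
      intro P hP hWP hPC
      by_contra hne
      have hlt : W < P := lt_of_le_of_ne hWP (Ne.symm hne)
      obtain ⟨y, ⟨hyP, hyN⟩, hyW⟩ := Set.exists_of_ssubset (lt_inf_normalizer hP hlt)
      have hle : P ⊓ normalizer (W : Set G) ≤ normalizer (B : Set G) := by
        rintro n ⟨-, hn⟩
        exact hNW n (fun w hw => (mem_normalizer_iff.1 hn w).1 hw)
      have h1 : IsPGroup 2 (B ⊔ (P ⊓ normalizer (W : Set G)) : Subgroup G) :=
        IsPGroup.to_sup_of_normal_left' (h.two.to_le hBS) (hP.to_le inf_le_left) hle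
      have h2 : (S : Subgroup G) ≤ B ⊔ (P ⊓ normalizer (W : Set G)) := by
        intro w hw
        have hxP : x ∈ B ⊔ (P ⊓ normalizer (W : Set G)) :=
          (le_sup_right : P ⊓ normalizer (W : Set G) ≤ _) ⟨hWP hxW, le_normalizer hxW⟩
        rcases h.mem_S hw with h3 | h3
        · exact (le_sup_left : B ≤ _) (hTB h3)
        · have h4 : x⁻¹ * w ∈ B := by
            have h5 := T.mul_mem (T.inv_mem hsx) h3
            have h6 : (s⁻¹ * x)⁻¹ * (s⁻¹ * w) = x⁻¹ * w := by group
            rw [h6] at h5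
            exact hTB h5
          have h5 := (B ⊔ (P ⊓ normalizer (W : Set G))).mul_mem hxP ((le_sup_left : B ≤ _) h4)
          rwa [mul_inv_cancel_left] at h5
      have h3 := S.is_maximal' h1 h2
      have hyS : y ∈ (S : Subgroup G) := by
        rw [← h3]
        exact (le_sup_right : P ⊓ normalizer (W : Set G) ≤ _) ⟨hyP, hyN⟩
      exact hyW ⟨hyS, hPC hyP⟩
    -- a conjugate of `B` lies in `C_G(x)`
    have hb2 : g * x * g⁻¹ * (g * x * g⁻¹) = 1 := by
      calc g * x * g⁻¹ * (g * x * g⁻¹) = g * (x * x) * g⁻¹ := by group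
        _ = 1 := by rw [hxx]; group
    obtain ⟨k, hk⟩ : ∃ k : G, k * x * k⁻¹ ∈ D := by
      rcases h.inv_mem_or hg hb2 with h1 | h1
      · obtain ⟨l, hl⟩ := fus1 _ h1
        refine ⟨l * g, ?_⟩
        have h2 : l * (g * x * g⁻¹) * l⁻¹ = l * g * x * (l * g)⁻¹ := by group
        rwa [h2] at hl
      · obtain ⟨l, hl⟩ := fus2 _ h1
        refine ⟨l * g, ?_⟩
        have h2 : l * (g * x * g⁻¹) * l⁻¹ = l * g * x * (l * g)⁻¹ := by group
        rwa [h2] at hl
    have hkB : B.map (MulAut.conj k⁻¹).toMonoidHom ≤ centralizer ({x} : Set G) := by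
      rintro _ ⟨b, hb, rfl⟩
      rw [hcx]
      have h1 := h.centD hk hb
      show x * (k⁻¹ * b * k⁻¹⁻¹) * x⁻¹ = k⁻¹ * b * k⁻¹⁻¹
      calc x * (k⁻¹ * b * k⁻¹⁻¹) * x⁻¹ = k⁻¹ * ((k * x * k⁻¹) * b) * (k * x * k⁻¹)⁻¹ * k := by group
        _ = k⁻¹ * b * k⁻¹⁻¹ := by rw [h1]; group
    obtain ⟨R, hWR, hRC, hR2, hRi⟩ := exists_sylow_in (p := 2) (N := centralizer ({x} : Set G)) (D := W)
      inf_le_right hW2
    have hRW : R = W := hWmax R hR2 hWR hRC
    rw [hRW] at hRi
    obtain ⟨n, -, hn⟩ := exists_conj_le_in hW2 hRi hkB ((h.two.to_le hBS).map _)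
    have h1 : Nat.card B ≤ Nat.card W := by
      have h2 := Subgroup.card_le_of_le hn
      rwa [card_map_conj, card_map_conj] at h2
    have h2 : Nat.card W ≤ 2 * Nat.card U := card_le_two_mul hxW hcoset
    have h3 := h.card_delta hsx (E := U) inf_le_left (fun e he => by
      rw [(hcx e).1 he.2, mul_inv_cancel]; exact one_mem _)
    rw [h.card1] at h3
    have h4 : 0 < Nat.card D := Nat.card_pos
    have h5 : 0 < Nat.card U := Nat.card_pos
    have h6 : Nat.card U * q ≤ Nat.card B := by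
      apply Nat.le_of_mul_le_mul_right _ h4
      rw [mul_assoc]; exact h3
    have h7 := h.hq
    have h8 : Nat.card U * 4 ≤ Nat.card U * q := Nat.mul_le_mul_left _ h7
    omega

end Base

end

end Cfsg.Agent.Omega.SQ1.End
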