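import Cfsg.Agent.Omega.SQ1.End4

/-!
# The end `k = 1`, `q ≥ 4` (SQ1.7): assembly

* `Base.cent`: centralizers of good elements lie in `N_G(B)`;
* `Base.false_of`: the configuration does not occur in a simple group, given `T ≤ B`.
-/

set_option autoImplicit false
set_option Elab.async false

namespace Cfsg.Agent.Omega.SQ1.End

open Subgroup Cfsg Cfsg.Agent.ZN Cfsg.Agent.Omega.MinPar

universe u

variable {G : Type u} [Group G]

section

variable {T B Q₁ Q₂ D C₁ C₂ : Subgroup G} {s : G} {q : ℕ}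

namespace Base

variable [Finite G] {S : Sylow 2 G} {M : Subgroup G}
  (h : Base (S : Subgroup G) T B Q₁ Q₂ D C₁ C₂ s q) (g : Glob S M)

include h

/-- Centralizers of good elements lie in `N_G(B)`. -/
theorem cent (g : Glob S M) {K : Subgroup G} (τ : Tor T B D C₁ K)
    (go1 : ∀ d e, Gd D C₁ C₂ d → Gd D C₁ C₂ e → ∃ n ∈ normalizer (B : Set G), n * d * n⁻¹ = e)
    (z : G) (hz : Gd D C₁ C₂ z) : centralizer ({z} : Set G) ≤ normalizer (B : Set G) := by
  obtain ⟨z₀, hz₀, hz₀g⟩ := h.exists_z0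
  have hc := mem_zc.1 hz₀
  have h0 : centralizer ({z₀} : Set G) ≤ normalizer (B : Set G) := by
    rw [← h.M_eq g τ]
    apply g.uni
    apply isLoc_centralizer S hc.2.2 (h.good_ne hz₀g)
    intro x hx
    rw [mem_centralizer_singleton_iff]
    exact hc.2.1 x hx
  obtain ⟨n, hn, rfl⟩ := go1 z₀ z hz₀g hz
  intro c hc
  rw [mem_centralizer_singleton_iff] at hc
  have h1 : n⁻¹ * c * n ∈ centralizer ({z₀} : Set G) := by
    rw [mem_centralizer_singleton_iff]
    calc n⁻¹ * c * n * z₀ = n⁻¹ * (c * (n * z₀ * n⁻¹)) * n := by group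
      _ = n⁻¹ * (n * z₀ * n⁻¹ * c) * n := by rw [hc]
      _ = z₀ * (n⁻¹ * c * n) := by group
  have h2 := (normalizer (B : Set G)).mul_mem ((normalizer (B : Set G)).mul_mem hn (h0 h1))
    ((normalizer (B : Set G)).inv_mem hn)
  have h3 : n * (n⁻¹ * c * n) * n⁻¹ = c := by group
  rwa [h3] at h2

theorem index_ne_two [IsSimpleGroup G] (N : Subgroup G) : N.index ≠ 2 := by
  intro hN
  have hNn : N.Normal := Subgroup.normal_of_index_eq_two hN
  rcases hNn.eq_bot_or_eq_top with h1 | h1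
  · rw [h1, Subgroup.index_bot] at hN
    have h2 : Nat.card Q₁ ≤ Nat.card G := Subgroup.card_le_card_group Q₁
    have h3 := h.card1
    have h4 := h.hq
    have h5 := h.one_lt_D
    rw [h3, hN] at h2
    nlinarith
  · rw [h1, Subgroup.index_top] at hN
    omega

/-- `|D| ≥ q`. -/
theorem q_le_D : q ≤ Nat.card D := by
  obtain ⟨a, ha, haD⟩ := h.exists_a
  -- `b ↦ [a, b]` is injective on `Q₂` modulo `D`
  let φ : Q₂ → D := fun b => ⟨a * b * a⁻¹ * (b : G)⁻¹, h.comm12 ha b.2⟩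
  have hmul : ∀ b ∈ Q₂, ∀ c ∈ Q₂, a * b * a⁻¹ * b⁻¹ = a * c * a⁻¹ * c⁻¹ → b⁻¹ * c ∈ D := by
    intro b hb c hc hbc
    by_contra hno
    have h1 := h.good a ha haD (b⁻¹ * c) (Q₂.mul_mem (Q₂.inv_mem hb) hc) hno
    apply h.good_ne h1
    have h2 : a * (b⁻¹ * c) * a⁻¹ * (b⁻¹ * c)⁻¹ =
        b⁻¹ * (a * b * a⁻¹ * b⁻¹)⁻¹ * (a * c * a⁻¹ * c⁻¹) * b := by group
    rw [h2, ← hbc]; group
  have hinj : Nat.card (Q₂ ⧸ D.subgroupOf Q₂) ≤ Nat.card D := by
    let ψ : Q₂ ⧸ D.subgroupOf Q₂ → D := fun y => φ y.out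
    apply Nat.card_le_card_of_injective ψ
    intro y z hyz
    have h1 : a * (y.out : G) * a⁻¹ * (y.out : G)⁻¹ = a * (z.out : G) * a⁻¹ * (z.out : G)⁻¹ :=
      congrArg Subtype.val hyz
    have h2 := hmul _ y.out.2 _ z.out.2 h1
    rw [← QuotientGroup.out_eq' y, ← QuotientGroup.out_eq' z, QuotientGroup.eq, mem_subgroupOf]
    exact h2
  have h1 : (D.subgroupOf Q₂).index * Nat.card D = Nat.card Q₂ := by
    have h2 := Subgroup.relIndex_mul_relIndex ⊥ D Q₂ bot_le h.D2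
    rw [Subgroup.relIndex_bot_left, Subgroup.relIndex_bot_left] at h2
    rw [← h2, mul_comm]; rfl
  rw [h.card2] at h1
  have h3 := Nat.eq_of_mul_eq_mul_right (Nat.card_pos) h1
  rw [← h3]
  exact hinj

/-- An element of `S` with square 1 acts freely on `D` or centralises at least four elements of `D`. -/
theorem dich {x : G} (hx : x ∈ (S : Subgroup G)) (hxx : x * x = 1) :
    4 ≤ Nat.card (D ⊓ centralizer ({x} : Set G) : Subgroup G) ∨ Free x D ⊥ := by
  set F : Subgroup G := D ⊓ centralizer ({x} : Set G) with hF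
  have hcx : ∀ y, y ∈ centralizer ({x} : Set G) ↔ x * y * x⁻¹ = y := by
    intro y
    rw [mem_centralizer_singleton_iff, mul_inv_eq_iff_eq_mul]
    exact eq_comm
  by_cases h4 : 4 ≤ Nat.card F
  · exact Or.inl h4
  right
  let ν : D →* D :=
    { toFun := fun u => ⟨u * (x * u * x⁻¹), D.mul_mem u.2 (h.P_D hx u.2)⟩
      map_one' := by ext; simp
      map_mul' := by
        intro a b
        ext
        show (a : G) * b * (x * (a * b) * x⁻¹) = a * (x * a * x⁻¹) * (b * (x * b * x⁻¹))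
        have h1 := h.c1 _ (h.D1 b.2) _ (h.D1 (h.P_D hx a.2))
        calc (a : G) * b * (x * (a * b) * x⁻¹) = a * (b * (x * a * x⁻¹)) * (x * b * x⁻¹) := by group
          _ = a * (x * a * x⁻¹) * (b * (x * b * x⁻¹)) := by rw [h1]; group }
  have hker : ν.ker = F.subgroupOf D := by
    ext u
    rw [MonoidHom.mem_ker, mem_subgroupOf]
    constructor
    · intro hu
      have h1 : (u : G) * (x * u * x⁻¹) = 1 := congrArg Subtype.val hu
      refine ⟨u.2, (hcx _).2 ?_⟩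
      have h2 := eq_inv_of_mul_eq_one_right h1
      rw [h2]; exact h.inv1 (h.D1 u.2)
    · rintro ⟨-, hu⟩
      apply Subtype.ext
      show (u : G) * (x * u * x⁻¹) = 1
      rw [(hcx _).1 hu]; exact h.sqD u.2
  have hrange : ν.range ≤ F.subgroupOf D := by
    rintro _ ⟨u, rfl⟩
    rw [mem_subgroupOf]
    refine ⟨(ν u).2, (hcx _).2 ?_⟩
    show x * (u * (x * u * x⁻¹)) * x⁻¹ = u * (x * u * x⁻¹)
    have h1 := h.c1 _ (h.D1 (h.P_D hx u.2)) _ (h.D1 u.2)
    calc x * (u * (x * u * x⁻¹)) * x⁻¹ = (x * u * x⁻¹) * (x * x * u * (x * x)⁻¹) := by group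
      _ = u * (x * u * x⁻¹) := by rw [hxx, one_mul, inv_one, mul_one, h1]
  have hcardF : Nat.card (F.subgroupOf D) = Nat.card F :=
    Nat.card_congr (Subgroup.subgroupOfEquivOfLe inf_le_left).toEquiv
  have h1 : Nat.card F * Nat.card ν.range = Nat.card D := by
    rw [← hcardF, ← hker, ← Subgroup.index_ker, Subgroup.card_mul_index]
  have h2 : Nat.card ν.range ≤ Nat.card F := by
    rw [← hcardF]; exact Subgroup.card_le_of_le hrange
  have h3 := h.q_le_D
  have h5 := h.hq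
  have hp : Fact (Nat.Prime 2) := ⟨Nat.prime_two⟩
  have hF2 : IsPGroup 2 F := h.two.to_le (inf_le_left.trans (h.DB.trans (h.BT.trans h.TS)))
  obtain ⟨m, hm⟩ := IsPGroup.iff_card.1 hF2
  have hD2 : IsPGroup 2 D := h.two.to_le (h.DB.trans (h.BT.trans h.TS))
  obtain ⟨m', hm'⟩ := IsPGroup.iff_card.1 hD2
  have hm1 : m < 2 := by
    by_contra hm2
    apply h4
    rw [hm]
    calc 4 = 2 ^ 2 := by norm_num
      _ ≤ 2 ^ m := Nat.pow_le_pow_right (by norm_num) (by omega)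
  have hF22 : Nat.card F = 2 := by
    rcases Nat.lt_or_ge m 1 with h6 | h6
    · have h7 : m = 0 := by omega
      rw [h7, pow_zero] at hm
      rw [hm] at h1 h2
      omega
    · have h7 : m = 1 := by omega
      rw [h7, pow_one] at hm
      exact hm
  have hr : Nat.card ν.range = 2 := by
    rw [hF22] at h1 h2
    omega
  have heq : ν.range = F.subgroupOf D := by
    apply Subgroup.eq_of_le_of_card_ge hrange
    rw [hcardF, hF22, hr]
  intro d hd hxd
  have hdF : (⟨d, hd⟩ : D) ∈ F.subgroupOf D := by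
    rw [mem_subgroupOf]
    refine ⟨hd, (hcx _).2 ?_⟩
    rw [mem_bot, inv_mul_eq_one] at hxd
    exact hxd.symm
  rw [← heq] at hdF
  obtain ⟨u, hu⟩ := hdF
  refine ⟨u, u.2, ?_⟩
  have h6 : (u : G) * (x * u * x⁻¹) = d := congrArg Subtype.val hu
  rw [h6, inv_mul_cancel]
  exact one_mem _

/-- The end, given `T ≤ B`. -/
theorem false_of_T [IsSimpleGroup G] (g : Glob S M) {K : Subgroup G} (τ : Tor T B D C₁ K)
    (hTB : T ≤ B)
    (go1 : ∀ d e, Gd D C₁ C₂ d → Gd D C₁ C₂ e → ∃ n ∈ normalizer (B : Set G), n * d * n⁻¹ = e)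
    (fus1 : ∀ x ∈ Q₁, ∃ l : G, l * x * l⁻¹ ∈ D) (fus2 : ∀ x ∈ Q₂, ∃ l : G, l * x * l⁻¹ ∈ D) : False :=
  h.false_of_T_le hTB h.index_ne_two go1 (h.cent g τ go1) fus1 fus2 (fun _ hx _ hxx => h.dich hx hxx)

end Base

end

end Cfsg.Agent.Omega.SQ1.End
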