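import Cfsg.Agent.Omega.SQ1.Mid
import Cfsg.Agent.Omega.SQ1.MatchL

/-!
# SQ1, one block, `b = 1`, `q ≥ 4`: `LSit` gives `Mid`

`LSit.mid`: the output of L1-L3 for one block (`LSit`) gives the input of L4 (`Mid`), with
`B = Baum(T)`, `Y = V Z`, `Z = Ω₁(Z(J(T)))`, `C = C_Y(L)`, `L = ⟨B^H⟩`.
-/

set_option autoImplicit false
set_option linter.unusedSectionVars false
set_option linter.unusedVariables false

namespace Cfsg.Agent.Omega.SQ1.MatchL

open Subgroup Cfsg Cfsg.Agent.PLocal.ThompsonJ Cfsg.Agent.ZN Cfsg.Agent.ZN.ChoiceBase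
open Cfsg.Agent.ZN.ChoiceSit
open Cfsg.Agent.Omega.NatPair Cfsg.Agent.Lib.SL2Mat
open Cfsg.Agent.Omega.SQ1.FFOne Cfsg.Agent.Omega.SQ1.MatchOne Cfsg.Agent.Omega.SQ1.MidOne
open Cfsg.Agent.Omega.SQ1.Bau
open Cfsg.Agent.Omega.SQ1.Bau.In (Y Z_le_Y V_le_Y)
open scoped Pointwise

universe u

variable {G : Type u} [Group G] {F : Type*} [Field F] {H T V V0 : Subgroup G} {s : G}

namespace LSit

variable {M : FFOne.FF F H T V V0}

theorem mem_Z_iff [Finite G] [Finite F] [CharP F 2] (h : LSit M s) (hF : 4 ≤ Nat.card F) {y : G}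
    (hy : y ∈ Y T V) : y ∈ zj T ↔ πY M y 1 = 0 := by
  obtain ⟨v, hv, c, hc, rfl⟩ := h.Y_split hF hy
  rw [h.πY_mul_c hF hv hc]
  have hcZ := h.CC_le_Z hc
  constructor
  · intro h1
    have h2 : v ∈ zj T := by
      have := mul_mem h1 (inv_mem hcZ)
      rwa [mul_inv_cancel_right] at this
    have h3 : v ∈ M.V1 := by
      rw [← h.sit.dd.Z_inf_V]
      exact ⟨h2, hv⟩
    exact (M.mem_V1.1 h3).2
  · intro h1
    exact mul_mem (h.sit.dd.V1_le_Z (M.mem_V1.2 ⟨hv, h1⟩)) hcZ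

theorem s_B [Finite G] (h : LSit M s) {b : G} (hb : b ∈ bau T) : s * b * s⁻¹ ∈ bau T := by
  have : s * b * s⁻¹ ∈ cj s (bau T) := ⟨b, hb, rfl⟩
  rwa [h.sit.cj_bau] at this

theorem s_Z [Finite G] (h : LSit M s) {z : G} (hz : z ∈ zj T) : s * z * s⁻¹ ∈ zj T := by
  have : s * z * s⁻¹ ∈ cj s (zj T) := ⟨z, hz, rfl⟩
  rwa [h.sit.cj_zj] at this

/-- **`LSit ⇒ Mid`** -/
noncomputable def mid [Finite G] [Finite F] [CharP F 2] (h : LSit M s) (hF : 4 ≤ Nat.card F) :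
    Mid F H T (bau T) (Y T V) (zj T) (CC H T V) (nc H (bau T)) s :=
  { h.natY hF with
    TH := h.TH
    LH := h.J_le
    BT := bau_le T
    BL := le_nc'
    YB := h.sit.Y_le_B
    ZY := Z_le_Y T V
    two := h.sit.two
    TL := fun t ht l hl => nc_norm (h.TH ht) hl
    TB := fun t ht b hb => conj_mem_of_norm (normalizer_le_bau T (le_normalizer ht)) hb
    TZ := fun t ht z hz =>
      conj_mem_of_norm (normalizer_le_of_cj (F := zj) zj_cj T (le_normalizer ht)) hz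
    ind := fun l hl => by
      obtain ⟨hlH, A, hA⟩ := h.J_SL hl
      exact ⟨A, (h.natY_ind hF hlH).2 hA⟩
    liftL := fun A => by
      obtain ⟨l, hl, hA⟩ := h.exists_j A
      exact ⟨l, hl, (h.natY_ind hF (h.J_le hl)).2 hA⟩
    kerL := fun l hl hk => by
      rw [← h.mem_kern_iff hF hl, ← M.ind_one_iff (h.J_le hl), ← h.natY_ind hF (h.J_le hl)]
      intro v hv
      rw [ap_one]
      exact hk v hv
    upB := fun b hb => by
      obtain ⟨c, hc⟩ := h.bau_up hb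
      exact ⟨c, (h.natY_ind hF (h.TH (bau_le T hb))).2 hc⟩
    cup := fun c => by
      obtain ⟨b, hb, hc⟩ := h.exists_b c
      exact ⟨b, hb, (h.natY_ind hF (h.TH (bau_le T hb))).2 hc⟩
    Zpi := fun y hy => h.mem_Z_iff hF hy
    cC := fun c => mem_CC
    Ycomm := fun x hx y hy => elem_comm h.sit.dd.Y_elem x hx y hy
    Ysq := fun y hy => h.sit.Ysq hy
    BcZ := fun b hb z hz => h.sit.B_cent_Z hb hz
    cent := fun t ht hc => mem_bau.2 ⟨ht, fun z hz => (hc z hz).symm⟩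
    sT := fun t ht => conj_mem_of_norm h.sit.sN ht
    ss := h.sit.sq
    sB := fun b hb => h.s_B hb
    sZ := fun z hz => h.s_Z hz
    prod := fun b hb => by
      obtain ⟨y, hy, u, ⟨y', hy', rfl⟩, e⟩ := h.sit.split' hb
      exact ⟨y, hy, y', hy', e⟩
    inf := fun y hy hsy => by
      have h1 : s * y * s⁻¹ ∈ Y T V ⊓ cj s (Y T V) := ⟨hsy, ⟨y, hy, rfl⟩⟩
      rw [h.sit.inf_eq, ← h.sit.cj_zj, mem_cj] at h1
      have e : s⁻¹ * (s * y * s⁻¹) * s = y := by group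
      rwa [e] at h1
    CC := fun c hc hsc => by
      have h1 : s * c * s⁻¹ ∈ LSit.CC H T V ⊓ cj s (LSit.CC H T V) := ⟨hsc, ⟨c, hc, rfl⟩⟩
      rw [h.CC_inf, mem_bot] at h1
      have e : c = s⁻¹ * (s * c * s⁻¹) * s := by group
      rw [e, h1]; group }

end LSit

end Cfsg.Agent.Omega.SQ1.MatchL
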