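import Cfsg.Agent.Omega.SQ1.Main
import Cfsg.Agent.Omega.SQ1.MidOf
import Cfsg.Agent.Omega.SQ1.MidEnd

/-!
# SQ1: one natural summand, `q ≥ 4` (`Main.EndOne`)

* `memT`: `N_S(Y) = T`;
* `NodeA`: node (A): every member of `L(S)` normalises `B`;
* `glob`: `Glob S N_G(B)`;
* `endOne_of`: `NodeA → Main.EndOne`.
-/

set_option autoImplicit false

namespace Cfsg.Agent.Omega.SQ1.EndOneOf

open Subgroup Cfsg Cfsg.Agent.ZN Cfsg.Agent.ZN.ChoiceBase Cfsg.Agent.Omega.MinPar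
open Cfsg.Agent.MinSimple.Choice97 (loc2_normalizer)
open Cfsg.Agent.Omega.SQ1.Choice (Config)
open Cfsg.Agent.Omega.SQ1.Bau
open Cfsg.Agent.Omega.SQ1.Bau.In (Y Z_le_Y V_le_Y)
open Cfsg.Agent.Omega.SQ1.FFOne Cfsg.Agent.Omega.SQ1.MatchL Cfsg.Agent.Omega.SQ1.MidOne
open Cfsg.Agent.Omega.SQ1.End (Base Glob)

universe u

variable {G : Type u} [Group G] {F : Type} [Field F] {M₀ H T V V0 : Subgroup G} {s : G}

/-- `N_S(Y) = T` for every 2-subgroup `S` over `T`. -/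
theorem memT [Finite G] [Finite F] [CharP F 2] (c : Config M₀ T H s) {M : FFOne.FF F H T V V0}
    (h : LSit M s) {S : Subgroup G} (hS : IsPGroup 2 S) (hTS : T ≤ S) :
    ∀ x ∈ S, (∀ a ∈ Y T V, x * a * x⁻¹ ∈ Y T V) → x ∈ T := by
  intro x hx hn
  have hY2 : IsPGroup 2 (Y T V) := c.two.to_le (h.sit.Y_le_B.trans (ChoiceBase.bau_le T))
  have hY0 : Y T V ≠ ⊥ := by
    obtain ⟨v, hv, e⟩ := M.surj ![1, 0]
    intro h0
    have h1 : v ∈ Y T V := V_le_Y T V hv
    rw [h0, mem_bot] at h1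
    subst h1
    rw [(M.ker 1 hv).2 (one_mem _)] at e
    have := congrFun e 0
    simp at this
  have hH : H ≤ normalizer (Y T V : Set G) := fun g hg => mem_norm_of (h.sit.dd.Y_norm g hg)
  have hsyl := c.syl_of_loc (h.TH.trans hH) (loc2_normalizer hY2 hY0) fun hle => c.notM (hH.trans hle)
  have hP : IsPGroup 2 (S ⊓ normalizer (Y T V : Set G) : Subgroup G) := hS.to_le inf_le_left
  rw [← hsyl.2.2 _ inf_le_right hP (le_inf hTS (h.TH.trans hH))]
  exact ⟨hx, mem_norm_of hn⟩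

/-- **Node (A)**: every member of `L(S)` normalises `B`. -/
def NodeA : Prop :=
  ∀ (G : Type u) [Group G] [Finite G] [IsSimpleGroup G], IsCharacteristicTwoType G →
    ¬ SectionalPRankLE 2 4 G → ∀ (F : Type) [Field F] [Finite F] [CharP F 2] (S : Sylow 2 G)
    (H T B Y Z C L : Subgroup G) (s : G), Mid F H T B Y Z C L s → T ≤ (S : Subgroup G) →
    s ∈ (S : Subgroup G) → (∀ x ∈ (S : Subgroup G), (∀ a ∈ Y, x * a * x⁻¹ ∈ Y) → x ∈ T) →
    4 ≤ Nat.card F → ∀ X : Subgroup G, IsLoc (S : Subgroup G) X → X ≤ normalizer (B : Set G)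

/-- `Glob` for `N_G(B)`. -/
theorem glob [Finite G] [Finite F] [CharP F 2] {B Y Z C L : Subgroup G} (M : Mid F H T B Y Z C L s)
    (hc : IsCharacteristicTwoType G) {S : Sylow 2 G} (hTS : T ≤ (S : Subgroup G))
    (hs : s ∈ (S : Subgroup G))
    (hNS : ∀ x ∈ (S : Subgroup G), (∀ a ∈ Y, x * a * x⁻¹ ∈ Y) → x ∈ T) (hF : 4 ≤ Nat.card F)
    (hA : ∀ X : Subgroup G, IsLoc (S : Subgroup G) X → X ≤ normalizer (B : Set G)) :
    Glob S (normalizer (B : Set G)) where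
  c2t := hc
  loc := by
    have hb := M.base S.isPGroup' hTS hs hNS hF
    have hB2 : IsPGroup 2 B := M.two.to_le M.BT
    have hB0 : B ≠ ⊥ := by
      obtain ⟨v, hv, e⟩ := M.surj ![1, 0]
      intro h0
      have h1 : v ∈ B := M.YB hv
      rw [h0, mem_bot] at h1
      subst h1
      rw [(M.ker 1 hv).2 (one_mem _)] at e
      have := congrFun e 0
      simp at this
    refine isLoc_normalizer S hB2 hB0 ?_
    have hTB : T ≤ normalizer (B : Set G) := fun t ht => mem_norm_of (M.TB t ht)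
    have hsB : s ∈ normalizer (B : Set G) := mem_norm_of M.sB
    intro x hx
    rcases hb.mem_S hx with h1 | h1
    · exact hTB h1
    · have h2 := mul_mem hsB (hTB h1)
      rwa [mul_inv_cancel_left] at h2
  uni := hA

/-- **One natural summand, `q ≥ 4`: contradiction.** -/
theorem endOne_of (hA : NodeA.{u}) : Main.EndOne.{u} := by
  intro G _ _ S M T H s h F _ _ _ hF N hN
  have := h.simple
  obtain ⟨S₁, hS₁M, hTS₁, hsS₁⟩ := h.cfg.exists_sylow
  have hNS := memT h.cfg hN S₁.isPGroup' hTS₁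
  have mid := hN.mid hF
  exact mid.false_of hTS₁ hsS₁ hNS hF (glob mid h.char2 hTS₁ hsS₁ hNS hF
    (hA G h.char2 h.rank F S₁ _ _ _ _ _ _ _ _ mid hTS₁ hsS₁ hNS hF))

end Cfsg.Agent.Omega.SQ1.EndOneOf
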