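import Cfsg.Agent.Omega.SQ1.GlueTwo
import Cfsg.Agent.Omega.SQ1.SitOf
import Cfsg.Agent.Omega.SQ1.BauSMin

/-!
# SQ1, `q = 2`: from the Baumann data to the end
-/

set_option autoImplicit false

namespace Cfsg.Agent.Omega.SQ1.EndTwo

open Subgroup Cfsg Cfsg.Agent.ZN Cfsg.Agent.ZN.ChoiceBase Cfsg.Agent.ZN.ChoiceSit
open Cfsg.Agent.Omega.SQ1.Choice (Config)
open Cfsg.Agent.Omega.SQ1.Match
open Cfsg.Agent.Omega.SQ1

universe u w

variable {G : Type u} [Group G]
variable {M T H Q V : Subgroup G} {s : G} {ι : Type w} {N : ι → Subgroup G} {d t r : ι → G}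

/-- the matching data in the configuration of `SQ1.Choice`, `A = ⟨T, s⟩` -/
theorem min_of [Finite G] (c : Config M T H s) (h : BauS.In H T Q V N d t r)
    (hp : BauS.PermR T V d r) :
    ∃ L : ι → Subgroup G, MIn (T ⊔ zpowers s) T (bau T) (zj T) (bau T ⊓ Q) s L
      (fun i => BauS.QQ T N i) (fun i => BauS.VV T N i) (fun i => zpowers (d i)) := by
  have hTA : T ≤ T ⊔ zpowers s := le_sup_left
  have hAT : T ⊔ zpowers s ≤ normalizer (T : Set G) := sup_le le_normalizer (zpowers_le.2 c.sN)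
  have idx : ∀ a ∈ T ⊔ zpowers s, ∀ b ∈ T ⊔ zpowers s, a ∉ T → b ∉ T → a⁻¹ * b ∈ T := by
    intro a ha b hb haT hbT
    have h1 := (SitOf.mem_A c.sN c.sq ha).resolve_left haT
    have h2 := (SitOf.mem_A c.sN c.sq hb).resolve_left hbT
    have h3 := mul_mem (inv_mem h1) h2
    have e : (s⁻¹ * a)⁻¹ * (s⁻¹ * b) = a⁻¹ * b := by group
    rwa [e] at h3
  obtain ⟨L, -, -, hL⟩ := h.min_in hp hTA hAT idx
    (fun R hR hH hA => SitOf.core_of_config c R hR hH (hA s (mem_sup_right (mem_zpowers s))))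
    (mem_sup_right (mem_zpowers s)) c.sT
  exact ⟨L, hL⟩

theorem norm_star [Finite G] (h : BauS.In H T Q V N d t r) (i : ι) :
    H ≤ normalizer ((bau T ⊓ Q : Subgroup G) : Set G) := fun g hg =>
  mem_normalizer_of_cj_le (by
    rintro _ ⟨x, hx, rfl⟩
    exact h.star_norm i g hg x hx)

/-- `B ∩ Q` contains a member of `A(T)`. -/
theorem exists_AA [Finite G] (h : BauS.In H T Q V N d t r) : ∃ E ∈ AA T, E ≤ bau T ⊓ Q := by
  obtain ⟨E, hE, hEQ, -⟩ := h.exists_AQ
  exact ⟨E, hE, le_inf ((le_jj hE).trans (jj_le_bau T)) hEQ⟩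

/-- **One block, `q = 2`.** -/
theorem one_case [Finite G] [IsSimpleGroup G] (hG : IsCharacteristicTwoType G) (c : Config M T H s)
    (h : BauS.In H T Q V N d t r) (hp : BauS.PermR T V d r) (i : ι) (hi : ∀ j, j = i) :
    SectionalPRankLE 2 4 G := by
  obtain ⟨L, hL⟩ := min_of c h hp
  exact GlueTwo.rank_of hG c hL i hi (norm_star h i) (BauS.Blk.relIndex_Z h)

/-- **The case `q = 2`**: any number of blocks. -/
theorem two_case [Finite G] [IsSimpleGroup G] [Nonempty ι] (hG : IsCharacteristicTwoType G)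
    (c : Config M T H s) (h : BauS.In H T Q V N d t r) (hp : BauS.PermR T V d r) :
    SectionalPRankLE 2 4 G := by
  have : Finite ι := h.finite_index
  obtain ⟨i⟩ := ‹Nonempty ι›
  obtain ⟨L, hL⟩ := min_of c h hp
  obtain ⟨E, hE, hEP⟩ := exists_AA h
  have h1 := GlueTwo.one_block_config_all hG c hL (norm_star h i) hE hEP
  exact GlueTwo.rank_of hG c hL i (fun j => Subsingleton.elim j i) (norm_star h i)
    (BauS.Blk.relIndex_Z h)

end Cfsg.Agent.Omega.SQ1.EndTwo
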