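import Cfsg.Agent.Omega.SQ1.FFK

/-!
# SQ1, L1 for `k` blocks: offenders in `T`

* `FFK.inf_V`: `A ∩ V = {v ∈ V : (π i v) 1 = 0 for all i on which A acts}` for `A ∈ A(T)`;
* `FFK.exists_E`: for each `i` there is a member of `A(T)` acting only on the `i`-th summand;
* `FFK.mem_V1`: `C_V(J(T)) = {v ∈ V : (π i v) 1 = 0 for all i}`;
* `FFK.lemC`: elements of `T` acting as upper unitriangular matrices.
-/

set_option autoImplicit false
set_option linter.unusedSectionVars false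
set_option linter.unusedVariables false

namespace Cfsg.Agent.Omega.SQ1.FFOne

open Subgroup Cfsg Cfsg.Agent.PLocal.ThompsonJ Cfsg.Agent.ZN Cfsg.Agent.ZN.ChoiceBase
open Cfsg.Agent.ZN.ChoiceSit
open Cfsg.Agent.Omega.NatPair Cfsg.Agent.Lib.SL2Mat
open Cfsg.Agent.PLocal.ElemAbSup
open Cfsg.Agent.Omega.SQ1.Bau (mem_AA_of_comm zj_le_AA elem_comm elem_sq mem_sup_comm card_sup_comm
  mem_sup_norm Mv not_mv_iff mv_inv)
open Cfsg.Agent.Omega.SQ1.BauK (V1 mem_V1)
open scoped Pointwise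

universe u

variable {G : Type u} [Group G]

namespace FFK

variable {ι : Type} {F : Type*} [Field F] {H T V V0 : Subgroup G} (M : FFK ι F H T V V0)

include M in
theorem Velem : IsElementaryAbelian 2 V :=
  isElementaryAbelian_iff.2 ⟨fun v hv w hw => M.VcQ v (M.VQ hv) w hw, M.Vsq⟩

include M in
theorem Vcomm {v w : G} (hv : v ∈ V) (hw : w ∈ V) : v * w = w * v := M.VcQ v (M.VQ hv) w hw

/-- `h` acts as upper unitriangular matrices on all coordinates. -/
def Up (M : FFK ι F H T V V0) (h : G) (c : ι → F) : Prop :=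
  ∀ i, ∀ v ∈ V, M.π i (h * v * h⁻¹) = ap (up (c i)) (M.π i v)

theorem Up.mul {a b : G} {c d : ι → F} (hb' : b ∈ H) (ha : M.Up a c) (hb : M.Up b d) :
    M.Up (a * b) (c + d) := by
  intro i v hv
  have e : a * b * v * (a * b)⁻¹ = a * (b * v * b⁻¹) * a⁻¹ := by group
  rw [e, ha i _ (M.Vn b hb' v hv), hb i v hv, ← ap_mul, up_mul]
  rfl

theorem Up.inv {a : G} {c : ι → F} (ha' : a ∈ H) (ha : M.Up a c) : M.Up a⁻¹ (-c) := by
  intro i v hv
  have hv' := M.Vn a⁻¹ (inv_mem ha') v hv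
  have h1 := ha i _ hv'
  have e : a * (a⁻¹ * v * a⁻¹⁻¹) * a⁻¹ = v := by group
  rw [e] at h1
  rw [h1, ← ap_mul, up_mul]
  have e2 : (-c) i + c i = 0 := by simp
  rw [e2, up_zero, ap_one]

theorem Up.one : M.Up 1 0 := by
  intro i v hv
  rw [one_mul, inv_one, mul_one]
  show _ = ap (up 0) _
  rw [up_zero, ap_one]

theorem up_val {a v : G} {c : ι → F} (ha : M.Up a c) (hv : v ∈ V) (i : ι) :
    M.π i (a * v * a⁻¹) 0 = M.π i v 0 + c i * M.π i v 1 := by
  rw [ha i v hv, ap_zero', up_00, up_01, one_mul]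

theorem up_val1 {a v : G} {c : ι → F} (ha : M.Up a c) (hv : v ∈ V) (i : ι) :
    M.π i (a * v * a⁻¹) 1 = M.π i v 1 := by
  rw [ha i v hv, ap_one', up_10, up_11, zero_mul, zero_add, one_mul]

theorem exists_up {A : Subgroup G} (hA : A ∈ AA T) {a : G} (ha : a ∈ A) : ∃ c, M.Up a c := by
  choose c hc using M.off1 A hA a ha
  exact ⟨c, hc⟩

theorem up_unique {a : G} {c d : ι → F} (hc : M.Up a c) (hd : M.Up a d) : c = d := by
  funext i
  obtain ⟨v, hv, e, -⟩ := M.surj i ![0, 1]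
  have h1 := M.up_val hc hv i
  have h2 := M.up_val hd hv i
  rw [h1, e] at h2
  simpa using h2

theorem jj_up [Finite G] (hm : MinH H T) {j : G} (hj : j ∈ jj T) : ∃ c, M.Up j c := by
  let S : Subgroup G :=
    { carrier := {g | g ∈ H ∧ ∃ c, M.Up g c}
      mul_mem' := by
        rintro a b ⟨ha, c, hc⟩ ⟨hb, d, hd⟩
        exact ⟨mul_mem ha hb, c + d, Up.mul M hb hc hd⟩
      one_mem' := ⟨one_mem H, 0, Up.one M⟩
      inv_mem' := by
        rintro a ⟨ha, c, hc⟩
        exact ⟨inv_mem ha, -c, Up.inv M ha hc⟩ }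
  have hle : jj T ≤ S := by
    rw [jj_eq]
    exact sSup_le fun A hA a ha => ⟨hm.syl.1 (hA.2.1 ha), M.exists_up hA ha⟩
  exact (hle hj).2

/-- `Act1` elements which are upper unitriangular. -/
theorem up_of_act1 [DecidableEq ι] {a : G} {i : ι} {c : F} (ha : Act1 M.π V i a (up c)) :
    M.Up a (Pi.single i c) := by
  intro j v hv
  by_cases hij : j = i
  · subst hij
    rw [Pi.single_eq_same, ha.act v hv]
  · rw [Pi.single_eq_of_ne hij, up_zero, ap_one, ha.oth j hij v hv]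

theorem mem_Q_of_up_zero [Finite G] [Finite F] [CharP F 2] [Nonempty ι] (hm : MinH H T) {x : G}
    (hx : x ∈ T) (h : M.Up x 0) : x ∈ o2 H := by
  rw [M.mem_Q_iff hm hx]
  intro v hv i
  rw [h i v hv]
  show ap (up 0) _ = _
  rw [up_zero, ap_one]

theorem up_zero_of_mem_Q [Finite G] [Finite F] {x : G} (hx : x ∈ o2 H) : M.Up x 0 := by
  intro i v hv
  show _ = ap (up 0) _
  rw [up_zero, ap_one]
  exact (M.Q_kern hx).2 v hv i

/-! ### Members of `A(T)` -/

/-- the indices on which `A` acts -/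
def Sup (M : FFK ι F H T V V0) (A : Subgroup G) : Set ι :=
  {i | ¬ ∀ a ∈ A, ∀ v ∈ V, M.π i (a * v * a⁻¹) = M.π i v}

/-- `{v ∈ V : (π i v) 1 = 0 for all i ∈ S}` -/
def VS (M : FFK ι F H T V V0) (S : Set ι) : Subgroup G where
  carrier := {v | v ∈ V ∧ ∀ i ∈ S, M.π i v 1 = 0}
  mul_mem' := by
    rintro a b ⟨ha, ha'⟩ ⟨hb, hb'⟩
    refine ⟨mul_mem ha hb, fun i hi => ?_⟩
    rw [M.map_mul i a ha b hb, Pi.add_apply, ha' i hi, hb' i hi, add_zero]
  one_mem' := ⟨one_mem V, fun i _ => by rw [M.map_one]; rfl⟩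
  inv_mem' := by
    rintro a ⟨ha, ha'⟩
    refine ⟨inv_mem ha, fun i hi => ?_⟩
    rw [M.map_inv i ha, Pi.neg_apply, ha' i hi, neg_zero]

theorem mem_VS {S : Set ι} {v : G} : v ∈ M.VS S ↔ v ∈ V ∧ ∀ i ∈ S, M.π i v 1 = 0 := Iff.rfl

theorem VS_le (S : Set ι) : M.VS S ≤ V := fun _ h => h.1

theorem Sup_zero {A : Subgroup G} {a : G} (ha : a ∈ A) {c : ι → F} (hc : M.Up a c) {i : ι}
    (hi : i ∉ M.Sup A) : c i = 0 := by
  have h1 : ∀ a ∈ A, ∀ v ∈ V, M.π i (a * v * a⁻¹) = M.π i v := by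
    by_contra hcon
    exact hi hcon
  obtain ⟨v, hv, e, -⟩ := M.surj i ![0, 1]
  have h2 := M.up_val hc hv i
  rw [h1 a ha v hv, e] at h2
  simpa using h2.symm

/-- surjectivity onto a product from the coordinate directions -/
theorem pi_surj {S : Set ι} [Finite S] {K : Subgroup G} (f : G → S → F)
    (hm : ∀ v ∈ K, ∀ w ∈ K, f (v * w) = f v + f w)
    (hs : ∀ i : S, ∀ c : F, ∃ v ∈ K, f v i = c ∧ ∀ j, j ≠ i → f v j = 0) (x : S → F) :
    ∃ v ∈ K, f v = x := by
  classical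
  have := Fintype.ofFinite S
  have h0 : f 1 = 0 := by
    have := hm 1 (one_mem K) 1 (one_mem K)
    rw [one_mul] at this
    exact left_eq_add.1 this
  have key : ∀ s : Finset S, ∃ v ∈ K, f v = fun j => if j ∈ s then x j else 0 := by
    intro s
    induction s using Finset.induction_on with
    | empty => exact ⟨1, one_mem K, by rw [h0]; funext j; simp⟩
    | insert i s hi ih =>
      obtain ⟨v, hv, e⟩ := ih
      obtain ⟨w, hw, e', e''⟩ := hs i (x i)
      refine ⟨v * w, mul_mem hv hw, ?_⟩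
      rw [hm v hv w hw, e]
      funext j
      rw [Pi.add_apply]
      by_cases hj : j = i
      · subst hj
        simp [hi, e']
      · simp [hj, e'' j hj, Finset.mem_insert]
  obtain ⟨v, hv, e⟩ := key Finset.univ
  exact ⟨v, hv, by rw [e]; funext j; simp⟩

/-- `|V| = |VS| |F|^S` -/
theorem card_VS [Finite G] [Finite ι] (S : Set ι) :
    Nat.card V = Nat.card (M.VS S) * Nat.card (S → F) := by
  classical
  have hm : ∀ v ∈ V, ∀ w ∈ V, (fun (v : G) (j : S) => M.π j v 1) (v * w) =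
      (fun (v : G) (j : S) => M.π j v 1) v + (fun (v : G) (j : S) => M.π j v 1) w := by
    intro v hv w hw
    funext j
    show M.π j (v * w) 1 = M.π j v 1 + M.π j w 1
    rw [M.map_mul j v hv w hw]; rfl
  refine card_of_map (fun (v : G) (j : S) => M.π j v 1) hm (M.VS_le S) ?_ ?_
  · intro v hv
    constructor
    · intro h
      exact ⟨hv, fun i hi => congrFun h ⟨i, hi⟩⟩
    · rintro ⟨-, h⟩
      funext j
      exact h j j.2
  · refine pi_surj _ hm ?_
    intro i c
    obtain ⟨v, hv, e, hj⟩ := M.surj i ![0, c]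
    refine ⟨v, hv, ?_, fun j hji => ?_⟩
    · show M.π i v 1 = _
      rw [e]; simp
    · show M.π j v 1 = _
      rw [hj j fun h => hji (Subtype.ext h)]; rfl

/-- `|A| = |A ∩ Q| |F|^S` -/
theorem card_A [Finite G] [Finite F] [CharP F 2] [Finite ι] [Nonempty ι] (hm : MinH H T)
    {A : Subgroup G} (hA : A ∈ AA T) :
    Nat.card A = Nat.card ↥(A ⊓ o2 H) * Nat.card (M.Sup A → F) := by
  classical
  let f : G → ι → F := fun a => if h : ∃ c, M.Up a c then h.choose else 0
  have hf : ∀ a ∈ A, M.Up a (f a) := by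
    intro a ha
    have h := M.exists_up hA ha
    have e : f a = h.choose := dif_pos h
    rw [e]
    exact h.choose_spec
  have hH : ∀ a ∈ A, a ∈ H := fun a ha => hm.syl.1 (hA.2.1 ha)
  have hmul : ∀ v ∈ A, ∀ w ∈ A, (fun (a : G) (j : M.Sup A) => f a j) (v * w) =
      (fun (a : G) (j : M.Sup A) => f a j) v + (fun (a : G) (j : M.Sup A) => f a j) w := by
    intro v hv w hw
    have := M.up_unique (hf _ (mul_mem hv hw)) (Up.mul M (hH w hw) (hf v hv) (hf w hw))
    funext j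
    show f (v * w) j = f v j + f w j
    rw [this]; rfl
  refine card_of_map (fun (a : G) (j : M.Sup A) => f a j) hmul inf_le_left ?_ ?_
  · intro a ha
    constructor
    · intro h
      refine ⟨ha, M.mem_Q_of_up_zero hm (hA.2.1 ha) ?_⟩
      have : f a = 0 := by
        funext i
        by_cases hi : i ∈ M.Sup A
        · exact congrFun h ⟨i, hi⟩
        · exact M.Sup_zero ha (hf a ha) hi
      rw [← this]
      exact hf a ha
    · rintro ⟨-, h⟩
      have := M.up_unique (hf a ha) (M.up_zero_of_mem_Q h)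
      show (fun j : M.Sup A => f a j) = 0
      rw [this]; rfl
  · refine pi_surj _ hmul ?_
    intro i c
    obtain ⟨a, ha, hac⟩ := M.off2 A hA i i.2 c
    have h1 := M.up_unique (hf a ha) (M.up_of_act1 hac)
    refine ⟨a, ha, ?_, fun j hji => ?_⟩
    · show f a i = _
      rw [h1, Pi.single_eq_same]
    · show f a j = _
      rw [h1, Pi.single_eq_of_ne fun h => hji (Subtype.ext h)]

theorem VT [Finite G] (hm : MinH H T) (M : FFK ι F H T V V0) : V ≤ T := M.VQ.trans (o2_le_syl hm.syl)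

/-- `A ∩ V = VS (Sup A)` -/
theorem inf_V [Finite G] [Finite F] [CharP F 2] [Finite ι] [Nonempty ι] (hm : MinH H T)
    {A : Subgroup G} (hA : A ∈ AA T) : A ⊓ V = M.VS (M.Sup A) := by
  have hQT : o2 H ≤ T := o2_le_syl hm.syl
  have hc : ∀ a ∈ A ⊓ o2 H, ∀ v ∈ V, a * v = v * a := fun a ha v hv => M.VcQ a ha.2 v hv
  have h1 : IsElementaryAbelian 2 ((A ⊓ o2 H) ⊔ V : Subgroup G) :=
    isElementaryAbelian_sup (isElementaryAbelian_mono hA.1 inf_le_left) M.Velem
      fun v hv => mem_centralizer_iff.2 fun a ha => hc a ha v hv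
  have h2 := hA.2.2 _ h1 (sup_le (inf_le_right.trans hQT) (M.VQ.trans hQT))
  have h3 := card_sup_comm hc
  have h4 : (A ⊓ o2 H) ⊓ V = A ⊓ V := by
    apply le_antisymm
    · exact le_inf (inf_le_left.trans inf_le_left) inf_le_right
    · exact le_inf (le_inf inf_le_left (inf_le_right.trans M.VQ)) inf_le_right
  rw [h4] at h3
  rw [M.card_A hm hA] at h2
  have h5 : Nat.card V ≤ Nat.card (M.Sup A → F) * Nat.card ↥(A ⊓ V) := by
    have e : Nat.card ↥(A ⊓ o2 H) * Nat.card V ≤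
        Nat.card ↥(A ⊓ o2 H) * (Nat.card (M.Sup A → F) * Nat.card ↥(A ⊓ V)) := by
      rw [← h3]
      calc _ ≤ Nat.card ↥(A ⊓ o2 H) * Nat.card (M.Sup A → F) * Nat.card ↥(A ⊓ V) :=
            Nat.mul_le_mul_right _ h2
        _ = _ := by ring
    exact Nat.le_of_mul_le_mul_left e Nat.card_pos
  rw [M.card_VS (M.Sup A), mul_comm] at h5
  have h6 : Nat.card (M.VS (M.Sup A)) ≤ Nat.card ↥(A ⊓ V) :=
    Nat.le_of_mul_le_mul_left h5 Nat.card_pos
  refine Subgroup.eq_of_le_of_card_ge ?_ h6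
  rintro v ⟨hvA, hvV⟩
  refine ⟨hvV, fun i hi => ?_⟩
  classical
  obtain ⟨a, ha, hac⟩ := M.off2 A hA i hi 1
  have h7 := M.up_val (M.up_of_act1 hac) hvV i
  rw [elem_comm hA.1 a ha v hvA, mul_inv_cancel_right, Pi.single_eq_same, one_mul] at h7
  exact left_eq_add.1 h7

/-- `A` centralises `VS (Sup A)`. -/
theorem A_cent [Finite G] [Finite F] [CharP F 2] [Finite ι] [Nonempty ι] (hm : MinH H T)
    {A : Subgroup G} (hA : A ∈ AA T) {a v : G} (ha : a ∈ A) (hv : v ∈ M.VS (M.Sup A)) :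
    a * v = v * a := by
  rw [← M.inf_V hm hA] at hv
  exact elem_comm hA.1 a ha v hv.1

theorem cent_A [Finite G] [Finite F] [CharP F 2] [Finite ι] [Nonempty ι] (hm : MinH H T)
    {A : Subgroup G} (hA : A ∈ AA T) : V ⊓ centralizer (A : Set G) = M.VS (M.Sup A) := by
  rw [← M.inf_V hm hA]
  apply le_antisymm
  · rintro v ⟨hv, hc⟩
    exact ⟨mem_AA_of_comm hA (VT hm M hv) (M.Vsq v hv)
      fun a ha => mem_centralizer_iff.1 hc a ha, hv⟩
  · rintro v ⟨hv, hc⟩
    exact ⟨hc, mem_centralizer_iff.2 fun a ha => elem_comm hA.1 a ha v hv⟩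

include M in
theorem off [Finite G] [Finite F] [CharP F 2] [Finite ι] [Nonempty ι] (hm : MinH H T)
    {A : Subgroup G} (hA : A ∈ AA T) :
    Nat.card A * Nat.card ↥(V ⊓ centralizer (A : Set G)) = Nat.card ↥(A ⊓ o2 H) * Nat.card V := by
  rw [M.cent_A hm hA, M.card_VS (M.Sup A), M.card_A hm hA]
  ring

/-- elements of `A(T)`-members acting on the `i`-th summand -/
theorem exists_off [Finite G] [Finite F] [CharP F 2] [Finite ι] [Nonempty ι] (hm : MinH H T)
    (i : ι) : ∃ A ∈ AA T, i ∈ M.Sup A := by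
  obtain ⟨A, hA, hAQ⟩ : ∃ A ∈ AA T, ¬ A ≤ o2 H := by
    by_contra hc
    push Not at hc
    apply M.nle
    rw [jj_eq]
    exact sSup_le hc
  obtain ⟨a, ha, haQ⟩ := SetLike.not_le_iff_exists.1 hAQ
  obtain ⟨j, hj⟩ : ∃ j, j ∈ M.Sup A := by
    by_contra hc
    push Not at hc
    obtain ⟨c, hcu⟩ := M.exists_up hA ha
    have : c = 0 := by
      funext i
      exact M.Sup_zero ha hcu (hc i)
    rw [this] at hcu
    exact haQ (M.mem_Q_of_up_zero hm (hA.2.1 ha) hcu)
  obtain ⟨t, ht, e⟩ := M.W_trans hm.syl.1 j i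
  have htH := hm.syl.1 ht
  refine ⟨cj t A, ?_, ?_⟩
  · have := cj_mem_AA t hA
    rwa [cj_eq_of_mem_normalizer (le_normalizer ht)] at this
  · intro hall
    apply hj
    intro b hb v hv
    -- `t b t⁻¹` acts trivially on `V / W i`
    have h1 := hall (t * b * t⁻¹) ⟨b, hb, rfl⟩ (t * v * t⁻¹) (M.Vn t htH v hv)
    have hbH := hm.syl.1 (hA.2.1 hb)
    have hbv := M.Vn b hbH v hv
    have e1 : t * b * t⁻¹ * (t * v * t⁻¹) * (t * b * t⁻¹)⁻¹ = t * (b * v * b⁻¹) * t⁻¹ := by group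
    rw [e1, ← sub_eq_zero, ← M.map_div i (M.Vn t htH _ hbv) (M.Vn t htH v hv)] at h1
    have e2 : t * (b * v * b⁻¹) * t⁻¹ * (t * v * t⁻¹)⁻¹ = t * (b * v * b⁻¹ * v⁻¹) * t⁻¹ := by group
    rw [e2] at h1
    have h2 : t * (b * v * b⁻¹ * v⁻¹) * t⁻¹ ∈ M.W i :=
      ⟨M.Vn t htH _ (mul_mem hbv (inv_mem hv)), h1⟩
    rw [← e, mem_cj] at h2
    have e3 : t⁻¹ * (t * (b * v * b⁻¹ * v⁻¹) * t⁻¹) * t = b * v * b⁻¹ * v⁻¹ := by group
    rw [e3] at h2
    have h3 := h2.2
    rwa [M.map_div j hbv hv, sub_eq_zero] at h3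

/-- For each `i` there is a member of `A(T)` which acts only on the `i`-th summand. -/
theorem exists_E [Finite G] [Finite F] [CharP F 2] [Finite ι] [Nonempty ι] (hm : MinH H T)
    (i : ι) : ∃ E ∈ AA T, (∀ a ∈ E, ∀ v ∈ M.W i, a * v = v * a) ∧
      ∀ c : F, ∃ a ∈ E, Act1 M.π V i a (up c) := by
  classical
  obtain ⟨A, hA, hi⟩ := M.exists_off hm i
  have hQT : o2 H ≤ T := o2_le_syl hm.syl
  let A' : Subgroup G := A ⊓ centralizer (M.W i : Set G)
  let X : Subgroup G := M.VS {i}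
  have hA'W : ∀ a ∈ A', ∀ v ∈ M.W i, a * v = v * a := fun a ha v hv =>
    (mem_centralizer_iff.1 ha.2 v hv).symm
  -- `A'` centralises `X`
  have hAX : ∀ a ∈ A', ∀ v ∈ X, a * v = v * a := by
    intro a ha v hv
    obtain ⟨n, hn, w, hw, rfl, e⟩ := M.split i hv.1
    have h1 : n ∈ M.VS (M.Sup A) := by
      refine ⟨hn.1, fun j _ => ?_⟩
      by_cases hji : j = i
      · subst hji
        rw [e]; exact hv.2 j rfl
      · rw [hn.2 j hji]; rfl
    have e1 : Commute a n := M.A_cent hm hA ha.1 h1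
    have e2 : Commute a w := hA'W a ha w hw
    exact (e1.mul_right e2).eq
  have hXT : X ≤ T := (M.VS_le _).trans (VT hm M)
  have hel : IsElementaryAbelian 2 (A' ⊔ X : Subgroup G) :=
    isElementaryAbelian_sup (isElementaryAbelian_mono hA.1 inf_le_left)
      (isElementaryAbelian_mono M.Velem (M.VS_le _))
      fun v hv => mem_centralizer_iff.2 fun a ha => hAX a ha v hv
  have hT : A' ⊔ X ≤ T := sup_le (inf_le_left.trans hA.2.1) hXT
  -- cardinalities
  have c1 := card_sup_comm hAX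
  have hAQ : A' ⊓ o2 H = A ⊓ o2 H := by
    apply le_antisymm (inf_le_inf_right _ inf_le_left)
    rintro a ⟨ha, haQ⟩
    exact ⟨⟨ha, mem_centralizer_iff.2 fun v hv => (M.VcQ a haQ v hv.1).symm⟩, haQ⟩
  have hAV : A' ⊓ X = A ⊓ V := by
    apply le_antisymm (inf_le_inf inf_le_left (M.VS_le _))
    intro v hv
    have hv' := hv
    rw [M.inf_V hm hA] at hv'
    refine ⟨⟨hv.1, mem_centralizer_iff.2 fun w hw => M.Vcomm hw.1 hv.2⟩, hv.2, fun j hj => ?_⟩
    rw [Set.mem_singleton_iff.1 hj]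
    exact hv'.2 i hi
  have c2 : Nat.card A' = Nat.card ↥(A' ⊓ o2 H) * Nat.card F := by
    let f : G → F := fun a => if h : ∃ c, M.Up a c then h.choose i else 0
    have hf : ∀ a ∈ A, ∀ c, M.Up a c → f a = c i := by
      intro a ha c hc
      have h : ∃ c, M.Up a c := ⟨c, hc⟩
      have e : f a = h.choose i := dif_pos h
      rw [e, M.up_unique h.choose_spec hc]
    have hH : ∀ a ∈ A, a ∈ H := fun a ha => hm.syl.1 (hA.2.1 ha)
    refine card_of_map f ?_ inf_le_left ?_ ?_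
    · intro a ha b hb
      obtain ⟨c, hc⟩ := M.exists_up hA ha.1
      obtain ⟨d, hd⟩ := M.exists_up hA hb.1
      rw [hf a ha.1 c hc, hf b hb.1 d hd,
        hf _ (mul_mem ha.1 hb.1) _ (Up.mul M (hH b hb.1) hc hd)]
      rfl
    · intro a ha
      obtain ⟨c, hc⟩ := M.exists_up hA ha.1
      rw [hf a ha.1 c hc]
      constructor
      · intro h0
        refine ⟨ha, M.mem_Q_of_up_zero hm (hA.2.1 ha.1) ?_⟩
        have : c = 0 := by
          funext j
          by_cases hji : j = i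
          · subst hji; exact h0
          · obtain ⟨v, hv, e, hj⟩ := M.surj j ![0, 1]
            have h1 := hA'W a ha v ⟨hv, hj i fun h => hji h.symm⟩
            have h2 := M.up_val hc hv j
            rw [h1, mul_inv_cancel_right, e] at h2
            simpa using h2.symm
        rwa [this] at hc
      · rintro ⟨-, haQ⟩
        rw [M.up_unique hc (M.up_zero_of_mem_Q haQ)]
        rfl
    · intro c
      obtain ⟨a, ha, hac⟩ := M.off2 A hA i hi c
      refine ⟨a, ⟨ha, mem_centralizer_iff.2 fun v hv => (hac.cent v hv.1 hv.2).symm⟩, ?_⟩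
      rw [hf a ha _ (M.up_of_act1 hac), Pi.single_eq_same]
  have c3 : Nat.card V = Nat.card X * Nat.card F := by
    refine card_of_map (fun v => M.π i v 1) ?_ (M.VS_le _) ?_ ?_
    · intro v hv w hw
      show M.π i (v * w) 1 = _
      rw [M.map_mul i v hv w hw]; rfl
    · intro v hv
      exact ⟨fun h => ⟨hv, fun j hj => by rw [Set.mem_singleton_iff.1 hj]; exact h⟩,
        fun h => h.2 i rfl⟩
    · intro c
      obtain ⟨v, hv, e, -⟩ := M.surj i ![0, c]
      exact ⟨v, hv, by show M.π i v 1 = c; rw [e]; rfl⟩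
  have c4 := M.card_VS (M.Sup A)
  have c5 := M.card_A hm hA
  rw [← M.inf_V hm hA] at c4
  have c6 : Nat.card ↥(A' ⊔ X) = Nat.card A := by
    have hp : 0 < Nat.card ↥(A ⊓ V) := Nat.card_pos
    refine Nat.eq_of_mul_eq_mul_right hp ?_
    rw [← hAV, c1, c2, hAQ, hAV, c5]
    calc Nat.card ↥(A ⊓ o2 H) * Nat.card F * Nat.card X
        = Nat.card ↥(A ⊓ o2 H) * (Nat.card X * Nat.card F) := by ring
      _ = Nat.card ↥(A ⊓ o2 H) * (Nat.card ↥(A ⊓ V) * Nat.card (M.Sup A → F)) := by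
          rw [← c3, c4]
      _ = _ := by ring
  refine ⟨A' ⊔ X, mem_AA_iff.2 ⟨hel, hT, by rw [c6, mm_eq hA]⟩, ?_, ?_⟩
  · intro a ha v hv
    obtain ⟨b, hb, x, hx, rfl⟩ := mem_sup_comm hAX ha
    have e1 : Commute b v := hA'W b hb v hv
    have e2 : Commute x v := M.Vcomm (M.VS_le _ hx) hv.1
    exact (e1.mul_left e2).eq
  · intro c
    obtain ⟨a, ha, hac⟩ := M.off2 A hA i hi c
    exact ⟨a, mem_sup_left ⟨ha, mem_centralizer_iff.2 fun v hv => (hac.cent v hv.1 hv.2).symm⟩,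
      hac⟩

/-- `C_V(J(T))` -/
theorem mem_V1_iff [Finite G] [Finite F] [CharP F 2] [Finite ι] [Nonempty ι] (hm : MinH H T)
    {v : G} : v ∈ V1 T V ↔ v ∈ V ∧ ∀ i, M.π i v 1 = 0 := by
  classical
  constructor
  · intro hv
    obtain ⟨h1, h2⟩ := mem_V1.1 hv
    refine ⟨h1, fun i => ?_⟩
    obtain ⟨E, hE, -, hc⟩ := M.exists_E hm i
    obtain ⟨a, ha, hac⟩ := hc 1
    have h7 := M.up_val (M.up_of_act1 hac) h1 i
    rw [h2 a (le_jj hE ha), mul_inv_cancel_right, Pi.single_eq_same, one_mul] at h7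
    exact left_eq_add.1 h7
  · rintro ⟨h1, h2⟩
    refine mem_V1.2 ⟨h1, ?_⟩
    have hle : jj T ≤ centralizer ({v} : Set G) := by
      rw [jj_eq]
      refine sSup_le fun A hA a ha => mem_centralizer_iff.2 fun x hx => ?_
      rw [show x = v from hx]
      exact (M.A_cent hm hA ha ⟨h1, fun i _ => h2 i⟩).symm
    exact fun j hj => (mem_centralizer_iff.1 (hle hj) v rfl).symm

/-- Elements of `T` acting as upper unitriangular matrices, supported on `s`. -/
theorem lemC [Finite G] [Finite F] [CharP F 2] [Finite ι] [Nonempty ι] (hm : MinH H T)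
    (s : Finset ι) : ∀ x ∈ T, ∀ c, M.Up x c → (∀ j, j ∉ s → c j = 0) →
      x ∈ jj T ⊔ o2 H ∧ ∀ i, i ∉ s → ∀ v ∈ M.N i, x * v = v * x := by
  classical
  induction s using Finset.induction_on with
  | empty =>
    intro x hx c hc h0
    have : c = 0 := by funext j; exact h0 j (by simp)
    rw [this] at hc
    have hxQ := M.mem_Q_of_up_zero hm hx hc
    exact ⟨mem_sup_right hxQ, fun i _ v hv => M.VcQ x hxQ v hv.1⟩
  | insert j s hj ih =>
    intro x hx c hc h0
    obtain ⟨E, hE, hEW, hEc⟩ := M.exists_E hm j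
    obtain ⟨a, ha, hac⟩ := hEc (c j)
    have haT := hE.2.1 ha
    have hup := Up.mul M (hm.syl.1 hx) (Up.inv M (hm.syl.1 haT) (M.up_of_act1 hac)) hc
    obtain ⟨h1, h2⟩ := ih (a⁻¹ * x) (mul_mem (inv_mem haT) hx) _ hup (by
      intro k hk
      by_cases hkj : k = j
      · subst hkj; simp
      · have h3 : c k = 0 := h0 k (by simp [hkj, hk])
        simp [h3, Pi.single_eq_of_ne hkj])
    have e : x = a * (a⁻¹ * x) := by group
    refine ⟨?_, fun i hi v hv => ?_⟩
    · rw [e]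
      exact mul_mem (mem_sup_left (le_jj hE ha)) h1
    · have hij : i ≠ j := by rintro rfl; simp at hi
      have his : i ∉ s := fun h => hi (by simp [h])
      have e1 : Commute a v := hEW a ha v (M.N_le_W hij.symm hv)
      have e2 : Commute (a⁻¹ * x) v := h2 i his v hv
      rw [e]
      exact (e1.mul_left e2).eq

/-- An element of `T` acting as upper unitriangular matrices and trivially on the `i`-th summand
centralises `N i`. -/
theorem cent_N [Finite G] [Finite F] [CharP F 2] [Finite ι] [Nonempty ι] (hm : MinH H T)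
    {x : G} (hx : x ∈ T) {c : ι → F} (hc : M.Up x c) {i : ι} (h0 : c i = 0) {v : G}
    (hv : v ∈ M.N i) : x * v = v * x := by
  classical
  have := Fintype.ofFinite ι
  exact (M.lemC hm (Finset.univ.erase i) x hx c hc (by
    intro j hj
    by_cases hji : j = i
    · subst hji; exact h0
    · exact absurd (Finset.mem_erase.2 ⟨hji, Finset.mem_univ j⟩) hj)).2 i (by simp) v hv

theorem mem_sup_of_up [Finite G] [Finite F] [CharP F 2] [Finite ι] [Nonempty ι] (hm : MinH H T)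
    {x : G} (hx : x ∈ T) {c : ι → F} (hc : M.Up x c) : x ∈ jj T ⊔ o2 H := by
  classical
  have := Fintype.ofFinite ι
  exact (M.lemC hm Finset.univ x hx c hc (by intro j hj; simp at hj)).1

end FFK

end Cfsg.Agent.Omega.SQ1.FFOne
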