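import Cfsg.Agent.Omega.SQ1.FFKA

/-!
# SQ1, L1 for `k` blocks: `FFK.toInK`

The output of the FF-theorem gives the Baumann data `BauK.InK` for `k` blocks.
-/

set_option autoImplicit false
set_option linter.unusedSectionVars false
set_option linter.unusedVariables false

namespace Cfsg.Agent.Omega.SQ1.FFOne

open Subgroup Cfsg Cfsg.Agent.PLocal.ThompsonJ Cfsg.Agent.ZN Cfsg.Agent.ZN.ChoiceBase
open Cfsg.Agent.ZN.ChoiceSit
open Cfsg.Agent.Omega.NatPair Cfsg.Agent.Lib.SL2Mat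
open Cfsg.Agent.PLocal.ElemAbSup
open Cfsg.Agent.Omega.SQ1.Bau (mem_AA_of_comm zj_le_AA elem_comm elem_sq mem_sup_comm card_sup_comm
  mem_sup_norm Mv not_mv_iff mv_inv)
open Cfsg.Agent.Omega.SQ1.BauK (V1 mem_V1 InK)
open scoped Pointwise

universe u

variable {G : Type u} [Group G]

namespace FFK

variable {ι : Type} {F : Type*} [Field F] {H T V V0 : Subgroup G} (M : FFK ι F H T V V0)

/-- `T` normalises `C_V(J(T))`. -/
theorem T_V1 (hm : MinH H T) (M : FFK ι F H T V V0) {t v : G} (ht : t ∈ T) (hv : v ∈ V1 T V) :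
    t * v * t⁻¹ ∈ V1 T V := by
  rw [mem_V1] at hv ⊢
  refine ⟨M.Vn t (hm.syl.1 ht) v hv.1, fun j hj => ?_⟩
  have h1 : t⁻¹ * j * t ∈ jj T := by
    rw [← mem_cj, cj_eq_of_mem_normalizer
      (normalizer_le_of_cj (F := fun K => jj K) jj_cj T (le_normalizer ht))]
    exact hj
  have h2 := hv.2 _ h1
  calc j * (t * v * t⁻¹) = t * ((t⁻¹ * j * t) * v) * t⁻¹ := by group
    _ = t * (v * (t⁻¹ * j * t)) * t⁻¹ := by rw [h2]
    _ = _ := by group

/-- `T` permutes the preimages of the lines. -/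
theorem T_line [Finite G] [Finite F] [CharP F 2] [Finite ι] [Nonempty ι] (hm : MinH H T)
    {t : G} (ht : t ∈ T) {i j : ι} (e : cj t (M.W i) = M.W j) {v : G} (hv : v ∈ V)
    (h0 : M.π i v 1 = 0) : M.π j (t * v * t⁻¹) 1 = 0 := by
  have htH := hm.syl.1 ht
  obtain ⟨n, hn, w, hw, rfl, en⟩ := M.split i hv
  have h1 : n ∈ V1 T V := by
    rw [M.mem_V1_iff hm]
    refine ⟨hn.1, fun k => ?_⟩
    by_cases hk : k = i
    · subst hk; rw [en]; exact h0
    · rw [hn.2 k hk]; rfl
  have h2 := ((M.mem_V1_iff hm).1 (T_V1 hm M ht h1)).2 j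
  have h3 : t * w * t⁻¹ ∈ M.W j := by rw [← e]; exact ⟨w, hw, rfl⟩
  have e2 : t * (n * w) * t⁻¹ = (t * n * t⁻¹) * (t * w * t⁻¹) := by group
  rw [e2, M.map_mul j _ (M.Vn t htH n hn.1) _ h3.1, h3.2, add_zero, h2]

/-- an element centralising `W j` acts trivially on the other summands -/
theorem cent_act [Finite G] [Finite F] {u : G} (hu : u ∈ H) {j : ι}
    (hc : ∀ w ∈ M.W j, u * w = w * u) {m : ι} (hmj : m ≠ j) {v : G} (hv : v ∈ V) :
    M.π m (u * v * u⁻¹) = M.π m v := by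
  obtain ⟨n, hn, w, hw, rfl, -⟩ := M.split j hv
  have hW : cj u (M.W j) = M.W j := by
    rw [← mem_normalizer_iff_cj]
    refine mem_norm_of fun w hw => ?_
    rw [hc w hw, mul_inv_cancel_right]
    exact hw
  have h1 : u * n * u⁻¹ ∈ M.N j := by
    rw [← M.N_cj hu hW]; exact ⟨n, hn, rfl⟩
  have e : u * (n * w) * u⁻¹ = (u * n * u⁻¹) * (u * w * u⁻¹) := by group
  rw [e, hc w hw, mul_inv_cancel_right, M.map_mul m _ h1.1 w hw.1, M.map_mul m n hn.1 w hw.1,
    h1.2 m hmj, hn.2 m hmj]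

theorem field [Finite G] [Finite F] [CharP F 2] [Finite ι] [Nonempty ι] (hm : MinH H T)
    (M : FFK ι F H T V V0) {t : G} (ht : t ∈ T) (hc : ∀ v ∈ V1 T V, t * v = v * t) :
    t ∈ jj T ⊔ o2 H := by
  have htH := hm.syl.1 ht
  -- `t` fixes the summands
  have hW : ∀ i, cj t (M.W i) = M.W i := by
    intro i
    obtain ⟨j, hj⟩ := M.W_cj htH i
    by_cases hji : j = i
    · rw [hj, hji]
    exfalso
    obtain ⟨v, hv, e, hk⟩ := M.surj i ![1, 0]
    have h1 : v ∈ V1 T V := by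
      rw [M.mem_V1_iff hm]
      refine ⟨hv, fun k => ?_⟩
      by_cases hk' : k = i
      · subst hk'; rw [e]; rfl
      · rw [hk k hk']; rfl
    have h2 : v ∈ M.W j := ⟨hv, hk j hji⟩
    rw [← hj, mem_cj, mul_assoc, ← hc v h1, inv_mul_cancel_left] at h2
    have h3 := h2.2
    rw [e] at h3
    have := congrFun h3 0
    simp at this
  obtain ⟨n, hn⟩ := hm.syl.2.1 ⟨t, ht⟩
  have hn' : t ^ 2 ^ n = 1 := by simpa using congrArg Subtype.val hn
  have hup : ∀ i, ∃ c : F, ∀ v ∈ V, M.π i (t * v * t⁻¹) = ap (up c) (M.π i v) := by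
    intro i
    have htS : t ∈ M.St i := M.mem_St.2 ⟨htH, hW i⟩
    obtain ⟨c, hcc⟩ := (M.sec i).up_of_line htS hn' (by
      intro v hv h0
      show M.π i (t * v * t⁻¹) = M.π i v
      obtain ⟨n, hn, w, hw, rfl, en⟩ := M.split i hv
      have h1 : n ∈ V1 T V := by
        rw [M.mem_V1_iff hm]
        refine ⟨hn.1, fun k => ?_⟩
        by_cases hk : k = i
        · subst hk; rw [en]; exact h0
        · rw [hn.2 k hk]; rfl
      have h3 : t * w * t⁻¹ ∈ M.W i := by
        have : t * w * t⁻¹ ∈ cj t (M.W i) := ⟨w, hw, rfl⟩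
        rwa [hW i] at this
      have e2 : t * (n * w) * t⁻¹ = (t * n * t⁻¹) * (t * w * t⁻¹) := by group
      rw [e2, hc n h1, mul_inv_cancel_right, M.map_mul i n hn.1 _ h3.1,
        M.map_mul i n hn.1 w hw.1, h3.2, hw.2])
    exact ⟨c, hcc⟩
  choose c hcc using hup
  exact M.mem_sup_of_up hm ht (c := c) hcc

theorem mem_V1N [Finite G] [Finite F] [CharP F 2] [Finite ι] [Nonempty ι] (hm : MinH H T)
    {i : ι} {v : G} : v ∈ V1 T V ⊓ M.N i ↔ v ∈ M.N i ∧ M.π i v 1 = 0 := by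
  rw [mem_inf, M.mem_V1_iff hm]
  constructor
  · rintro ⟨h1, h2⟩; exact ⟨h2, h1.2 i⟩
  · rintro ⟨h1, h2⟩
    refine ⟨⟨h1.1, fun j => ?_⟩, h1⟩
    by_cases hj : j = i
    · subst hj; exact h2
    · rw [h1.2 j hj]; rfl

theorem V0_of_N {i : ι} {v : G} (hv : v ∈ M.N i) (h : M.π i v = 0) : v ∈ V0 := by
  rw [← M.ker v hv.1]
  intro j
  by_cases hj : j = i
  · subst hj; exact h
  · exact hv.2 j hj

theorem opp [Finite G] [Finite F] [CharP F 2] [Finite ι] [Nonempty ι] (hm : MinH H T) (i : ι) :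
    ∀ h ∈ H, cj h (M.N i) = M.N i → Mv (V1 T V ⊓ M.N i) h →
      ∀ v ∈ V1 T V ⊓ M.N i, h * v * h⁻¹ ∈ V1 T V ⊓ M.N i → h * v * h⁻¹ ∈ V0 := by
  rintro h hh hN ⟨v₀, hv₀, hmv⟩ v hv hv'
  have hS : h ∈ M.St i := M.mem_St.2 ⟨hh, M.W_cj_of_N hh hN⟩
  rw [M.mem_V1N hm] at hv₀ hmv hv hv'
  have hN0 : h * v₀ * h⁻¹ ∈ M.N i := by
    have : h * v₀ * h⁻¹ ∈ cj h (M.N i) := ⟨v₀, hv₀.1, rfl⟩
    rwa [hN] at this
  exact M.V0_of_N hv'.1 ((M.sec i).opp' hS ⟨v₀, hv₀.1.1, hv₀.2, fun h0 => hmv ⟨hN0, h0⟩⟩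
    hv.1.1 hv.2 hv'.2)

theorem ne [Finite G] [Finite F] [CharP F 2] [Finite ι] [Nonempty ι] (hm : MinH H T) (i : ι) :
    ∃ h ∈ H, cj h (M.N i) = M.N i ∧ Mv (V1 T V ⊓ M.N i) h := by
  obtain ⟨h, hh, hA⟩ := M.lift i (lo 1)
  have hS := M.act1_mem_St hA hh
  obtain ⟨v, hv, e, hj⟩ := M.surj i ![1, 0]
  refine ⟨h, hh, M.N_cj hh (M.mem_St.1 hS).2, v, ?_, fun hc => ?_⟩
  · rw [M.mem_V1N hm]
    exact ⟨⟨hv, hj⟩, by rw [e]; rfl⟩
  · have h1 := ((M.mem_V1N hm).1 hc).2
    rw [hA.act v hv, e, ap_one'] at h1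
    simp at h1

theorem Nsup [Finite ι] [Nonempty ι] : V ≤ ⨆ i, M.N i := by
  classical
  have := Fintype.ofFinite ι
  have key : ∀ s : Finset ι, ∀ v ∈ V, (∀ j, j ∉ s → M.π j v = 0) → v ∈ ⨆ i, M.N i := by
    intro s
    induction s using Finset.induction_on with
    | empty =>
      intro v hv h0
      obtain ⟨i⟩ := ‹Nonempty ι›
      exact mem_iSup_of_mem i ⟨hv, fun j _ => h0 j (by simp)⟩
    | insert i s hi ih =>
      intro v hv h0
      obtain ⟨n, hn, w, hw, rfl, en⟩ := M.split i hv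
      refine mul_mem (mem_iSup_of_mem i hn) (ih w hw.1 fun j hj => ?_)
      by_cases hji : j = i
      · subst hji; exact hw.2
      · have h1 := h0 j (by simp [hji, hj])
        rw [M.map_mul j n hn.1 w hw.1, hn.2 j hji, zero_add] at h1
        exact h1
  exact fun v hv => key Finset.univ v hv (by simp)

/-- the condition that `h` respects the `j`-th line -/
def Good (M : FFK ι F H T V V0) (h : G) (j : ι) : Prop :=
  ∀ k, cj h (M.W j) = M.W k → ∀ v ∈ V, M.π j v 1 = 0 → M.π k (h * v * h⁻¹) 1 = 0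

theorem max [Finite G] [Finite F] [CharP F 2] [Finite ι] [Nonempty ι] (hm : MinH H T)
    (M : FFK ι F H T V V0) :
    ∀ X : Subgroup G, T ≤ X → X ≤ H → (∃ x ∈ X, Mv (V1 T V) x) → H ≤ X := by
  classical
  rintro X hTX hXH ⟨x, hx, v₁, hv₁, hxv⟩
  by_contra hne
  obtain ⟨M₀, hM, huniq⟩ := hm.uniq
  have hX0 : X ≤ M₀ := huniq X hTX hXH fun e => hne e.ge
  set Nn : Subgroup G := H ⊓ normalizer (V1 T V : Set G) with hNn
  have hTN : T ≤ Nn := fun t ht => ⟨hm.syl.1 ht, mem_norm_of fun v hv => T_V1 hm M ht hv⟩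
  have hN0 : Nn ≤ M₀ := by
    refine huniq Nn hTN inf_le_left ?_
    intro e
    obtain ⟨i⟩ := ‹Nonempty ι›
    obtain ⟨h, hh, hN, v, hv, hv'⟩ := M.ne hm i
    rw [← e] at hh
    refine hv' ⟨conj_mem_of_norm hh.2 hv.1, ?_⟩
    have : h * v * h⁻¹ ∈ cj h (M.N i) := ⟨v, hv.2, rfl⟩
    rwa [hN] at this
  have hT0 : T ≤ M₀ := hTN.trans hN0
  have hxH := hXH hx
  -- elements moving the `j`-th line
  have hmove : ∀ j, ∃ y ∈ M₀, y ∈ M.St j ∧ ∃ v ∈ V, M.π j v 1 = 0 ∧
      M.π j (y * v * y⁻¹) 1 ≠ 0 := by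
    intro j
    have hv1 := (M.mem_V1_iff hm).1 hv₁
    have hxV := M.Vn x hxH v₁ hv1.1
    obtain ⟨k, hk⟩ : ∃ k, M.π k (x * v₁ * x⁻¹) 1 ≠ 0 := by
      by_contra hc
      push Not at hc
      exact hxv ((M.mem_V1_iff hm).2 ⟨hxV, hc⟩)
    obtain ⟨i, hi⟩ := M.W_cj (inv_mem hxH) k
    have hi' : cj x (M.W i) = M.W k := by rw [← hi, cj_cj_inv]
    obtain ⟨t1, ht1, e1⟩ := M.W_trans hm.syl.1 j i
    obtain ⟨t2, ht2, e2⟩ := M.W_trans hm.syl.1 k j
    have hyX : t2 * x * t1 ∈ X := mul_mem (mul_mem (hTX ht2) hx) (hTX ht1)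
    have hyW : cj (t2 * x * t1) (M.W j) = M.W j := by
      rw [← cj_cj, ← cj_cj, e1, hi', e2]
    refine ⟨t2 * x * t1, hX0 hyX, M.mem_St.2 ⟨hXH hyX, hyW⟩, t1⁻¹ * v₁ * t1⁻¹⁻¹, ?_, ?_, ?_⟩
    · exact M.Vn _ (inv_mem (hm.syl.1 ht1)) v₁ hv1.1
    · exact ((M.mem_V1_iff hm).1 (T_V1 hm M (inv_mem ht1) hv₁)).2 j
    · intro h0
      apply hk
      have e3 : t2 * x * t1 * (t1⁻¹ * v₁ * t1⁻¹⁻¹) * (t2 * x * t1)⁻¹ =
        t2 * (x * v₁ * x⁻¹) * t2⁻¹ := by group
      rw [e3] at h0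
      have h1 := M.T_line hm (inv_mem ht2) (i := j) (j := k) (by rw [← e2, cj_inv_cj])
        (M.Vn t2 (hm.syl.1 ht2) _ hxV) h0
      have e4 : t2⁻¹ * (t2 * (x * v₁ * x⁻¹) * t2⁻¹) * t2⁻¹⁻¹ = x * v₁ * x⁻¹ := by group
      rwa [e4] at h1
  -- for all `h ∈ St j`: an element of `M₀` with the same image of the line
  have hline : ∀ j, ∀ h ∈ M.St j, (M.sec j).act h ![1, 0] 1 ≠ 0 → ∃ u ∈ M₀, u ∈ M.St j ∧
      (∀ w ∈ M.W j, u * w = w * u) ∧
      ∃ c : F, (M.sec j).act h ![1, 0] = c • (M.sec j).act u ![1, 0] := by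
    intro j h hh hp
    set S := M.sec j with hS
    set p := S.act h ![1, 0] with hpdef
    obtain ⟨y, hy0, hyS, v, hv, hv0, hvy⟩ := hmove j
    set r := S.act y ![1, 0] with hr
    have hr1 : r 1 ≠ 0 := by
      intro h0
      obtain ⟨s, hs⟩ := S.act_line hyS
      apply hvy
      have h1 : M.π j (y * v * y⁻¹) = s (M.π j v 0) • r := hs v hv hv0
      rw [h1, Pi.smul_apply, h0, smul_zero]
    obtain ⟨E, hE, hEW, hEc⟩ := M.exists_E hm j
    obtain ⟨a, ha, hac⟩ := hEc 1
    have haT := hE.2.1 ha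
    have haS : a ∈ M.St j := M.act1_mem_St hac (hm.syl.1 haT)
    have hzS : y * a * y⁻¹ ∈ M.St j := mul_mem (mul_mem hyS haS) (inv_mem hyS)
    have hzW : ∀ w ∈ M.W j, (y * a * y⁻¹) * w = w * (y * a * y⁻¹) := by
      intro w hw
      have hw' : y⁻¹ * w * y ∈ M.W j := by
        have := conj_mem_of_norm (inv_mem hyS.2) hw
        rwa [inv_inv] at this
      have h1 := hEW a ha _ hw'
      calc y * a * y⁻¹ * w = y * (a * (y⁻¹ * w * y)) * y⁻¹ := by group
        _ = y * (y⁻¹ * w * y * a) * y⁻¹ := by rw [h1]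
        _ = w * (y * a * y⁻¹) := by group
    obtain ⟨s, hs⟩ := S.exists_semi hyS
    set e := S.act y⁻¹ ![1, 0] with he
    have hye : S.act y e = ![1, 0] := S.act_act_inv hyS _
    have he1 : e 1 ≠ 0 := by
      intro h0
      have h1 : e = e 0 • ![1, 0] := by
        apply ext2
        · simp
        · rw [h0]; simp
      have h2 := hye
      rw [h1, hs, ← hr] at h2
      have h3 := congrFun h2 1
      have h4 := congrFun h2 0
      simp only [Pi.smul_apply, smul_eq_mul, Matrix.cons_val_one, Matrix.cons_val_zero] at h3 h4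
      have h5 := (mul_eq_zero.1 h3).resolve_right hr1
      rw [h5, zero_mul] at h4
      exact zero_ne_one h4
    have hz : S.act (y * a * y⁻¹) ![1, 0] = ![1, 0] + s (e 1) • r := by
      rw [S.act_mul (mul_mem hyS haS) (inv_mem hyS), S.act_mul hyS haS, ← he]
      have h1 : S.act a e = e + e 1 • ![1, 0] := by
        rw [(S.ind_iff haS).1 (show S.Ind a (up 1) from hac.act)]
        apply ext2
        · rw [ap_zero', up_00, up_01]; simp
        · rw [ap_one', up_10, up_11]; simp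
      rw [h1, S.act_add hyS, hye, hs]
    set p' := S.act (y * a * y⁻¹) ![1, 0] with hp'
    have hp1 : p' 1 ≠ 0 := by
      have h1 : s (e 1) ≠ 0 := fun h0 => he1 (s.injective (by rw [h0, map_zero]))
      have h2 : (![1, 0] : Fin 2 → F) 1 = 0 := rfl
      rw [hz, Pi.add_apply, Pi.smul_apply, smul_eq_mul, h2, zero_add]
      exact mul_ne_zero h1 hr1
    obtain ⟨b, hb, hbc⟩ := hEc (p 0 / p 1 - p' 0 / p' 1)
    have hbT := hE.2.1 hb
    have hbS : b ∈ M.St j := M.act1_mem_St hbc (hm.syl.1 hbT)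
    refine ⟨b * (y * a * y⁻¹), mul_mem (hT0 hbT) (mul_mem (mul_mem hy0 (hT0 haT)) (inv_mem hy0)),
      mul_mem hbS hzS, fun w hw => ?_, p 1 / p' 1, ?_⟩
    · have e1 : Commute b w := hEW b hb w hw
      have e2 : Commute (y * a * y⁻¹) w := hzW w hw
      exact (e1.mul_left e2).eq
    · rw [S.act_mul hbS hzS, ← hp', (S.ind_iff hbS).1 (show S.Ind b (up _) from hbc.act)]
      apply ext2
      · rw [Pi.smul_apply, smul_eq_mul, ap_zero', up_00, up_01]
        field_simp
        ring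
      · rw [Pi.smul_apply, smul_eq_mul, ap_one', up_10, up_11]
        field_simp
        ring
  -- the induction
  have key : ∀ s : Finset ι, ∀ h ∈ H, (∀ j, j ∉ s → M.Good h j) → h ∈ M₀ := by
    intro s
    induction s using Finset.induction_on with
    | empty =>
      intro h hh hg
      refine hN0 ⟨hh, mem_norm_of fun v hv => ?_⟩
      rw [M.mem_V1_iff hm] at hv ⊢
      refine ⟨M.Vn h hh v hv.1, fun k => ?_⟩
      obtain ⟨j, hj⟩ := M.W_cj (inv_mem hh) k
      exact hg j (by simp) k (by rw [← hj, cj_cj_inv]) v hv.1 (hv.2 j)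
    | insert j s hjs ih =>
      intro h hh hg
      obtain ⟨k, hk⟩ := M.W_cj hh j
      obtain ⟨t, ht, et⟩ := M.W_trans hm.syl.1 k j
      have htH := hm.syl.1 ht
      have h1H : t * h ∈ H := mul_mem htH hh
      have h1W : cj (t * h) (M.W j) = M.W j := by rw [← cj_cj, hk, et]
      have h1S : t * h ∈ M.St j := M.mem_St.2 ⟨h1H, h1W⟩
      have h1g : ∀ l, l ∉ insert j s → M.Good (t * h) l := by
        intro l hl m hm' v hv hv0
        obtain ⟨k', hk'⟩ := M.W_cj hh l
        rw [← cj_cj, hk'] at hm'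
        have h2 := M.T_line hm ht hm' (M.Vn h hh v hv) (hg l hl k' hk' v hv hv0)
        have e : t * h * v * (t * h)⁻¹ = t * (h * v * h⁻¹) * t⁻¹ := by group
        rwa [e]
      suffices hfin : t * h ∈ M₀ by
        have := mul_mem (inv_mem (hT0 ht)) hfin
        rwa [inv_mul_cancel_left] at this
      set h1 := t * h with hh1
      obtain ⟨s1, hs1⟩ := (M.sec j).act_line h1S
      by_cases hp : (M.sec j).act h1 ![1, 0] 1 = 0
      · refine ih h1 h1H fun l hl => ?_
        by_cases hlj : l = j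
        · subst hlj
          intro m hm' v hv hv0
          have hlm : l = m := M.W_inj (by rw [← hm', h1W])
          subst hlm
          have h2 : M.π l (h1 * v * h1⁻¹) = s1 (M.π l v 0) • (M.sec l).act h1 ![1, 0] :=
            hs1 v hv hv0
          rw [h2, Pi.smul_apply, hp, smul_zero]
        · exact h1g l (by simp [hlj, hl])
      · obtain ⟨u, hu0, huS, huW, c, hc⟩ := hline j h1 h1S hp
        have huH := huS.1
        have hu'W : ∀ w ∈ M.W j, u⁻¹ * w = w * u⁻¹ := fun w hw =>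
          ((show Commute u w from huW w hw).inv_left).eq
        have h2H : u⁻¹ * h1 ∈ H := mul_mem (inv_mem huH) h1H
        have h2S : u⁻¹ * h1 ∈ M.St j := mul_mem (inv_mem huS) h1S
        suffices h2fin : u⁻¹ * h1 ∈ M₀ by
          have := mul_mem hu0 h2fin
          rwa [mul_inv_cancel_left] at this
        refine ih _ h2H fun l hl => ?_
        by_cases hlj : l = j
        · subst hlj
          intro m hm' v hv hv0
          have hlm : l = m := M.W_inj (by rw [← hm', (M.mem_St.1 h2S).2])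
          subst hlm
          obtain ⟨s2, hs2⟩ := (M.sec l).exists_semi (inv_mem huS)
          have h2 : M.π l (h1 * v * h1⁻¹) = s1 (M.π l v 0) • (M.sec l).act h1 ![1, 0] :=
            hs1 v hv hv0
          have h3 := (M.sec l).act_π (inv_mem huS) (M.Vn h1 h1H v hv)
          have e3 : (M.sec l).π = M.π l := rfl
          rw [e3, h2, hs2, hc, hs2, (M.sec l).act_inv_act huS] at h3
          have e : u⁻¹ * h1 * v * (u⁻¹ * h1)⁻¹ = u⁻¹ * (h1 * v * h1⁻¹) * u⁻¹⁻¹ := by group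
          rw [e, ← h3]
          simp
        · intro m hm' v hv hv0
          obtain ⟨m', hm1⟩ := M.W_cj h1H l
          have hm'j : m' ≠ j := by
            rintro rfl
            apply hlj
            apply M.W_inj
            have := congrArg (cj h1⁻¹) (hm1.trans h1W.symm)
            rw [cj_inv_cj, cj_inv_cj] at this
            exact this.le
          have hmm : m' = m := by
            have h4 : cj u⁻¹ (M.W m') = M.W m' := by
              rw [← mem_normalizer_iff_cj]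
              refine mem_norm_of fun w hw => ⟨M.Vn _ (inv_mem huH) w hw.1, ?_⟩
              rw [M.cent_act (inv_mem huH) hu'W hm'j hw.1, hw.2]
            apply M.W_inj
            rw [← hm', ← cj_cj, hm1, h4]
          subst hmm
          have e : u⁻¹ * h1 * v * (u⁻¹ * h1)⁻¹ = u⁻¹ * (h1 * v * h1⁻¹) * u⁻¹⁻¹ := by group
          rw [e, M.cent_act (inv_mem huH) hu'W hm'j (M.Vn h1 h1H v hv)]
          exact h1g l (by simp [hlj, hl]) m' hm1 v hv hv0
  have := Fintype.ofFinite ι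
  exact hM fun h hh => key Finset.univ h hh (by simp)

/-- **L1 (`k` blocks).** The output of the FF-theorem gives the Baumann data. -/
theorem toInK [Finite G] [Finite F] [CharP F 2] [Finite ι] [Nonempty ι] (hm : MinH H T)
    (M : FFK ι F H T V V0) :
    ∃ E : ι → Subgroup G, InK H T (o2 H) V V0 M.N E (Nat.card F) := by
  classical
  choose E hE hEW hEc using M.exists_E hm
  have hH : ∀ {j}, j ∈ jj T → j ∈ H := fun hj => hm.syl.1 (jj_le T hj)
  have hcz : ∀ {b : G} {c : ι → F}, b ∈ jj T → M.Up b c → ∀ i, (∃ v ∈ M.N i, b * v ≠ v * b) →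
      c i ≠ 0 := by
    rintro b c hb hc i ⟨v, hv, hne⟩ h0
    exact hne (M.cent_N hm (jj_le T hb) hc h0 hv)
  refine ⟨E, ?_⟩
  exact {
    TH := hm.syl.1
    QT := o2_le_syl hm.syl
    VQ := M.VQ
    Qn := fun h hh x hx => conj_mem_of_norm (le_normalizer_o2 H hh) hx
    Vn := M.Vn
    Vsq := M.Vsq
    VcQ := M.VcQ
    cT := by
      intro t ht hc
      rw [M.mem_Q_iff hm ht]
      intro v hv i
      rw [hc v hv, mul_inv_cancel_right]
    syl := hm.syl
    V0n := M.V0n
    V0N := M.V0_le_N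
    NV := M.NV
    Nperm := by
      intro h hh i
      obtain ⟨j, hj⟩ := M.W_cj hh i
      exact ⟨j, M.N_cj hh hj⟩
    Ninf := by
      rintro i j hij v ⟨hv1, hv2⟩
      exact M.V0_of_N hv1 (hv2.2 i hij)
    Nsup := M.Nsup
    JN := by
      intro a ha i v hv
      obtain ⟨c, hc⟩ := M.jj_up hm ha
      refine ⟨M.Vn a (hH ha) v hv.1, fun j hj => ?_⟩
      rw [hc j v hv.1, hv.2 j hj]
      apply ext2
      · rw [ap_zero']; simp
      · rw [ap_one']; simp
    V0J := by
      intro a ha v hv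
      have h1 : v ∈ V1 T V := by
        rw [M.mem_V1_iff hm]
        exact ⟨M.V0V hv, fun i => by rw [(M.ker v (M.V0V hv)).2 hv i]; rfl⟩
      exact (mem_V1.1 h1).2 a ha
    card1 := by
      intro i
      refine card_of_map (fun v => M.π i v 1) ?_ inf_le_right ?_ ?_
      · intro v hv w hw
        show M.π i (v * w) 1 = _
        rw [M.map_mul i v hv.1 w hw.1]; rfl
      · intro v hv
        rw [M.mem_V1N hm]
        exact ⟨fun h => ⟨hv, h⟩, fun h => h.2⟩
      · intro c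
        obtain ⟨v, hv, e, hj⟩ := M.surj i ![0, c]
        exact ⟨v, ⟨hv, hj⟩, by show M.π i v 1 = c; rw [e]; rfl⟩
    card0 := by
      intro i
      have hle : V0 ≤ V1 T V ⊓ M.N i := by
        intro v hv
        rw [M.mem_V1N hm]
        exact ⟨M.V0_le_N i hv, by rw [(M.ker v (M.V0V hv)).2 hv i]; rfl⟩
      refine card_of_map (fun v => M.π i v 0) ?_ hle ?_ ?_
      · intro v hv w hw
        show M.π i (v * w) 0 = _
        rw [M.map_mul i v hv.2.1 w hw.2.1]; rfl
      · intro v hv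
        have hv' := (M.mem_V1N hm).1 hv
        constructor
        · intro h
          exact M.V0_of_N hv'.1 (ext2 h hv'.2)
        · intro h
          show M.π i v 0 = 0
          rw [(M.ker v (M.V0V h)).2 h i]; rfl
      · intro c
        obtain ⟨v, hv, e, hj⟩ := M.surj i ![c, 0]
        refine ⟨v, ?_, by show M.π i v 0 = c; rw [e]; rfl⟩
        rw [M.mem_V1N hm]
        exact ⟨⟨hv, hj⟩, by rw [e]; rfl⟩
    one_lt := Finite.one_lt_card
    AT := hE
    Acent := fun i j hij a ha v hv => hEW i a ha v (M.N_le_W hij hv)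
    Anle := by
      intro i hle
      obtain ⟨a, ha, hac⟩ := hEc i 1
      have h1 := M.up_unique (M.up_of_act1 hac) (M.up_zero_of_mem_Q (hle ha))
      have h2 := congrFun h1 i
      simp at h2
    Acard := by
      intro i
      have hS : M.Sup (E i) = {i} := by
        ext j
        rw [Set.mem_singleton_iff]
        constructor
        · intro hj
          by_contra hji
          apply hj
          intro a ha v hv
          exact M.cent_act (hm.syl.1 ((hE i).2.1 ha)) (hEW i a ha) hji hv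
        · rintro rfl hall
          obtain ⟨a, ha, hac⟩ := hEc j 1
          obtain ⟨v, hv, e, -⟩ := M.surj j ![0, 1]
          have h1 := hall a ha v hv
          rw [hac.act v hv, e] at h1
          have h2 := congrFun h1 0
          rw [ap_zero', up_00, up_01] at h2
          simp at h2
      have h1 := M.card_A hm (hE i)
      rw [hS] at h1
      rwa [Nat.card_congr (Equiv.funUnique ({i} : Set ι) F)] at h1
    full := by
      intro i b hb
      obtain ⟨c, hc⟩ := M.jj_up hm hb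
      obtain ⟨a, ha, hac⟩ := hEc i (c i)
      refine ⟨a, ha, fun v hv => ?_⟩
      have haT := (hE i).2.1 ha
      have haH := hm.syl.1 haT
      have hup := Up.mul M (hH hb) (Up.inv M haH (M.up_of_act1 hac)) hc
      have h1 := M.cent_N hm (mul_mem (inv_mem haT) (jj_le T hb)) hup (i := i) (by simp) hv
      have h2 : a⁻¹ * b * v * (a⁻¹ * b)⁻¹ = v := by rw [h1, mul_inv_cancel_right]
      calc a * v * a⁻¹ = a * (a⁻¹ * b * v * (a⁻¹ * b)⁻¹) * a⁻¹ := by rw [h2]
        _ = b * v * b⁻¹ := by group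
    cb := by
      intro i b hb hne v hv hbv
      obtain ⟨c, hc⟩ := M.jj_up hm hb
      have hc0 := hcz hb hc i hne
      have h1 := M.up_val hc hv.1 i
      rw [hbv, mul_inv_cancel_right] at h1
      have h2 : c i * M.π i v 1 = 0 := by
        have := h1.symm
        rwa [add_eq_left] at this
      exact ((M.mem_V1N hm).2 ⟨hv, (mul_eq_zero.1 h2).resolve_left hc0⟩).1
    quad := by
      intro i b hb v hv
      obtain ⟨c, hc⟩ := M.jj_up hm hb
      have hbv := M.Vn b (hH hb) v hv.1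
      rw [M.mem_V1_iff hm]
      refine ⟨mul_mem hbv (inv_mem hv.1), fun j => ?_⟩
      rw [M.map_div j hbv hv.1, Pi.sub_apply, M.up_val1 hc hv.1 j, sub_self]
    faith := by
      intro i b hb hne
      obtain ⟨c, hc⟩ := M.jj_up hm hb
      have hc0 := hcz hb hc i hne
      obtain ⟨v, hv, e, hj⟩ := M.surj i ![0, 1]
      refine ⟨v, ⟨hv, hj⟩, fun h0 => hc0 ?_⟩
      have hbv := M.Vn b (hH hb) v hv
      have h1 := (M.ker _ (M.V0V h0)).2 h0 i
      rw [M.map_div i hbv hv] at h1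
      have h2 := congrFun h1 0
      rw [Pi.sub_apply, M.up_val hc hv i, e] at h2
      simpa using h2
    field := fun t ht hc => field hm M ht hc
    off := fun A hA => M.off hm hA
    opp := M.opp hm
    ne := M.ne hm
    max := max hm M }

end FFK

end Cfsg.Agent.Omega.SQ1.FFOne
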