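import Cfsg.Agent.Omega.SQ1.BauSMin
import Cfsg.Agent.Omega.SQ1.FFOf

/-!
# SQ1, L1: from the FF theorem (even-subset modules) to the `q = 2` Baumann input

`V / D` is a direct sum of `k` even-subset modules of the symmetric group of degree `n = 2^m + 1`
(`m ≥ 1`; for `m = 1` these are natural `SL₂(2)`-modules).

* `Sy`: the module data, without `T`; `Gd τ g`: `g ∈ H` centralises `D` and acts as `τ` on `V / D`;
* `u j a b ∈ V`: the canonical lift of the even set `{a, b}` in the component `j` (`V = D × ⟨u j a b⟩`), with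
  `u j a b * u j b c = u j a c` and `x * u j a b * x⁻¹ = u (σ j) (τ j a) (τ j b)` for `x ∈ H` acting as `(σ, τ)`.
-/

set_option autoImplicit false
set_option linter.unusedSectionVars false
set_option linter.unusedVariables false

namespace Cfsg.Agent.Omega.SQ1.FFSym

open Subgroup Cfsg
open Cfsg.Agent.Omega.FFThm (ActsSym SymK NoOver Off)
open Cfsg.Agent.Omega.SQ1.BauS (Sim)

universe u

variable {G : Type u} [Group G]

theorem perm_inv_self {α : Type*} (ρ : Equiv.Perm α) (x : α) : ρ (ρ⁻¹ x) = x :=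
  ρ.apply_symm_apply x

/-- The module data. -/
structure Sy (H V D : Subgroup G) {k n : ℕ} (e : G → Fin k → Fin n → ZMod 2) : Prop where
  n3 : 3 ≤ n
  n4 : n ≠ 4
  DV : D ≤ V
  Vn : ∀ g ∈ H, ∀ v ∈ V, g * v * g⁻¹ ∈ V
  Dn : ∀ g ∈ H, ∀ v ∈ D, g * v * g⁻¹ ∈ D
  comm : ∀ v ∈ V, ∀ w ∈ V, v * w = w * v
  sq : ∀ v ∈ V, v ^ 2 = 1
  mul : ∀ v ∈ V, ∀ w ∈ V, e (v * w) = e v + e w
  even : ∀ v ∈ V, ∀ i, ∑ x, e v i x = 0
  surj : ∀ y : Fin k → Fin n → ZMod 2, (∀ i, ∑ x, y i x = 0) → ∃ v ∈ V, e v = y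
  ker : ∀ v ∈ V, e v = 0 ↔ v ∈ D
  lift : ∀ τ : Fin k → Equiv.Perm (Fin n), ∃ g ∈ H, ActsSym e V g 1 τ ∧ ∀ d ∈ D, g * d = d * g
  perm : ∀ g ∈ H, ∃ σ τ, ActsSym e V g σ τ
  cent : ∀ g ∈ H, (∀ d ∈ D, g * d = d * g) → (∀ v ∈ V, e (g * v * g⁻¹) = e v) →
    ∀ v ∈ V, g * v = v * g

/-- `g ∈ H` centralises `D` and acts as `τ` on `V / D`. -/
structure Gd (H V D : Subgroup G) {k n : ℕ} (e : G → Fin k → Fin n → ZMod 2)
    (τ : Fin k → Equiv.Perm (Fin n)) (g : G) : Prop where
  mem : g ∈ H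
  cd : ∀ d ∈ D, g * d = d * g
  act : ActsSym e V g 1 τ

/-- the point `a` of the component `j` -/
def E {k n : ℕ} (j : Fin k) (a : Fin n) : Fin k → Fin n → ZMod 2 :=
  fun i x => if i = j ∧ x = a then 1 else 0

section E

variable {k n : ℕ}

theorem E_self (j : Fin k) (a : Fin n) : E j a j a = 1 := by simp [E]

theorem E_ne {j : Fin k} {a : Fin n} {i : Fin k} {x : Fin n} (h : ¬ (i = j ∧ x = a)) :
    E j a i x = 0 := by simp [E, h]

theorem E_add_self (j : Fin k) (a : Fin n) : E j a + E j a = 0 := by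
  funext i x
  exact CharTwo.add_self_eq_zero _

theorem E_app (σ : Equiv.Perm (Fin k)) (τ : Fin k → Equiv.Perm (Fin n)) (j : Fin k) (a : Fin n)
    (i : Fin k) (x : Fin n) : E (σ j) (τ j a) (σ i) (τ i x) = E j a i x := by
  unfold E
  by_cases h : i = j
  · subst h; simp
  · simp [h]

theorem E_sum (j : Fin k) (a : Fin n) (i : Fin k) : ∑ x, E j a i x = if i = j then 1 else 0 := by
  unfold E
  by_cases h : i = j
  · simp [h]
  · simp [h]

/-- the pair is determined by its vector -/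
theorem pair_inj {j j' : Fin k} {a b c d : Fin n} (hab : a ≠ b)
    (h : E j a + E j b = E j' c + E j' d) : j = j' ∧ ((a = c ∧ b = d) ∨ (a = d ∧ b = c)) := by
  have h1 := congrFun (congrFun h j) a
  have h2 := congrFun (congrFun h j) b
  simp only [Pi.add_apply, E, true_and, hab, hab.symm, if_false, if_true, add_zero, zero_add] at h1 h2
  by_cases hj : j = j'
  · refine ⟨hj, ?_⟩
    simp only [hj, true_and] at h1 h2
    by_cases hac : a = c
    · left
      refine ⟨hac, ?_⟩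
      by_contra hbd
      have hbc : b ≠ c := fun e => hab (hac.trans e.symm)
      rw [if_neg hbc, if_neg hbd] at h2
      exact absurd h2 (by decide)
    · right
      rw [if_neg hac] at h1
      have had : a = d := by
        by_contra had
        rw [if_neg had] at h1
        exact absurd h1 (by decide)
      refine ⟨had, ?_⟩
      by_contra hbc
      have hbd : b ≠ d := fun e => hab (had.trans e.symm)
      rw [if_neg hbc, if_neg hbd] at h2
      exact absurd h2 (by decide)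
  · exfalso
    simp only [hj, false_and, if_false, add_zero] at h1
    exact absurd h1 (by decide)

end E

/-! ### Three-cycles -/

section cyc

variable {n : ℕ}

/-- the 3-cycle `a → b → z → a` -/
def cyc (a b z : Fin n) : Equiv.Perm (Fin n) := Equiv.swap a b * Equiv.swap b z

theorem cyc_conj (ρ : Equiv.Perm (Fin n)) (a b z : Fin n) :
    ρ * cyc a b z * ρ⁻¹ = cyc (ρ a) (ρ b) (ρ z) := by
  rw [cyc, cyc, Equiv.swap_apply_apply, Equiv.swap_apply_apply]
  group

variable {a b z : Fin n} (hab : a ≠ b) (haz : a ≠ z) (hbz : b ≠ z)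

include hab haz hbz

theorem cyc_a : cyc a b z a = b := by
  rw [cyc, Equiv.Perm.mul_apply, Equiv.swap_apply_of_ne_of_ne hab haz, Equiv.swap_apply_left]

theorem cyc_b : cyc a b z b = z := by
  rw [cyc, Equiv.Perm.mul_apply, Equiv.swap_apply_left, Equiv.swap_apply_of_ne_of_ne haz.symm hbz.symm]

theorem cyc_z : cyc a b z z = a := by
  rw [cyc, Equiv.Perm.mul_apply, Equiv.swap_apply_right, Equiv.swap_apply_right]

theorem cyc_o {x : Fin n} (h1 : x ≠ a) (h2 : x ≠ b) (h3 : x ≠ z) : cyc a b z x = x := by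
  rw [cyc, Equiv.Perm.mul_apply, Equiv.swap_apply_of_ne_of_ne h2 h3,
    Equiv.swap_apply_of_ne_of_ne h1 h2]

theorem cyc_three : cyc a b z * cyc a b z * cyc a b z = 1 := by
  ext x
  simp only [Equiv.Perm.mul_apply, Equiv.Perm.one_apply]
  by_cases h1 : x = a
  · subst h1; rw [cyc_a hab haz hbz, cyc_b hab haz hbz, cyc_z hab haz hbz]
  · by_cases h2 : x = b
    · subst h2; rw [cyc_b hab haz hbz, cyc_z hab haz hbz, cyc_a hab haz hbz]
    · by_cases h3 : x = z
      · subst h3; rw [cyc_z hab haz hbz, cyc_a hab haz hbz, cyc_b hab haz hbz]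
      · rw [cyc_o hab haz hbz h1 h2 h3, cyc_o hab haz hbz h1 h2 h3, cyc_o hab haz hbz h1 h2 h3]

theorem cyc_symm : cyc b a z = (cyc a b z)⁻¹ := by
  rw [eq_inv_iff_mul_eq_one]
  ext x
  simp only [Equiv.Perm.mul_apply, Equiv.Perm.one_apply]
  by_cases h1 : x = a
  · subst h1; rw [cyc_a hab haz hbz, cyc_a hab.symm hbz haz]
  · by_cases h2 : x = b
    · subst h2; rw [cyc_b hab haz hbz, cyc_z hab.symm hbz haz]
    · by_cases h3 : x = z
      · subst h3; rw [cyc_z hab haz hbz, cyc_b hab.symm hbz haz]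
      · rw [cyc_o hab haz hbz h1 h2 h3, cyc_o hab.symm hbz haz h2 h1 h3]

end cyc

/-! ### The action -/

section act

variable {V : Subgroup G} {k n : ℕ} {e : G → Fin k → Fin n → ZMod 2}

theorem act_mul {g h : G} {σ σ' : Equiv.Perm (Fin k)} {τ τ' : Fin k → Equiv.Perm (Fin n)}
    (hV : ∀ v ∈ V, h * v * h⁻¹ ∈ V)
    (hg : ActsSym e V g σ τ) (hh : ActsSym e V h σ' τ') :
    ActsSym e V (g * h) (σ * σ') (fun i => τ (σ' i) * τ' i) := by
  intro v hv i x
  have e1 : g * h * v * (g * h)⁻¹ = g * (h * v * h⁻¹) * g⁻¹ := by group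
  rw [e1, Equiv.Perm.mul_apply, Equiv.Perm.mul_apply, hg _ (hV v hv), hh v hv]

theorem act_conj {x g : G} {σ : Equiv.Perm (Fin k)} {τ ψ : Fin k → Equiv.Perm (Fin n)}
    (hx : ActsSym e V x σ τ) (hg : ActsSym e V g 1 ψ) (hxV : ∀ v ∈ V, x⁻¹ * v * x ∈ V)
    (hgV : ∀ v ∈ V, g * v * g⁻¹ ∈ V) :
    ActsSym e V (x * g * x⁻¹) 1 (fun i => τ (σ.symm i) * ψ (σ.symm i) * (τ (σ.symm i))⁻¹) := by
  intro v hv i y
  set w := x⁻¹ * v * x with hw
  have hwV : w ∈ V := hxV v hv
  have e1 : x * g * x⁻¹ * v * (x * g * x⁻¹)⁻¹ = x * (g * w * g⁻¹) * x⁻¹ := by rw [hw]; group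
  have e2 : v = x * w * x⁻¹ := by rw [hw]; group
  set i₀ := σ.symm i with hi
  have hi' : i = σ i₀ := by rw [hi, Equiv.apply_symm_apply]
  set y₀ := (τ i₀)⁻¹ y with hy
  have hy' : y = τ i₀ y₀ := by rw [hy, perm_inv_self]
  rw [e1, Equiv.Perm.one_apply, Equiv.Perm.mul_apply, Equiv.Perm.mul_apply, ← hy]
  have h1 := hx _ (hgV w hwV) i₀ (ψ i₀ y₀)
  have h2 := hg w hwV i₀ y₀
  have h3 := hx w hwV i₀ y₀
  rw [← hi'] at h1 h3
  rw [h1]
  rw [Equiv.Perm.one_apply] at h2
  rw [h2, ← h3, ← hy', ← e2]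

end act

theorem single_conj {k n : ℕ} (σ : Equiv.Perm (Fin k)) (τ : Fin k → Equiv.Perm (Fin n)) (j : Fin k)
    (π : Equiv.Perm (Fin n)) :
    (fun i => τ (σ.symm i) * (Pi.mulSingle j π : Fin k → Equiv.Perm (Fin n)) (σ.symm i) *
      (τ (σ.symm i))⁻¹) = Pi.mulSingle (σ j) (τ j * π * (τ j)⁻¹) := by
  funext i
  by_cases h : i = σ j
  · subst h
    rw [Equiv.symm_apply_apply, Pi.mulSingle_eq_same, Pi.mulSingle_eq_same]
  · have h' : σ.symm i ≠ j := fun e => h (by rw [← e, Equiv.apply_symm_apply])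
    rw [Pi.mulSingle_eq_of_ne h', Pi.mulSingle_eq_of_ne h]
    group

/-- `v v^g v^{g²}` -/
def Nm (g v : G) : G := v * (g * v * g⁻¹) * (g * (g * v * g⁻¹) * g⁻¹)

namespace Sy

variable {H V D : Subgroup G} {k n : ℕ} {e : G → Fin k → Fin n → ZMod 2}

theorem Vn' (h : Sy H V D e) {g : G} (hg : g ∈ H) : ∀ v ∈ V, g⁻¹ * v * g ∈ V := by
  intro v hv
  have := h.Vn g⁻¹ (inv_mem hg) v hv
  rwa [inv_inv] at this

theorem mulself (h : Sy H V D e) {v : G} (hv : v ∈ V) : v * v = 1 := by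
  rw [← pow_two]; exact h.sq v hv

theorem inv_eq (h : Sy H V D e) {v : G} (hv : v ∈ V) : v⁻¹ = v :=
  inv_eq_of_mul_eq_one_left (h.mulself hv)

theorem e_one (h : Sy H V D e) : e 1 = 0 := (h.ker 1 (one_mem V)).2 (one_mem D)

theorem e_inv (h : Sy H V D e) {v : G} (hv : v ∈ V) : e v⁻¹ = e v := by rw [h.inv_eq hv]

/-- elements with the same coordinates differ by an element of `D` -/
theorem e_eq (h : Sy H V D e) {v w : G} (hv : v ∈ V) (hw : w ∈ V) (he : e v = e w) :
    v * w ∈ D := by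
  rw [← h.ker _ (mul_mem hv hw), h.mul v hv w hw, he]
  funext i x
  exact CharTwo.add_self_eq_zero _

/-- the action on a pair -/
theorem e_conj (_h : Sy H V D e) {g : G} {σ : Equiv.Perm (Fin k)} {τ : Fin k → Equiv.Perm (Fin n)}
    (hg : ActsSym e V g σ τ) {v : G} (hv : v ∈ V) {j : Fin k} {a b : Fin n}
    (he : e v = E j a + E j b) : e (g * v * g⁻¹) = E (σ j) (τ j a) + E (σ j) (τ j b) := by
  funext i x
  set i₀ := σ.symm i with hi
  have hi' : i = σ i₀ := by rw [hi, Equiv.apply_symm_apply]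
  set x₀ := (τ i₀)⁻¹ x with hx
  have hx' : x = τ i₀ x₀ := by rw [hx, perm_inv_self]
  rw [hi', hx', hg v hv, he, Pi.add_apply, Pi.add_apply, Pi.add_apply, Pi.add_apply, E_app, E_app]

theorem exists_pair (h : Sy H V D e) (j : Fin k) (a b : Fin n) : ∃ v ∈ V, e v = E j a + E j b := by
  refine h.surj _ fun i => ?_
  simp only [Pi.add_apply, Finset.sum_add_distrib, E_sum]
  exact CharTwo.add_self_eq_zero _

theorem exists_third (h : Sy H V D e) (a b : Fin n) : ∃ z : Fin n, z ≠ a ∧ z ≠ b := by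
  by_contra hcon
  push Not at hcon
  have h1 : (Finset.univ : Finset (Fin n)) ⊆ {a, b} := by
    intro z _
    by_cases hz : z = a
    · simp [hz]
    · simp [hcon z hz]
  have h2 := Finset.card_le_card h1
  have h3 := Finset.card_le_two (a := a) (b := b)
  rw [Finset.card_univ, Fintype.card_fin] at h2
  have := h.n3
  omega

theorem exists_fifth (h : Sy H V D e) {a b z w : Fin n} (hab : a ≠ b) (haz : a ≠ z) (hbz : b ≠ z)
    (haw : a ≠ w) (hbw : b ≠ w) (hzw : z ≠ w) :
    ∃ x : Fin n, x ≠ a ∧ x ≠ b ∧ x ≠ z ∧ x ≠ w := by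
  have h4 : ({a, b, z, w} : Finset (Fin n)).card = 4 := by
    rw [Finset.card_insert_of_notMem, Finset.card_insert_of_notMem, Finset.card_pair hzw]
    · simp [hbz, hbw]
    · simp [hab, haz, haw]
  by_contra hcon
  push Not at hcon
  have h1 : (Finset.univ : Finset (Fin n)) ⊆ {a, b, z, w} := by
    intro y _
    by_cases h1 : y = a
    · simp [h1]
    · by_cases h2 : y = b
      · simp [h2]
      · by_cases h3 : y = z
        · simp [h3]
        · simp [hcon y h1 h2 h3]
  have h2 := Finset.card_le_card h1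
  have h3 := Finset.card_le_univ ({a, b, z, w} : Finset (Fin n))
  rw [Finset.card_univ, Fintype.card_fin] at h2
  rw [Fintype.card_fin] at h3
  have := h.n4
  omega

/-- the action is unique -/
theorem act_unique (h : Sy H V D e) {g : G} {σ σ' : Equiv.Perm (Fin k)}
    {τ τ' : Fin k → Equiv.Perm (Fin n)} (h1 : ActsSym e V g σ τ) (h2 : ActsSym e V g σ' τ') :
    σ = σ' ∧ τ = τ' := by
  have key : ∀ j a b, a ≠ b → σ j = σ' j ∧ ((τ j a = τ' j a ∧ τ j b = τ' j b) ∨
      (τ j a = τ' j b ∧ τ j b = τ' j a)) := by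
    intro j a b hab
    obtain ⟨v, hv, he⟩ := h.exists_pair j a b
    have e1 := h.e_conj h1 hv he
    have e2 := h.e_conj h2 hv he
    rw [e1] at e2
    exact pair_inj (fun e => hab ((τ j).injective e)) e2
  have hne : ∀ a : Fin n, ∃ b, a ≠ b := fun a => by
    obtain ⟨z, hz, -⟩ := h.exists_third a a
    exact ⟨z, hz.symm⟩
  have h0 : 0 < n := by have := h.n3; omega
  refine ⟨Equiv.ext fun j => ?_, funext fun j => Equiv.ext fun a => ?_⟩
  · obtain ⟨b, hb⟩ := hne ⟨0, h0⟩
    exact (key j _ b hb).1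
  · obtain ⟨b, hb⟩ := hne a
    obtain ⟨z, hza, hzb⟩ := h.exists_third a b
    rcases (key j a b hb).2 with h3 | h3
    · exact h3.1
    · rcases (key j a z hza.symm).2 with h4 | h4
      · exact h4.1
      · exfalso
        apply hzb
        apply (τ' j).injective
        rw [← h4.1, ← h3.1]

/-! ### Elements centralising `D` -/

theorem gd_one (_h : Sy H V D e) : Gd H V D e 1 1 := by
  refine ⟨one_mem H, fun d _ => by rw [one_mul, mul_one], fun v hv i x => ?_⟩
  rw [Equiv.Perm.one_apply, Pi.one_apply, Equiv.Perm.one_apply, one_mul, inv_one, mul_one]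

theorem gd_mul (h : Sy H V D e) {τ τ' : Fin k → Equiv.Perm (Fin n)} {g g' : G}
    (h1 : Gd H V D e τ g) (h2 : Gd H V D e τ' g') : Gd H V D e (τ * τ') (g * g') := by
  refine ⟨mul_mem h1.mem h2.mem, fun d hd => ?_, ?_⟩
  · rw [mul_assoc, h2.cd d hd, ← mul_assoc, h1.cd d hd, mul_assoc]
  · have := act_mul (h.Vn g' h2.mem) h1.act h2.act
    rw [one_mul] at this
    exact this

theorem gd_inv (h : Sy H V D e) {τ : Fin k → Equiv.Perm (Fin n)} {g : G}
    (h1 : Gd H V D e τ g) : Gd H V D e τ⁻¹ g⁻¹ := by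
  refine ⟨inv_mem h1.mem, fun d hd => ?_, fun v hv i x => ?_⟩
  · have := h1.cd d hd
    calc g⁻¹ * d = g⁻¹ * (d * g) * g⁻¹ := by group
      _ = g⁻¹ * (g * d) * g⁻¹ := by rw [this]
      _ = _ := by group
  · have h2 := h1.act _ (h.Vn' h1.mem v hv) i ((τ i)⁻¹ x)
    have e1 : g * (g⁻¹ * v * g) * g⁻¹ = v := by group
    rw [e1, Equiv.Perm.one_apply, perm_inv_self] at h2
    rw [inv_inv, Equiv.Perm.one_apply, Pi.inv_apply, ← h2]

theorem gd_pow (h : Sy H V D e) {τ : Fin k → Equiv.Perm (Fin n)} {g : G}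
    (h1 : Gd H V D e τ g) (m : ℕ) : Gd H V D e (τ ^ m) (g ^ m) := by
  induction m with
  | zero => rw [pow_zero, pow_zero]; exact h.gd_one
  | succ m ih => rw [pow_succ, pow_succ]; exact h.gd_mul ih h1

theorem gd_sim (h : Sy H V D e) {τ : Fin k → Equiv.Perm (Fin n)} {g g' : G}
    (h1 : Gd H V D e τ g) (h2 : Gd H V D e τ g') : Sim V g g' := by
  have h3 := h.gd_mul (h.gd_inv h2) h1
  rw [inv_mul_cancel] at h3
  have h4 := h.cent _ h3.mem h3.cd fun v hv => by
    funext i x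
    have := h3.act v hv i x
    rwa [Equiv.Perm.one_apply, Pi.one_apply, Equiv.Perm.one_apply] at this
  intro v hv
  have h5 := h4 v hv
  calc g * v * g⁻¹ = g' * (g'⁻¹ * g * v) * g⁻¹ := by group
    _ = g' * (v * (g'⁻¹ * g)) * g⁻¹ := by rw [h5]
    _ = _ := by group

theorem gd_of_sim (_h : Sy H V D e) (hD : D ≤ V) {τ : Fin k → Equiv.Perm (Fin n)} {g g' : G}
    (h1 : Gd H V D e τ g) (hg' : g' ∈ H) (h2 : Sim V g g') : Gd H V D e τ g' := by
  refine ⟨hg', fun d hd => ?_, fun v hv i x => ?_⟩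
  · have h3 := h2 d (hD hd)
    have h4 : g * d * g⁻¹ = d := by rw [h1.cd d hd]; group
    rw [h4] at h3
    calc g' * d = g' * d * g'⁻¹ * g' := by group
      _ = d * g' := by rw [← h3]
  · rw [← h2 v hv]; exact h1.act v hv i x

theorem gd_conj (h : Sy H V D e) {τ ψ : Fin k → Equiv.Perm (Fin n)} {σ : Equiv.Perm (Fin k)}
    {g x : G} (hx : x ∈ H) (hxa : ActsSym e V x σ τ) (h1 : Gd H V D e ψ g) :
    Gd H V D e (fun i => τ (σ.symm i) * ψ (σ.symm i) * (τ (σ.symm i))⁻¹) (x * g * x⁻¹) := by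
  refine ⟨mul_mem (mul_mem hx h1.mem) (inv_mem hx), fun d hd => ?_,
    act_conj hxa h1.act (h.Vn' hx) (h.Vn g h1.mem)⟩
  have hd' : x⁻¹ * d * x ∈ D := by
    have := h.Dn x⁻¹ (inv_mem hx) d hd
    rwa [inv_inv] at this
  have h2 := h1.cd _ hd'
  calc x * g * x⁻¹ * d = x * (g * (x⁻¹ * d * x)) * x⁻¹ := by group
    _ = x * ((x⁻¹ * d * x) * g) * x⁻¹ := by rw [h2]
    _ = _ := by group

theorem gd_conj_single (h : Sy H V D e) {τ : Fin k → Equiv.Perm (Fin n)} {σ : Equiv.Perm (Fin k)}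
    {j : Fin k} {π : Equiv.Perm (Fin n)}
    {g x : G} (hx : x ∈ H) (hxa : ActsSym e V x σ τ) (h1 : Gd H V D e (Pi.mulSingle j π) g) :
    Gd H V D e (Pi.mulSingle (σ j) (τ j * π * (τ j)⁻¹)) (x * g * x⁻¹) := by
  rw [← single_conj]
  exact h.gd_conj hx hxa h1

theorem exists_gd (h : Sy H V D e) (τ : Fin k → Equiv.Perm (Fin n)) : ∃ g, Gd H V D e τ g := by
  obtain ⟨g, hg, h1, h2⟩ := h.lift τ
  exact ⟨g, hg, h2, h1⟩

theorem gd_unique (h : Sy H V D e) {τ τ' : Fin k → Equiv.Perm (Fin n)} {g : G}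
    (h1 : Gd H V D e τ g) (h2 : Gd H V D e τ' g) : τ = τ' := (h.act_unique h1.act h2.act).2

/-! ### Elements of order three -/

/-- an element of order three fixes the elements of `V` which it fixes modulo `D` -/
theorem fix_of_three (h : Sy H V D e) {τ : Fin k → Equiv.Perm (Fin n)} {g : G}
    (h1 : Gd H V D e τ g) (h3 : τ * τ * τ = 1) {v : G} (hv : v ∈ V)
    (he : e (g * v * g⁻¹) = e v) : g * v * g⁻¹ = v := by
  have hv' := h.Vn g h1.mem v hv
  have hδ : g * v * g⁻¹ * v ∈ D := h.e_eq hv' hv he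
  set δ := g * v * g⁻¹ * v with hδd
  have hδV := h.DV hδ
  have e1 : g * v * g⁻¹ = δ * v := by
    rw [hδd, mul_assoc (g * v * g⁻¹), h.mulself hv, mul_one]
  have e2 : g * δ * g⁻¹ = δ := by rw [h1.cd δ hδ]; group
  have h4 : Gd H V D e 1 (g * g * g) := by
    have := h.gd_mul (h.gd_mul h1 h1) h1
    rwa [h3] at this
  have h5 := h.gd_sim h4 h.gd_one v hv
  have e3 : g * g * g * v * (g * g * g)⁻¹ = g * (g * (g * v * g⁻¹) * g⁻¹) * g⁻¹ := by group
  have e4 : g * (δ * v) * g⁻¹ = v := by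
    have : g * (δ * v) * g⁻¹ = (g * δ * g⁻¹) * (g * v * g⁻¹) := by group
    rw [this, e2, e1, ← mul_assoc, h.mulself hδV, one_mul]
  rw [e3, e1, e4, e1, one_mul, inv_one, mul_one] at h5
  rw [e1, h5]

theorem Nm_conj (x g v : G) : Nm (x * g * x⁻¹) (x * v * x⁻¹) = x * Nm g v * x⁻¹ := by
  unfold Nm; group

theorem Nm_sim (h : Sy H V D e) {g g' : G} (hg : g ∈ H) (hs : Sim V g g') {v : G}
    (hv : v ∈ V) : Nm g v = Nm g' v := by
  unfold Nm
  rw [hs _ (h.Vn g hg v hv), hs v hv]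

theorem Nm_e (h : Sy H V D e) {g : G} (hg : g ∈ H) {v : G} (hv : v ∈ V) :
    e (Nm g v) = e v + e (g * v * g⁻¹) + e (g * (g * v * g⁻¹) * g⁻¹) := by
  have h1 := h.Vn g hg v hv
  have h2 := h.Vn g hg _ h1
  unfold Nm
  rw [h.mul _ (mul_mem hv h1) _ h2, h.mul _ hv _ h1]

theorem Nm_D (h : Sy H V D e) {g : G} (hg : g ∈ H) (hc : ∀ d ∈ D, g * d = d * g) {v d : G}
    (hv : v ∈ V) (hd : d ∈ D) : Nm g (v * d) = Nm g v * d := by
  have hdV := h.DV hd
  have e1 : g * (v * d) * g⁻¹ = (g * v * g⁻¹) * d := by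
    have : g * (v * d) * g⁻¹ = (g * v * g⁻¹) * (g * d * g⁻¹) := by group
    rw [this, hc d hd]; group
  have e2 : g * ((g * v * g⁻¹) * d) * g⁻¹ = (g * (g * v * g⁻¹) * g⁻¹) * d := by
    have : g * ((g * v * g⁻¹) * d) * g⁻¹ = (g * (g * v * g⁻¹) * g⁻¹) * (g * d * g⁻¹) := by group
    rw [this, hc d hd]; group
  have h1 := h.Vn g hg v hv
  have h2 := h.Vn g hg _ h1
  unfold Nm
  rw [e1, e2]
  set a := g * v * g⁻¹
  set b := g * a * g⁻¹
  calc v * d * (a * d) * (b * d) = v * (d * a) * d * b * d := by group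
    _ = v * (a * d) * d * b * d := by rw [h.comm d hdV a h1]
    _ = v * a * (d * d) * b * d := by group
    _ = v * a * b * d := by rw [h.mulself hdV, mul_one]

/-! ### The canonical lifts -/

/-- `w` is the canonical lift of the pair `{a, b}` of the component `j`. -/
structure IsU (H V D : Subgroup G) (e : G → Fin k → Fin n → ZMod 2) (j : Fin k) (a b : Fin n)
    (w : G) : Prop where
  mem : w ∈ V
  eq : e w = E j a + E j b
  nm : ∀ z, z ≠ a → z ≠ b → ∀ g, Gd H V D e (Pi.mulSingle j (cyc a b z)) g → Nm g w = 1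

theorem single_three {j : Fin k} {a b z : Fin n} (hab : a ≠ b) (haz : a ≠ z) (hbz : b ≠ z) :
    (Pi.mulSingle j (cyc a b z) * Pi.mulSingle j (cyc a b z) * Pi.mulSingle j (cyc a b z) :
      Fin k → Equiv.Perm (Fin n)) = 1 := by
  rw [← Pi.mulSingle_mul, ← Pi.mulSingle_mul, cyc_three hab haz hbz, Pi.mulSingle_one]

theorem IsU.conj (h : Sy H V D e) {x : G} (hx : x ∈ H) {σ : Equiv.Perm (Fin k)}
    {τ : Fin k → Equiv.Perm (Fin n)} (hxa : ActsSym e V x σ τ) {j : Fin k} {a b : Fin n} {w : G}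
    (hw : IsU H V D e j a b w) : IsU H V D e (σ j) (τ j a) (τ j b) (x * w * x⁻¹) := by
  refine ⟨h.Vn x hx w hw.mem, h.e_conj hxa hw.mem hw.eq, fun z hza hzb g hg => ?_⟩
  set z₀ := (τ j)⁻¹ z with hz
  have hz' : z = τ j z₀ := by rw [hz, perm_inv_self]
  have hz0a : z₀ ≠ a := fun e => hza (by rw [hz', e])
  have hz0b : z₀ ≠ b := fun e => hzb (by rw [hz', e])
  obtain ⟨g₀, hg₀⟩ := h.exists_gd (Pi.mulSingle j (cyc a b z₀))
  have h1 := h.gd_conj_single hx hxa hg₀
  rw [cyc_conj, ← hz'] at h1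
  have h2 := h.gd_sim hg h1
  rw [h.Nm_sim hg.mem h2 (h.Vn x hx w hw.mem), Nm_conj, hw.nm z₀ hz0a hz0b g₀ hg₀]
  group

theorem IsU.unique (h : Sy H V D e) {j : Fin k} {a b : Fin n} {w w' : G} (hab : a ≠ b)
    (hw : IsU H V D e j a b w) (hw' : IsU H V D e j a b w') : w = w' := by
  obtain ⟨z, hza, hzb⟩ := h.exists_third a b
  obtain ⟨g, hg⟩ := h.exists_gd (Pi.mulSingle j (cyc a b z))
  have h1 := hw.nm z hza hzb g hg
  have h2 := hw'.nm z hza hzb g hg
  have h3 : w * w' ∈ D := h.e_eq hw.mem hw'.mem (hw.eq.trans hw'.eq.symm)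
  have h4 := h.Nm_D hg.mem hg.cd hw.mem h3
  have h5 : w * (w * w') = w' := by rw [← mul_assoc, h.mulself hw.mem, one_mul]
  rw [h5, h1, h2, one_mul] at h4
  rw [← h.inv_eq hw'.mem]
  exact eq_inv_of_mul_eq_one_left h4.symm

theorem exists_isU (h : Sy H V D e) (j : Fin k) {a b : Fin n} (hab : a ≠ b) :
    ∃ w, IsU H V D e j a b w := by
  obtain ⟨z₀, hza, hzb⟩ := h.exists_third a b
  obtain ⟨g₀, hg₀⟩ := h.exists_gd (Pi.mulSingle j (cyc a b z₀))
  obtain ⟨w₀, hw₀, he₀⟩ := h.exists_pair j a b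
  have hc := hg₀.act
  -- the norm of `w₀` lies in `D`
  have hN : Nm g₀ w₀ ∈ D := by
    have hNV : Nm g₀ w₀ ∈ V := mul_mem (mul_mem hw₀ (h.Vn _ hg₀.mem _ hw₀))
      (h.Vn _ hg₀.mem _ (h.Vn _ hg₀.mem _ hw₀))
    rw [← h.ker _ hNV, h.Nm_e hg₀.mem hw₀]
    have e1 := h.e_conj hc hw₀ he₀
    have e2 := h.e_conj hc (h.Vn _ hg₀.mem _ hw₀) e1
    rw [e2, e1, he₀]
    simp only [Equiv.Perm.one_apply, Pi.mulSingle_eq_same]
    rw [cyc_a hab hza.symm hzb.symm, cyc_b hab hza.symm hzb.symm, cyc_z hab hza.symm hzb.symm]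
    have e3 : E j a + E j b + (E j b + E j z₀) + (E j z₀ + E j a) =
      (E j a + E j a) + (E j b + E j b) + (E j z₀ + E j z₀) := by abel
    rw [e3, E_add_self, E_add_self, E_add_self, add_zero, add_zero]
  set δ := Nm g₀ w₀ with hδ
  set w := w₀ * δ with hw
  have hwV : w ∈ V := mul_mem hw₀ (h.DV hN)
  have hew : e w = E j a + E j b := by
    rw [hw, h.mul _ hw₀ _ (h.DV hN), (h.ker _ (h.DV hN)).2 hN, add_zero, he₀]
  have hNw : Nm g₀ w = 1 := by
    rw [hw, h.Nm_D hg₀.mem hg₀.cd hw₀ hN, ← hδ, h.mulself (h.DV hN)]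
  refine ⟨w, hwV, hew, fun z hz1 hz2 g hg => ?_⟩
  by_cases hzz : z = z₀
  · subst hzz
    rw [h.Nm_sim hg.mem (h.gd_sim hg hg₀) hwV, hNw]
  · obtain ⟨z₁, h1, h2, h3, h4⟩ := h.exists_fifth hab hza.symm hzb.symm hz1.symm hz2.symm
      (Ne.symm hzz)
    -- a 3-cycle fixing `a` and `b`, moving `z₀` to `z`
    obtain ⟨x, hx⟩ := h.exists_gd (Pi.mulSingle j (cyc z₀ z z₁))
    have hfix : x * w * x⁻¹ = w := by
      refine h.fix_of_three hx (single_three (Ne.symm hzz) h3.symm h4.symm) hwV ?_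
      rw [h.e_conj hx.act hwV hew, hew]
      simp only [Equiv.Perm.one_apply, Pi.mulSingle_eq_same]
      rw [cyc_o (Ne.symm hzz) h3.symm h4.symm hza.symm hz1.symm h1.symm,
        cyc_o (Ne.symm hzz) h3.symm h4.symm hzb.symm hz2.symm h2.symm]
    have h5 := h.gd_conj_single hx.mem hx.act hg₀
    simp only [Equiv.Perm.one_apply, Pi.mulSingle_eq_same] at h5
    rw [cyc_conj, cyc_o (Ne.symm hzz) h3.symm h4.symm hza.symm hz1.symm h1.symm,
        cyc_o (Ne.symm hzz) h3.symm h4.symm hzb.symm hz2.symm h2.symm,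
        cyc_a (Ne.symm hzz) h3.symm h4.symm] at h5
    have h6 := h.gd_sim hg h5
    have h7 := Nm_conj x g₀ w
    rw [hfix, hNw] at h7
    rw [h.Nm_sim hg.mem h6 hwV, h7]
    group

end Sy

open Classical in
/-- the canonical lift of the pair `{a, b}` of the component `j` -/
noncomputable def u (H V D : Subgroup G) {k n : ℕ} (e : G → Fin k → Fin n → ZMod 2) (j : Fin k)
    (a b : Fin n) : G :=
  if h : a ≠ b ∧ ∃ w, Sy.IsU H V D e j a b w then h.2.choose else 1

namespace Sy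

variable {H V D : Subgroup G} {k n : ℕ} {e : G → Fin k → Fin n → ZMod 2}

theorem u_spec (h : Sy H V D e) (j : Fin k) {a b : Fin n} (hab : a ≠ b) :
    IsU H V D e j a b (u H V D e j a b) := by
  have h1 : a ≠ b ∧ ∃ w, IsU H V D e j a b w := ⟨hab, h.exists_isU j hab⟩
  rw [u, dif_pos h1]
  exact h1.2.choose_spec

theorem u_self (H V D : Subgroup G) (e : G → Fin k → Fin n → ZMod 2) (j : Fin k) (a : Fin n) :
    u H V D e j a a = 1 := by
  rw [u, dif_neg (fun h => h.1 rfl)]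

theorem u_mem (h : Sy H V D e) (j : Fin k) (a b : Fin n) : u H V D e j a b ∈ V := by
  by_cases hab : a = b
  · subst hab; rw [u_self]; exact one_mem V
  · exact (h.u_spec j hab).mem

theorem e_u (h : Sy H V D e) (j : Fin k) (a b : Fin n) : e (u H V D e j a b) = E j a + E j b := by
  by_cases hab : a = b
  · subst hab; rw [u_self, h.e_one, E_add_self]
  · exact (h.u_spec j hab).eq

theorem u_conj (h : Sy H V D e) {x : G} (hx : x ∈ H) {σ : Equiv.Perm (Fin k)}
    {τ : Fin k → Equiv.Perm (Fin n)} (hxa : ActsSym e V x σ τ) (j : Fin k) (a b : Fin n) :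
    x * u H V D e j a b * x⁻¹ = u H V D e (σ j) (τ j a) (τ j b) := by
  by_cases hab : a = b
  · subst hab; rw [u_self, u_self]; group
  · have hab' : τ j a ≠ τ j b := fun e => hab ((τ j).injective e)
    exact IsU.unique h hab' (IsU.conj h hx hxa (h.u_spec j hab)) (h.u_spec _ hab')

theorem u_sq (h : Sy H V D e) (j : Fin k) (a b : Fin n) :
    u H V D e j a b * u H V D e j a b = 1 := h.mulself (h.u_mem j a b)

/-- the relation of the 3-cycle -/
theorem u_cyc (h : Sy H V D e) (j : Fin k) {a b z : Fin n} (hab : a ≠ b) (haz : a ≠ z)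
    (hbz : b ≠ z) : u H V D e j a b * u H V D e j b z * u H V D e j z a = 1 := by
  obtain ⟨g, hg⟩ := h.exists_gd (Pi.mulSingle j (cyc a b z))
  have h1 := (h.u_spec j hab).nm z haz.symm hbz.symm g hg
  unfold Nm at h1
  have e1 := h.u_conj hg.mem hg.act j a b
  have e2 := h.u_conj hg.mem hg.act j b z
  simp only [Equiv.Perm.one_apply, Pi.mulSingle_eq_same] at e1 e2
  rw [cyc_a hab haz hbz, cyc_b hab haz hbz] at e1
  rw [cyc_b hab haz hbz, cyc_z hab haz hbz] at e2
  rwa [e1, e2] at h1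

theorem u_symm (h : Sy H V D e) (j : Fin k) (a b : Fin n) : u H V D e j a b = u H V D e j b a := by
  by_cases hab : a = b
  · rw [hab]
  · obtain ⟨z, hza, hzb⟩ := h.exists_third a b
    -- `u a b = u b z * u z a` up to order, `u b a = u a z * u z b`
    refine IsU.unique h hab (h.u_spec j hab) ⟨h.u_mem j b a, by rw [h.e_u, add_comm], ?_⟩
    intro y hya hyb g hg
    have h1 := h.gd_inv hg
    rw [← Pi.mulSingle_inv, ← cyc_symm hab hya.symm hyb.symm] at h1
    have h2 := (h.u_spec j (Ne.symm hab)).nm y hyb hya _ h1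
    set w := u H V D e j b a with hw
    have hwV : w ∈ V := h.u_mem j b a
    -- `g³` centralises `w`
    have h3 : Gd H V D e 1 (g * g * g) := by
      have := h.gd_mul (h.gd_mul hg hg) hg
      rwa [single_three hab hya.symm hyb.symm] at this
    have h4 := h.gd_sim h3 h.gd_one w hwV
    have h5 : g * g * w * (g * g)⁻¹ = g⁻¹ * w * g := by
      calc g * g * w * (g * g)⁻¹ = g⁻¹ * (g * g * g * w * (g * g * g)⁻¹) * g := by group
        _ = g⁻¹ * w * g := by rw [h4]; group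
    have h6 : g * w * g⁻¹ = g⁻¹ * (g⁻¹ * w * g) * g := by
      rw [← h5]; group
    unfold Nm at h2 ⊢
    rw [inv_inv] at h2
    have h7 : g * (g * w * g⁻¹) * g⁻¹ = g⁻¹ * w * g := by rw [← h5]; group
    rw [h7, h6]
    rw [mul_assoc, h.comm _ (h.Vn' hg.mem _ (h.Vn' hg.mem _ hwV)) _ (h.Vn' hg.mem _ hwV),
      ← mul_assoc]
    exact h2

theorem u_add (h : Sy H V D e) (j : Fin k) (a b c : Fin n) :
    u H V D e j a b * u H V D e j b c = u H V D e j a c := by
  by_cases hab : a = b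
  · subst hab; rw [u_self, one_mul]
  · by_cases hbc : b = c
    · subst hbc; rw [u_self, mul_one]
    · by_cases hac : a = c
      · subst hac
        rw [h.u_symm j b a, h.u_sq, u_self]
      · have h1 := h.u_cyc j hab hac hbc
        have h2 : u H V D e j a b * u H V D e j b c = (u H V D e j c a)⁻¹ :=
          eq_inv_of_mul_eq_one_left h1
        rw [h2, h.inv_eq (h.u_mem j c a), h.u_symm]

theorem u_inj (h : Sy H V D e) {j j' : Fin k} {a b c d : Fin n} (hab : a ≠ b)
    (he : u H V D e j a b = u H V D e j' c d) :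
    j = j' ∧ ((a = c ∧ b = d) ∨ (a = d ∧ b = c)) := by
  refine pair_inj hab ?_
  rw [← h.e_u, ← h.e_u, he]

theorem u_ne (h : Sy H V D e) {j : Fin k} {a b : Fin n} (hab : a ≠ b) : u H V D e j a b ≠ 1 := by
  intro h1
  have h2 : u H V D e j a b = u H V D e j a a := by rw [h1, u_self]
  rcases (h.u_inj hab h2).2 with h3 | h3
  · exact hab h3.2.symm
  · exact hab h3.2.symm

/-! ### Generation of `V` and commutators -/

/-- `V` is generated by `D` and the lifts of the pairs `{o, a}`. -/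
theorem V_le (h : Sy H V D e) (o : Fin n) {K : Subgroup G} (hD : D ≤ K)
    (hu : ∀ j a, u H V D e j o a ∈ K) : V ≤ K := by
  let E' : AddSubgroup (Fin k → Fin n → ZMod 2) :=
    { carrier := {y | ∃ v ∈ V ⊓ K, e v = y}
      add_mem' := by
        rintro _ _ ⟨v, hv, rfl⟩ ⟨w, hw, rfl⟩
        exact ⟨v * w, mul_mem hv hw, h.mul v hv.1 w hw.1⟩
      zero_mem' := ⟨1, one_mem _, h.e_one⟩
      neg_mem' := by
        rintro _ ⟨v, hv, rfl⟩
        exact ⟨v⁻¹, inv_mem hv, by
          rw [h.e_inv hv.1]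
          funext i x
          exact (CharTwo.neg_eq _).symm⟩ }
  have h2 : ∀ c : ZMod 2, c = 0 ∨ c = 1 := by decide
  have key : ∀ y : Fin k → Fin n → ZMod 2, (∀ i, ∑ x, y i x = 0) → y ∈ E' := by
    intro y hy
    have e1 : y = ∑ i, ∑ x, y i x • (E i o + E i x) := by
      funext j z
      simp only [Finset.sum_apply, Pi.smul_apply, Pi.add_apply, smul_eq_mul, mul_add,
        Finset.sum_add_distrib]
      have s1 : ∑ i, ∑ x, y i x * E i o j z = 0 := by
        refine Finset.sum_eq_zero fun i _ => ?_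
        rw [← Finset.sum_mul, hy i, zero_mul]
      have s2 : ∑ i, ∑ x, y i x * E i x j z = y j z := by
        rw [Finset.sum_eq_single j]
        · rw [Finset.sum_eq_single z]
          · rw [E_self, mul_one]
          · intro x _ hx
            rw [E_ne (fun hc => hx hc.2.symm), mul_zero]
          · intro hc; exact absurd (Finset.mem_univ _) hc
        · intro i _ hi
          refine Finset.sum_eq_zero fun x _ => ?_
          rw [E_ne (fun hc => hi hc.1.symm), mul_zero]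
        · intro hc; exact absurd (Finset.mem_univ _) hc
      rw [s1, s2, zero_add]
    rw [e1]
    refine sum_mem fun i _ => sum_mem fun x _ => ?_
    rcases h2 (y i x) with h3 | h3
    · rw [h3, zero_smul]; exact zero_mem _
    · rw [h3, one_smul]
      exact ⟨u H V D e i o x, ⟨h.u_mem _ _ _, hu i x⟩, h.e_u _ _ _⟩
  intro v hv
  obtain ⟨w, hw, hvw⟩ := key (e v) (h.even v hv)
  have h3 := h.e_eq hv hw.1 hvw.symm
  have h4 : v = v * w * w := by rw [mul_assoc, h.mulself hw.1, mul_one]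
  rw [h4]
  exact mul_mem (hD h3) hw.2

/-- the commutators of an element acting on one component -/
theorem comm_le (h : Sy H V D e) (o : Fin n) {j : Fin k} {π : Equiv.Perm (Fin n)} {g : G}
    (hg : Gd H V D e (Pi.mulSingle j π) g) {K : Subgroup G} (hK : K ≤ V)
    (hu : ∀ a, u H V D e j a (π a) ∈ K) : ∀ v ∈ V, g * v * g⁻¹ * v⁻¹ ∈ K := by
  let S : Subgroup G :=
    { carrier := {v | v ∈ V ∧ g * v * g⁻¹ * v⁻¹ ∈ K}
      mul_mem' := by
        rintro v w ⟨hv, hv'⟩ ⟨hw, hw'⟩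
        refine ⟨mul_mem hv hw, ?_⟩
        have e1 : g * (v * w) * g⁻¹ * (v * w)⁻¹ =
          (g * v * g⁻¹) * ((g * w * g⁻¹ * w⁻¹) * v⁻¹) := by group
        rw [e1, h.comm _ (hK hw') _ (inv_mem hv), ← mul_assoc]
        exact mul_mem hv' hw'
      one_mem' := ⟨one_mem V, by simp⟩
      inv_mem' := by
        rintro v ⟨hv, hv'⟩
        refine ⟨inv_mem hv, ?_⟩
        rw [h.inv_eq hv]
        exact hv' }
  have hS : V ≤ S := by
    refine h.V_le o (fun d hd => ⟨h.DV hd, ?_⟩) fun i a => ⟨h.u_mem i o a, ?_⟩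
    · rw [hg.cd d hd]
      have : d * g * g⁻¹ * d⁻¹ = 1 := by group
      rw [this]; exact one_mem K
    · rw [h.u_conj hg.mem hg.act, h.inv_eq (h.u_mem i o a), Equiv.Perm.one_apply]
      by_cases hij : i = j
      · subst hij
        rw [Pi.mulSingle_eq_same]
        rw [← h.u_add i (π o) o (π a), mul_assoc, h.u_symm i o (π a), h.u_add, h.u_symm i (π o) o,
          h.u_symm i (π a) a]
        exact mul_mem (hu o) (hu a)
      · rw [Pi.mulSingle_eq_of_ne hij, Equiv.Perm.one_apply, Equiv.Perm.one_apply, h.u_sq]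
        exact one_mem K
  exact fun v hv => (hS hv).2

/-- a transposition is a transvection -/
theorem swap_comm (h : Sy H V D e) {j : Fin k} {x y : Fin n} {g : G}
    (hg : Gd H V D e (Pi.mulSingle j (Equiv.swap x y)) g) :
    ∀ v ∈ V, g * v * g⁻¹ = v ∨ g * v * g⁻¹ = u H V D e j x y * v := by
  set d := u H V D e j x y with hd
  let K : Subgroup G :=
    { carrier := {w | w = 1 ∨ w = d}
      mul_mem' := by
        rintro a b (rfl | rfl) (rfl | rfl)
        · left; rw [one_mul]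
        · right; rw [one_mul]
        · right; rw [mul_one]
        · left; exact h.u_sq j x y
      one_mem' := Or.inl rfl
      inv_mem' := by
        rintro a (rfl | rfl)
        · left; rw [inv_one]
        · right; exact h.inv_eq (h.u_mem j x y) }
  have hK : K ≤ V := by
    rintro w (rfl | rfl)
    · exact one_mem V
    · exact h.u_mem j x y
  intro v hv
  have h1 : g * v * g⁻¹ * v⁻¹ ∈ K := by
    refine h.comm_le x hg hK (fun a => ?_) v hv
    by_cases hax : a = x
    · subst hax; rw [Equiv.swap_apply_left]; exact Or.inr rfl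
    · by_cases hay : a = y
      · subst hay; rw [Equiv.swap_apply_right, h.u_symm]; exact Or.inr rfl
      · rw [Equiv.swap_apply_of_ne_of_ne hax hay, u_self]; exact Or.inl rfl
  have h2 : g * v * g⁻¹ = g * v * g⁻¹ * v⁻¹ * v := by group
  rcases h1 with h1 | h1
  · left; rw [h2, h1, one_mul]
  · right; rw [h2, h1]

/-! ### The fours group of a 3-cycle -/

/-- `{1, u o x, u o y, u x y}` -/
def NN (h : Sy H V D e) (j : Fin k) (o x y : Fin n) : Subgroup G where
  carrier := {w | w = 1 ∨ w = u H V D e j o x ∨ w = u H V D e j o y ∨ w = u H V D e j x y}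
  one_mem' := Or.inl rfl
  inv_mem' := by
    rintro a (rfl | rfl | rfl | rfl)
    · left; rw [inv_one]
    · right; left; exact h.inv_eq (h.u_mem _ _ _)
    · right; right; left; exact h.inv_eq (h.u_mem _ _ _)
    · right; right; right; exact h.inv_eq (h.u_mem _ _ _)
  mul_mem' := by
    have r1 : u H V D e j o x * u H V D e j o y = u H V D e j x y := by
      rw [h.u_symm j o x, h.u_add]
    have r2 : u H V D e j o y * u H V D e j o x = u H V D e j x y := by
      rw [h.u_symm j o y, h.u_add, h.u_symm]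
    have r3 : u H V D e j o x * u H V D e j x y = u H V D e j o y := h.u_add _ _ _ _
    have r4 : u H V D e j x y * u H V D e j o x = u H V D e j o y := by
      rw [h.comm _ (h.u_mem _ _ _) _ (h.u_mem _ _ _), r3]
    have r5 : u H V D e j o y * u H V D e j x y = u H V D e j o x := by
      rw [h.u_symm j x y, h.u_add]
    have r6 : u H V D e j x y * u H V D e j o y = u H V D e j o x := by
      rw [h.comm _ (h.u_mem _ _ _) _ (h.u_mem _ _ _), r5]
    rintro a b (rfl | rfl | rfl | rfl) (rfl | rfl | rfl | rfl)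
    · left; rw [one_mul]
    · right; left; rw [one_mul]
    · right; right; left; rw [one_mul]
    · right; right; right; rw [one_mul]
    · right; left; rw [mul_one]
    · left; exact h.u_sq _ _ _
    · right; right; right; exact r1
    · right; right; left; exact r3
    · right; right; left; rw [mul_one]
    · right; right; right; exact r2
    · left; exact h.u_sq _ _ _
    · right; left; exact r5
    · right; right; right; rw [mul_one]
    · right; right; left; exact r4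
    · right; left; exact r6
    · left; exact h.u_sq _ _ _

theorem mem_NN (h : Sy H V D e) {j : Fin k} {o x y : Fin n} {w : G} : w ∈ h.NN j o x y ↔
    w = 1 ∨ w = u H V D e j o x ∨ w = u H V D e j o y ∨ w = u H V D e j x y := Iff.rfl

theorem NN_symm (h : Sy H V D e) (j : Fin k) (o x y : Fin n) : h.NN j o x y = h.NN j o y x := by
  ext w
  rw [h.mem_NN, h.mem_NN, h.u_symm j x y]
  tauto

theorem NN_le (h : Sy H V D e) (j : Fin k) (o x y : Fin n) : h.NN j o x y ≤ V := by
  rintro w (rfl | rfl | rfl | rfl)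
  · exact one_mem V
  all_goals exact h.u_mem _ _ _

theorem u_ne_u (h : Sy H V D e) {j : Fin k} {a b c : Fin n} (hab : a ≠ b) (hac : a ≠ c)
    (hbc : b ≠ c) : u H V D e j a b ≠ u H V D e j a c := by
  intro h1
  rcases (h.u_inj hab h1).2 with h2 | h2
  · exact hbc h2.2
  · exact hac h2.1

theorem card_NN (h : Sy H V D e) (j : Fin k) {o x y : Fin n} (hox : o ≠ x) (hoy : o ≠ y)
    (hxy : x ≠ y) : Nat.card (h.NN j o x y) = 4 := by
  have h1 : u H V D e j o x ≠ 1 := h.u_ne hox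
  have h2 : u H V D e j o y ≠ 1 := h.u_ne hoy
  have h3 : u H V D e j x y ≠ 1 := h.u_ne hxy
  have h4 : u H V D e j o x ≠ u H V D e j o y := h.u_ne_u hox hoy hxy
  have h5 : u H V D e j o x ≠ u H V D e j x y := by
    rw [h.u_symm j o x]; exact h.u_ne_u hox.symm hxy hoy
  have h6 : u H V D e j o y ≠ u H V D e j x y := by
    rw [h.u_symm j o y, h.u_symm j x y]; exact h.u_ne_u hoy.symm hxy.symm hox
  have hset : ((h.NN j o x y : Subgroup G) : Set G) =
      {1, u H V D e j o x, u H V D e j o y, u H V D e j x y} := by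
    ext w
    rw [SetLike.mem_coe, h.mem_NN]
    simp only [Set.mem_insert_iff, Set.mem_singleton_iff]
  have hc : Nat.card (h.NN j o x y) = Set.ncard ((h.NN j o x y : Subgroup G) : Set G) :=
    Nat.card_coe_set_eq _
  rw [hc, hset, Set.ncard_insert_of_notMem, Set.ncard_insert_of_notMem, Set.ncard_pair h6]
  · simp [h4, h5]
  · simp [h1.symm, h2.symm, h3.symm]

section three

variable (h : Sy H V D e) {j : Fin k} {o x y : Fin n} (hox : o ≠ x) (hoy : o ≠ y) (hxy : x ≠ y)
  {g : G} (hg : Gd H V D e (Pi.mulSingle j (cyc o x y)) g)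

include hox hoy hxy hg

theorem cyc_comm : ∀ v ∈ V, g * v * g⁻¹ * v⁻¹ ∈ h.NN j o x y := by
  refine h.comm_le o hg (h.NN_le j o x y) fun a => ?_
  by_cases h1 : a = o
  · subst h1; rw [cyc_a hox hoy hxy]; exact Or.inr (Or.inl rfl)
  · by_cases h2 : a = x
    · subst h2; rw [cyc_b hox hoy hxy]; exact Or.inr (Or.inr (Or.inr rfl))
    · by_cases h3 : a = y
      · subst h3; rw [cyc_z hox hoy hxy, h.u_symm]; exact Or.inr (Or.inr (Or.inl rfl))
      · rw [cyc_o hox hoy hxy h1 h2 h3, u_self]; exact one_mem _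

theorem cyc_fix : ∀ v ∈ h.NN j o x y, g * v * g⁻¹ = v → v = 1 := by
  intro v hv hfix
  have ha : (1 : Equiv.Perm (Fin k)) j = j := rfl
  rcases h.mem_NN.1 hv with h1 | h1 | h1 | h1
  · exact h1
  · exfalso
    rw [h1, h.u_conj hg.mem hg.act, ha, Pi.mulSingle_eq_same, cyc_a hox hoy hxy,
      cyc_b hox hoy hxy, h.u_symm j o x] at hfix
    exact h.u_ne_u hxy hox.symm hoy.symm hfix
  · exfalso
    rw [h1, h.u_conj hg.mem hg.act, ha, Pi.mulSingle_eq_same, cyc_a hox hoy hxy,
      cyc_z hox hoy hxy, h.u_symm j x o] at hfix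
    exact h.u_ne_u hox hoy hxy hfix
  · exfalso
    rw [h1, h.u_conj hg.mem hg.act, ha, Pi.mulSingle_eq_same, cyc_b hox hoy hxy,
      cyc_z hox hoy hxy, h.u_symm j x y] at hfix
    exact h.u_ne_u hoy.symm hxy.symm hox hfix

end three

end Sy

end Cfsg.Agent.Omega.SQ1.FFSym
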