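import Cfsg.Agent.Omega.SQ1.FFSym

/-!
# SQ1, L1: from the FF theorem (even-subset modules) to the `q = 2` Baumann input, part 2

`T` is a Sylow 2-subgroup of `H` which permutes the components transitively and fixes the point `o` of every
component; `J(T)` is generated by transpositions.

* `Tr j x y`: the transposition `(x y)` of the component `j` is induced by `J(T)`;
* `mem_EE`: elements of `T` acting as products of such transpositions;
* `SyT.main`: `BauS.In` and `BauS.PermR`.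
-/

set_option autoImplicit false
set_option linter.unusedSectionVars false
set_option linter.unusedVariables false

namespace Cfsg.Agent.Omega.SQ1.FFSym

open Subgroup Cfsg Cfsg.Agent.PLocal.ThompsonJ Cfsg.Agent.ZN Cfsg.Agent.ZN.ChoiceBase
open Cfsg.Agent.Omega.FFThm (ActsSym SymK NoOver Off)
open Cfsg.Agent.Omega.SQ1.BauS (Sim)

universe v

variable {G : Type v} [Group G]

/-- The module data with `T`. -/
structure SyT (T H Q V D : Subgroup G) {k n : ℕ} (o : Fin n) (e : G → Fin k → Fin n → ZMod 2) :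
    Prop extends Sy H V D e where
  TH : T ≤ H
  Tp : IsPGroup 2 T
  QT : Q ≤ T
  VQ : V ≤ Q
  Qn : ∀ h ∈ H, ∀ x ∈ Q, h * x * h⁻¹ ∈ Q
  VcQ : ∀ x ∈ Q, ∀ v ∈ V, x * v = v * x
  cT : ∀ x ∈ T, (∀ v ∈ V, x * v = v * x) → x ∈ Q
  syl : ∀ x ∈ H, (∃ N : ℕ, x ^ 2 ^ N = 1) → ∃ g ∈ H, g * x * g⁻¹ ∈ T
  trans : ∀ i j, ∃ t ∈ T, ∃ σ τ, ActsSym e V t σ τ ∧ σ i = j
  fix0 : ∀ t ∈ T, ∀ σ τ, ActsSym e V t σ τ → ∀ i, τ i o = o
  gen : ∀ K : Subgroup G, T ≤ K → (∀ g τ, Gd H V D e τ g → g ∈ K) → H ≤ K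
  offD : ∀ A ∈ AA T, ∀ a ∈ A, ∃ τ, Gd H V D e τ a ∧ ∀ i x, τ i x ≠ x → τ i (τ i x) = x ∧
    ∃ b ∈ A, Gd H V D e (Pi.mulSingle i (Equiv.swap x (τ i x))) b
  nJ : ∃ A ∈ AA T, ∃ a ∈ A, ∃ v ∈ V, a * v ≠ v * a
  noOver : ∀ A ∈ AA T, Nat.card A * Nat.card ↥(V ⊓ centralizer (A : Set G)) ≤
    Nat.card V * Nat.card ↥(A ⊓ centralizer (V : Set G))
  cycle : ∃ p : Equiv.Perm (Fin n), ∃ M : ℕ, p ^ 2 ^ M = 1 ∧ (∀ x, p x = x → x = o) ∧
    ∀ x y, x ≠ o → y ≠ o → ∃ i : ℕ, (p ^ i) x = y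
  prop : ∀ X : Subgroup G, T ≤ X → X ≤ H → H ≤ X ⊔ (H ⊓ centralizer (V : Set G)) → H ≤ X

namespace SyT

variable {T H Q V D : Subgroup G} {k n : ℕ} {o : Fin n} {e : G → Fin k → Fin n → ZMod 2}

theorem J_norm [Finite G] {x y : G} (hx : x ∈ T) (hy : y ∈ jj T) : x * y * x⁻¹ ∈ jj T :=
  (mem_normalizer_iff.1 (normalizer_le_of_cj (F := fun K => jj K) jj_cj T (le_normalizer hx)) y).1 hy

/-- the action on the components and points -/
theorem exists_act (h : SyT T H Q V D o e) {x : G} (hx : x ∈ T) :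
    ∃ σ τ, ActsSym e V x σ τ ∧ ∀ i, τ i o = o := by
  obtain ⟨σ, τ, hx'⟩ := h.perm x (h.TH hx)
  exact ⟨σ, τ, hx', h.fix0 x hx σ τ hx'⟩

/-- `T` is transitive on the points different from `o` of every component. -/
theorem cyc_T (h : SyT T H Q V D o e) [Finite G]
    (hpow : ∀ (g : G) (m : ℕ), ∃ c : ℕ, c % 2 ^ m = 1 % 2 ^ m ∧ ∃ N : ℕ, (g ^ c) ^ (2 ^ N) = 1)
    (j : Fin k) {x y : Fin n} (hx : x ≠ o) (hy : y ≠ o) :
    ∃ t ∈ T, ∃ π, Gd H V D e (Pi.mulSingle j π) t ∧ π x = y := by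
  obtain ⟨p, M, hpM, hp0, hpt⟩ := h.cycle
  obtain ⟨g, hg⟩ := h.exists_gd (Pi.mulSingle j p)
  obtain ⟨c, hc, N, hN⟩ := hpow g M
  have hpc : p ^ c = p := by
    have h1 : p ^ (c % 2 ^ M) = p ^ (1 % 2 ^ M) := by rw [hc]
    rw [← pow_mod_orderOf, ← Nat.mod_mod_of_dvd c (orderOf_dvd_of_pow_eq_one hpM), hc,
      Nat.mod_mod_of_dvd 1 (orderOf_dvd_of_pow_eq_one hpM), pow_mod_orderOf, pow_one]
  have h1 : Gd H V D e (Pi.mulSingle j p) (g ^ c) := by
    have := h.gd_pow hg c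
    rw [← Pi.mulSingle_pow, hpc] at this
    exact this
  obtain ⟨s, hs, hsT⟩ := h.syl _ h1.mem ⟨N, hN⟩
  obtain ⟨σ, τ, hsa⟩ := h.perm s hs
  have h2 := h.gd_conj_single hs hsa h1
  have h3 := h.fix0 _ hsT _ _ h2.act (σ j)
  rw [Pi.mulSingle_eq_same] at h3
  have h4 : (τ j)⁻¹ o = o := by
    apply hp0
    apply (τ j).injective
    rw [perm_inv_self]
    exact h3
  obtain ⟨t, ht, σ', τ', hta, hσ⟩ := h.trans (σ j) j
  have h5 := h.gd_conj_single (h.TH ht) hta h2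
  have h6 := h.fix0 _ ht _ _ hta (σ j)
  rw [hσ] at h5
  set ρ := τ' (σ j) * τ j with hρ
  have hρ0 : ρ⁻¹ o = o := by
    rw [Equiv.Perm.inv_eq_iff_eq, hρ, Equiv.Perm.mul_apply]
    have : τ j o = o := by
      conv_lhs => rw [← h4]
      exact perm_inv_self _ _
    rw [this, h6]
  have h7 : τ' (σ j) * (τ j * p * (τ j)⁻¹) * (τ' (σ j))⁻¹ = ρ * p * ρ⁻¹ := by rw [hρ]; group
  rw [h7] at h5
  have hx' : ρ⁻¹ x ≠ o := fun e => hx (ρ⁻¹.injective (by rw [e, hρ0]))
  have hy' : ρ⁻¹ y ≠ o := fun e => hy (ρ⁻¹.injective (by rw [e, hρ0]))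
  obtain ⟨i, hi⟩ := hpt _ _ hx' hy'
  refine ⟨(t * (s * g ^ c * s⁻¹) * t⁻¹) ^ i,
    pow_mem (mul_mem (mul_mem ht hsT) (inv_mem ht)) i, (ρ * p * ρ⁻¹) ^ i, ?_, ?_⟩
  · have := h.gd_pow h5 i
    rwa [← Pi.mulSingle_pow] at this
  · rw [conj_pow, Equiv.Perm.mul_apply, Equiv.Perm.mul_apply, hi, perm_inv_self]

/-! ### Transpositions induced by `J(T)` -/

/-- the transposition `(x y)` of the component `j` is induced by `J(T)` -/
def Tr (T H V D : Subgroup G) (e : G → Fin k → Fin n → ZMod 2) (j : Fin k) (x y : Fin n) : Prop :=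
  x ≠ y ∧ ∃ t ∈ jj T, Gd H V D e (Pi.mulSingle j (Equiv.swap x y)) t

theorem Tr.symm {j : Fin k} {x y : Fin n} (h1 : Tr T H V D e j x y) : Tr T H V D e j y x := by
  obtain ⟨h2, t, ht, h3⟩ := h1
  exact ⟨h2.symm, t, ht, by rwa [Equiv.swap_comm]⟩

theorem Tr.ne (h : SyT T H Q V D o e) {j : Fin k} {x y : Fin n} (h1 : Tr T H V D e j x y) :
    o ≠ x ∧ o ≠ y := by
  obtain ⟨h2, t, ht, h3⟩ := h1
  have h4 := h.fix0 t (jj_le T ht) _ _ h3.act j
  rw [Pi.mulSingle_eq_same] at h4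
  constructor
  · intro h5
    subst h5
    rw [Equiv.swap_apply_left] at h4
    exact h2 h4.symm
  · intro h5
    subst h5
    rw [Equiv.swap_apply_right] at h4
    exact h2 h4

theorem Tr.conj (h : SyT T H Q V D o e) [Finite G] {j : Fin k} {x y : Fin n}
    (h1 : Tr T H V D e j x y) {s : G} (hs : s ∈ T) {σ : Equiv.Perm (Fin k)}
    {τ : Fin k → Equiv.Perm (Fin n)} (hsa : ActsSym e V s σ τ) :
    Tr T H V D e (σ j) (τ j x) (τ j y) := by
  obtain ⟨h2, t, ht, h3⟩ := h1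
  refine ⟨fun e => h2 ((τ j).injective e), s * t * s⁻¹, J_norm hs ht, ?_⟩
  have h4 := h.gd_conj_single (h.TH hs) hsa h3
  rwa [← Equiv.swap_apply_apply] at h4

/-- the transpositions are disjoint -/
theorem Tr.disj (h : SyT T H Q V D o e) {j : Fin k} {x y z : Fin n} (h1 : Tr T H V D e j x y)
    (h2 : Tr T H V D e j x z) : y = z := by
  by_contra hyz
  obtain ⟨h3, t, ht, h4⟩ := h1
  obtain ⟨h5, s, hs, h6⟩ := h2
  have h7 := h.gd_mul h4 h6
  obtain ⟨N, hN⟩ := h.Tp ⟨t * s, mul_mem (jj_le T ht) (jj_le T hs)⟩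
  have hN' : (t * s) ^ 2 ^ N = 1 := by simpa using congrArg Subtype.val hN
  have h8 := h.gd_pow h7 (2 ^ N)
  rw [hN'] at h8
  have h9 := h.gd_unique h8 h.gd_one
  rw [← Pi.mulSingle_mul, ← Pi.mulSingle_pow] at h9
  have h10 : (Equiv.swap x y * Equiv.swap x z) ^ 2 ^ N = 1 := by
    have := congrFun h9 j
    rwa [Pi.mulSingle_eq_same] at this
  have h11 : Equiv.swap x y * Equiv.swap x z = cyc y x z := by
    rw [cyc, Equiv.swap_comm x y]
  rw [h11] at h10
  have h12 : cyc y x z ^ 3 = 1 := by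
    have := cyc_three h3.symm hyz h5
    rw [pow_succ, pow_two]
    exact this
  have h13 : cyc y x z = 1 := by
    have h14 := Nat.Coprime.pow_left N (show Nat.Coprime 2 3 by decide)
    have h15 := pow_gcd_eq_one.2 ⟨h10, h12⟩
    rwa [h14, pow_one] at h15
  have h16 := cyc_a h3.symm hyz h5
  rw [h13, Equiv.Perm.one_apply] at h16
  exact h3 h16.symm

theorem exists_tr (h : SyT T H Q V D o e) : ∃ j x y, Tr T H V D e j x y := by
  obtain ⟨A, hA, a, ha, v, hv, hav⟩ := h.nJ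
  obtain ⟨τ, hτ, hτ'⟩ := h.offD A hA a ha
  by_contra hcon
  push Not at hcon
  have h1 : τ = 1 := by
    funext i
    ext x
    by_contra hx
    have hx' : τ i x ≠ x := fun e => hx (by rw [e]; rfl)
    obtain ⟨-, b, hb, hb'⟩ := hτ' i x hx'
    exact hcon i x (τ i x) ⟨hx'.symm, b, le_jj hA hb, hb'⟩
  subst h1
  have h2 := h.gd_sim hτ h.gd_one v hv
  apply hav
  calc a * v = (a * v * a⁻¹) * a := by group
    _ = v * a := by rw [h2]; group

/-- every point different from `o` is moved by a transposition -/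
theorem cover (h : SyT T H Q V D o e) [Finite G]
    (hpow : ∀ (g : G) (m : ℕ), ∃ c : ℕ, c % 2 ^ m = 1 % 2 ^ m ∧ ∃ N : ℕ, (g ^ c) ^ (2 ^ N) = 1)
    (j : Fin k) {x : Fin n} (hx : x ≠ o) :
    ∃ y, Tr T H V D e j x y := by
  obtain ⟨j₀, x₀, y₀, h0⟩ := h.exists_tr
  obtain ⟨t, ht, σ, τ, hta, hσ⟩ := h.trans j₀ j
  have h1 := h0.conj h ht hta
  rw [hσ] at h1
  obtain ⟨s, hs, π, hπ, hπx⟩ := h.cyc_T hpow j (h1.ne h).1.symm hx
  have h2 := h1.conj h hs hπ.act
  rw [Equiv.Perm.one_apply, Pi.mulSingle_eq_same, hπx] at h2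
  exact ⟨_, h2⟩

/-! ### The choice of the elements -/

/-- The chosen data for the index set `ι` of the transpositions. -/
structure Ch (T H V D : Subgroup G) (o : Fin n) (e : G → Fin k → Fin n → ZMod 2) {ι : Type}
    (J : ι → Fin k) (X Y : ι → Fin n) (t r : ι → G) : Prop where
  tr : ∀ i, Tr T H V D e (J i) (X i) (Y i)
  tJ : ∀ i, t i ∈ jj T
  tg : ∀ i, Gd H V D e (Pi.mulSingle (J i) (Equiv.swap (X i) (Y i))) (t i)
  rg : ∀ i, Gd H V D e (Pi.mulSingle (J i) (cyc o (X i) (Y i))) (r i)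
  inj : ∀ i j, u H V D e (J i) (X i) (Y i) = u H V D e (J j) (X j) (Y j) → i = j
  ex : ∀ j x y, Tr T H V D e j x y → ∃ i, u H V D e (J i) (X i) (Y i) = u H V D e j x y

theorem exists_ch (h : SyT T H Q V D o e) : ∃ (ι : Type) (J : ι → Fin k) (X Y : ι → Fin n)
    (t r : ι → G), Ch T H V D o e J X Y t r := by
  let ι : Type := {p : Fin k × Fin n × Fin n // Tr T H V D e p.1 p.2.1 p.2.2 ∧ p.2.1 < p.2.2}
  choose t htJ ht using fun i : ι => i.2.1.2
  choose r hr using fun i : ι => h.exists_gd (Pi.mulSingle i.1.1 (cyc o i.1.2.1 i.1.2.2))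
  refine ⟨ι, fun i => i.1.1, fun i => i.1.2.1, fun i => i.1.2.2, t, r, fun i => i.2.1, htJ, ht, hr,
    ?_, ?_⟩
  · rintro ⟨⟨j, x, y⟩, hT, hxy⟩ ⟨⟨j', x', y'⟩, hT', hxy'⟩ hij
    obtain ⟨h1, h2⟩ := h.u_inj hT.1 hij
    simp only at h1 h2 hxy hxy'
    rcases h2 with ⟨h2, h3⟩ | ⟨h2, h3⟩
    · subst h1; subst h2; subst h3; rfl
    · exfalso
      rw [h2, h3] at hxy
      exact absurd hxy (not_lt.2 hxy'.le)
  · intro j x y hT
    rcases lt_or_gt_of_ne hT.1 with h1 | h1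
    · exact ⟨⟨(j, x, y), hT, h1⟩, rfl⟩
    · exact ⟨⟨(j, y, x), hT.symm, h1⟩, h.u_symm _ _ _⟩

variable {ι : Type} {J : ι → Fin k} {X Y : ι → Fin n} {t r : ι → G}

/-- the index of a transposition -/
theorem Ch.exists_idx (h : SyT T H Q V D o e) (c : Ch T H V D o e J X Y t r) {j : Fin k}
    {x y : Fin n} (hT : Tr T H V D e j x y) : ∃ i, J i = j ∧ Equiv.swap (X i) (Y i) = Equiv.swap x y ∧
      u H V D e (J i) (X i) (Y i) = u H V D e j x y ∧
      ((X i = x ∧ Y i = y) ∨ (X i = y ∧ Y i = x)) := by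
  obtain ⟨i, hi⟩ := c.ex j x y hT
  obtain ⟨h1, h2⟩ := h.u_inj (c.tr i).1 hi
  refine ⟨i, h1, ?_, hi, h2⟩
  rcases h2 with ⟨h2, h3⟩ | ⟨h2, h3⟩
  · rw [h2, h3]
  · rw [h2, h3, Equiv.swap_comm]

/-- Two indices: equal, or different components, or disjoint pairs. -/
theorem Ch.cases (h : SyT T H Q V D o e) (c : Ch T H V D o e J X Y t r) {i j : ι} (hij : i ≠ j)
    (hJ : J i = J j) : X i ≠ X j ∧ X i ≠ Y j ∧ Y i ≠ X j ∧ Y i ≠ Y j := by
  have hi := c.tr i
  have hj := c.tr j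
  rw [hJ] at hi
  have key : ∀ {a b : Fin n}, Tr T H V D e (J j) a b → Tr T H V D e (J j) (X i) (Y i) →
      (a = X i ∧ b = Y i) ∨ (a = Y i ∧ b = X i) →
      ((a = X j ∧ b = Y j) ∨ (a = Y j ∧ b = X j)) → False := by
    intro a b _ _ h1 h2
    apply hij
    apply c.inj
    rw [hJ]
    rcases h1 with ⟨rfl, rfl⟩ | ⟨rfl, rfl⟩ <;> rcases h2 with ⟨h2, h3⟩ | ⟨h2, h3⟩
    · rw [h2, h3]
    · rw [h2, h3, h.u_symm]
    · rw [h2, h3, h.u_symm]
    · rw [h2, h3]
  refine ⟨fun e1 => ?_, fun e1 => ?_, fun e1 => ?_, fun e1 => ?_⟩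
  · have hi' := hi
    rw [e1] at hi'
    exact key hi hi (Or.inl ⟨rfl, rfl⟩) (Or.inl ⟨e1, Tr.disj h hi' hj⟩)
  · have hi' := hi
    rw [e1] at hi'
    exact key hi hi (Or.inl ⟨rfl, rfl⟩) (Or.inr ⟨e1, Tr.disj h hi' hj.symm⟩)
  · have hi' := hi.symm
    rw [e1] at hi'
    exact key hi.symm hi (Or.inr ⟨rfl, rfl⟩) (Or.inl ⟨e1, Tr.disj h hi' hj⟩)
  · have hi' := hi.symm
    rw [e1] at hi'
    exact key hi.symm hi (Or.inr ⟨rfl, rfl⟩) (Or.inr ⟨e1, Tr.disj h hi' hj.symm⟩)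

/-- **Products of transpositions.** -/
theorem Ch.mem_EE (h : SyT T H Q V D o e) (c : Ch T H V D o e J X Y t r) :
    ∀ (m : ℕ) (τ : Fin k → Equiv.Perm (Fin n)) (a : G), a ∈ T → Gd H V D e τ a →
      (∀ j x, τ j x ≠ x → Tr T H V D e j x (τ j x)) →
      (Finset.univ.filter fun p : Fin k × Fin n => τ p.1 p.2 ≠ p.2).card ≤ m →
      a ∈ closure (Set.range t) ⊔ Q := by
  intro m
  induction m with
  | zero =>
    intro τ a ha hτ hTr hm
    have h1 : τ = 1 := by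
      funext j
      ext x
      by_contra hx
      have hx' : τ j x ≠ x := fun e => hx (by rw [e]; rfl)
      have h2 : (j, x) ∈ Finset.univ.filter fun p : Fin k × Fin n => τ p.1 p.2 ≠ p.2 := by
        simp [hx']
      have := Finset.card_pos.2 ⟨_, h2⟩
      omega
    subst h1
    refine mem_sup_right (h.cT a ha fun v hv => ?_)
    have h2 := h.gd_sim hτ h.gd_one v hv
    calc a * v = (a * v * a⁻¹) * a := by group
      _ = v * a := by rw [h2]; group
  | succ m ih =>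
    intro τ a ha hτ hTr hm
    by_cases h0 : ∀ j x, τ j x = x
    · refine ih τ a ha hτ hTr ?_
      have : (Finset.univ.filter fun p : Fin k × Fin n => τ p.1 p.2 ≠ p.2) = ∅ := by
        rw [Finset.filter_eq_empty_iff]
        rintro ⟨j, x⟩ _
        simp [h0 j x]
      rw [this]
      simp
    · push Not at h0
      obtain ⟨j, x, hx⟩ := h0
      set y := τ j x with hy
      have hT := hTr j x hx
      rw [← hy] at hT
      obtain ⟨i, hiJ, his, -, -⟩ := c.exists_idx h hT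
      have ht := c.tg i
      rw [hiJ, his] at ht
      have h1 := h.gd_mul ht hτ
      set τ' : Fin k → Equiv.Perm (Fin n) := Pi.mulSingle j (Equiv.swap x y) * τ with hτ'
      have htT : t i ∈ T := jj_le T (c.tJ i)
      -- the new permutation
      have e1 : ∀ i' z, i' ≠ j → τ' i' z = τ i' z := by
        intro i' z hi'
        rw [hτ', Pi.mul_apply, Pi.mulSingle_eq_of_ne hi', one_mul]
      have e2 : ∀ z, τ' j z = Equiv.swap x y (τ j z) := by
        intro z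
        rw [hτ', Pi.mul_apply, Pi.mulSingle_eq_same, Equiv.Perm.mul_apply]
      have e3 : τ' j x = x := by rw [e2, ← hy, Equiv.swap_apply_right]
      have e4 : ∀ z, τ' j z ≠ z → z ≠ x ∧ τ' j z = τ j z := by
        intro z hz
        have hzx : z ≠ x := fun e => hz (by rw [e, e3])
        refine ⟨hzx, ?_⟩
        have h2 : τ j z ≠ y := fun e => hzx ((τ j).injective (by rw [e]))
        have h3 : τ j z ≠ x := by
          intro hzx'
          have h4 : Tr T H V D e j z x := by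
            have := hTr j z (by rw [hzx']; exact hzx.symm)
            rwa [hzx'] at this
          have h5 : z = y := Tr.disj h h4.symm hT
          apply hz
          rw [e2, hzx', Equiv.swap_apply_left, h5]
        rw [e2, Equiv.swap_apply_of_ne_of_ne h3 h2]
      have h2 : t i * a ∈ closure (Set.range t) ⊔ Q := by
        refine ih τ' (t i * a) (mul_mem htT ha) h1 ?_ ?_
        · intro i' z hz
          by_cases hi' : i' = j
          · subst hi'
            obtain ⟨hzx, h3⟩ := e4 z hz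
            rw [h3] at hz ⊢
            exact hTr _ _ hz
          · rw [e1 _ _ hi'] at hz ⊢
            exact hTr _ _ hz
        · have h3 : (Finset.univ.filter fun p : Fin k × Fin n => τ' p.1 p.2 ≠ p.2) ⊂
              (Finset.univ.filter fun p : Fin k × Fin n => τ p.1 p.2 ≠ p.2) := by
            rw [Finset.ssubset_iff_of_subset]
            · refine ⟨(j, x), by simp only [Finset.mem_filter, Finset.mem_univ, true_and]; exact hx,
                ?_⟩
              simp only [Finset.mem_filter, Finset.mem_univ, true_and, not_not]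
              exact e3
            · rintro ⟨i', z⟩ hz
              simp only [Finset.mem_filter, Finset.mem_univ, true_and] at hz ⊢
              by_cases hi' : i' = j
              · subst hi'
                rw [← (e4 z hz).2]; exact hz
              · rw [← e1 _ _ hi']; exact hz
          have h4 := Finset.card_lt_card h3
          omega
      have h3 : a = (t i)⁻¹ * (t i * a) := by group
      rw [h3]
      exact mul_mem (inv_mem (mem_sup_left (subset_closure ⟨i, rfl⟩))) h2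

/-- the products of transpositions centralise `D` and the `d i` -/
theorem Ch.EE_cent (h : SyT T H Q V D o e) (c : Ch T H V D o e J X Y t r) :
    closure (Set.range t) ⊔ Q ≤ centralizer
      (Set.range (fun i => u H V D e (J i) (X i) (Y i)) ∪ (D : Set G)) := by
  refine sup_le ?_ ?_
  · rw [closure_le]
    rintro _ ⟨j, rfl⟩
    rw [SetLike.mem_coe, mem_centralizer_iff]
    rintro w (⟨i, rfl⟩ | hw)
    · have ht := c.tg j
      have h1 := h.u_conj ht.mem ht.act (J i) (X i) (Y i)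
      rw [Equiv.Perm.one_apply] at h1
      have h2 : t j * u H V D e (J i) (X i) (Y i) * (t j)⁻¹ = u H V D e (J i) (X i) (Y i) := by
        rw [h1]
        by_cases hJ : J i = J j
        · rw [hJ, Pi.mulSingle_eq_same]
          by_cases hij : i = j
          · subst hij
            rw [Equiv.swap_apply_left, Equiv.swap_apply_right, h.u_symm]
          · obtain ⟨a1, a2, a3, a4⟩ := c.cases h hij hJ
            rw [Equiv.swap_apply_of_ne_of_ne a1 a2, Equiv.swap_apply_of_ne_of_ne a3 a4]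
        · rw [Pi.mulSingle_eq_of_ne hJ, Equiv.Perm.one_apply, Equiv.Perm.one_apply]
      show u H V D e (J i) (X i) (Y i) * t j = t j * u H V D e (J i) (X i) (Y i)
      conv_lhs => rw [← h2]
      group
    · exact ((c.tg j).cd w hw).symm
  · intro x hx
    rw [mem_centralizer_iff]
    rintro w (⟨i, rfl⟩ | hw)
    · exact (h.VcQ x hx _ (h.u_mem _ _ _)).symm
    · exact (h.VcQ x hx _ (h.DV hw)).symm

theorem Ch.Jt (h : SyT T H Q V D o e) [Finite G] (c : Ch T H V D o e J X Y t r) :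
    jj T ≤ closure (Set.range t) ⊔ Q := by
  rw [jj_eq]
  refine sSup_le fun A hA => fun a ha => ?_
  obtain ⟨τ, hτ, hτ'⟩ := h.offD A hA a ha
  refine c.mem_EE h _ τ a (hA.2.1 ha) hτ (fun j x hx => ?_) le_rfl
  obtain ⟨-, b, hb, hb'⟩ := hτ' j x hx
  exact ⟨hx.symm, b, le_jj hA hb, hb'⟩

theorem Ch.field (h : SyT T H Q V D o e) [Finite G] (c : Ch T H V D o e J X Y t r)
    (hpow : ∀ (g : G) (m : ℕ), ∃ c : ℕ, c % 2 ^ m = 1 % 2 ^ m ∧ ∃ N : ℕ, (g ^ c) ^ (2 ^ N) = 1)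
    {x : G} (hx : x ∈ T) (hc : ∀ v ∈ V, (∀ y ∈ jj T, y * v = v * y) → x * v = v * x) :
    x ∈ closure (Set.range t) ⊔ Q := by
  have hJ : ∀ y ∈ jj T, (∀ i, y * u H V D e (J i) (X i) (Y i) = u H V D e (J i) (X i) (Y i) * y) ∧
      ∀ d ∈ D, y * d = d * y := by
    intro y hy
    have h1 := mem_centralizer_iff.1 (c.EE_cent h (c.Jt h hy))
    exact ⟨fun i => (h1 _ (Or.inl ⟨i, rfl⟩)).symm, fun d hd => (h1 d (Or.inr hd)).symm⟩
  have hxD : ∀ d ∈ D, x * d = d * x := fun d hd => hc d (h.DV hd) fun y hy => (hJ y hy).2 d hd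
  have hxu : ∀ i, x * u H V D e (J i) (X i) (Y i) = u H V D e (J i) (X i) (Y i) * x :=
    fun i => hc _ (h.u_mem _ _ _) fun y hy => (hJ y hy).1 i
  obtain ⟨σ, τ, hxa, h0⟩ := h.exists_act hx
  have key : ∀ j a b, Tr T H V D e j a b → σ j = j ∧
      ((τ j a = a ∧ τ j b = b) ∨ (τ j a = b ∧ τ j b = a)) := by
    intro j a b hT
    obtain ⟨i, -, -, hi, -⟩ := c.exists_idx h hT
    have h1 := h.u_conj (h.TH hx) hxa j a b
    have h2 := hxu i
    rw [hi] at h2
    have h3 : u H V D e (σ j) (τ j a) (τ j b) = u H V D e j a b := by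
      rw [← h1, h2]; group
    exact h.u_inj (fun e => hT.1 ((τ j).injective e)) h3
  have hσ : σ = 1 := by
    ext j
    obtain ⟨z, hz, -⟩ := h.exists_third o o
    obtain ⟨y, hy⟩ := h.cover hpow j hz
    rw [(key j z y hy).1]; rfl
  subst hσ
  refine c.mem_EE h _ τ x hx ⟨h.TH hx, hxD, hxa⟩ (fun j z hz => ?_) le_rfl
  have hzo : z ≠ o := fun e => hz (by rw [e, h0])
  obtain ⟨y, hy⟩ := h.cover hpow j hzo
  rcases (key j z y hy).2 with h1 | h1
  · exact absurd h1.1 hz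
  · rw [h1.1]; exact hy

/-- swaps with the base point generate -/
theorem perm_top (P : Subgroup (Equiv.Perm (Fin n))) (hP : ∀ z, z ≠ o → Equiv.swap o z ∈ P) :
    P = ⊤ := by
  rw [eq_top_iff, ← Equiv.Perm.closure_isSwap, closure_le]
  rintro _ ⟨a, b, hab, rfl⟩
  by_cases ha : a = o
  · subst ha
    exact hP b hab.symm
  · by_cases hb : b = o
    · subst hb
      rw [Equiv.swap_comm]
      exact hP a hab
    · have h1 : Equiv.swap a b = Equiv.swap o a * Equiv.swap o b * (Equiv.swap o a)⁻¹ := by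
        rw [← Equiv.swap_apply_apply, Equiv.swap_apply_left,
          Equiv.swap_apply_of_ne_of_ne hb hab.symm]
      rw [h1]
      exact mul_mem (mul_mem (hP a ha) (hP b hb)) (inv_mem (hP a ha))

/-- **`T` and a 3-cycle generate `H` modulo `C_H(V)`.** -/
theorem Ch.max (h : SyT T H Q V D o e) [Finite G] (c : Ch T H V D o e J X Y t r)
    (hpow : ∀ (g : G) (m : ℕ), ∃ c : ℕ, c % 2 ^ m = 1 % 2 ^ m ∧ ∃ N : ℕ, (g ^ c) ^ (2 ^ N) = 1)
    (K : Subgroup G) (hTK : T ≤ K) (hKH : K ≤ H) (i : ι) (hx : ∃ x ∈ K, Sim V x (r i)) : H ≤ K := by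
  obtain ⟨x, hxK, hx⟩ := hx
  -- the permutations induced by `K`
  let P : Subgroup (Fin k → Equiv.Perm (Fin n)) :=
    { carrier := {τ | ∃ g ∈ K, Gd H V D e τ g}
      mul_mem' := by
        rintro a b ⟨g, hg, hg'⟩ ⟨s, hs, hs'⟩
        exact ⟨g * s, mul_mem hg hs, h.gd_mul hg' hs'⟩
      one_mem' := ⟨1, one_mem K, h.gd_one⟩
      inv_mem' := by
        rintro a ⟨g, hg, hg'⟩
        exact ⟨g⁻¹, inv_mem hg, h.gd_inv hg'⟩ }
  have hsingle : ∀ j (π : Equiv.Perm (Fin n)),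
      π ∈ P.comap (MonoidHom.mulSingle (fun _ : Fin k => Equiv.Perm (Fin n)) j) ↔
        Pi.mulSingle j π ∈ P := fun j π => Iff.rfl
  -- the component of `i`
  have h1 : ∀ π, Pi.mulSingle (J i) π ∈ P := by
    have h2 : P.comap (MonoidHom.mulSingle (fun _ : Fin k => Equiv.Perm (Fin n)) (J i)) = ⊤ := by
      apply perm_top (o := o)
      have h3 : Equiv.swap o (X i) ∈
          P.comap (MonoidHom.mulSingle (fun _ : Fin k => Equiv.Perm (Fin n)) (J i)) := by
        have h4 : Equiv.swap o (X i) = cyc o (X i) (Y i) * Equiv.swap (X i) (Y i) := by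
          rw [cyc, mul_assoc, Equiv.swap_mul_self, mul_one]
        rw [h4]
        refine mul_mem ?_ ?_
        · exact ⟨x, hxK, h.gd_of_sim h.DV (c.rg i) (hKH hxK) hx.symm⟩
        · exact ⟨t i, hTK (jj_le T (c.tJ i)), c.tg i⟩
      intro z hz
      obtain ⟨s, hs, π, hπ, hπz⟩ := h.cyc_T hpow (J i) ((c.tr i).ne h).1.symm hz
      have h5 := h.fix0 s hs _ _ hπ.act (J i)
      rw [Pi.mulSingle_eq_same] at h5
      have h6 : π ∈ P.comap (MonoidHom.mulSingle (fun _ : Fin k => Equiv.Perm (Fin n)) (J i)) :=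
        ⟨s, hTK hs, hπ⟩
      have h7 : Equiv.swap o z = π * Equiv.swap o (X i) * π⁻¹ := by
        rw [← Equiv.swap_apply_apply, h5, hπz]
      rw [h7]
      exact mul_mem (mul_mem h6 h3) (inv_mem h6)
    intro π
    have h3 : π ∈ P.comap (MonoidHom.mulSingle (fun _ : Fin k => Equiv.Perm (Fin n)) (J i)) := by
      rw [h2]; exact mem_top π
    exact h3
  have h2 : ∀ j π, Pi.mulSingle j π ∈ P := by
    intro j π
    obtain ⟨s, hs, σ, τ, hsa, hσ⟩ := h.trans (J i) j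
    obtain ⟨g, hg, hg'⟩ := h1 ((τ (J i))⁻¹ * π * τ (J i))
    have h3 := h.gd_conj_single (h.TH hs) hsa hg'
    have h4 : τ (J i) * ((τ (J i))⁻¹ * π * τ (J i)) * (τ (J i))⁻¹ = π := by group
    rw [h4, hσ] at h3
    exact ⟨_, mul_mem (mul_mem (hTK hs) hg) (inv_mem (hTK hs)), h3⟩
  refine h.prop K hTK hKH (h.gen _ (hTK.trans le_sup_left) fun g τ hg => ?_)
  have h3 : τ ∈ P := Subgroup.pi_mem_of_mulSingle_mem τ fun j => h2 j (τ j)
  obtain ⟨g', hg', hg''⟩ := h3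
  have h4 := h.gd_sim hg hg''
  have h5 : g = g' * (g'⁻¹ * g) := by group
  rw [h5]
  have h7 : g'⁻¹ * g ∈ H := mul_mem (inv_mem hg''.mem) hg.mem
  refine mul_mem (mem_sup_left hg') (mem_sup_right (mem_inf.2 ⟨h7, ?_⟩))
  rw [mem_centralizer_iff]
  intro v hv
  have h6 := h4 v hv
  calc v * (g'⁻¹ * g) = g'⁻¹ * (g' * v * g'⁻¹) * g := by group
    _ = g'⁻¹ * (g * v * g⁻¹) * g := by rw [h6]
    _ = g'⁻¹ * g * v := by group

/-! ### The Baumann input -/

theorem cyc_rot {a b z : Fin n} (hab : a ≠ b) (haz : a ≠ z) (hbz : b ≠ z) :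
    cyc a b z = cyc b z a := by
  ext x
  by_cases h1 : x = a
  · subst h1; rw [cyc_a hab haz hbz, cyc_z hbz hab.symm haz.symm]
  · by_cases h2 : x = b
    · subst h2; rw [cyc_b hab haz hbz, cyc_a hbz hab.symm haz.symm]
    · by_cases h3 : x = z
      · subst h3; rw [cyc_z hab haz hbz, cyc_b hbz hab.symm haz.symm]
      · rw [cyc_o hab haz hbz h1 h2 h3, cyc_o hbz hab.symm haz.symm h2 h3 h1]

theorem swap_cyc {x y : Fin n} (hox : o ≠ x) (hoy : o ≠ y) (hxy : x ≠ y) :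
    Equiv.swap x y * cyc o x y = (cyc o x y)⁻¹ * Equiv.swap x y := by
  have h1 := cyc_conj (Equiv.swap x y) o x y
  rw [Equiv.swap_apply_of_ne_of_ne hox hoy, Equiv.swap_apply_left, Equiv.swap_apply_right] at h1
  have h2 : cyc o y x = (cyc o x y)⁻¹ := by
    rw [← cyc_symm hox hoy hxy, cyc_rot hox.symm hxy hoy]
  rw [← h2, ← h1]
  group

theorem Ch.main (h : SyT T H Q V D o e) [Finite G] (c : Ch T H V D o e J X Y t r)
    (hpow : ∀ (g : G) (m : ℕ), ∃ c : ℕ, c % 2 ^ m = 1 % 2 ^ m ∧ ∃ N : ℕ, (g ^ c) ^ (2 ^ N) = 1) :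
    BauS.In H T Q V (fun i => h.NN (J i) o (X i) (Y i)) (fun i => u H V D e (J i) (X i) (Y i))
      t r where
  TH := h.TH
  QT := h.QT
  VQ := h.VQ
  Tp := h.Tp
  Qn := h.Qn
  Vn := h.Vn
  Vsq := h.sq
  VcQ := h.VcQ
  two := by
    rintro x hx hc ⟨N, hN⟩
    obtain ⟨g, hg, hgT⟩ := h.syl x hx ⟨N, hN⟩
    have h1 : g * x * g⁻¹ ∈ Q := by
      refine h.cT _ hgT fun v hv => ?_
      have h2 := hc _ (h.Vn' hg v hv)
      calc g * x * g⁻¹ * v = g * (x * (g⁻¹ * v * g)) * g⁻¹ := by group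
        _ = g * ((g⁻¹ * v * g) * x) * g⁻¹ := by rw [h2]
        _ = _ := by group
    have h2 := h.Qn g⁻¹ (inv_mem hg) _ h1
    have e1 : g⁻¹ * (g * x * g⁻¹) * g⁻¹⁻¹ = x := by group
    rwa [e1] at h2
  tJ := c.tJ
  rH := fun i => (c.rg i).mem
  Jt := c.Jt h
  tsq := by
    intro i
    have h1 := h.gd_mul (c.tg i) (c.tg i)
    rw [← Pi.mulSingle_mul, Equiv.swap_mul_self, Pi.mulSingle_one] at h1
    exact h.gd_sim h1 h.gd_one
  tt := by
    intro i j
    refine h.gd_sim (h.gd_mul (c.tg i) (c.tg j)) ?_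
    have h1 := h.gd_mul (c.tg j) (c.tg i)
    have h2 : (Pi.mulSingle (J i) (Equiv.swap (X i) (Y i)) *
        Pi.mulSingle (J j) (Equiv.swap (X j) (Y j)) : Fin k → Equiv.Perm (Fin n)) =
      Pi.mulSingle (J j) (Equiv.swap (X j) (Y j)) * Pi.mulSingle (J i) (Equiv.swap (X i) (Y i)) := by
      by_cases hij : i = j
      · rw [hij]
      · by_cases hJ : J i = J j
        · obtain ⟨a1, a2, a3, a4⟩ := c.cases h hij hJ
          rw [hJ, ← Pi.mulSingle_mul, ← Pi.mulSingle_mul]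
          congr 1
          have h3 := Equiv.swap_apply_apply (Equiv.swap (X j) (Y j)) (X i) (Y i)
          rw [Equiv.swap_apply_of_ne_of_ne a1 a2, Equiv.swap_apply_of_ne_of_ne a3 a4] at h3
          conv_lhs => rw [h3]
          group
        · exact (Pi.mulSingle_commute hJ _ _).eq
    rw [h2]
    exact h1
  tr := by
    intro i
    have h1 := h.gd_mul (c.tg i) (c.rg i)
    have h2 := h.gd_mul (h.gd_inv (c.rg i)) (c.tg i)
    rw [← Pi.mulSingle_mul, swap_cyc ((c.tr i).ne h).1 ((c.tr i).ne h).2 (c.tr i).1] at h1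
    rw [← Pi.mulSingle_inv, ← Pi.mulSingle_mul] at h2
    exact h.gd_sim h1 h2
  tr' := by
    intro i j hij
    have h1 := h.gd_mul (c.tg j) (c.rg i)
    refine h.gd_sim h1 ?_
    have h2 := h.gd_mul (c.rg i) (c.tg j)
    have h3 : (Pi.mulSingle (J j) (Equiv.swap (X j) (Y j)) *
        Pi.mulSingle (J i) (cyc o (X i) (Y i)) : Fin k → Equiv.Perm (Fin n)) =
      Pi.mulSingle (J i) (cyc o (X i) (Y i)) * Pi.mulSingle (J j) (Equiv.swap (X j) (Y j)) := by
      by_cases hJ : J i = J j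
      · obtain ⟨a1, a2, a3, a4⟩ := c.cases h hij hJ
        rw [hJ, ← Pi.mulSingle_mul, ← Pi.mulSingle_mul]
        congr 1
        have h4 := Equiv.swap_apply_apply (cyc o (X i) (Y i)) (X j) (Y j)
        have n1 := ((c.tr i).ne h)
        have n2 := ((c.tr j).ne h)
        rw [cyc_o n1.1 n1.2 (c.tr i).1 n2.1.symm a1.symm a3.symm,
          cyc_o n1.1 n1.2 (c.tr i).1 n2.2.symm a2.symm a4.symm] at h4
        conv_lhs => rw [h4]
        group
      · exact (Pi.mulSingle_commute (Ne.symm hJ) _ _).eq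
    rw [h3]
    exact h2
  r3 := by
    intro i
    have h1 := h.gd_mul (h.gd_mul (c.rg i) (c.rg i)) (c.rg i)
    rw [Sy.single_three ((c.tr i).ne h).1 ((c.tr i).ne h).2 (c.tr i).1] at h1
    exact h.gd_sim h1 h.gd_one
  dN := fun i => Or.inr (Or.inr (Or.inr rfl))
  d1 := fun i => h.u_ne (c.tr i).1
  NV := fun i => h.NN_le _ _ _ _
  cardN := fun i => h.card_NN _ ((c.tr i).ne h).1 ((c.tr i).ne h).2 (c.tr i).1
  t_comm := fun i => h.swap_comm (c.tg i)
  r_comm := fun i => h.cyc_comm ((c.tr i).ne h).1 ((c.tr i).ne h).2 (c.tr i).1 (c.rg i)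
  r_fix := fun i => h.cyc_fix ((c.tr i).ne h).1 ((c.tr i).ne h).2 (c.tr i).1 (c.rg i)
  perm := by
    intro x hx i
    obtain ⟨σ, τ, hxa, h0⟩ := h.exists_act hx
    have h1 := (c.tr i).conj h hx hxa
    obtain ⟨j, hj, -, hju, hjp⟩ := c.exists_idx h h1
    refine ⟨j, by rw [h.u_conj (h.TH hx) hxa, hju], fun v hv => ?_⟩
    have h2 : h.NN (J j) o (X j) (Y j) = h.NN (σ (J i)) o (τ (J i) (X i)) (τ (J i) (Y i)) := by
      rw [hj]
      rcases hjp with ⟨h3, h4⟩ | ⟨h3, h4⟩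
      · rw [h3, h4]
      · rw [h3, h4, h.NN_symm]
    rw [h2]
    rcases h.mem_NN.1 hv with h3 | h3 | h3 | h3
    · rw [h3]
      have : x * 1 * x⁻¹ = 1 := by group
      rw [this]; exact one_mem _
    · rw [h3, h.u_conj (h.TH hx) hxa, h0]; exact Or.inr (Or.inl rfl)
    · rw [h3, h.u_conj (h.TH hx) hxa, h0]; exact Or.inr (Or.inr (Or.inl rfl))
    · rw [h3, h.u_conj (h.TH hx) hxa]; exact Or.inr (Or.inr (Or.inr rfl))
  field := fun x hx hc => c.field h hpow hx hc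
  off := by
    intro A hA
    have h1 := h.noOver A hA
    have h2 : Nat.card ↥(A ⊓ centralizer (V : Set G)) ≤ Nat.card ↥(A ⊓ Q) :=
      Subgroup.card_le_of_le fun x hx => ⟨hx.1, h.cT x (hA.2.1 hx.1) fun v hv =>
        (mem_centralizer_iff.1 hx.2 v hv).symm⟩
    calc _ ≤ _ := h1
      _ ≤ Nat.card V * Nat.card ↥(A ⊓ Q) := Nat.mul_le_mul_left _ h2
      _ = _ := mul_comm _ _
  max := fun K hTK hKH i hx => c.max h hpow K hTK hKH i hx

theorem Ch.permR (h : SyT T H Q V D o e) [Finite G] (c : Ch T H V D o e J X Y t r) :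
    BauS.PermR T V (fun i => u H V D e (J i) (X i) (Y i)) r := by
  intro x hx i j hij
  obtain ⟨σ, τ, hxa, h0⟩ := h.exists_act hx
  rw [h.u_conj (h.TH hx) hxa] at hij
  obtain ⟨h1, h2⟩ := h.u_inj (fun e => (c.tr i).1 ((τ (J i)).injective e)) hij
  have h3 := h.gd_conj_single (h.TH hx) hxa (c.rg i)
  rw [cyc_conj, h0, h1] at h3
  rcases h2 with ⟨h4, h5⟩ | ⟨h4, h5⟩
  · rw [h4, h5] at h3
    exact Or.inl (h.gd_sim h3 (c.rg j))
  · rw [h4, h5] at h3
    have n1 := (c.tr j).ne h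
    have h6 : cyc o (Y j) (X j) = (cyc o (X j) (Y j))⁻¹ := by
      rw [← cyc_symm n1.1 n1.2 (c.tr j).1, cyc_rot n1.1.symm (c.tr j).1 n1.2]
    rw [h6, Pi.mulSingle_inv] at h3
    exact Or.inr (h.gd_sim h3 (h.gd_inv (c.rg j)))

end SyT

end Cfsg.Agent.Omega.SQ1.FFSym
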