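import Cfsg.Agent.Omega.SQ1.FFTwoA

/-!
# SQ1, `q = 2`: no over-offender, from the structure of the offenders

`Ctx.off_le`: `|A| |C_V(A)| ≤ |A ∩ Q| |V|` for the elementary abelian subgroups `A` of `T`: an offender is
generated by transpositions modulo `C_T(V)`; these are pairwise disjoint and do not cover the point `0`.
-/

set_option autoImplicit false

namespace Cfsg.Agent.Omega.SQ1.FFTwo

open Subgroup Cfsg Cfsg.Agent.PLocal.ThompsonJ Cfsg.Agent.ZN Cfsg.Agent.ZN.ChoiceBase
open Cfsg.Agent.ZN.ChoiceSit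
open Cfsg.Agent.Omega.FFThm
open Cfsg.Agent.Omega.SQ1.BauS (Sim PermR)
open Equiv (swap)

universe u

section count

variable {G : Type u} [Group G]

/-- `|A| ≤ |A ∩ K| |β|` if `A / A ∩ K` embeds in `β` -/
theorem card_le_of_fib [Finite G] {A K : Subgroup G} {β : Type} [Finite β] (f : A → β)
    (h : ∀ a b : A, f a = f b → (a : G)⁻¹ * b ∈ K) :
    Nat.card A ≤ Nat.card ↥(A ⊓ K) * Nat.card β := by
  have h1 : Nat.card (A ⧸ (K.subgroupOf A)) ≤ Nat.card β := by
    refine Nat.card_le_card_of_injective (fun q => f q.out) fun q q' hq => ?_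
    rw [← Quotient.out_eq' q, ← Quotient.out_eq' q']
    apply QuotientGroup.eq.2
    rw [mem_subgroupOf]
    exact h _ _ hq
  have h2 := card_eq_card_quotient_mul_card_subgroup (K.subgroupOf A)
  have h3 : Nat.card (K.subgroupOf A) = Nat.card ↥(A ⊓ K) := by
    rw [← inf_subgroupOf_left K A]
    exact Nat.card_congr (subgroupOfEquivOfLe inf_le_left).toEquiv
  rw [h2, h3, mul_comm]
  exact Nat.mul_le_mul_left _ h1

/-- `|A ∩ K| |β| ≤ |A|` if `A → β` is surjective and factors over `A / A ∩ K` -/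
theorem card_ge_of_surj [Finite G] {A K : Subgroup G} {β : Type} [Finite β] (f : A → β)
    (hs : Function.Surjective f) (h : ∀ a b : A, (a : G)⁻¹ * b ∈ K → f a = f b) :
    Nat.card ↥(A ⊓ K) * Nat.card β ≤ Nat.card A := by
  have h1 : Nat.card β ≤ Nat.card (A ⧸ (K.subgroupOf A)) := by
    refine Nat.card_le_card_of_injective
      (fun c => (QuotientGroup.mk (Function.surjInv hs c) : A ⧸ (K.subgroupOf A))) fun c c' hc => ?_
    have h2 := QuotientGroup.eq.1 hc
    rw [mem_subgroupOf] at h2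
    have h3 := h _ _ h2
    rwa [Function.surjInv_eq hs, Function.surjInv_eq hs] at h3
  have h2 := card_eq_card_quotient_mul_card_subgroup (K.subgroupOf A)
  have h3 : Nat.card (K.subgroupOf A) = Nat.card ↥(A ⊓ K) := by
    rw [← inf_subgroupOf_left K A]
    exact Nat.card_congr (subgroupOfEquivOfLe inf_le_left).toEquiv
  rw [h2, h3, mul_comm]
  exact Nat.mul_le_mul_right _ h1

end count

variable {G : Type u} [Group G] {H T Q V D : Subgroup G} {k m : ℕ}

/-- the transposition `(x y)` of the block `i` is induced by `A` -/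
def Pp (S : SymK T H V D k m) (A : Subgroup G) (i : Fin k) (x y : Pt m) : Prop :=
  x ≠ y ∧ ∃ b ∈ A, ActsSym S.e V b 1 (Pi.mulSingle i (swap x y))

/-- the set of the transpositions induced by `A` -/
def XX (S : SymK T H V D k m) (A : Subgroup G) : Type :=
  {p : Fin k × Pt m × Pt m // p.2.1 < p.2.2 ∧ Pp S A p.1 p.2.1 p.2.2}

instance (S : SymK T H V D k m) (A : Subgroup G) : Finite (XX S A) := by
  unfold XX; infer_instance

theorem Pp.symm {S : SymK T H V D k m} {A : Subgroup G} {i : Fin k} {x y : Pt m}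
    (h : Pp S A i x y) : Pp S A i y x := by
  obtain ⟨h1, b, hb, h2⟩ := h
  exact ⟨h1.symm, b, hb, by rwa [Equiv.swap_comm]⟩

namespace Ctx

variable {S : SymK T H V D k m} (C : Ctx Q S)

include C

theorem acts_mul {g h : G} {τ τ' : Fin k → Equiv.Perm (Pt m)} (hg : ActsSym S.e V g 1 τ)
    (hhH : h ∈ H) (hh : ActsSym S.e V h 1 τ') : ActsSym S.e V (g * h) 1 (τ * τ') := by
  intro v hv i x
  have e : g * h * v * (g * h)⁻¹ = g * (h * v * h⁻¹) * g⁻¹ := by group
  have h1 := hg _ (C.Vn h hhH v hv) i (τ' i x)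
  have h2 := hh v hv i x
  rw [e, ← h2]
  exact h1

theorem uniq {A : Subgroup G} (hAT : A ≤ T) (hA : ∀ a ∈ A, ∀ b ∈ A, a * b = b * a) {i : Fin k}
    {x y y' : Pt m} (h : Pp S A i x y) (h' : Pp S A i x y') : y = y' := by
  obtain ⟨hxy, b, hb, hbA⟩ := h
  obtain ⟨hxy', b', hb', hbA'⟩ := h'
  have h1 := C.acts_mul hbA (C.TH (hAT hb')) hbA'
  have h2 := C.acts_mul hbA' (C.TH (hAT hb)) hbA
  rw [hA b hb b' hb'] at h1
  have h3 := ActsSym.inj C.m1 h1 h2
  have h4 := congrFun h3 i
  rw [Pi.mul_apply, Pi.mul_apply, Pi.mulSingle_eq_same, Pi.mulSingle_eq_same] at h4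
  have h5 := congrArg (fun p : Equiv.Perm (Pt m) => p x) h4
  simp only [Equiv.Perm.mul_apply, Equiv.swap_apply_left] at h5
  by_contra hne
  rw [Equiv.swap_apply_of_ne_of_ne hxy'.symm (Ne.symm hne),
    Equiv.swap_apply_of_ne_of_ne hxy.symm hne] at h5
  exact hne h5.symm

omit C in
theorem ne_zero {A : Subgroup G} (hAT : A ≤ T) {i : Fin k} {x y : Pt m} (h : Pp S A i x y) :
    x ≠ 0 := by
  rintro rfl
  obtain ⟨hxy, b, hb, hbA⟩ := h
  have h1 := S.fix0 b (hAT hb) 1 _ hbA i
  rw [Pi.mulSingle_eq_same, Equiv.swap_apply_left] at h1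
  exact hxy h1.symm

/-- **No over-offender.** -/
theorem off_le [Finite G] {A : Subgroup G} (hAT : A ≤ T) (hA : IsElementaryAbelian 2 A) :
    Nat.card A * Nat.card ↥(V ⊓ centralizer (A : Set G)) ≤ Nat.card ↥(A ⊓ Q) * Nat.card V := by
  classical
  have hAQ : A ⊓ Q = A ⊓ centralizer (V : Set G) := by
    apply le_antisymm
    · rintro x ⟨h1, h2⟩
      exact ⟨h1, mem_centralizer_iff.2 fun v hv => (C.VcQ x h2 v hv).symm⟩
    · rintro x ⟨h1, h2⟩
      exact ⟨h1, C.cT (hAT h1) fun v hv => (mem_centralizer_iff.1 h2 v hv).symm⟩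
  by_cases hoff : Off V A
  swap
  · by_cases hle : A ≤ centralizer (V : Set G)
    · rw [hAQ, inf_eq_left.2 hle]
      exact Nat.mul_le_mul_left _ (Subgroup.card_le_of_le inf_le_left)
    · rw [hAQ, mul_comm (Nat.card ↥(A ⊓ centralizer (V : Set G)))]
      by_contra hcon
      exact hoff ⟨hA, hle, (not_le.1 hcon).le⟩
  obtain ⟨hD, hτ⟩ := S.off A hAT hoff
  have hab : ∀ a ∈ A, ∀ b ∈ A, a * b = b * a := fun a ha b hb => Bau.elem_comm hA a ha b hb
  choose! τ hτa hτp using hτ
  -- `A`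
  have key1 : Nat.card A ≤ Nat.card ↥(A ⊓ Q) * Nat.card (XX S A → ZMod 2) := by
    refine card_le_of_fib
      (fun a p => if τ a p.1.1 p.1.2.1 = p.1.2.1 then (0 : ZMod 2) else 1) fun a b hf => ?_
    have step : ∀ a b : A, (∀ p : XX S A, τ a p.1.1 p.1.2.1 ≠ p.1.2.1 → τ b p.1.1 p.1.2.1 ≠ p.1.2.1) →
        ∀ i z, τ a i z ≠ z → τ b i z = τ a i z := by
      intro a b hf i z hz
      obtain ⟨h1, c, hc, hcA⟩ := hτp a a.2 i z hz
      have hP : Pp S A i z (τ a i z) := ⟨hz.symm, c, hc, hcA⟩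
      rcases lt_or_gt_of_ne hz with hlt | hlt
      · -- `τ a i z < z`
        have h2 := hf ⟨(i, τ a i z, z), hlt, hP.symm⟩ (by
          change τ a i (τ a i z) ≠ τ a i z
          rw [h1]; exact hz.symm)
        change τ b i (τ a i z) ≠ τ a i z at h2
        obtain ⟨h3, c', hc', hcA'⟩ := hτp b b.2 i _ h2
        have h4 := C.uniq hAT hab (⟨h2.symm, c', hc', hcA'⟩ : Pp S A i (τ a i z) _) hP.symm
        rw [h4] at h3
        exact h3
      · have h2 := hf ⟨(i, z, τ a i z), hlt, hP⟩ hz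
        change τ b i z ≠ z at h2
        obtain ⟨h3, c', hc', hcA'⟩ := hτp b b.2 i _ h2
        exact C.uniq hAT hab (⟨h2.symm, c', hc', hcA'⟩ : Pp S A i z _) hP
    have hf' : ∀ p : XX S A, τ a p.1.1 p.1.2.1 ≠ p.1.2.1 ↔ τ b p.1.1 p.1.2.1 ≠ p.1.2.1 := by
      intro p
      have h1 := congrFun hf p
      by_cases h2 : τ a p.1.1 p.1.2.1 = p.1.2.1
      · by_cases h3 : τ b p.1.1 p.1.2.1 = p.1.2.1
        · simp [h2, h3]
        · simp [h2, h3] at h1
      · by_cases h3 : τ b p.1.1 p.1.2.1 = p.1.2.1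
        · simp [h2, h3] at h1
        · simp [h2, h3]
    have heq : τ a = τ b := by
      funext i
      ext z : 1
      by_cases hz : τ a i z = z
      · by_cases hz' : τ b i z = z
        · rw [hz, hz']
        · exact step b a (fun p => (hf' p).2) i z hz'
      · exact (step a b (fun p => (hf' p).1) i z hz).symm
    have hAa : Ac S a (τ a) := ⟨hτa a a.2, hD a a.2⟩
    have hAb : Ac S b (τ a) := ⟨by rw [heq]; exact hτa b b.2, hD b b.2⟩
    have hsim := C.sim (C.TH (hAT a.2)) (C.TH (hAT b.2)) hAa hAb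
    refine C.cT (T.mul_mem (T.inv_mem (hAT a.2)) (hAT b.2)) fun v hv => ?_
    have h1 := hsim v hv
    calc (a : G)⁻¹ * b * v = (a : G)⁻¹ * (b * v * (b : G)⁻¹) * b := by group
      _ = (a : G)⁻¹ * (a * v * (a : G)⁻¹) * b := by rw [h1]
      _ = v * ((a : G)⁻¹ * b) := by group
  -- `V`
  have key2 : Nat.card ↥(V ⊓ centralizer (A : Set G)) * Nat.card (XX S A → ZMod 2) ≤ Nat.card V := by
    refine card_ge_of_surj
      (fun v p => S.e v p.1.1 p.1.2.1 + S.e v p.1.1 p.1.2.2) ?_ ?_
    · intro c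
      have : Fintype (XX S A) := Fintype.ofFinite _
      let g : Fin k → Pt m → ZMod 2 := fun i z =>
        ∑ p : XX S A, if p.1.1 = i ∧ p.1.2.1 = z then c p else 0
      let y : Fin k → Pt m → ZMod 2 := fun i z => g i z + if z = 0 then ∑ z', g i z' else 0
      have hself : ∀ x : ZMod 2, x + x = 0 := by decide
      have hy : ∀ i, ∑ z, y i z = 0 := by
        intro i
        simp only [y, Finset.sum_add_distrib, Finset.sum_ite_eq', Finset.mem_univ, if_true]
        exact hself _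
      obtain ⟨v, hv, hve⟩ := S.surj y hy
      refine ⟨⟨v, hv⟩, ?_⟩
      funext p
      obtain ⟨⟨i, x, z⟩, hlt, hP⟩ := p
      change S.e v i x + S.e v i z = c _
      have hx0 : x ≠ 0 := ne_zero hAT hP
      have hz0 : z ≠ 0 := ne_zero hAT hP.symm
      rw [hve]
      simp only [y, hx0, hz0, if_false, add_zero]
      have h1 : g i x = c ⟨(i, x, z), hlt, hP⟩ := by
        refine (Finset.sum_eq_single (⟨(i, x, z), hlt, hP⟩ : XX S A) ?_ ?_).trans ?_
        · rintro ⟨⟨i', x', z'⟩, hlt', hP'⟩ - hne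
          rw [if_neg]
          rintro ⟨h1, h2⟩
          apply hne
          change i' = i at h1
          change x' = x at h2
          subst h1 h2
          have h3 : z' = z := C.uniq hAT hab hP' hP
          subst h3
          rfl
        · intro h1
          exact (h1 (Finset.mem_univ (α := XX S A) _)).elim
        · exact if_pos ⟨rfl, rfl⟩
      have h2 : g i z = 0 := by
        simp only [g]
        apply Finset.sum_eq_zero
        rintro ⟨⟨i', x', z'⟩, hlt', hP'⟩ -
        rw [if_neg]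
        rintro ⟨h1, h2⟩
        change i' = i at h1
        change x' = z at h2
        subst h1 h2
        have h3 : z' = x := C.uniq hAT hab hP' hP.symm
        subst h3
        exact absurd hlt (lt_asymm hlt')
      rw [h1, h2, add_zero]
    · intro v w hvw
      funext p
      obtain ⟨⟨i, x, z⟩, hlt, hxz, b, hb, hbA⟩ := p
      change S.e v i x + S.e v i z = S.e w i x + S.e w i z
      have hu : (v : G)⁻¹ * w ∈ V := V.mul_mem (V.inv_mem v.2) w.2
      have h1 := hbA _ hu i x
      have h2 : b * ((v : G)⁻¹ * w) * b⁻¹ = (v : G)⁻¹ * w := by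
        rw [mem_centralizer_iff.1 hvw b hb, mul_inv_cancel_right]
      rw [h2, Pi.mulSingle_eq_same, Equiv.swap_apply_left] at h1
      change S.e ((v : G)⁻¹ * w) i z = _ at h1
      rw [S.mul _ (V.inv_mem v.2) _ w.2, e_inv S v.2] at h1
      simp only [Pi.add_apply] at h1
      have key : ∀ a b c d : ZMod 2, a + b = c + d → c + a = d + b := by decide
      exact key _ _ _ _ h1
  calc Nat.card A * Nat.card ↥(V ⊓ centralizer (A : Set G))
      ≤ (Nat.card ↥(A ⊓ Q) * Nat.card (XX S A → ZMod 2)) *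
          Nat.card ↥(V ⊓ centralizer (A : Set G)) := Nat.mul_le_mul_right _ key1
    _ = Nat.card ↥(A ⊓ Q) * (Nat.card ↥(V ⊓ centralizer (A : Set G)) *
          Nat.card (XX S A → ZMod 2)) := by ring
    _ ≤ _ := Nat.mul_le_mul_left _ key2

end Ctx

end Cfsg.Agent.Omega.SQ1.FFTwo
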