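import Mathlib

/-!
# SQ1 (4.5): the field of a section with a regular abelian group

If an abelian group `K` acts regularly on the nontrivial elements of an abelian section `X1 / X2`,
then `X1 / X2` is the additive group of a finite field `F` and `K` acts as `Fˣ`.
-/

set_option autoImplicit false

namespace Cfsg.Agent.Omega.SQ1.FieldOf

open Subgroup

universe u v

section Abs

variable {A : Type u} [AddCommGroup A] [Finite A] {K : Type v} [Group K]

theorem exists_field (ρ : K →* AddMonoid.End A) (hc : ∀ k l : K, k * l = l * k) (a0 : A)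
    (h0 : a0 ≠ 0) (hreg : ∀ a : A, a ≠ 0 → ∃ k : K, ρ k a0 = a) :
    ∃ (F : Type u) (_ : Field F) (_ : Finite F) (φ : A ≃+ F) (χ : K →* Fˣ), φ a0 = 1 ∧
      ∀ k a, φ (ρ k a) = (χ k : F) * φ a := by
  classical
  let R : Subring (AddMonoid.End A) := Subring.centralizer (Set.range ρ)
  have hRmem : ∀ r : AddMonoid.End A, r ∈ R ↔ ∀ k : K, ρ k * r = r * ρ k := by
    intro r
    constructor
    · intro hr k
      exact Subring.mem_centralizer_iff.1 hr _ ⟨k, rfl⟩
    · intro hr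
      refine Subring.mem_centralizer_iff.2 ?_
      rintro _ ⟨k, rfl⟩
      exact hr k
  have hkR : ∀ k : K, ρ k ∈ R := by
    intro k
    rw [hRmem]
    intro l
    rw [← map_mul, ← map_mul, hc]
  have hz : ∀ r ∈ R, r a0 = 0 → r = 0 := by
    intro r hr h
    have key : ∀ a : A, r a = 0 := by
      intro a
      by_cases ha : a = 0
      · rw [ha]
        exact map_zero r
      · obtain ⟨k, rfl⟩ := hreg a ha
        have h1 := DFunLike.congr_fun ((hRmem r).1 hr k) a0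
        have h2 : r (ρ k a0) = ρ k (r a0) := h1.symm
        rw [h2, h]
        exact map_zero (ρ k)
    exact DFunLike.ext _ _ key
  have hcases : ∀ r ∈ R, r = 0 ∨ ∃ k : K, r = ρ k := by
    intro r hr
    by_cases h : r a0 = 0
    · exact Or.inl (hz r hr h)
    · obtain ⟨k, hk⟩ := hreg _ h
      refine Or.inr ⟨k, ?_⟩
      have h1 : r - ρ k ∈ R := R.sub_mem hr (hkR k)
      have h2 : (r - ρ k) a0 = 0 := by
        show r a0 - ρ k a0 = 0
        rw [hk, sub_self]
      exact sub_eq_zero.1 (hz _ h1 h2)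
  have h10 : (1 : AddMonoid.End A) ≠ 0 := by
    intro h
    apply h0
    have := DFunLike.congr_fun h a0
    exact this
  have hfield : IsField R := by
    refine ⟨⟨0, 1, ?_⟩, ?_, ?_⟩
    · intro h
      exact h10 (congrArg Subtype.val h).symm
    · rintro ⟨r, hr⟩ ⟨r', hr'⟩
      apply Subtype.ext
      show r * r' = r' * r
      rcases hcases r' hr' with h | ⟨k, rfl⟩
      · rw [h, mul_zero, zero_mul]
      · exact ((hRmem r).1 hr k).symm
    · rintro ⟨r, hr⟩ hne
      rcases hcases r hr with h | ⟨k, rfl⟩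
      · exact absurd (Subtype.ext h) hne
      · refine ⟨⟨ρ k⁻¹, hkR _⟩, Subtype.ext ?_⟩
        show ρ k * ρ k⁻¹ = 1
        rw [← map_mul, mul_inv_cancel, map_one]
  letI : Field R := hfield.toField
  have hinj : Function.Injective (fun r : R => (r : AddMonoid.End A) a0) := by
    intro r r' h
    have h1 : ((r - r' : R) : AddMonoid.End A) a0 = 0 := by
      show (r : AddMonoid.End A) a0 - (r' : AddMonoid.End A) a0 = 0
      exact sub_eq_zero.2 h
    exact sub_eq_zero.1 (Subtype.ext (hz _ (r - r').2 h1))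
  have hsurj : Function.Surjective (fun r : R => (r : AddMonoid.End A) a0) := by
    intro a
    by_cases ha : a = 0
    · exact ⟨0, ha.symm⟩
    · obtain ⟨k, hk⟩ := hreg a ha
      exact ⟨⟨ρ k, hkR k⟩, hk⟩
  let ev : R →+ A :=
    { toFun := fun r => (r : AddMonoid.End A) a0
      map_zero' := rfl
      map_add' := fun _ _ => rfl }
  let e : R ≃+ A := AddEquiv.ofBijective ev ⟨hinj, hsurj⟩
  let ψ : K →* R :=
    { toFun := fun k => ⟨ρ k, hkR k⟩
      map_one' := Subtype.ext (map_one ρ)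
      map_mul' := fun k l => Subtype.ext (map_mul ρ k l) }
  have hfin : Finite R := Finite.of_equiv A e.symm.toEquiv
  refine ⟨R, inferInstance, hfin, e.symm, ψ.toHomUnits, ?_, ?_⟩
  · rw [AddEquiv.symm_apply_eq]
    rfl
  · intro k a
    rw [AddEquiv.symm_apply_eq]
    obtain ⟨r, rfl⟩ := e.surjective a
    rw [AddEquiv.symm_apply_apply]
    rfl

end Abs

section Sec

variable {G : Type u} [Group G] [Finite G] {X1 X2 K : Subgroup G}

/-- The field of a section. -/
theorem exists_section_field (h21 : X2 ≤ X1) (hab : ∀ x ∈ X1, ∀ y ∈ X1, x * y * x⁻¹ * y⁻¹ ∈ X2)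
    (hK1 : ∀ k ∈ K, ∀ x ∈ X1, k * x * k⁻¹ ∈ X1) (hK2 : ∀ k ∈ K, ∀ x ∈ X2, k * x * k⁻¹ ∈ X2)
    (hKc : ∀ k ∈ K, ∀ l ∈ K, k * l = l * k) {x0 : G} (hx0 : x0 ∈ X1) (hx02 : x0 ∉ X2)
    (hfree : ∀ k ∈ K, k ≠ 1 → ∀ x ∈ X1, k * x * k⁻¹ * x⁻¹ ∈ X2 → x ∈ X2)
    (hcard : Nat.card X1 = (Nat.card K + 1) * Nat.card X2) :
    ∃ (F : Type u) (_ : Field F) (_ : Finite F) (φ : G → F) (χ : K →* Fˣ),
      (∀ x ∈ X1, ∀ y ∈ X1, φ (x * y) = φ x + φ y) ∧ (∀ x ∈ X1, φ x = 0 ↔ x ∈ X2) ∧
      (∀ a : F, ∃ x ∈ X1, φ x = a) ∧ φ x0 = 1 ∧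
      (∀ k : K, ∀ x ∈ X1, φ (k * x * (k : G)⁻¹) = (χ k : F) * φ x) ∧
      Function.Bijective χ := by
  classical
  let N : Subgroup X1 := X2.subgroupOf X1
  haveI hN : N.Normal := by
    constructor
    intro n hn g
    rw [mem_subgroupOf] at hn ⊢
    have h1 := hab g g.2 n n.2
    have h2 := mul_mem h1 hn
    have e : (g : G) * n * (g : G)⁻¹ * (n : G)⁻¹ * n = g * n * (g : G)⁻¹ := by group
    rw [e] at h2
    exact h2
  letI : CommGroup (X1 ⧸ N) :=
    { (inferInstance : Group (X1 ⧸ N)) with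
      mul_comm := by
        intro a b
        induction a using QuotientGroup.induction_on with
        | H a =>
          induction b using QuotientGroup.induction_on with
          | H b =>
            show ((a * b : X1) : X1 ⧸ N) = ((b * a : X1) : X1 ⧸ N)
            rw [QuotientGroup.eq, mem_subgroupOf]
            have h1 := hab (b : G)⁻¹ (inv_mem b.2) (a : G)⁻¹ (inv_mem a.2)
            have e : (((a * b)⁻¹ * (b * a) : X1) : G) = (b : G)⁻¹ * (a : G)⁻¹ * (b : G)⁻¹⁻¹ *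
              (a : G)⁻¹⁻¹ := by
              push_cast
              group
            rw [e]
            exact h1 }
  let A := Additive (X1 ⧸ N)
  let p : X1 → A := fun x => Additive.ofMul (x : X1 ⧸ N)
  have hp0 : ∀ x : X1, p x = 0 ↔ (x : G) ∈ X2 := by
    intro x
    show ((x : X1 ⧸ N) = 1) ↔ _
    rw [QuotientGroup.eq_one_iff, mem_subgroupOf]
  have hpm : ∀ x y : X1, p (x * y) = p x + p y := fun _ _ => rfl
  have hps : Function.Surjective p := fun a => by
    obtain ⟨x, hx⟩ := QuotientGroup.mk_surjective (s := N) (Additive.toMul a)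
    exact ⟨x, congrArg Additive.ofMul hx⟩
  let cj : K → (X1 →* X1) := fun k =>
    { toFun := fun x => ⟨(k : G) * x * (k : G)⁻¹, hK1 k k.2 x x.2⟩
      map_one' := Subtype.ext (by simp)
      map_mul' := fun x y => Subtype.ext (by
        show (k : G) * (x * y) * (k : G)⁻¹ = ((k : G) * x * (k : G)⁻¹) * ((k : G) * y * (k : G)⁻¹)
        group) }
  have hcjN : ∀ k, N ≤ N.comap (cj k) := fun k x hx => by
    rw [mem_comap, mem_subgroupOf]
    exact hK2 k k.2 x (mem_subgroupOf.1 hx)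
  let ρ : K →* AddMonoid.End A :=
    { toFun := fun k => (QuotientGroup.map N N (cj k) (hcjN k)).toAdditive
      map_one' := by
        refine AddMonoidHom.ext fun a => ?_
        obtain ⟨x, rfl⟩ := hps a
        show p (cj 1 x) = p x
        congr 1
        exact Subtype.ext (show ((1 : K) : G) * x * ((1 : K) : G)⁻¹ = x by simp)
      map_mul' := fun k l => by
        refine AddMonoidHom.ext fun a => ?_
        obtain ⟨x, rfl⟩ := hps a
        show p (cj (k * l) x) = p (cj k (cj l x))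
        congr 1
        exact Subtype.ext (show ((k * l : K) : G) * x * ((k * l : K) : G)⁻¹ =
          (k : G) * ((l : G) * x * (l : G)⁻¹) * (k : G)⁻¹ by push_cast; group) }
  have hρ : ∀ (k : K) (x : X1), ρ k (p x) = p (cj k x) := fun _ _ => rfl
  have ha0 : p ⟨x0, hx0⟩ ≠ 0 := by
    rw [Ne, hp0]
    exact hx02
  have hcA : Nat.card A = Nat.card K + 1 := by
    have h1 : Nat.card X1 = Nat.card (X1 ⧸ N) * Nat.card N := Subgroup.card_eq_card_quotient_mul_card_subgroup N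
    have h2 : Nat.card N = Nat.card X2 := Nat.card_congr (Subgroup.subgroupOfEquivOfLe h21).toEquiv
    rw [h2, hcard] at h1
    exact (Nat.eq_of_mul_eq_mul_right Nat.card_pos h1).symm
  have hinj : Function.Injective (fun k : K => (⟨ρ k (p ⟨x0, hx0⟩), by
      intro h
      rw [Set.mem_singleton_iff, hρ, hp0] at h
      apply hx02
      have := hK2 (k : G)⁻¹ (inv_mem k.2) _ h
      have e : (k : G)⁻¹ * ((k : G) * x0 * (k : G)⁻¹) * ((k : G)⁻¹)⁻¹ = x0 := by group
      rw [show ((cj k ⟨x0, hx0⟩ : X1) : G) = (k : G) * x0 * (k : G)⁻¹ from rfl, e] at this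
      exact this⟩ : ({0}ᶜ : Set A))) := by
    intro k l hkl
    have h1 : p (cj k ⟨x0, hx0⟩) = p (cj l ⟨x0, hx0⟩) := congrArg Subtype.val hkl
    by_contra hne
    have h2 : p ((cj l ⟨x0, hx0⟩)⁻¹ * cj k ⟨x0, hx0⟩) = 0 := by
      have e0 : p ((cj l ⟨x0, hx0⟩)⁻¹) = - p (cj l ⟨x0, hx0⟩) := rfl
      rw [hpm, e0, h1, neg_add_cancel]
    rw [hp0] at h2
    have h3 := hK2 (l : G)⁻¹ (inv_mem l.2) _ h2
    have e : (l : G)⁻¹ * (((cj l ⟨x0, hx0⟩)⁻¹ * cj k ⟨x0, hx0⟩ : X1) : G) * ((l : G)⁻¹)⁻¹ =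
        x0⁻¹ * (((l : G)⁻¹ * k) * x0 * ((l : G)⁻¹ * k)⁻¹) := by
      show (l : G)⁻¹ * (((l : G) * x0 * (l : G)⁻¹)⁻¹ * ((k : G) * x0 * (k : G)⁻¹)) * ((l : G)⁻¹)⁻¹ = _
      group
    rw [e] at h3
    have hm : (l : G)⁻¹ * k ∈ K := mul_mem (inv_mem l.2) k.2
    have hne' : (l : G)⁻¹ * k ≠ 1 := fun h => hne (Subtype.ext (by
      have := congrArg (fun z => (l : G) * z) h
      simpa using this))
    apply hx02
    have h5 := hab x0 hx0 _ (h21 h3)
    have h6 := mul_mem h5 h3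
    have e2 : x0 * (x0⁻¹ * (((l : G)⁻¹ * k) * x0 * ((l : G)⁻¹ * k)⁻¹)) * x0⁻¹ *
        (x0⁻¹ * (((l : G)⁻¹ * k) * x0 * ((l : G)⁻¹ * k)⁻¹))⁻¹ *
        (x0⁻¹ * (((l : G)⁻¹ * k) * x0 * ((l : G)⁻¹ * k)⁻¹)) =
        ((l : G)⁻¹ * k) * x0 * ((l : G)⁻¹ * k)⁻¹ * x0⁻¹ := by group
    rw [e2] at h6
    exact hfree _ hm hne' x0 hx0 h6
  have hbij := (Nat.bijective_iff_injective_and_card _).2 ⟨hinj, by
    have h1 : Nat.card ({0}ᶜ : Set A) = Nat.card A - 1 := by
      rw [Nat.card_coe_set_eq, Set.ncard_compl, Set.ncard_singleton]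
    rw [h1, hcA]
    rfl⟩
  have hreg : ∀ a : A, a ≠ 0 → ∃ k : K, ρ k (p ⟨x0, hx0⟩) = a := by
    intro a ha
    obtain ⟨k, hk⟩ := hbij.2 ⟨a, ha⟩
    exact ⟨k, congrArg Subtype.val hk⟩
  obtain ⟨F, iF, hF, φ, χ, h1, h2⟩ := exists_field ρ
    (fun k l => Subtype.ext (hKc k k.2 l l.2)) _ ha0 hreg
  have hφ : ∀ (x : G) (hx : x ∈ X1), (if h : x ∈ X1 then φ (p ⟨x, h⟩) else 0) = φ (p ⟨x, hx⟩) :=
    fun x hx => dif_pos hx
  have hχs : Function.Surjective χ := by
    intro c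
    have h3 : φ.symm (c : F) ≠ 0 := by
      intro h
      have := congrArg φ h
      rw [AddEquiv.apply_symm_apply, map_zero] at this
      exact c.ne_zero this
    obtain ⟨k, hk⟩ := hreg _ h3
    refine ⟨k, Units.ext ?_⟩
    have h4 := h2 k (p ⟨x0, hx0⟩)
    rw [hk, AddEquiv.apply_symm_apply, h1, mul_one] at h4
    exact h4.symm
  refine ⟨F, iF, hF, fun x => if h : x ∈ X1 then φ (p ⟨x, h⟩) else 0, χ, ?_, ?_, ?_, ?_, ?_, ?_⟩
  · intro x hx y hy
    simp only [hφ x hx, hφ y hy, hφ (x * y) (mul_mem hx hy)]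
    rw [← map_add]
    rfl
  · intro x hx
    simp only [hφ x hx]
    rw [EmbeddingLike.map_eq_zero_iff, hp0]
  · intro a
    obtain ⟨x, hx⟩ := hps (φ.symm a)
    refine ⟨x, x.2, ?_⟩
    simp only [hφ x x.2]
    have : (⟨(x : G), x.2⟩ : X1) = x := rfl
    rw [this, hx, AddEquiv.apply_symm_apply]
  · simp only [hφ x0 hx0]
    exact h1
  · intro k x hx
    simp only [hφ x hx, hφ _ (hK1 k k.2 x hx)]
    rw [← h2]
    rfl
  · refine (Nat.bijective_iff_surjective_and_card χ).2 ⟨hχs, ?_⟩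
    have hF1 : Nat.card F = Nat.card A := (Nat.card_congr φ.toEquiv).symm
    haveI := Fintype.ofFinite F
    rw [Nat.card_eq_fintype_card (α := Fˣ), Fintype.card_units, ← Nat.card_eq_fintype_card, hF1, hcA]
    rfl

end Sec

end Cfsg.Agent.Omega.SQ1.FieldOf
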