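import Cfsg.Agent.Omega.SQ1.TwistLoc

/-!
# The twisted Killing Lemma for `q = 2` (project OMEGA, SQ1, L7; #11855 (a)-(f)): the theorem

`Hom.tw` : an element `x ∈ N_G(B)` which centralises `B^ = C_B(r i, r' i)` and satisfies `[x, B] ≤ B^`
normalises `Q₁` and `Q₂`.
-/

set_option autoImplicit false

namespace Cfsg.Agent.Omega.SQ1.Twist

open Subgroup Cfsg.Agent.Omega.SQ1.TwistBase Cfsg.Agent.Omega.SQ1.TwistAlg
open Cfsg.Agent.Omega.SQ1.TwistSym Cfsg.Agent.Omega.SQ1.TwistLoc

universe u v

variable {G : Type u} [Group G] {ι : Type v}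

variable {B Q₁ Q₂ D T : Subgroup G} {e f d r r' : ι → G}

/-- `x` exchanges the sides of the index `j` only. -/
structure Swap (B D : Subgroup G) (e f : ι → G) (x : G) (j : ι) : Prop where
  xB : x ∈ normalizer (B : Set G)
  xD : x ∈ normalizer (D : Set G)
  xe : ∀ k, k ≠ j → ∃ z ∈ D, cj x (e k) = e k * z
  xf : ∀ k, k ≠ j → ∃ z ∈ D, cj x (f k) = f k * z
  xej : ∃ z ∈ D, cj x (e j) = f j * z
  xfj : ∃ z ∈ D, cj x (f j) = e j * z

/-- `r k` centralises `d l` for `l ≠ k`. -/
theorem comm_r_d (h : Tw B Q₁ Q₂ D e f d r r') {k l : ι} (hkl : l ≠ k) :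
    d l * r k = r k * d l := by
  obtain ⟨w, hw, h1⟩ := (h.blk k).cj_r (h.eB l) (h.comm1 (h.eQ l) (h.eQ k))
  obtain ⟨w', hw', h2⟩ := (h.blk k).cj_r (h.fB l) (h.fec k l hkl.symm)
  have h3 := congrArg (cj (r k)) (h.fe l)
  rw [cj_mul, cj_mul, cj_mul, h1, h2] at h3
  have c1 := hw.comm (h.blk k) (h.fB l) (h.fec k l hkl.symm)
  have c2 := hw'.comm (h.blk k) (h.eB l) (h.comm1 (h.eQ l) (h.eQ k))
  have hwe : w' * e k = e k * w' := by
    rcases hw' with rfl | rfl | rfl | rfl
    · rw [one_mul, mul_one]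
    · exact (h.blk k).de
    · rfl
    · rw [mul_assoc, ← mul_assoc (e k), ← (h.blk k).de, mul_assoc]
  have c3 := hw.comm (h.blk k) (hw'.mem (h.blk k)) hwe
  have e1 : w' * f l * (w * e l) = w' * w * (f l * e l) := by
    calc w' * f l * (w * e l) = w' * (f l * w) * e l := by group
      _ = w' * w * (f l * e l) := by rw [c1]; group
  have e2 : w * e l * (w' * f l) = w' * w * (e l * f l) := by
    calc w * e l * (w' * f l) = w * (e l * w') * f l := by group
      _ = (w * w') * (e l * f l) := by rw [c2]; group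
      _ = w' * w * (e l * f l) := by rw [c3]
  rw [e1, e2, h.fe, ← mul_assoc, ← mul_assoc (cj (r k) (d l))] at h3
  have h4 := mul_right_cancel h3
  -- `w' w d = (cj d) w' w`
  have h5 : w' * w * d l = d l * (w' * w) := by
    rw [← h.dc l (B.mul_mem (hw'.mem (h.blk k)) (hw.mem (h.blk k)))]
  rw [h5] at h4
  exact (cj_eq_iff.mp (mul_right_cancel h4).symm).symm

/-- A swap is impossible if `λ_j(e l) = 1` for some `l ≠ j`. -/
theorem swap_false [Finite ι] (h : Tw B Q₁ Q₂ D e f d r r') (hL : Loc Q₁ T f) {x : G} {j l : ι}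
    (S : Swap B D e f x j) (hlj : l ≠ j) (hl : ¬ Lm (r j) (r' j) (e l)) : False := by
  -- `x` centralises the `d k`
  have hd : ∀ k, k ≠ j → cj x (d k) = d k := by
    intro k hk
    obtain ⟨z, hz, h1⟩ := S.xe k hk
    obtain ⟨z', hz', h2⟩ := S.xf k hk
    exact conj_d h.DB h.Dc (h.fe k) (h.fe k) (h.eB _) (h.fB _) hz hz' h1 h2
  have hdj : cj x (d j) = d j := by
    obtain ⟨z, hz, h1⟩ := S.xej
    obtain ⟨z', hz', h2⟩ := S.xfj
    exact conj_d h.DB h.Dc (h.fe j) (h.ef j) (h.fB _) (h.eB _) hz hz' h1 h2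
  -- the block `j`
  obtain ⟨z, hz, h1⟩ := S.xej
  have Bj := Bl.of h S.xB S.xD (h.blk' j) hz h1 hdj
  obtain ⟨z', hz', h2⟩ := S.xe l hlj
  have Bl' := Bl.of h S.xB S.xD (h.blk l) hz' h2 (hd l hlj)
  have uj := unique h hL Bj (own h j)
  have ul := unique h hL Bl' (own h l)
  have hact : ∀ s a : G, cj (cj x⁻¹ s) a = cj x⁻¹ (cj s (cj x a)) := by
    intro s a; unfold cj; group
  -- `x⁻¹ (e l) x`
  have hel : cj x⁻¹ (e l) = e l ∨ cj x⁻¹ (e l) = d l * e l := by
    have h3 : cj (cj x⁻¹ (r l)) (d l) = cj x⁻¹ (e l) := by rw [hact, hd l hlj, (h.blk l).rd]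
    rw [← h3]
    rcases ul with h4 | h4
    · left; rw [h4 _ (h.DQ1 (h.dD l)), (h.blk l).rd]
    · right; rw [h4 _ (h.DQ1 (h.dD l)), (h.blk l).ri_d]
  have helQ : cj x⁻¹ (e l) ∈ Q₁ := by
    rcases hel with h3 | h3
    · rw [h3]; exact h.eQ l
    · rw [h3]; exact Q₁.mul_mem (h.DQ1 (h.dD l)) (h.eQ l)
  apply hl
  have h3 : (e l * r' j = r' j * e l) ↔
      cj (cj x⁻¹ (r' j)) (cj x⁻¹ (e l)) = cj x⁻¹ (e l) := by
    rw [cj_eq_iff, cj_comm_iff]
    exact eq_comm
  have h4 : cj (cj x⁻¹ (r' j)) (cj x⁻¹ (e l)) = cj x⁻¹ (e l) ↔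
      cj x⁻¹ (e l) * r j = r j * cj x⁻¹ (e l) := by
    rcases uj with h5 | h5
    · rw [h5 _ helQ, cj_eq_iff]
      exact eq_comm
    · rw [h5 _ helQ, cj_eq_iff]
      constructor
      · intro h6
        have h7 : Commute (r j)⁻¹ (cj x⁻¹ (e l)) := h6
        exact (Commute.inv_left_iff.mp h7).eq.symm
      · intro h6
        have h7 : Commute (cj x⁻¹ (e l)) (r j) := h6
        exact h7.symm.inv_left.eq
  have h5 : cj x⁻¹ (e l) * r j = r j * cj x⁻¹ (e l) ↔ e l * r j = r j * e l := by
    have hdr := comm_r_d h hlj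
    rcases hel with h6 | h6
    · rw [h6]
    · rw [h6]
      constructor
      · intro h7
        have h8 : d l * (e l * r j) = d l * (r j * e l) := by
          rw [← mul_assoc, h7, ← mul_assoc, ← hdr, mul_assoc]
        exact mul_left_cancel h8
      · intro h7
        rw [mul_assoc, h7, ← mul_assoc, hdr, mul_assoc]
  unfold Lm
  rw [h3, h4, h5]

/-- `D = Z(B)` is normalised by `N_G(B)`. -/
theorem norm_D (h : Tw B Q₁ Q₂ D e f d r r') {x : G} (hx : x ∈ normalizer (B : Set G)) :
    x ∈ normalizer (D : Set G) := by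
  have key : ∀ y ∈ normalizer (B : Set G), ∀ z ∈ D, cj y z ∈ D := by
    intro y hy z hz
    have h1 : ∀ b ∈ B, cj y z * b = b * cj y z := by
      intro b hb
      have h2 : cj y⁻¹ b ∈ B := norm_mem (inv_mem hy) hb
      have h3 := (cj_comm_iff (x := y)).mpr (h.Dc z hz _ h2)
      rwa [cj_cj_inv] at h3
    exact h.cent _ (norm_mem hy (h.DB hz)) (fun k => h1 _ (h.eB k)) fun k => h1 _ (h.fB k)
  exact mem_norm (key x hx) (key x⁻¹ (inv_mem hx))

/-- `x` normalises `Q₁` if it fixes the `e k` modulo `D`. -/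
theorem norm_Q [Finite G] (h : Tw B Q₁ Q₂ D e f d r r') {x : G} (hx : x ∈ normalizer (D : Set G))
    (he : ∀ k, cj x (e k) * (e k)⁻¹ ∈ D) : x ∈ normalizer (Q₁ : Set G) := by
  have hle : Q₁ ≤ Q₁.comap (MulAut.conj x).toMonoidHom := by
    refine h.gen1 _ (fun k => ?_) fun z hz => ?_
    · rw [mem_comap]
      change cj x (e k) ∈ Q₁
      have h1 : cj x (e k) = (cj x (e k) * (e k)⁻¹) * e k := by group
      rw [h1]
      exact Q₁.mul_mem (h.DQ1 (he k)) (h.eQ k)
    · rw [mem_comap]
      exact h.DQ1 (norm_mem hx hz)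
  have hinj : Function.Injective (fun a : Q₁ => (⟨cj x a, hle a.2⟩ : Q₁)) := by
    intro a b hab
    exact Subtype.ext (cj_inj (congrArg Subtype.val hab))
  have hsurj := Finite.surjective_of_injective hinj
  refine mem_norm (fun a ha => hle ha) fun a ha => ?_
  obtain ⟨b, hb⟩ := hsurj ⟨a, ha⟩
  have h1 : cj x b = a := congrArg Subtype.val hb
  rw [← h1, cj_inv_cj]
  exact b.2

/-- **The twisted Killing Lemma, `q = 2`**: splitting of `B` over `B^`. -/
theorem tw [Finite G] [Finite ι] (h : Hom B Q₁ Q₂ D e f d r r') (hL : Loc Q₁ T f) {i : ι} {x : G}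
    (hx : x ∈ normalizer (B : Set G))
    (hc : ∀ c ∈ B, c * r i = r i * c → c * r' i = r' i * c → x * c = c * x)
    (hb : ∀ b ∈ B, (x * b * x⁻¹ * b⁻¹) * r i = r i * (x * b * x⁻¹ * b⁻¹) ∧
      (x * b * x⁻¹ * b⁻¹) * r' i = r' i * (x * b * x⁻¹ * b⁻¹)) :
    x ∈ normalizer (Q₁ : Set G) ∧ x ∈ normalizer (Q₂ : Set G) := by
  classical
  have hT := h.toTw
  have hxD := norm_D hT hx
  have gB : ∀ b ∈ B, cj x b * b⁻¹ ∈ B := fun b hb => B.mul_mem (norm_mem hx hb) (B.inv_mem hb)
  -- `B` normalises `B^`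
  have hconj : ∀ c ∈ B, c * r i = r i * c → c * r' i = r' i * c → ∀ b ∈ B,
      cj b c * r i = r i * cj b c ∧ cj b c * r' i = r' i * cj b c := by
    intro c hcB h1 h2 b hb'
    have hI := hT.inC_of_comm hcB h1 h2
    have aux : ∀ {E ρ : G}, Blk B (d i) E ρ → c * E = E * c → c * ρ = ρ * c →
        cj b c * ρ = ρ * cj b c := by
      intro E ρ hB hcE hcρ
      have h3 : cj b⁻¹ (cj b c) * cj b⁻¹ ρ = cj b⁻¹ ρ * cj b⁻¹ (cj b c) := by
        rw [cj_inv_cj]
        have hb'' := B.inv_mem hb'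
        by_cases h4 : b⁻¹ * E = E * b⁻¹
        · obtain ⟨v, hv, h5⟩ := hB.inner _ hb'' h4
          have h6 := hv.comm hB hcB hcE
          rw [h5, ← mul_assoc, hcρ, mul_assoc, h6, mul_assoc]
        · obtain ⟨v, hv, h5⟩ := hB.outer _ hb'' h4
          have h6 := hv.comm hB hcB hcE
          have h7 : c * ρ⁻¹ = ρ⁻¹ * c := by
            have : Commute c ρ := hcρ
            exact this.inv_right.eq
          rw [h5, ← mul_assoc, h7, mul_assoc, h6, mul_assoc]
      exact cj_comm_iff.mp h3
    exact ⟨aux (h.blk i) hI.2.1 h1, aux (h.blk' i) hI.2.2 h2⟩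
  -- `[x, b] ∈ Z(B^)`
  have gZ : ∀ b ∈ B, ∀ c ∈ B, c * r i = r i * c → c * r' i = r' i * c →
      (cj x b * b⁻¹) * c = c * (cj x b * b⁻¹) := by
    intro b hb' c hcB h1 h2
    obtain ⟨h3, h4⟩ := hconj c hcB h1 h2 b⁻¹ (B.inv_mem hb')
    have h5 := hc _ (norm_mem (le_normalizer (B.inv_mem hb')) hcB) h3 h4
    have h6 := hc c hcB h1 h2
    have h7 : cj b⁻¹ c = b⁻¹ * c * b := by unfold cj; group
    rw [h7] at h5
    unfold cj
    have h8 : x⁻¹ * (b⁻¹ * c * b) = b⁻¹ * c * b * x⁻¹ := by
      have : Commute x (b⁻¹ * c * b) := h5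
      exact this.inv_left.eq
    calc x * b * x⁻¹ * b⁻¹ * c = x * b * (x⁻¹ * (b⁻¹ * c * b)) * b⁻¹ := by group
      _ = (x * c) * b * x⁻¹ * b⁻¹ := by rw [h8]; group
      _ = c * (x * b * x⁻¹ * b⁻¹) := by rw [h6]; group
  -- the conclusion from `[x, B] ≤ D`
  have fin : (∀ k, cj x (e k) * (e k)⁻¹ ∈ D) → (∀ k, cj x (f k) * (f k)⁻¹ ∈ D) →
      x ∈ normalizer (Q₁ : Set G) ∧ x ∈ normalizer (Q₂ : Set G) := fun h1 h2 =>
    ⟨norm_Q hT hxD h1, norm_Q hT.symm hxD h2⟩
  by_cases hD : ∀ z ∈ D, Lm (r i) (r' i) z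
  swap
  · push Not at hD
    obtain ⟨δ, hδ, hδL⟩ := hD
    have key : ∀ b ∈ B, cj x b * b⁻¹ ∈ D := by
      intro b hb'
      set g := cj x b * b⁻¹ with hg
      have hgB : g ∈ B := gB b hb'
      have hI : InC B (e i) (f i) g := hT.inC_of_comm hgB (hb b hb').1 (hb b hb').2
      have hall : ∀ w, InC B (e i) (f i) w → g * w = w * g := by
        intro w hw
        by_cases hL' : Lm (r i) (r' i) w
        · exact hT.comm_of_Lm hgB (gZ b hb') hw hL'
        · have hw' := inC_mul hw (hT.inC_of_D hδ i)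
          have h1 : g * (w * δ) = w * δ * g := hT.comm_of_Lm hgB (gZ b hb') hw' (by
            rw [hT.mulLm hw (hT.inC_of_D hδ i)]
            tauto)
          have h2 : g * w * δ = w * g * δ := by
            calc g * w * δ = g * (w * δ) := mul_assoc _ _ _
              _ = w * (δ * g) := by rw [h1, mul_assoc]
              _ = w * (g * δ) := by rw [hT.Dc δ hδ g hgB]
              _ = w * g * δ := (mul_assoc _ _ _).symm
          exact mul_right_cancel h2
      refine hT.cent g hgB (fun k => ?_) fun k => ?_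
      · by_cases hk : k = i
        · rw [hk]; exact hI.2.1
        · exact hall _ (hT.inC_e hk)
      · by_cases hk : k = i
        · rw [hk]; exact hI.2.2
        · exact hall _ (hT.inC_f hk)
    exact fin (fun k => key _ (h.eB k)) fun k => key _ (h.fB k)
  · by_contra hno
    have hex : ∃ b ∈ B, cj x b * b⁻¹ ∉ D := by
      by_contra hne
      push Not at hne
      exact hno (fin (fun k => hne _ (h.eB k)) fun k => hne _ (h.fB k))
    obtain ⟨b₀, hb₀, hb₀D⟩ := hex
    obtain ⟨j, hji, hej, hfj, hs, -⟩ := h.support hD (gB b₀ hb₀) hb₀D (hb b₀ hb₀).1 (hb b₀ hb₀).2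
      (gZ b₀ hb₀)
    -- the form of the commutators
    have form : ∀ b ∈ B, cj x b * b⁻¹ ∈ D ∨ ∃ z ∈ D, cj x b * b⁻¹ = e j * f j * z := by
      intro b hb'
      by_cases h1 : cj x b * b⁻¹ ∈ D
      · left; exact h1
      · right
        obtain ⟨j', hji', hej', -, -, h2⟩ := h.support hD (gB b hb') h1 (hb b hb').1 (hb b hb').2
          (gZ b hb')
        have hjj : j' = j := by
          by_contra hne
          exact hej' (hs j' hji' hne).1
        rw [hjj] at h2
        exact h2
    -- generators with index `≠ j`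
    have off : ∀ w ∈ B, w * w = 1 → w * e j = e j * w → w * f j = f j * w →
        cj x w * w⁻¹ ∈ D := by
      intro w hw hww h1 h2
      refine (form w hw).resolve_right ?_
      rintro ⟨z, hz, h3⟩
      have h4 : cj x w = e j * f j * z * w := by rw [← h3]; group
      have h5 : cj x w * cj x w = 1 := by rw [← cj_mul, hww, cj_one]
      rw [h4] at h5
      have hzz : z * z = 1 := h.sq1 z (h.DQ1 hz)
      have c1 := h.Dc z hz w hw
      have c2 := h.Dc z hz _ (h.eB j)
      have c3 := h.Dc z hz _ (h.fB j)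
      have h6 : e j * f j * z * w * (e j * f j * z * w) = d j := by
        calc e j * f j * z * w * (e j * f j * z * w)
            = e j * f j * (z * w) * (e j * f j * (z * w)) := by group
          _ = e j * f j * (w * z) * (e j * f j * (w * z)) := by rw [c1]
          _ = e j * f j * w * (z * e j) * f j * w * z := by group
          _ = e j * f j * w * e j * (z * f j) * w * z := by rw [c2]; group
          _ = e j * f j * w * e j * f j * (z * w) * z := by rw [c3]; group
          _ = e j * f j * (w * e j) * f j * w * (z * z) := by rw [c1]; group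
          _ = e j * f j * e j * (w * f j) * w := by rw [h1, hzz]; group
          _ = e j * (f j * e j) * f j * (w * w) := by rw [h2]; group
          _ = (e j * d j) * e j * f j * f j := by rw [h.fe, hww]; group
          _ = d j * (e j * e j) * (f j * f j) := by rw [← hT.dc j (h.eB j)]; group
          _ = d j := by rw [hT.ee, hT.ff]; group
      rw [h6] at h5
      exact hT.dne j h5
    have offe : ∀ k, k ≠ j → cj x (e k) * (e k)⁻¹ ∈ D := fun k hk =>
      off _ (h.eB k) (hT.ee k) (hT.comm1 (h.eQ k) (h.eQ j)) (h.fec k j hk).symm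
    have offf : ∀ k, k ≠ j → cj x (f k) * (f k)⁻¹ ∈ D := fun k hk =>
      off _ (h.fB k) (hT.ff k) (h.fec j k (Ne.symm hk)) (hT.comm2 (h.fQ k) (h.fQ j))
    have toR : ∀ {w : G}, w ∈ B → cj x w * w⁻¹ ∈ D → ∃ z ∈ D, cj x w = w * z := by
      intro w hw h1
      refine ⟨_, h1, ?_⟩
      rw [← h.Dc _ h1 w hw]; group
    -- `cj x (e j)` and `cj x (f j)` do not commute
    have hnc : cj x (e j) * cj x (f j) ≠ cj x (f j) * cj x (e j) := by
      rw [Ne, cj_comm_iff, h.ef]
      intro h1
      exact hT.dne j (by simpa using h1)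
    have fe_eq : ∀ z ∈ D, e j * f j * z * f j = e j * z := by
      intro z hz
      calc e j * f j * z * f j = e j * f j * (z * f j) := by group
        _ = e j * (f j * f j) * z := by rw [h.Dc z hz _ (h.fB j)]; group
        _ = e j * z := by rw [hT.ff]; group
    have ee_eq : ∀ z ∈ D, e j * f j * z * e j = f j * (d j * z) := by
      intro z hz
      calc e j * f j * z * e j = e j * f j * (z * e j) := by group
        _ = e j * (f j * e j) * z := by rw [h.Dc z hz _ (h.eB j)]; group
        _ = (e j * d j) * e j * f j * z := by rw [h.fe]; group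
        _ = d j * (e j * e j) * f j * z := by rw [← hT.dc j (h.eB j)]; group
        _ = (d j * f j) * z := by rw [hT.ee]; group
        _ = f j * (d j * z) := by rw [hT.dc j (h.fB j)]; group
    -- commuting criterion for `u z`, `u' z'`
    have hcm : ∀ {u u' z z' : G}, u ∈ B → u' ∈ B → z ∈ D → z' ∈ D → u * u' = u' * u →
        (u * z) * (u' * z') = (u' * z') * (u * z) := by
      intro u u' z z' hu hu' hz hz' huu
      have c1 : Commute u u' := huu
      have c2 : Commute z u' := h.Dc z hz u' hu'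
      have c3 : Commute z' u := h.Dc z' hz' u hu
      have c4 : Commute z z' := h.Dc z hz z' (hT.DB hz')
      exact ((c1.mul_left c2).mul_right (c3.symm.mul_left c4)).eq
    have Sw : Swap B D e f x j := by
      refine ⟨hx, hxD, fun k hk => toR (h.eB k) (offe k hk), fun k hk => toR (h.fB k) (offf k hk),
        ?_, ?_⟩
      · rcases form _ (h.eB j) with h1 | ⟨z, hz, h1⟩
        · exfalso
          obtain ⟨z₁, hz₁, h2⟩ := toR (h.eB j) h1
          rcases form _ (h.fB j) with h3 | ⟨z, hz, h3⟩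
          · refine hno (fin (fun k => ?_) fun k => ?_)
            · by_cases hk : k = j
              · rw [hk]; exact h1
              · exact offe k hk
            · by_cases hk : k = j
              · rw [hk]; exact h3
              · exact offf k hk
          · have h4 : cj x (f j) = e j * z := by
              rw [← fe_eq z hz, ← h3]; group
            apply hnc
            rw [h2, h4]
            exact hcm (h.eB j) (h.eB j) hz₁ hz rfl
        · refine ⟨d j * z, D.mul_mem (h.dD j) hz, ?_⟩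
          rw [← ee_eq z hz, ← h1]; group
      · rcases form _ (h.fB j) with h1 | ⟨z, hz, h1⟩
        · exfalso
          obtain ⟨z₁, hz₁, h2⟩ := toR (h.fB j) h1
          rcases form _ (h.eB j) with h3 | ⟨z, hz, h3⟩
          · refine hno (fin (fun k => ?_) fun k => ?_)
            · by_cases hk : k = j
              · rw [hk]; exact h3
              · exact offe k hk
            · by_cases hk : k = j
              · rw [hk]; exact h1
              · exact offf k hk
          · have h4 : cj x (e j) = f j * (d j * z) := by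
              rw [← ee_eq z hz, ← h3]; group
            apply hnc
            rw [h2, h4]
            exact hcm (h.fB j) (h.fB j) (D.mul_mem (h.dD j) hz) hz₁ rfl
        · refine ⟨z, hz, ?_⟩
          rw [← fe_eq z hz, ← h1]; group
    obtain ⟨y, p, S, hpi⟩ := h.sym i j
    have hpj : p j ≠ j := by
      intro h1
      rw [← hpi] at h1
      have h2 : p j = p i := by rw [hpi]; rw [← hpi]; exact h1
      exact hji (S.inj hT h2)
    refine swap_false hT hL Sw hpj ?_
    have h1 := S.lme hT hji (h.lmD hD (p i))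
    rw [hpi] at h1
    exact fun h2 => hej (h1.mp h2)

end Cfsg.Agent.Omega.SQ1.Twist
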