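import Cfsg.Agent.Omega.SQ1.TwistBlk
import Cfsg.Agent.Omega.SQ1.Twist

/-!
# SQ1, `q = 2`: from `MIn` to the twisted Killing Lemma (L7)
-/

set_option autoImplicit false

namespace Cfsg.Agent.Omega.SQ1.TwistOf

open Cfsg.Agent.MinSimple.PushUp Cfsg.Agent.Omega.PushUp Cfsg.Agent.Omega.SQ1.Match
open Cfsg.Agent.Omega.SQ1.BlockO Cfsg.Agent.Omega.SQ1.Block Subgroup
open Cfsg.Agent.Omega.SQ1.TwistBase (Blk InV)
open Cfsg.Agent.Omega.SQ1.TwistAlg (Tw)
open Cfsg.Agent.Omega.SQ1.TwistSym (Half Sym Anti Hom)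
open Cfsg.Agent.Omega.SQ1.TwistLoc (Loc)
open Cfsg.Agent.Omega.SQ1.TwistBlk (Small BlkD)

variable {G : Type*} [Group G] {ι : Type*}

theorem InV_cj {d e v : G} (x : G) (hv : InV d e v) : InV (cj x d) (cj x e) (cj x v) := by
  rcases hv with rfl | rfl | rfl | rfl
  · left; simp [cj]
  · right; left; rfl
  · right; right; left; rfl
  · right; right; right; exact cj_prod _ _ _

theorem Blk_cj {B : Subgroup G} {d e r x : G} (h : Blk B d e r) (hx : ∀ b ∈ B, cj x b ∈ B)
    (hx' : ∀ b ∈ B, cj x⁻¹ b ∈ B) : Blk B (cj x d) (cj x e) (cj x r) where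
  dB := hx _ h.dB
  eB := hx _ h.eB
  dc := by
    intro b hb
    have h1 := (cj_comm (g := x)).2 (h.dc _ (hx' b hb))
    rwa [cj_cj_inv] at h1
  dd := by rw [← cj_prod, h.dd]; simp [cj]
  ee := by rw [← cj_prod, h.ee]; simp [cj]
  dne := by
    intro h1
    apply h.dne
    have h2 : cj x d = cj x 1 := by rw [h1]; simp [cj]
    exact cj_inj h2
  rd := by
    change cj (cj x r) (cj x d) = cj x e
    rw [cj_cj, cj_inv_cj]
    exact congrArg (cj x) h.rd
  re := by
    change cj (cj x r) (cj x e) = cj x d * cj x e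
    rw [cj_cj, cj_inv_cj, ← cj_prod]
    exact congrArg (cj x) h.re
  r3 := by rw [← cj_prod, ← cj_prod, h.r3]; simp [cj]
  inner := by
    intro b hb hbe
    have h1 : cj x⁻¹ b * e = e * cj x⁻¹ b := by
      have h2 := (cj_comm (g := x⁻¹)).2 hbe
      rwa [cj_inv_cj] at h2
    obtain ⟨v, hv, h2⟩ := h.inner _ (hx' b hb) h1
    refine ⟨cj x v, InV_cj x hv, ?_⟩
    have h3 := congrArg (cj x) h2
    rw [cj_prod] at h3
    rw [← h3]
    change cj b (cj x r) = cj x (cj (cj x⁻¹ b) r)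
    simp [cj, mul_assoc]
  outer := by
    intro b hb hbe
    have h1 : cj x⁻¹ b * e ≠ e * cj x⁻¹ b := by
      intro h2
      apply hbe
      have h3 := (cj_comm (g := x)).2 h2
      rwa [cj_cj_inv] at h3
    obtain ⟨v, hv, h2⟩ := h.outer _ (hx' b hb) h1
    refine ⟨cj x v, InV_cj x hv, ?_⟩
    have h3 := congrArg (cj x) h2
    rw [cj_prod, cj_inv] at h3
    rw [← h3]
    change cj b (cj x r) = cj x (cj (cj x⁻¹ b) r)
    simp [cj, mul_assoc]

variable {A T B Z P : Subgroup G} {s : G} {L Q V D : ι → Subgroup G}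

/-- chosen matching and blocks -/
structure Ch (B Z : Subgroup G) (s : G) (L V D : ι → Subgroup G) (m : ι → ι) (d e r : ι → G) :
    Prop where
  par : ∀ i, Par s V i (m i)
  bd : ∀ i, BlkD B Z (V i) (D i) (L i) (d i) (e i) (r i)

theorem exists_ch (h : MIn A T B Z P s L Q V D) [Finite ι] [Finite G] (hB2 : IsPGroup 2 B)
    (hself : centralizer (P : Set G) ≤ P) (h2 : ∀ i, Small Z (V i)) :
    ∃ m d e r, Ch B Z s L V D m d e r := by
  choose m hm using fun i => h.par_exists i
  choose d e r hb using fun i => TwistBlk.exists_blk h hB2 hself (hm i) (h2 i)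
  exact ⟨m, d, e, r, hm, hb⟩

variable {m : ι → ι} {d e r : ι → G}

/-- the elements `f i` of the other side -/
def ff (s : G) (e : ι → G) (m : ι → ι) (i : ι) : G := cj s (e (m i))

theorem V_split {Z V : Subgroup G} (h2 : Small Z V) (hV : ∀ v ∈ V, v * v = 1) {e v : G} (he : e ∈ V)
    (heZ : e ∉ Z) (hv : v ∈ V) : v ∈ Z ∨ ∃ z ∈ Z, v = e * z := by
  by_cases hvZ : v ∈ Z
  · exact Or.inl hvZ
  · exact Or.inr ⟨e * v, h2 e he v hv heZ hvZ, by rw [← mul_assoc, hV e he, one_mul]⟩

theorem s_d (h : MIn A T B Z P s L Q V D) [Finite G] (c : Ch B Z s L V D m d e r) (i : ι) :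
    cj s (d (m i)) = d i := by
  have h1 := h.par_D (c.par i) (c.bd (m i)).dD
  rcases (c.bd i).Deq _ h1 with h2 | h2
  · exfalso
    apply (c.bd (m i)).blk.dne
    have h3 : cj s (d (m i)) = cj s 1 := by rw [h2]; simp [cj]
    exact cj_inj h3
  · exact h2

theorem d_inj (h : MIn A T B Z P s L Q V D) (c : Ch B Z s L V D m d e r) :
    Function.Injective d := by
  intro i j hij
  apply h.Dinj
  intro x hx
  rcases (c.bd i).Deq x hx with rfl | rfl
  · exact (D j).one_mem
  · rw [hij]; exact (c.bd j).dD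

theorem m_surj (h : MIn A T B Z P s L Q V D) [Finite G] (c : Ch B Z s L V D m d e r) (j : ι) :
    ∃ i, m i = j := by
  obtain ⟨i, hi⟩ := h.par_exists' j
  exact ⟨i, h.par_unique (c.par i) hi⟩

/-- `e i` and `f i` do not commute -/
theorem noncomm (h : MIn A T B Z P s L Q V D) [Finite G] (h2 : ∀ i, Small Z (V i))
    (c : Ch B Z s L V D m d e r) (i : ι) : e i * ff s e m i ≠ ff s e m i * e i := by
  intro hc
  obtain ⟨v, hv, u, hu, hne⟩ := c.par i
  apply hne
  have hZc : ∀ z ∈ Z, ∀ b ∈ B, Commute z b := fun z hz b hb => ((h.dat i).BcZ b hb z hz).symm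
  have huB : cj s u ∈ B := h.cjsB i ((h.dat (m i)).VB hu)
  have hfB : ff s e m i ∈ B := h.cjsB i ((h.dat (m i)).VB (c.bd (m i)).eV)
  have heB : e i ∈ B := (h.dat i).VB (c.bd i).eV
  have h0 : Commute (e i) (ff s e m i) := hc
  have hsz : ∀ z ∈ Z, cj s z ∈ Z := fun z hz => (h.dat i).cjZ h.sA hz
  have h1 : Commute (e i) (cj s u) := by
    rcases V_split (h2 (m i)) (h.dat (m i)).Vsq (c.bd (m i)).eV (c.bd (m i)).eZ hu with h3 |
      ⟨z, hz, rfl⟩
    · exact (hZc _ (hsz _ h3) _ heB).symm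
    · rw [cj_prod]
      exact h0.mul_right (hZc _ (hsz _ hz) _ heB).symm
  rcases V_split (h2 i) (h.dat i).Vsq (c.bd i).eV (c.bd i).eZ hv with h3 | ⟨z, hz, rfl⟩
  · exact (hZc v h3 _ huB).eq
  · exact (h1.mul_left (hZc z hz _ huB)).eq

/-- **The structure `Tw`.** -/
theorem tw_of (h : MIn A T B Z P s L Q V D) [Finite ι] [Finite G] (i₀ : ι)
    (hZ : ∀ x ∈ B, x * x = 1 → (∀ b ∈ B, x * b = b * x) → x ∈ Z)
    (h2 : ∀ i, Small Z (V i)) (c : Ch B Z s L V D m d e r) :
    Tw B P (Dm P s) Z e (ff s e m) d r (ff s r m) where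
  Q1B := fun x hx => ((h.Pmem x).1 hx).1
  Q2B := by
    intro x hx
    have h1 := h.cjsB i₀ ((h.Pmem _).1 (mem_Dm.1 hx)).1
    rwa [cj_cj_inv] at h1
  DQ1 := fun x hx => h.VP ((h.dat i₀).ZV hx)
  DQ2 := by
    intro x hx
    rw [mem_Dm]
    exact h.VP ((h.dat i₀).ZV ((h.dat i₀).cjZ (A.inv_mem h.sA) hx))
  eQ := fun k => h.VP (c.bd k).eV
  fQ := fun k => cj_mem_Dm (h.VP (c.bd (m k)).eV)
  dD := fun k => (h.dat k).DZ (c.bd k).dD
  gen := by
    intro R h1 h3 b hb
    obtain ⟨y, hy, p, hp, rfl⟩ := h.cover hb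
    exact R.mul_mem (h3 (cj_mem_Dm (h.Y_le hy))) (h1 hp)
  gen1 := by
    intro R h1 h3
    rw [h.P_eq i₀ hZ]
    apply iSup_le
    intro k v hv
    rcases V_split (h2 k) (h.dat k).Vsq (c.bd k).eV (c.bd k).eZ hv with h4 | ⟨z, hz, rfl⟩
    · exact h3 h4
    · exact R.mul_mem (h1 k) (h3 hz)
  gen2 := by
    intro R h1 h3
    have h4 : P ≤ R.comap (MulAut.conj s).toMonoidHom := by
      rw [h.P_eq i₀ hZ]
      apply iSup_le
      intro k v hv
      rw [mem_comap]
      change cj s v ∈ R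
      rcases V_split (h2 k) (h.dat k).Vsq (c.bd k).eV (c.bd k).eZ hv with h4 | ⟨z, hz, rfl⟩
      · exact h3 ((h.dat i₀).cjZ h.sA h4)
      · rw [cj_prod]
        obtain ⟨k', rfl⟩ := m_surj h c k
        exact R.mul_mem (h1 k') (h3 ((h.dat i₀).cjZ h.sA hz))
    intro x hx
    have h5 := h4 (mem_Dm.1 hx)
    rw [mem_comap] at h5
    change cj s (cj s⁻¹ x) ∈ R at h5
    rwa [cj_cj_inv] at h5
  Dc := fun z hz b hb => ((h.dat i₀).BcZ b hb z hz).symm
  cent := by
    intro b hb h1 h3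
    have hbV : ∀ k, ∀ v ∈ V k, b * v = v * b := by
      intro k v hv
      rcases V_split (h2 k) (h.dat k).Vsq (c.bd k).eV (c.bd k).eZ hv with h4 | ⟨z, hz, rfl⟩
      · exact (h.dat i₀).BcZ b hb _ h4
      · exact ((show Commute b (e k) from h1 k).mul_right ((h.dat i₀).BcZ b hb _ hz)).eq
    have hbP : b ∈ P := (h.Pmem b).2 ⟨hb, fun k => (h.dat k).QcV b hb (hbV k)⟩
    have hb' : cj s⁻¹ b ∈ B := h.cjsB' i₀ hb
    have hbP' : cj s⁻¹ b ∈ P := by
      refine (h.Pmem _).2 ⟨hb', fun k => (h.dat k).QcV _ hb' ?_⟩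
      intro v hv
      obtain ⟨k', rfl⟩ := m_surj h c k
      rcases V_split (h2 (m k')) (h.dat (m k')).Vsq (c.bd (m k')).eV (c.bd (m k')).eZ hv with h4 |
        ⟨z, hz, rfl⟩
      · exact (h.dat i₀).BcZ _ hb' _ h4
      · have h5 := (cj_comm (g := s⁻¹)).2 (h3 k')
        rw [ff, cj_inv_cj] at h5
        exact ((show Commute _ (e (m k')) from h5).mul_right ((h.dat i₀).BcZ _ hb' _ hz)).eq
    exact h.inter_Z i₀ hZ hbP hbP'
  sq1 := fun a ha => h.Psq i₀ ha
  sq2 := by
    intro a ha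
    have h1 := h.Psq i₀ (mem_Dm.1 ha)
    rw [← cj_prod] at h1
    have h3 : cj s⁻¹ (a * a) = cj s⁻¹ 1 := by rw [h1]; simp [cj]
    exact cj_inj h3
  dinj := d_inj h c
  fe := by
    intro k
    have hfB : ff s e m k ∈ B := h.cjsB k ((h.dat (m k)).VB (c.bd (m k)).eV)
    obtain ⟨x, hx, h1⟩ := (h.dat k).commB (c.bd k).eV hfB
    rcases (c.bd k).Deq x hx with rfl | rfl
    · exfalso
      rw [one_mul, cj_eq_self] at h1
      exact noncomm h h2 c k h1.symm
    · rw [← mul_assoc, ← h1]; simp [cj]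
  fec := by
    intro k l hkl
    have hnp : ¬ Par s V k (m l) := fun hp => hkl (h.par_inj hp (c.par l))
    exact (MIn.not_par hnp (c.bd k).eV (c.bd (m l)).eV).symm
  blk := fun k => (c.bd k).blk
  blk' := by
    intro k
    have h1 := Blk_cj (c.bd (m k)).blk (fun b hb => h.cjsB i₀ hb) fun b hb => h.cjsB' i₀ hb
    rw [s_d h c k] at h1
    exact h1

/-! ### `Loc` -/

/-- `Loc` from the Thompson subgroup. -/
theorem loc_of [Finite G] {B Q₁ Q₂ D T : Subgroup G} {e f d r r' : ι → G}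
    (h : Tw B Q₁ Q₂ D e f d r r') (QT : Q₁ ≤ T)
    (hself : centralizer (Q₁ : Set G) ≤ Q₁)
    (hsyl : ∀ R : Subgroup G, IsPGroup 2 R → R ≤ normalizer (Q₁ : Set G) →
      ∃ g ∈ normalizer (Q₁ : Set G), ∀ a ∈ R, g * a * g⁻¹ ∈ T)
    (hAA : ∀ E : Subgroup G, E ≤ T → (∀ x ∈ E, x * x = 1) → Nat.card Q₁ ≤ Nat.card E → E ≤ B) :
    Loc Q₁ T f where
  CQ := by
    intro g hg
    apply hself
    rw [mem_centralizer_iff]
    exact fun a ha => (hg a ha).symm
  syl := hsyl
  trv := by
    classical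
    intro t ht htt htN c hc hc1 hact ⟨a₀, ha₀, hmov⟩
    have hcc : c * c = 1 := h.sq1 c hc
    have cb : ∀ a ∈ Q₁, ¬ (t * a = a * t) → cj t a = a * c := by
      intro a ha hne
      rcases hact a ha with h1 | h1
      · exact absurd (cj_eq_self.1 h1) hne
      · exact h1
    have ha₀' : ¬ (t * a₀ = a₀ * t) := fun h1 => hmov (cj_eq_self.2 h1)
    have htc : t * c = c * t := by
      by_contra hne
      have h1 := cb c hc hne
      rw [hcc] at h1
      have h3 : cj t c = cj t 1 := by rw [h1]; simp [cj]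
      exact hc1 (cj_inj h3)
    have htQ : t ∉ Q₁ := fun h1 => ha₀' (h.comm1 h1 ha₀)
    -- the elementary abelian group `C_Q(t) ⟨t⟩`
    let C : Subgroup G := Q₁ ⊓ centralizer {t}
    have memC : ∀ a, a ∈ C ↔ a ∈ Q₁ ∧ t * a = a * t := by
      intro a
      change a ∈ Q₁ ⊓ centralizer {t} ↔ _
      rw [mem_inf, mem_centralizer_iff]
      simp
    let E : Subgroup G :=
      { carrier := {x | ∃ a ∈ C, x = a ∨ x = a * t}
        one_mem' := ⟨1, C.one_mem, Or.inl rfl⟩
        mul_mem' := by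
          rintro x y ⟨a, ha, hx⟩ ⟨b, hb, hy⟩
          have hbt := ((memC b).1 hb).2
          rcases hx with rfl | rfl <;> rcases hy with rfl | rfl
          · exact ⟨x * y, C.mul_mem ha hb, Or.inl rfl⟩
          · exact ⟨x * b, C.mul_mem ha hb, Or.inr (by rw [mul_assoc])⟩
          · exact ⟨a * y, C.mul_mem ha hb, Or.inr (by rw [mul_assoc, hbt, mul_assoc])⟩
          · refine ⟨a * b, C.mul_mem ha hb, Or.inl ?_⟩
            calc a * t * (b * t) = a * (t * b) * t := by group
              _ = a * b * (t * t) := by rw [hbt]; group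
              _ = a * b := by rw [htt, mul_one]
        inv_mem' := by
          rintro x ⟨a, ha, hx⟩
          have hat := ((memC a).1 ha).2
          have hai : a⁻¹ = a := inv_eq_of_mul_eq_one_left (h.sq1 a ((memC a).1 ha).1)
          have hti : t⁻¹ = t := inv_eq_of_mul_eq_one_left htt
          rcases hx with rfl | rfl
          · exact ⟨x, ha, Or.inl hai⟩
          · refine ⟨a, ha, Or.inr ?_⟩
            rw [mul_inv_rev, hai, hti, hat] }
    have memE : ∀ x, x ∈ E ↔ ∃ a ∈ C, x = a ∨ x = a * t := fun x => Iff.rfl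
    have hET : E ≤ T := by
      rintro x ⟨a, ha, rfl | rfl⟩
      · exact QT ((memC _).1 ha).1
      · exact T.mul_mem (QT ((memC a).1 ha).1) ht
    have hEsq : ∀ x ∈ E, x * x = 1 := by
      rintro x ⟨a, ha, rfl | rfl⟩
      · exact h.sq1 _ ((memC _).1 ha).1
      · obtain ⟨haQ, hat⟩ := (memC a).1 ha
        calc a * t * (a * t) = a * (t * a) * t := by group
          _ = (a * a) * (t * t) := by rw [hat]; group
          _ = 1 := by rw [h.sq1 a haQ, htt, one_mul]
    -- `a * a₀ ∈ C` for `a ∉ C`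
    have hprod : ∀ a ∈ Q₁, a ∉ C → a * a₀ ∈ C := by
      intro a ha haC
      refine (memC _).2 ⟨Q₁.mul_mem ha ha₀, ?_⟩
      have hna : ¬ (t * a = a * t) := fun h1 => haC ((memC a).2 ⟨ha, h1⟩)
      apply cj_eq_self.1
      rw [cj_prod, cb a ha hna, cb a₀ ha₀ ha₀']
      calc a * c * (a₀ * c) = a * (c * a₀) * c := by group
        _ = a * a₀ * (c * c) := by rw [h.comm1 hc ha₀]; group
        _ = a * a₀ := by rw [hcc, mul_one]
    have hcard : Nat.card Q₁ ≤ Nat.card E := by
      let φ : Q₁ → E := fun a =>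
        if hC : (a : G) ∈ C then ⟨a, (memE _).2 ⟨a, hC, Or.inl rfl⟩⟩
        else ⟨a * a₀ * t, (memE _).2 ⟨a * a₀, hprod a a.2 hC, Or.inr rfl⟩⟩
      apply Nat.card_le_card_of_injective φ
      intro a b hab
      by_cases h1 : (a : G) ∈ C <;> by_cases h3 : (b : G) ∈ C
      · simp only [φ, dif_pos h1, dif_pos h3] at hab
        exact Subtype.ext (congrArg (fun x : E => (x : G)) hab)
      · exfalso
        simp only [φ, dif_pos h1, dif_neg h3] at hab
        have h4 : (a : G) = b * a₀ * t := congrArg Subtype.val hab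
        apply htQ
        have h5 : t = (b * a₀)⁻¹ * a := by rw [h4]; group
        rw [h5]
        exact Q₁.mul_mem (Q₁.inv_mem (Q₁.mul_mem b.2 ha₀)) a.2
      · exfalso
        simp only [φ, dif_neg h1, dif_pos h3] at hab
        have h4 : (a : G) * a₀ * t = b := congrArg Subtype.val hab
        apply htQ
        have h5 : t = (a * a₀)⁻¹ * b := by rw [← h4]; group
        rw [h5]
        exact Q₁.mul_mem (Q₁.inv_mem (Q₁.mul_mem a.2 ha₀)) b.2
      · simp only [φ, dif_neg h1, dif_neg h3] at hab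
        have h4 : (a : G) * a₀ * t = b * a₀ * t := congrArg Subtype.val hab
        exact Subtype.ext (mul_right_cancel (mul_right_cancel h4))
    have htB : t ∈ B := hAA E hET hEsq hcard ((memE t).2 ⟨1, C.one_mem, Or.inr (one_mul t).symm⟩)
    -- the moved generator
    have hex : ∃ l, cj t (e l) ≠ e l := by
      by_contra hno
      push Not at hno
      let W : Subgroup G :=
        { carrier := {a | cj t a = a}
          one_mem' := by change cj t 1 = 1; simp [cj]
          mul_mem' := by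
            intro a b (ha : cj t a = a) (hb : cj t b = b)
            change cj t (a * b) = a * b
            rw [cj_prod, ha, hb]
          inv_mem' := by
            intro a (ha : cj t a = a)
            change cj t a⁻¹ = a⁻¹
            rw [cj_inv, ha] }
      have hW : Q₁ ≤ W := h.gen1 W hno fun z hz => cj_eq_self.2 (h.Dc z hz t htB).symm
      exact hmov (hW ha₀)
    obtain ⟨l, hl⟩ := hex
    have hl1 : cj t (e l) = d l * e l := (h.diche l htB).resolve_left hl
    have hcl : c = d l := by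
      have h1 : cj t (e l) = e l * c := (hact _ (h.eQ l)).resolve_left hl
      rw [hl1, h.dc l (h.eB l)] at h1
      exact (mul_left_cancel h1).symm
    refine ⟨l, ?_⟩
    let W : Subgroup G :=
      { carrier := {a | cj t a = cj (f l) a}
        one_mem' := by change cj t 1 = cj (f l) 1; simp [cj]
        mul_mem' := by
          intro a b (ha : cj t a = cj (f l) a) (hb : cj t b = cj (f l) b)
          change cj t (a * b) = cj (f l) (a * b)
          rw [cj_prod, cj_prod, ha, hb]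
        inv_mem' := by
          intro a (ha : cj t a = cj (f l) a)
          change cj t a⁻¹ = cj (f l) a⁻¹
          rw [cj_inv, cj_inv, ha] }
    have hW : Q₁ ≤ W := by
      refine h.gen1 W (fun k => ?_) fun z hz => ?_
      · change cj t (e k) = cj (f l) (e k)
        by_cases hkl : k = l
        · subst hkl
          rw [hl1]
          have h1 := h.fe k
          have h3 : cj (f k) (e k) = f k * e k * (f k)⁻¹ := rfl
          rw [h3, h1]; group
        · have h1 : cj (f l) (e k) = e k := cj_eq_self.2 (h.fec k l hkl)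
          rw [h1]
          rcases h.diche k htB with h3 | h3
          · exact h3
          · exfalso
            rcases hact _ (h.eQ k) with h4 | h4
            · have h5 : d k * e k = e k := h3.symm.trans h4
              exact h.dne k (by simpa using h5)
            · have h5 : d k * e k = e k * c := h3.symm.trans h4
              rw [h.dc k (h.eB k)] at h5
              have h6 := mul_left_cancel h5
              rw [hcl] at h6
              exact hkl (h.dinj h6)
      · change cj t z = cj (f l) z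
        rw [cj_eq_self.2 (h.Dc z hz t htB).symm, cj_eq_self.2 (h.Dc z hz _ (h.fB l)).symm]
    exact fun a ha => hW ha

/-! ### `Sym` and `Anti` -/

section sym

variable (h : MIn A T B Z P s L Q V D)

include h

theorem normB {x : G} (i₀ : ι) [Finite G] (hx : x ∈ A) : x ∈ normalizer (B : Set G) :=
  mem_norm_of fun _ hy => (h.dat i₀).cjB hx hy

theorem normZ {x : G} (i₀ : ι) [Finite G] (hx : x ∈ A) : x ∈ normalizer (Z : Set G) :=
  mem_norm_of fun _ hy => (h.dat i₀).cjZ hx hy

/-- the action of `x ∈ T` on the blocks of the first side -/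
theorem half1 [Finite ι] [Finite G] (i₀ : ι)
    (h2 : ∀ i, Small Z (V i)) (c : Ch B Z s L V D m d e r)
    (hw : Tw B P (Dm P s) Z e (ff s e m) d r (ff s r m)) (hL : Loc P T (ff s e m)) {x : G}
    (hx : x ∈ T) : ∃ p : ι → ι, Half Z d e r e r x p ∧ ∀ k, cj x (d k) = d (p k) := by
  choose p hpV hpD using h.perm x hx
  have hxA : x ∈ A := h.TA i₀ hx
  have hd : ∀ k, cj x (d k) = d (p k) := by
    intro k
    rcases (c.bd (p k)).Deq _ (hpD k _ (c.bd k).dD) with h1 | h1
    · exfalso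
      apply (c.bd k).blk.dne
      have h3 : cj x (d k) = cj x 1 := by
        have : cj x 1 = (1 : G) := by simp [cj]
        rw [this]; exact h1
      exact cj_inj h3
    · exact h1
  have he : ∀ k, ∃ z ∈ Z, cj x (e k) = e (p k) * z := by
    intro k
    have h1 : cj x (e k) ∈ V (p k) := hpV k _ (c.bd k).eV
    have h3 : cj x (e k) ∉ Z := by
      intro h4
      apply (c.bd k).eZ
      have h5 := (h.dat i₀).cjZ (A.inv_mem hxA) h4
      rwa [cj_inv_cj] at h5
    rcases V_split (h2 (p k)) (h.dat (p k)).Vsq (c.bd (p k)).eV (c.bd (p k)).eZ h1 with h4 | h4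
    · exact absurd h4 h3
    · exact h4
  refine ⟨p, ⟨he, fun k => ?_⟩, hd⟩
  obtain ⟨z, hz, h1⟩ := he k
  -- the inverse relations
  have hi : cj x⁻¹ (e (p k)) = e k * cj x⁻¹ z⁻¹ := by
    have h3 : e (p k) = cj x (e k) * z⁻¹ := by rw [h1]; group
    rw [h3, cj_prod, cj_inv_cj]
  have hdi : cj x⁻¹ (d (p k)) = d k := by rw [← hd k, cj_inv_cj]
  have hzi : cj x⁻¹ z⁻¹ ∈ Z := (h.dat i₀).cjZ (A.inv_mem hxA) (Z.inv_mem hz)
  have hBl := TwistLoc.Bl.of (l := p k) hw (normB h i₀ (A.inv_mem hxA))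
    (normZ h i₀ (A.inv_mem hxA)) (c.bd k).blk hzi hi hdi
  rw [inv_inv] at hBl
  exact TwistLoc.xr_of hw hL hBl

/-- `x ∈ T` as a symmetry of both sides -/
theorem sym_of [Finite ι] [Finite G] (i₀ : ι)
    (h2 : ∀ i, Small Z (V i)) (c : Ch B Z s L V D m d e r)
    (hw : Tw B P (Dm P s) Z e (ff s e m) d r (ff s r m)) (hL : Loc P T (ff s e m)) {x : G}
    (hx : x ∈ T) : ∃ p : ι → ι, Sym B Z e (ff s e m) d r (ff s r m) x p ∧
      ∀ k, cj x (d k) = d (p k) := by
  obtain ⟨p, hp, hpd⟩ := half1 h i₀ h2 c hw hL hx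
  have hxA : x ∈ A := h.TA i₀ hx
  have hsA := h.sA
  have hx' : cj s⁻¹ x ∈ T := by
    by_contra hno
    have h1 := (h.dat i₀).idx s hsA (x * s) (A.mul_mem hxA hsA) h.sT (by
      intro h3
      apply h.sT
      have h4 : s = x⁻¹ * (x * s) := by group
      rw [h4]
      exact T.mul_mem (T.inv_mem hx) h3)
    apply hno
    have e1 : cj s⁻¹ x = s⁻¹ * (x * s) := by simp [cj, mul_assoc]
    rw [e1]; exact h1
  obtain ⟨p', hp', hpd'⟩ := half1 h i₀ h2 c hw hL hx'
  have hact : ∀ a : G, cj x (cj s a) = cj s (cj (cj s⁻¹ x) a) := by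
    intro a; simp [cj, mul_assoc]
  -- matching of the permutations
  have hm : ∀ k, p' (m k) = m (p k) := by
    intro k
    obtain ⟨k', hk'⟩ := m_surj h c (p' (m k))
    have h1 : d (p k) = d k' := by
      rw [← hpd k]
      nth_rw 1 [← s_d h c k]
      rw [hact, hpd', ← hk', s_d h c k']
    rw [← hk', d_inj h c h1]
  refine ⟨p, ⟨normB h i₀ hxA, normZ h i₀ hxA, hp, ⟨fun k => ?_, fun k => ?_⟩⟩, hpd⟩
  · obtain ⟨z, hz, h1⟩ := hp'.xe (m k)
    refine ⟨cj s z, (h.dat i₀).cjZ hsA hz, ?_⟩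
    change cj x (cj s (e (m k))) = cj s (e (m (p k))) * cj s z
    rw [hact, ← cj_prod, ← hm k]
    exact congrArg (cj s) h1
  · obtain ⟨v, hv, h1⟩ := hp'.xr (m k)
    rw [hm k] at hv h1
    refine ⟨cj s v, ?_, ?_⟩
    · have h3 := InV_cj s hv
      rw [s_d h c (p k)] at h3
      exact h3
    · rcases h1 with h1 | h1
      · left
        change cj x (cj s (r (m k))) = cj s (r (m (p k))) * cj s v
        rw [hact, ← cj_prod]
        exact congrArg (cj s) h1
      · right
        change cj x (cj s (r (m k))) = (cj s (r (m (p k))))⁻¹ * cj s v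
        rw [hact, ← cj_inv, ← cj_prod]
        exact congrArg (cj s) h1

/-- `s` exchanges the sides -/
theorem anti_of [Finite ι] [Finite G] (i₀ : ι)
    (h2 : ∀ i, Small Z (V i)) (c : Ch B Z s L V D m d e r)
    (hw : Tw B P (Dm P s) Z e (ff s e m) d r (ff s r m)) (hL : Loc P T (ff s e m)) :
    ∃ p : ι → ι, Anti B Z e (ff s e m) d r (ff s r m) s p := by
  choose p hpm using fun k => m_surj h c k
  have hsA := h.sA
  have hss : s * s ∈ T := by
    have h1 := (h.dat i₀).idx s⁻¹ (A.inv_mem hsA) s hsA (fun h3 => h.sT (by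
      simpa using T.inv_mem h3)) h.sT
    rwa [inv_inv] at h1
  obtain ⟨q, hq, hqd⟩ := half1 h i₀ h2 c hw hL hss
  have hmul : ∀ a : G, cj s (cj s a) = cj (s * s) a := by
    intro a; rw [cj_mul]
  have hqm : ∀ k, q (m k) = p k := by
    intro k
    apply d_inj h c
    rw [← hqd, ← hmul, s_d h c k]
    nth_rw 1 [← hpm k]
    rw [s_d h c (p k)]
  refine ⟨p, ⟨normB h i₀ hsA, normZ h i₀ hsA, ⟨fun k => ?_, fun k => ?_⟩,
    ⟨fun k => ?_, fun k => ?_⟩⟩⟩
  · refine ⟨1, Z.one_mem, ?_⟩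
    change cj s (e k) = cj s (e (m (p k))) * 1
    rw [hpm, mul_one]
  · refine ⟨1, Or.inl rfl, Or.inl ?_⟩
    change cj s (r k) = cj s (r (m (p k))) * 1
    rw [hpm, mul_one]
  · obtain ⟨z, hz, h1⟩ := hq.xe (m k)
    refine ⟨z, hz, ?_⟩
    change cj s (cj s (e (m k))) = e (p k) * z
    rw [hmul, ← hqm]
    exact h1
  · obtain ⟨v, hv, h1⟩ := hq.xr (m k)
    rw [hqm] at hv h1
    refine ⟨v, hv, ?_⟩
    rcases h1 with h1 | h1
    · left
      change cj s (cj s (r (m k))) = r (p k) * v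
      rw [hmul]
      exact h1
    · right
      change cj s (cj s (r (m k))) = (r (p k))⁻¹ * v
      rw [hmul]
      exact h1

/-- **The structure `Hom`.** -/
theorem hom_of [Finite ι] [Finite G] (i₀ : ι)
    (hZ : ∀ x ∈ B, x * x = 1 → (∀ b ∈ B, x * b = b * x) → x ∈ Z)
    (h2 : ∀ i, Small Z (V i)) (c : Ch B Z s L V D m d e r) (hL : Loc P T (ff s e m)) :
    Hom B P (Dm P s) Z e (ff s e m) d r (ff s r m) where
  toTw := tw_of h i₀ hZ h2 c
  sym := by
    intro i i'
    obtain ⟨x, hx, h1⟩ := h.trans i i'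
    obtain ⟨p, hp, hpd⟩ := sym_of h i₀ h2 c (tw_of h i₀ hZ h2 c) hL hx
    refine ⟨x, p, hp, ?_⟩
    apply d_inj h c
    rw [← hpd]
    rcases (c.bd i').Deq _ (h1 _ (c.bd i).dD) with h3 | h3
    · exfalso
      apply (c.bd i).blk.dne
      have h4 : cj x (d i) = cj x 1 := by
        have : cj x 1 = (1 : G) := by simp [cj]
        rw [this]; exact h3
      exact cj_inj h4
    · exact h3
  anti := by
    obtain ⟨p, hp⟩ := anti_of h i₀ h2 c (tw_of h i₀ hZ h2 c) hL
    exact ⟨s, p, hp⟩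

end sym

end Cfsg.Agent.Omega.SQ1.TwistOf
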