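import Cfsg.Agent.Omega.SQ1.KillQ
import Cfsg.Agent.Omega.SQ1.TwistOf

/-!
# SQ1: there is only one block, all `q` (L6 + L7)

`one_block_two` : `q = 2` (twisted Killing Lemma, #11855); `one_block_all` : all `q`.
-/

set_option autoImplicit false

namespace Cfsg.Agent.Omega.SQ1.KillTwo

open Cfsg.Agent.MinSimple.PushUp Cfsg.Agent.Omega.PushUp Cfsg.Agent.Omega.SQ1.Match
open Cfsg.Agent.Omega.SQ1.BlockO Cfsg.Agent.Omega.SQ1.Block Subgroup
open Cfsg.Agent.Omega.SQ1.Kill (bh mem_bh)
open Cfsg.Agent.Omega.SQ1.TwistBlk (Small)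
open Cfsg.Agent.Omega.SQ1.TwistOf (Ch ff exists_ch tw_of loc_of hom_of)
open scoped Pointwise

variable {G : Type*} [Group G] {ι : Type*}
variable {A T B Z P : Subgroup G} {s : G} {L Q V D : ι → Subgroup G}

/-- the two blocks -/
def XX (s : G) (L : ι → Subgroup G) (i j : ι) (b : Bool) : Subgroup G :=
  if b then O2 (L i) else Dm (O2 (L j)) s

/-- the two elementary abelian groups -/
def QQ (s : G) (P : Subgroup G) (b : Bool) : Subgroup G := if b then P else Dm P s

/-- **There are no two blocks**, provided that the splitting `tw` holds. -/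
theorem one_block_of_tw [Finite G] [Finite ι] (hG : Kill.CharTwo G)
    (h : MIn A T B Z P s L Q V D)
    (hZ : ∀ x ∈ B, x * x = 1 → (∀ b ∈ B, x * b = b * x) → x ∈ Z)
    (hB2 : IsPGroup 2 B) (hJC : JCond B Z P) {i i' : ι} (hii : i ≠ i') {j : ι} (hp : Par s V i j)
    (htw : ∀ x ∈ normalizer (B : Set G), (∀ c ∈ bh B (XX s L i j), x * c = c * x) →
      (∀ b ∈ B, x * b * x⁻¹ * b⁻¹ ∈ bh B (XX s L i j)) → ∀ t, x ∈ normalizer (QQ s P t : Set G)) :
    False := by
  obtain ⟨j', hp'⟩ := h.par_exists i'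
  have hjj : j ≠ j' := fun hj => hii (h.par_inj hp (hj ▸ hp'))
  have hPB := P_le_B h
  set X : Bool → Subgroup G := XX s L i j with hXdef
  set Qf : Bool → Subgroup G := QQ s P with hQdef
  have hXt : X true = O2 (L i) := rfl
  have hXf : X false = Dm (O2 (L j)) s := rfl
  have hQt : Qf true = P := rfl
  have hQf : Qf false = Dm P s := rfl
  have hBP : B ≤ normalizer (P : Set G) := fun b hb =>
    mem_norm_of fun y hy => h.LP i b ((h.dat i).BL hb) y hy
  have hLP : ∀ k, L k ≤ normalizer (P : Set G) := fun k l hl =>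
    mem_norm_of fun y hy => h.LP k l hl y hy
  have hBPs : B ≤ normalizer ((Dm P s : Subgroup G) : Set G) := fun b hb =>
    norm_Dm' (hBP (h.cjsB' i hb))
  -- `D i' ≤ Bh`
  have hDB : D i' ≤ bh B X := by
    intro d hd
    rw [mem_bh]
    refine ⟨(h.dat i').VB ((h.dat i').DV hd), fun b x hx => ?_⟩
    cases b with
    | true => exact h.cross i' i hii.symm x (O2_le _ hx) d hd
    | false =>
      have h1 : cj s⁻¹ x ∈ L j := O2_le _ (mem_Dm.1 hx)
      have h2 : cj s⁻¹ d ∈ D j' := h.par_D' hp' hd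
      have h3 := h.cross j' j hjj.symm _ h1 _ h2
      have h4 := (cj_comm (g := s)).2 h3
      rwa [cj_cj_inv, cj_cj_inv] at h4
  have hbne : bh B X ≠ ⊥ := by
    intro hbot
    obtain ⟨d, hd, hd1⟩ := (h.dat i').exists_ne
    apply hd1
    have := hDB hd
    rw [hbot] at this
    simpa using this
  have hbh2 : IsPGroup 2 (bh B X) := hB2.to_le inf_le_left
  obtain ⟨R, hR2, hRN, hNR, hbR, hcR⟩ := hG _ hbne hbh2
  -- the blocks normalise `Bh`
  have hXbh : ∀ b, X b ≤ normalizer (bh B X : Set G) := by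
    intro b x hx
    apply mem_norm_of
    intro c hc
    have h1 := (mem_bh.1 hc).2 b x hx
    rw [h1, mul_assoc, mul_inv_cancel, mul_one]; exact hc
  have hBX : ∀ b, ∀ c ∈ B, ∀ x ∈ X b, cj c x ∈ X b := by
    intro b c hc x hx
    cases b with
    | true => exact O2_norm ((h.dat i).BL hc) hx
    | false => exact Dm_O2_norm h hc hx
  have hBbh : B ≤ normalizer (bh B X : Set G) := by
    intro b hb
    apply mem_norm_of
    intro c hc
    obtain ⟨h1, h2⟩ := mem_bh.1 hc
    refine mem_bh.2 ⟨mul_mem (mul_mem hb h1) (inv_mem hb), fun t x hx => ?_⟩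
    have h3 := h2 t _ (hBX t b⁻¹ (inv_mem hb) x hx)
    have h4 := (cj_comm (g := b)).2 h3
    rwa [cj_cj_inv] at h4
  -- the local structure
  have hJC' : ∀ R : Subgroup G, IsPGroup 2 R → B ≤ R → R ≤ normalizer (P : Set G) →
      R ≤ normalizer (B : Set G) := fun R h1 h2 h3 => (hJC R h1 h2 h3).1
  have hDs : ∀ d ∈ D i, cj s⁻¹ d ∈ D j := fun d hd => h.par_D' hp hd
  have data : Kill.Data B R Qf (fun _ => D i) X := by
    refine ⟨hB2, ?_, ?_, hBbh, hR2, hRN, hNR, hbR, hcR, ?_, ?_, ?_, htw⟩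
    · intro t
      cases t with
      | true => exact hBP
      | false => exact hBPs
    · intro t
      cases t with
      | true => exact (O2_le _).trans (hLP i)
      | false =>
        intro x hx
        exact norm_Dm' (hLP j (O2_le _ (mem_Dm.1 hx)))
    · -- loc
      intro t F hF2 hFN hXF hBF
      cases t with
      | true =>
        have hT : Two B P (L i) F := ⟨hF2, hFN, fun y hy r hr => norm_cj (hXF hy) hr,
          fun b hb r hr => norm_cj (hBF hb) hr⟩
        exact loc h hZ hB2 hJC' hT hp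
      | false =>
        have hT : Two B P (L j) (Dm F s⁻¹) := by
          refine ⟨hF2.map _, ?_, ?_, ?_⟩
          · intro x hx
            rw [mem_Dm, inv_inv] at hx
            have h1 := norm_Dm (g := s⁻¹) (hFN hx)
            rw [cj_inv_cj] at h1
            have e : Dm (Qf false) s⁻¹ = P := Dm_inv_Dm s P
            rwa [e] at h1
          · intro y hy r hr
            rw [mem_Dm, inv_inv] at hr ⊢
            have e : cj s (cj y r) = cj (cj s y) (cj s r) := by simp [cj, mul_assoc]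
            rw [e]
            exact norm_cj (hXF (show cj s y ∈ Dm (O2 (L j)) s from cj_mem_Dm hy)) hr
          · intro b hb r hr
            rw [mem_Dm, inv_inv] at hr ⊢
            have e : cj s (cj b r) = cj (cj s b) (cj s r) := by simp [cj, mul_assoc]
            rw [e]
            exact norm_cj (hBF (h.cjsB i hb)) hr
        rcases loc h.inv hZ hB2 hJC' hT (MIn.par_symm hp) with h1 | h1
        · left
          intro x hx f hf
          have h2 := h1 _ (mem_Dm.1 hx) (cj s⁻¹ f) (by rw [mem_Dm, inv_inv, cj_cj_inv]; exact hf)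
          have h3 := (cj_comm (g := s)).2 h2
          rwa [cj_cj_inv, cj_cj_inv] at h3
        · right
          intro d hd
          have h2 := h1 (hDs d hd)
          rwa [mem_Dm, inv_inv, cj_cj_inv] at h2
    · -- kick
      intro _ hDR
      have hT : Two B P (L i) (R ⊓ normalizer (P : Set G)) := by
        refine ⟨hR2.to_le inf_le_left, inf_le_right, ?_, ?_⟩
        · intro y hy r hr
          have hyP : y ∈ normalizer (P : Set G) := hLP i (O2_le _ hy)
          have h1 : cj y r ∈ normalizer (P : Set G) :=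
            mul_mem (mul_mem hyP (mem_inf.1 hr).2) (inv_mem hyP)
          exact mem_inf.2 ⟨norm_cj (hNR (hXbh true hy)) (mem_inf.1 hr).1, h1⟩
        · intro b hb r hr
          have h1 : cj b r ∈ normalizer (P : Set G) :=
            mul_mem (mul_mem (hBP hb) (mem_inf.1 hr).2) (inv_mem (hBP hb))
          exact mem_inf.2 ⟨norm_cj (hNR (hBbh hb)) (mem_inf.1 hr).1, h1⟩
      obtain ⟨y, hy, d, hd, hdZ⟩ := O2_moves h (i := j)
      apply hdZ
      have h1 : cj s (cj y d) ∈ R := by
        have e : cj s (cj y d) = cj (cj s y) (cj s d) := by simp [cj, mul_assoc]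
        rw [e]
        exact norm_cj (hNR (hXbh false (show cj s y ∈ Dm (O2 (L j)) s from cj_mem_Dm hy)))
          (hDR (h.par_D hp hd))
      have hyd : cj y d ∈ V j := (h.dat j).cjV (O2_le _ hy) ((h.dat j).DV hd)
      have h2 : cj s (cj y d) ∈ Dm (V j) s := cj_mem_Dm hyd
      have h3 : cj s (cj y d) ∈ B := V'_le_B h j h2
      have h4 : cj s (cj y d) ∈ Q i := R_cap h hZ hB2 hJC' hT ⟨h1, hBP h3⟩ h3
      have h5 := V'_cap h hp h2 fun v hv => (h.dat i).VcQ _ h4 v hv
      have h6 := (h.dat i).cjZ (A.inv_mem h.sA) h5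
      rwa [cj_inv_cj] at h6
    · -- grow
      intro P' hP' hBP' _ hPQ
      exact (hJC P' hP' hBP' (hPQ true)).2.1
  obtain ⟨x, hx, hodd, hx1⟩ := exists_odd h i
  exact data.false true (mem_O2 hx hodd) (pow_orderOf_eq_one x) hodd hx1

/-- **There are no two blocks** (`q = 2`). -/
theorem one_block_two [Finite G] [Finite ι] (hG : Kill.CharTwo G) (h : MIn A T B Z P s L Q V D)
    (hZ : ∀ x ∈ B, x * x = 1 → (∀ b ∈ B, x * b = b * x) → x ∈ Z)
    (hB2 : IsPGroup 2 B) (hself : centralizer (P : Set G) ≤ P) (hJC : JCond B Z P)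
    (h2 : ∀ i, Small Z (V i))
    (hsyl : ∀ R : Subgroup G, IsPGroup 2 R → R ≤ normalizer (P : Set G) →
      ∃ g ∈ normalizer (P : Set G), ∀ a ∈ R, g * a * g⁻¹ ∈ T)
    (hAA : ∀ E : Subgroup G, E ≤ T → (∀ x ∈ E, x * x = 1) → Nat.card P ≤ Nat.card E → E ≤ B)
    {i i' : ι} (hii : i ≠ i') : False := by
  obtain ⟨m, d, e, r, c⟩ := exists_ch h hB2 hself h2
  have hw := tw_of h i hZ h2 c
  have hPT : P ≤ T := (P_le_B h).trans (h.dat i).BT
  have hL := loc_of hw hPT hself hsyl hAA
  have hH := hom_of h i hZ h2 c hL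
  refine one_block_of_tw hG h hZ hB2 hJC hii (c.par i) ?_
  intro x hx hxc hxb
  have hmain : x ∈ normalizer (P : Set G) ∧ x ∈ normalizer ((Dm P s : Subgroup G) : Set G) := by
    refine Twist.tw hH hL (i := i) hx ?_ ?_
    · intro b hb h1 h3
      apply hxc
      rw [mem_bh]
      refine ⟨hb, fun t y hy => ?_⟩
      cases t with
      | true => exact (c.bd i).rB b hb h1 y hy
      | false =>
        have hy' : cj s⁻¹ y ∈ O2 (L (m i)) := mem_Dm.1 hy
        have hb' : cj s⁻¹ b ∈ B := h.cjsB' i hb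
        have h4 : cj s⁻¹ b * r (m i) = r (m i) * cj s⁻¹ b := by
          have h5 := (cj_comm (g := s⁻¹)).2 h3
          rw [ff, cj_inv_cj] at h5
          exact h5
        have h6 := (c.bd (m i)).rB _ hb' h4 _ hy'
        have h7 := (cj_comm (g := s)).2 h6
        rwa [cj_cj_inv, cj_cj_inv] at h7
    · intro b hb
      obtain ⟨-, h1⟩ := mem_bh.1 (hxb b hb)
      refine ⟨(h1 true (r i) (c.bd i).rO).symm, (h1 false (ff s r m i) ?_).symm⟩
      exact cj_mem_Dm (c.bd (m i)).rO
  intro t
  cases t with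
  | true => exact hmain.1
  | false => exact hmain.2

/-- `|V i : Z| = 2` in terms of the index -/
theorem small_iff [Finite G] (h : MIn A T B Z P s L Q V D) (i : ι) :
    Small Z (V i) ↔ Z.relIndex (V i) = 2 := by
  constructor
  · intro h2
    rw [idx_eq (h.dat i)]
    exact TwistBlk.index_two (h.dat i) h2
  · intro h2 v hv w hw hvZ hwZ
    have h3 := Subgroup.mul_mem_iff_of_index_two (H := Z.subgroupOf (V i)) h2 (a := ⟨v, hv⟩)
      (b := ⟨w, hw⟩)
    rw [mem_subgroupOf, mem_subgroupOf, mem_subgroupOf] at h3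
    exact h3.2 (iff_of_false hvZ hwZ)

/-- **There are no two blocks** (all `q`). -/
theorem one_block_all [Finite G] [Finite ι] (hG : Kill.CharTwo G) (h : MIn A T B Z P s L Q V D)
    (hZ : ∀ x ∈ B, x * x = 1 → (∀ b ∈ B, x * b = b * x) → x ∈ Z)
    (hB2 : IsPGroup 2 B) (hself : centralizer (P : Set G) ≤ P) (hJC : JCond B Z P)
    (hsyl : ∀ R : Subgroup G, IsPGroup 2 R → R ≤ normalizer (P : Set G) →
      ∃ g ∈ normalizer (P : Set G), ∀ a ∈ R, g * a * g⁻¹ ∈ T)
    (hAA : ∀ E : Subgroup G, E ≤ T → (∀ x ∈ E, x * x = 1) → Nat.card P ≤ Nat.card E → E ≤ B)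
    {i i' : ι} (hii : i ≠ i') : False := by
  by_cases h2 : Small Z (V i)
  · refine one_block_two hG h hZ hB2 hself hJC (fun k => ?_) hsyl hAA hii
    rw [small_iff h, ← idx_ij h i k]
    exact (small_iff h i).1 h2
  · refine one_block hG h hZ hB2 hself hJC (fun k => ?_) hii
    have h3 : ¬ Small Z (V k) := by
      intro h4
      apply h2
      rw [small_iff h, idx_ij h i k]
      exact (small_iff h k).1 h4
    unfold TwistBlk.Small at h3
    push Not at h3
    obtain ⟨v, hv, w, hw, hvZ, hwZ, hvw⟩ := h3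
    exact ⟨v, hv, w, hw, hvZ, hwZ, hvw⟩

end Cfsg.Agent.Omega.SQ1.KillTwo
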