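import Cfsg.Agent.Omega.SQ1.TwoOf
import Cfsg.Agent.TwoFusion.SectionalRank
import Cfsg.Agent.S0112
import Cfsg.Agent.S0113

/-!
# The unique maximal 2-local case, one block, `q = 2`: sectional 2-rank at most 4 (SQ1, L9)

`Push.rank`: a simple group of characteristic 2 type with a configuration `Push T B Q Y s` such that `N_G(Q)` does
not normalise `B` has sectional 2-rank at most 4.
-/

set_option autoImplicit false

namespace Cfsg.Agent.Omega.SQ1.Two

open Subgroup Cfsg Cfsg.Agent.ZN Cfsg.Agent.ZN.ChoiceBase Cfsg.Agent.ZN.ChoiceSit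

universe u

variable {G : Type u} [Group G] {T Q : Subgroup G} {s a b z z₁ x : G} {R : Subgroup G}

/-- A finite group whose Sylow 2-subgroup `S` contains a subgroup `Q` of order 4 with `C_S(Q) = Q` has sectional
2-rank at most 4. -/
theorem rank_of_four [Finite G] (S : Sylow 2 G) (hQS : Q ≤ S) (hcard : Nat.card Q = 4)
    (hcomm : ∀ x ∈ Q, ∀ y ∈ Q, x * y = y * x)
    (hc : ∀ y ∈ S, (∀ q ∈ Q, y * q = q * y) → y ∈ Q) : SectionalPRankLE 2 4 G := by
  have : Fact (Nat.Prime 2) := ⟨Nat.prime_two⟩
  apply TwoFusion.SectionalRank.sectionalPRankLE_of_sylow S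
  obtain ⟨n, hn⟩ := IsPGroup.iff_card.mp S.isPGroup'
  by_cases hn4 : n ≤ 4
  · refine TwoFusion.SectionalRank.sectionalPRankLE_of_card_le ?_
    rw [hn]
    exact Nat.pow_le_pow_right (by norm_num) hn4
  obtain ⟨A, hA⟩ : ∃ A : Subgroup S, A = Q.subgroupOf S := ⟨_, rfl⟩
  have hA4 : Nat.card A = 2 ^ 2 := by
    rw [hA, Nat.card_congr (subgroupOfEquivOfLe hQS).toEquiv, hcard]; norm_num
  have hCA : centralizer (A : Set S) = A := by
    apply le_antisymm
    · rintro ⟨y, hy⟩ hyc
      rw [hA, mem_subgroupOf]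
      refine hc y hy fun q hq => ?_
      have h1 := mem_centralizer_iff.1 hyc ⟨q, hQS hq⟩ (by
        rw [hA]; exact mem_subgroupOf.2 hq)
      exact (congrArg Subtype.val h1).symm
    · rintro ⟨y, hy⟩ hyA
      rw [hA, mem_subgroupOf] at hyA
      rw [mem_centralizer_iff]
      rintro ⟨q, hq⟩ hqA
      rw [hA, SetLike.mem_coe, mem_subgroupOf] at hqA
      exact Subtype.ext (hcomm q hqA y hyA)
  have hclass := Cfsg.Agent.S0112.result (p := 2) n hn A hA4 hCA
  obtain ⟨C, hC, hCidx⟩ := Cfsg.Agent.S0113.result n (by omega) hn hclass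
  have h1 := TwoFusion.SectionalRank.sectionalPRankLE_of_cyclic (p := 2) (k := 3) (by norm_num) C
    (by rw [hCidx]; norm_num)
  exact h1

namespace Blk

variable [Finite G]

theorem card_Q (h : Blk T Q s a b z z₁ x R) (hR : R = ⊥) : Nat.card Q = 4 := by
  have hQ : ∀ q ∈ Q, q = 1 ∨ q = z ∨ q = z₁ ∨ q = z₁ * z := by
    intro q hq
    have hi : ∀ v ∈ Q, q * v = 1 → q = v := by
      intro v hv h1
      calc q = (q * v) * v := by rw [mul_assoc, h.sq v hv, mul_one]
        _ = v := by rw [h1, one_mul]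
    rcases h.dec q hq with h1 | h1 | h1 | h1
    · left; rwa [hR, mem_bot] at h1
    · right; left
      rw [hR, mem_bot] at h1
      exact hi z h.zQ h1
    · right; right; left
      rw [hR, mem_bot] at h1
      exact hi z₁ h.z1Q h1
    · right; right; right
      rw [hR, mem_bot] at h1
      exact hi _ (mul_mem h.z1Q h.zQ) h1
  have hz1ne : z₁ ≠ 1 := fun h1 => h.z1D (h1 ▸ one_mem _)
  have hzz1ne : z₁ * z ≠ 1 := by
    intro h1
    apply h.z1_ne
    calc z₁ = z₁ * z * z := by rw [mul_assoc, h.zz, mul_one]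
      _ = z := by rw [h1, one_mul]
  have hcard : Nat.card Q = 4 := by
    classical
    have hset : (Q : Set G) = (({1, z, z₁, z₁ * z} : Finset G) : Set G) := by
      ext q
      simp only [SetLike.mem_coe, Finset.coe_insert, Finset.coe_singleton, Set.mem_insert_iff,
        Set.mem_singleton_iff]
      constructor
      · exact hQ q
      · rintro (rfl | rfl | rfl | rfl)
        · exact one_mem _
        · exact h.zQ
        · exact h.z1Q
        · exact mul_mem h.z1Q h.zQ
    have h1 : Nat.card Q = Nat.card ((Q : Set G)) := rfl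
    rw [h1, hset, Nat.card_eq_card_finite_toFinset (Finset.finite_toSet _),
      Finset.finite_toSet_toFinset]
    have hz1' := h.z1
    have n1 : z ≠ z₁ * z := by
      intro h1
      apply hz1ne
      exact (mul_right_cancel (show 1 * z = z₁ * z by rw [one_mul]; exact h1)).symm
    have n2 : z₁ ≠ z₁ * z := by
      intro h1
      apply h.z1
      exact (mul_left_cancel (show z₁ * 1 = z₁ * z by rw [mul_one]; exact h1)).symm
    rw [Finset.card_insert_of_notMem, Finset.card_insert_of_notMem, Finset.card_insert_of_notMem,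
      Finset.card_singleton]
    · simp only [Finset.mem_singleton]
      exact n2
    · simp only [Finset.mem_insert, Finset.mem_singleton, not_or]
      exact ⟨h.z1_ne.symm, n1⟩
    · simp only [Finset.mem_insert, Finset.mem_singleton, not_or]
      exact ⟨hz1'.symm, hz1ne.symm, hzz1ne.symm⟩
  exact hcard

/-- The case `R = 1`. -/
theorem rank_of_bot (h : Blk T Q s a b z z₁ x R) (S : Sylow 2 G) (hTS : T ≤ S) (hR : R = ⊥) :
    SectionalPRankLE 2 4 G := by
  refine rank_of_four S (h.QT.trans hTS) (h.card_Q hR) (fun x hx y hy => h.comm hx hy) ?_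
  intro y hyS hyc
  have hyN : y ∈ normalizer (Q : Set G) :=
    centralizer_le_normalizer _ (mem_centralizer_iff.2 fun q hq => (hyc q hq).symm)
  have h1 := h.syl.2.2 (T ⊔ zpowers y) (sup_le h.TN (zpowers_le.2 hyN))
    (S.isPGroup'.to_le (sup_le hTS (zpowers_le.2 hyS))) le_sup_left
  have hyT : y ∈ T := by
    rw [← h1]
    exact (le_sup_right : zpowers y ≤ T ⊔ zpowers y) (mem_zpowers y)
  exact h.cent y hyT fun q hq => hyc q hq

end Blk

/-- **SQ1, one block, `q = 2`.** -/
theorem main_rank [Finite G] (hc : IsCharacteristicTwoType G) (S : Sylow 2 G) (h : Hyp T Q s) (hTS : T ≤ S)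
    (hsS : s ∈ S) (hmove : ¬ normalizer (Q : Set G) ≤ normalizer ((Q ⊔ cj s Q : Subgroup G) : Set G)) :
    SectionalPRankLE 2 4 G ∨ ∃ N : Subgroup G, N.Normal ∧ N.index = 2 := by
  obtain ⟨a, b, z, hf⟩ := h.exists_frame
  obtain ⟨g, hg, hgB⟩ := SetLike.not_le_iff_exists.1 hmove
  rw [mem_normalizer_iff_cj] at hgB
  obtain ⟨z₁, x, R, hB⟩ := hf.exists_blk hc hg hgB
  by_cases hR : R = ⊥
  · exact Or.inl (hB.rank_of_bot S hTS hR)
  · obtain ⟨⟨c, hcR⟩, hc1⟩ := (Subgroup.ne_bot_iff_exists_ne_one).1 hR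
    exact Or.inr (hB.exists_index_two hc S hTS hsS hcR fun h1 => hc1 (Subtype.ext h1))

/-- A simple group with a normal subgroup of index 2 has order 2. -/
theorem rank_of_index_two [Finite G] [IsSimpleGroup G] (h : ∃ N : Subgroup G, N.Normal ∧ N.index = 2) :
    SectionalPRankLE 2 4 G := by
  obtain ⟨N, hN, h2⟩ := h
  rcases hN.eq_bot_or_eq_top with h1 | h1
  · rw [h1, index_bot] at h2
    exact TwoFusion.SectionalRank.sectionalPRankLE_of_card_le (by rw [h2]; norm_num)
  · rw [h1, index_top] at h2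
    omega

/-- **SQ1, L9** (one block, `q = 2`): a simple group of characteristic 2 type with a pushing up configuration
(one block, `q = 2`) has sectional 2-rank at most 4. -/
theorem Push.rank {B Y : Subgroup G} [Finite G] [IsSimpleGroup G] (hc : IsCharacteristicTwoType G) (S : Sylow 2 G)
    (h : Push T B Q Y s) (hTS : T ≤ S) (hsS : s ∈ S)
    (hmove : ¬ normalizer (Q : Set G) ≤ normalizer (B : Set G)) : SectionalPRankLE 2 4 G := by
  rcases main_rank hc S h.hyp hTS hsS (by rwa [← h.B_eq]) with h1 | h1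
  · exact h1
  · exact rank_of_index_two h1

end Cfsg.Agent.Omega.SQ1.Two
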