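import Cfsg.Agent.Omega.SQ1.KillEnd
import Cfsg.Agent.Omega.SQ1.KillTwo
import Cfsg.Agent.Omega.SQ1.TwoRank

/-!
# SQ1, one block, `q = 2`: from the matching to the end

* `push_of`: in the configuration `Config M T Y s` the matching data `MIn` with one block and
  `|V : Z| = 2` give `Two.Push`; hence (`rank_of`) sectional 2-rank at most 4 (helper666).
* `one_block_config_all`: in the configuration `Config M T Y s` there is at most one block, all `q`
  (helper437, helper799).
-/

set_option autoImplicit false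

namespace Cfsg.Agent.Omega.SQ1.GlueTwo

open Subgroup Cfsg Cfsg.Agent.ZN Cfsg.Agent.ZN.ChoiceBase Cfsg.Agent.ZN.ChoiceSit
open Cfsg.Agent.Omega.SQ1.Choice (Config)
open Cfsg.Agent.Omega.SQ1.Match
open Cfsg.Agent.Omega.SQ1

universe u v

variable {G : Type u} [Group G] {ι : Type v}
variable {M A T Y P : Subgroup G} {s : G} {L Q V D : ι → Subgroup G}

theorem P_ne_bot [Finite G] (h : MIn A T (bau T) (zj T) P s L Q V D) (i : ι) : P ≠ ⊥ := by
  intro h0
  obtain ⟨d, hd, hd1⟩ := (h.dat i).exists_ne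
  apply hd1
  have h1 := h.VP ((h.dat i).DV hd)
  rw [h0] at h1
  simpa using h1

/-- `N_G(P)` does not normalise `B`. -/
theorem not_norm [Finite G] (c : Config M T Y s) (h : MIn A T (bau T) (zj T) P s L Q V D) (i : ι)
    (hYP : Y ≤ normalizer (P : Set G)) :
    ¬ normalizer (P : Set G) ≤ normalizer (bau T : Set G) := by
  intro h1
  have hP0 := P_ne_bot h i
  have hB0 : bau T ≠ ⊥ := by
    intro h0
    apply hP0
    rw [eq_bot_iff]
    intro x hx
    have := ((h.Pmem x).1 hx).1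
    rwa [h0] at this
  exact c.not_le_normalizer (c.two.to_le (bau_le T)) hB0 (normalizer_le_bau T) (hYP.trans h1)

/-- **One block, `q = 2`**: the pushing up situation. -/
theorem push_of [Finite G] (c : Config M T Y s) (h : MIn A T (bau T) (zj T) P s L Q V D)
    (i : ι) (hi : ∀ j, j = i) (hYP : Y ≤ normalizer (P : Set G))
    (h2 : (zj T).relIndex (V i) = 2) : Two.Push T (bau T) P (V i) s := by
  have hP2 : IsPGroup 2 P := c.two.to_le h.P_le_T
  have hP0 := P_ne_bot h i
  have hPQ : P = Q i := by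
    apply le_antisymm
    · exact fun x hx => ((h.Pmem x).1 hx).2 i
    · exact fun x hx => (h.Pmem x).2 ⟨(h.dat i).QB hx, fun j => by rw [hi j]; exact hx⟩
  refine ⟨JC.syl_P c hP2 hP0 hYP, fun x hx => ((h.Pmem x).1 hx).1, bau_le T, fun v hv => h.VP hv,
    (h.dat i).Vsq, fun y hy q hq => (h.PV hq hy).symm, ?_, c.sN, normalizer_le_bau T c.sN, c.sq,
    jj_le_bau T, ?_, ?_, ?_⟩
  · intro t ht hc
    have htB : t ∈ bau T := mem_bau.2 ⟨ht, fun z hz => (hc z ((h.dat i).ZV hz)).symm⟩
    rw [hPQ]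
    exact (h.dat i).QcV t htB hc
  · rw [hPQ, ← Block.idx_eq (h.dat i)]
    exact h2
  · obtain ⟨j, v, hv, u, hu, hne⟩ := h.par_exists i
    rw [hi j] at hu
    exact ⟨v, hv, u, hu, hne⟩
  · intro R hR hn hs
    exact c.eq_bot (hP2.to_le hR) (hYP.trans hn) hs

/-- **One block, `q = 2`**: sectional 2-rank at most 4. -/
theorem rank_of [Finite G] [IsSimpleGroup G] (hG : IsCharacteristicTwoType G) (c : Config M T Y s)
    (h : MIn A T (bau T) (zj T) P s L Q V D) (i : ι) (hi : ∀ j, j = i)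
    (hYP : Y ≤ normalizer (P : Set G)) (h2 : (zj T).relIndex (V i) = 2) :
    SectionalPRankLE 2 4 G := by
  obtain ⟨S, -, hTS, hsS⟩ := c.exists_sylow
  exact (push_of c h i hi hYP h2).rank hG S hTS hsS (not_norm c h i hYP)

/-- Every 2-subgroup of `N` has a conjugate in the Sylow subgroup `T`. -/
theorem syl_conj_of [Finite G] {N : Subgroup G} (hT : Syl T N) {R : Subgroup G} (hR : IsPGroup 2 R)
    (hRN : R ≤ N) : ∃ g ∈ N, ∀ a ∈ R, g * a * g⁻¹ ∈ T := by
  obtain ⟨U, hU, hRU⟩ := exists_syl hR hRN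
  obtain ⟨g, hgN, hg⟩ := syl_conj hU hT
  refine ⟨g, hgN, fun a ha => ?_⟩
  rw [← hg]
  exact ⟨a, hRU ha, rfl⟩

/-- Elementary abelian subgroups of `T` of order at least `|P|` lie in `bau T`. -/
theorem AA_of [Finite G] [Finite ι] (h : MIn A T (bau T) (zj T) P s L Q V D) (i : ι)
    (hP : P ∈ AA T) {F : Subgroup G} (hF : F ≤ T) (hsq : ∀ x ∈ F, x * x = 1)
    (hc : Nat.card P ≤ Nat.card F) : F ≤ bau T := by
  apply h.AA_le i hP
  rw [mem_AA_iff]
  refine ⟨Two.Push.isEA hsq, hF, ?_⟩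
  rw [mm_eq hP]
  exact hc

/-- **At most one block** in the configuration of the unique maximal 2-local case, all `q`. -/
theorem one_block_config_all [Finite G] [Finite ι] (hG : IsCharacteristicTwoType G)
    (c : Config M T Y s) (h : MIn A T (bau T) (zj T) P s L Q V D)
    (hYP : Y ≤ normalizer (P : Set G)) {E : Subgroup G} (hE : E ∈ AA T) (hEP : E ≤ P) :
    Subsingleton ι := by
  constructor
  intro i i'
  by_contra hii
  have hP2 : IsPGroup 2 P := c.two.to_le h.P_le_T
  have hP0 := P_ne_bot h i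
  have hPA : P ∈ AA T := h.P_AA i hE hEP
  have hS := JC.syl_P c hP2 hP0 hYP
  exact KillTwo.one_block_all (JC.charTwo hG) h hZ_bau (c.two.to_le (bau_le T))
    (JC.hself hG c h i hP0 hYP) (Block.jcond_of hS (h.J_eq i hPA))
    (fun R hR hRN => syl_conj_of hS hR hRN)
    (fun F hF hsq hc => AA_of h i hPA hF hsq hc) hii

end Cfsg.Agent.Omega.SQ1.GlueTwo
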