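import Cfsg.Agent.Omega.SQ1.LocTwo
import Cfsg.Agent.Omega.SQ1.NoTwist
import Cfsg.Agent.Omega.SQ1.KillPlug

/-!
# SQ1: there is only one block if `q ≥ 4`

`MIn` (blocks and matching, any number of blocks) in a group of characteristic 2 type; if there are
two different blocks, the killing lemma `Kill.Data.false` gives a contradiction.
No tori, no structure of `SL₂(q)`.  (bb OMEGA #12483.)
-/

set_option autoImplicit false

namespace Cfsg.Agent.Omega.SQ1.Block

open Cfsg.Agent.MinSimple.PushUp Cfsg.Agent.Omega.PushUp Cfsg.Agent.Omega.SQ1.Match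
open Cfsg.Agent.Omega.SQ1.BlockO Subgroup
open Cfsg.Agent.Omega.SQ1.Kill (bh mem_bh)
open scoped Pointwise

variable {G : Type*} [Group G] {ι : Type*}
variable {A T B Z P : Subgroup G} {s : G} {L Q V D : ι → Subgroup G}

theorem Dm_inv_Dm (g : G) (H : Subgroup G) : Dm (Dm H g) g⁻¹ = H := by
  ext x
  rw [mem_Dm, mem_Dm, inv_inv, cj_inv_cj]

theorem norm_Dm {H : Subgroup G} {x g : G} (h : x ∈ normalizer (H : Set G)) :
    cj g x ∈ normalizer ((Dm H g : Subgroup G) : Set G) := by
  rw [mem_normalizer_iff] at h ⊢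
  intro y
  rw [mem_Dm, mem_Dm, h (cj g⁻¹ y)]
  have e : cj g⁻¹ (cj g x * y * (cj g x)⁻¹) = x * cj g⁻¹ y * x⁻¹ := by simp [cj, mul_assoc]
  rw [e]

theorem norm_Dm' {H : Subgroup G} {x g : G} (h : cj g⁻¹ x ∈ normalizer (H : Set G)) :
    x ∈ normalizer ((Dm H g : Subgroup G) : Set G) := by
  have := norm_Dm (g := g) h
  rwa [cj_cj_inv] at this

/-- the hypotheses on 2-groups normalising `P` -/
def JCond (B Z P : Subgroup G) : Prop :=
  ∀ R : Subgroup G, IsPGroup 2 R → B ≤ R → R ≤ normalizer (P : Set G) →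
    R ≤ normalizer (B : Set G) ∧ normalizer (R : Set G) ≤ normalizer (B : Set G) ∧
      ∀ r ∈ R, (∀ z ∈ Z, r * z = z * r) → r ∈ B

section

variable (h : MIn A T B Z P s L Q V D)
  (hZ : ∀ x ∈ B, x * x = 1 → (∀ b ∈ B, x * b = b * x) → x ∈ Z)
  (hB2 : IsPGroup 2 B) (hself : centralizer (P : Set G) ≤ P) (hJC : JCond B Z P)
  (hbig : ∀ i, ∃ v ∈ V i, ∃ w ∈ V i, v ∉ Z ∧ w ∉ Z ∧ v * w ∉ Z)

include h

theorem P_le_B : P ≤ B := fun x hx => ((h.Pmem x).1 hx).1

include hZ hbig

theorem noTwist [Finite G] [Finite ι] (i₀ : ι) :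
    NoTwist.In B Z P V D (fun i => centralizer (L i : Set G)) where
  QB := P_le_B h
  Qsq := fun v hv => h.Psq i₀ hv
  Qab := fun v hv w hw => h.Pcomm i₀ hv hw
  BnQ := fun b hb v hv => h.LP i₀ b ((h.dat i₀).BL hb) v hv
  ZV := fun i => (h.dat i).ZV
  VQ := fun i v hv => h.VP hv
  Qgen := (h.P_eq i₀ hZ).le
  QcV := fun b hb hc => (h.Pmem b).2 ⟨hb, fun i => (h.dat i).QcV b hb (hc i)⟩
  DZ := fun i => (h.dat i).DZ
  BcZ := (h.dat i₀).BcZ
  nc := by
    intro i v hv hvZ b hb hc w hw
    by_cases hbQ : b ∈ Q i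
    · exact (h.dat i).VcQ b hbQ w hw
    · exact absurd hc.symm ((h.dat i).ncomm v hv hvZ b hb hbQ)
  star := by
    intro i v hv hvZ b hb hc w hw
    refine (h.dat i).VcQ b (star (h.dat i) hv hvZ hb fun y hy => ?_) w hw
    exact mem_centralizer_iff.1 hc y hy
  comm := fun i v hv b hb => (h.dat i).comm v hv b hb
  DF := by
    intro i j hij d hd
    rw [mem_centralizer_iff]
    intro l hl
    exact h.cross j i (Ne.symm hij) l hl d hd
  big := hbig

include hB2 hself hJC

theorem sw_of [Finite G] [Finite ι] (i₀ : ι) {x : G} (hx : x ∈ normalizer (B : Set G))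
    (hc : ∀ b ∈ B, x * (x * b * x⁻¹ * b⁻¹) = (x * b * x⁻¹ * b⁻¹) * x) :
    x ∈ normalizer (P : Set G) := by
  have hPB := P_le_B h
  refine NoTwist.sw (noTwist h hZ hbig i₀) (fun b hb => norm_cj hx hb)
    (fun z hz => normB_Z i₀ h hZ hx hz) (fun v hv => hc v (hPB hv)) ?_
  intro hP hcZ
  -- `x` is a 2-element
  obtain ⟨n, hn⟩ := IsPGroup.iff_card.1 hB2
  have hBn : ∀ b ∈ B, b ^ 2 ^ n = 1 := by
    intro b hb
    have := pow_card_eq_one' (G := B) (x := ⟨b, hb⟩)
    rw [hn] at this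
    simpa using congrArg Subtype.val this
  have hxB : x ^ 2 ^ n ∈ B := by
    apply hPB
    apply hself
    rw [mem_centralizer_iff]
    intro b hb
    have hbB : b ∈ B := hPB hb
    set c := x * b * x⁻¹ * b⁻¹ with hcd
    have hxc : Commute x c := hc b hbB
    have hcB : c ∈ B := mul_mem (norm_cj hx hbB) (inv_mem hbB)
    have key : ∀ k : ℕ, x ^ k * b * (x ^ k)⁻¹ = c ^ k * b := by
      intro k
      induction k with
      | zero => simp
      | succ k ih =>
        have e : x ^ (k + 1) * b * (x ^ (k + 1))⁻¹ = x * (x ^ k * b * (x ^ k)⁻¹) * x⁻¹ := by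
          rw [pow_succ']; group
        have e2 : x * b * x⁻¹ = c * b := by rw [hcd]; group
        rw [e, ih]
        calc x * (c ^ k * b) * x⁻¹ = (x * c ^ k) * b * x⁻¹ := by group
          _ = c ^ k * (x * b * x⁻¹) := by rw [(hxc.pow_right k).eq]; group
          _ = c ^ (k + 1) * b := by rw [e2, pow_succ]; group
    have h1 := key (2 ^ n)
    rw [hBn c hcB, one_mul] at h1
    exact ((mul_inv_eq_iff_eq_mul).1 h1).symm
  have hx2 : IsPGroup 2 (zpowers (x * x)) := by
    have hord : orderOf (x * x) ∣ 2 ^ (n + n) := by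
      apply orderOf_dvd_of_pow_eq_one
      have h0 : x ^ 2 ^ (n + n) = 1 := by
        rw [pow_add, pow_mul]; exact hBn _ hxB
      rw [← pow_two, ← pow_mul, mul_comm, pow_mul, h0, one_pow]
    obtain ⟨k, -, hk⟩ := (Nat.dvd_prime_pow Nat.prime_two).1 hord
    apply IsPGroup.of_card (n := k)
    rw [Nat.card_zpowers, hk]
  have hN : zpowers (x * x) ≤ normalizer (B : Set G) := by
    rw [zpowers_le]; exact mul_mem hx hx
  have h2 : IsPGroup 2 (zpowers (x * x) ⊔ B : Subgroup G) :=
    IsPGroup.to_sup_of_normal_right' hx2 hB2 hN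
  have h3 : (zpowers (x * x) ⊔ B : Subgroup G) ≤ normalizer (P : Set G) := by
    refine sup_le ?_ ?_
    · rw [zpowers_le]
      exact mem_norm_of fun y hy => hP y hy
    · intro b hb
      exact mem_norm_of fun y hy => h.LP i₀ b ((h.dat i₀).BL hb) y hy
  exact (hJC _ h2 le_sup_right h3).2.2 _ (mem_sup_left (mem_zpowers _)) hcZ

end

/-- `O²(L_j)^s` -/
theorem Dm_O2_norm (h : MIn A T B Z P s L Q V D) {j : ι} {b x : G} (hb : b ∈ B)
    (hx : x ∈ Dm (O2 (L j)) s) : cj b x ∈ Dm (O2 (L j)) s := by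
  rw [mem_Dm] at hx ⊢
  have e : cj s⁻¹ (cj b x) = cj (cj s⁻¹ b) (cj s⁻¹ x) := by simp [cj, mul_assoc]
  rw [e]
  exact O2_norm ((h.dat j).BL (h.cjsB' j hb)) hx

/-- some nontrivial element of `L` has odd order -/
theorem exists_odd [Finite G] (h : MIn A T B Z P s L Q V D) (i : ι) :
    ∃ x ∈ L i, Odd (orderOf x) ∧ x ≠ 1 := by
  by_contra hcon
  push Not at hcon
  obtain ⟨y, hy, d, hd, hdZ⟩ := O2_moves h (i := i)
  have hle : O2 (L i) ≤ ⊥ := by
    rw [O2, closure_le]
    rintro x ⟨hx, ho⟩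
    simp only [SetLike.mem_coe, mem_bot]
    exact hcon x hx ho
  have hy1 : y = 1 := by simpa using hle hy
  apply hdZ
  rw [hy1, cj_one]
  exact (h.dat i).DZ hd

/-- **There are no two blocks** (`q ≥ 4`). -/
theorem one_block [Finite G] [Finite ι] (hG : Kill.CharTwo G) (h : MIn A T B Z P s L Q V D)
    (hZ : ∀ x ∈ B, x * x = 1 → (∀ b ∈ B, x * b = b * x) → x ∈ Z)
    (hB2 : IsPGroup 2 B) (hself : centralizer (P : Set G) ≤ P) (hJC : JCond B Z P)
    (hbig : ∀ i, ∃ v ∈ V i, ∃ w ∈ V i, v ∉ Z ∧ w ∉ Z ∧ v * w ∉ Z)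
    {i i' : ι} (hii : i ≠ i') : False := by
  obtain ⟨j, hp⟩ := h.par_exists i
  obtain ⟨j', hp'⟩ := h.par_exists i'
  have hjj : j ≠ j' := fun hj => hii (h.par_inj hp (hj ▸ hp'))
  have hPB := P_le_B h
  set X : Bool → Subgroup G := fun b => if b then O2 (L i) else Dm (O2 (L j)) s with hXdef
  set Qf : Bool → Subgroup G := fun b => if b then P else Dm P s with hQdef
  have hXt : X true = O2 (L i) := rfl
  have hXf : X false = Dm (O2 (L j)) s := rfl
  have hQt : Qf true = P := rfl
  have hQf : Qf false = Dm P s := rfl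
  have hBP : B ≤ normalizer (P : Set G) := fun b hb =>
    mem_norm_of fun y hy => h.LP i b ((h.dat i).BL hb) y hy
  have hLP : ∀ k, L k ≤ normalizer (P : Set G) := fun k l hl =>
    mem_norm_of fun y hy => h.LP k l hl y hy
  have hBPs : B ≤ normalizer ((Dm P s : Subgroup G) : Set G) := fun b hb =>
    norm_Dm' (hBP (h.cjsB' i hb))
  -- `D i' ≤ Bh`
  have hDB : D i' ≤ bh B X := by
    intro d hd
    rw [mem_bh]
    refine ⟨(h.dat i').VB ((h.dat i').DV hd), fun b x hx => ?_⟩
    cases b with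
    | true => exact h.cross i' i hii.symm x (O2_le _ hx) d hd
    | false =>
      have h1 : cj s⁻¹ x ∈ L j := O2_le _ (mem_Dm.1 hx)
      have h2 : cj s⁻¹ d ∈ D j' := h.par_D' hp' hd
      have h3 := h.cross j' j hjj.symm _ h1 _ h2
      have h4 := (cj_comm (g := s)).2 h3
      rwa [cj_cj_inv, cj_cj_inv] at h4
  have hbne : bh B X ≠ ⊥ := by
    intro hbot
    obtain ⟨d, hd, hd1⟩ := (h.dat i').exists_ne
    apply hd1
    have := hDB hd
    rw [hbot] at this
    simpa using this
  have hbh2 : IsPGroup 2 (bh B X) := hB2.to_le inf_le_left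
  obtain ⟨R, hR2, hRN, hNR, hbR, hcR⟩ := hG _ hbne hbh2
  -- the blocks normalise `Bh`
  have hXbh : ∀ b, X b ≤ normalizer (bh B X : Set G) := by
    intro b x hx
    apply mem_norm_of
    intro c hc
    have h1 := (mem_bh.1 hc).2 b x hx
    rw [h1, mul_assoc, mul_inv_cancel, mul_one]; exact hc
  have hBX : ∀ b, ∀ c ∈ B, ∀ x ∈ X b, cj c x ∈ X b := by
    intro b c hc x hx
    cases b with
    | true => exact O2_norm ((h.dat i).BL hc) hx
    | false => exact Dm_O2_norm h hc hx
  have hBbh : B ≤ normalizer (bh B X : Set G) := by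
    intro b hb
    apply mem_norm_of
    intro c hc
    obtain ⟨h1, h2⟩ := mem_bh.1 hc
    refine mem_bh.2 ⟨mul_mem (mul_mem hb h1) (inv_mem hb), fun t x hx => ?_⟩
    have h3 := h2 t _ (hBX t b⁻¹ (inv_mem hb) x hx)
    have h4 := (cj_comm (g := b)).2 h3
    rwa [cj_cj_inv] at h4
  -- the local structure
  have hJC' : ∀ R : Subgroup G, IsPGroup 2 R → B ≤ R → R ≤ normalizer (P : Set G) →
      R ≤ normalizer (B : Set G) := fun R h1 h2 h3 => (hJC R h1 h2 h3).1
  have hDs : ∀ d ∈ D i, cj s⁻¹ d ∈ D j := fun d hd => h.par_D' hp hd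
  have data : Kill.Data B R Qf (fun _ => D i) X := by
    refine ⟨hB2, ?_, ?_, hBbh, hR2, hRN, hNR, hbR, hcR, ?_, ?_, ?_, ?_⟩
    · intro t
      cases t with
      | true => exact hBP
      | false => exact hBPs
    · intro t
      cases t with
      | true => exact (O2_le _).trans (hLP i)
      | false =>
        intro x hx
        exact norm_Dm' (hLP j (O2_le _ (mem_Dm.1 hx)))
    · -- loc
      intro t F hF2 hFN hXF hBF
      cases t with
      | true =>
        have hT : Two B P (L i) F := ⟨hF2, hFN, fun y hy r hr => norm_cj (hXF hy) hr,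
          fun b hb r hr => norm_cj (hBF hb) hr⟩
        exact loc h hZ hB2 hJC' hT hp
      | false =>
        have hT : Two B P (L j) (Dm F s⁻¹) := by
          refine ⟨hF2.map _, ?_, ?_, ?_⟩
          · intro x hx
            rw [mem_Dm, inv_inv] at hx
            have h1 := norm_Dm (g := s⁻¹) (hFN hx)
            rw [cj_inv_cj] at h1
            have e : Dm (Qf false) s⁻¹ = P := Dm_inv_Dm s P
            rwa [e] at h1
          · intro y hy r hr
            rw [mem_Dm, inv_inv] at hr ⊢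
            have e : cj s (cj y r) = cj (cj s y) (cj s r) := by simp [cj, mul_assoc]
            rw [e]
            exact norm_cj (hXF (show cj s y ∈ Dm (O2 (L j)) s from cj_mem_Dm hy)) hr
          · intro b hb r hr
            rw [mem_Dm, inv_inv] at hr ⊢
            have e : cj s (cj b r) = cj (cj s b) (cj s r) := by simp [cj, mul_assoc]
            rw [e]
            exact norm_cj (hBF (h.cjsB i hb)) hr
        rcases loc h.inv hZ hB2 hJC' hT (MIn.par_symm hp) with h1 | h1
        · left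
          intro x hx f hf
          have h2 := h1 _ (mem_Dm.1 hx) (cj s⁻¹ f) (by rw [mem_Dm, inv_inv, cj_cj_inv]; exact hf)
          have h3 := (cj_comm (g := s)).2 h2
          rwa [cj_cj_inv, cj_cj_inv] at h3
        · right
          intro d hd
          have h2 := h1 (hDs d hd)
          rwa [mem_Dm, inv_inv, cj_cj_inv] at h2
    · -- kick
      intro _ hDR
      have hT : Two B P (L i) (R ⊓ normalizer (P : Set G)) := by
        refine ⟨hR2.to_le inf_le_left, inf_le_right, ?_, ?_⟩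
        · intro y hy r hr
          have hyP : y ∈ normalizer (P : Set G) := hLP i (O2_le _ hy)
          have h1 : cj y r ∈ normalizer (P : Set G) :=
            mul_mem (mul_mem hyP (mem_inf.1 hr).2) (inv_mem hyP)
          exact mem_inf.2 ⟨norm_cj (hNR (hXbh true hy)) (mem_inf.1 hr).1, h1⟩
        · intro b hb r hr
          have h1 : cj b r ∈ normalizer (P : Set G) :=
            mul_mem (mul_mem (hBP hb) (mem_inf.1 hr).2) (inv_mem (hBP hb))
          exact mem_inf.2 ⟨norm_cj (hNR (hBbh hb)) (mem_inf.1 hr).1, h1⟩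
      obtain ⟨y, hy, d, hd, hdZ⟩ := O2_moves h (i := j)
      apply hdZ
      have h1 : cj s (cj y d) ∈ R := by
        have e : cj s (cj y d) = cj (cj s y) (cj s d) := by simp [cj, mul_assoc]
        rw [e]
        exact norm_cj (hNR (hXbh false (show cj s y ∈ Dm (O2 (L j)) s from cj_mem_Dm hy)))
          (hDR (h.par_D hp hd))
      have hyd : cj y d ∈ V j := (h.dat j).cjV (O2_le _ hy) ((h.dat j).DV hd)
      have h2 : cj s (cj y d) ∈ Dm (V j) s := cj_mem_Dm hyd
      have h3 : cj s (cj y d) ∈ B := V'_le_B h j h2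
      have h4 : cj s (cj y d) ∈ Q i := R_cap h hZ hB2 hJC' hT ⟨h1, hBP h3⟩ h3
      have h5 := V'_cap h hp h2 fun v hv => (h.dat i).VcQ _ h4 v hv
      have h6 := (h.dat i).cjZ (A.inv_mem h.sA) h5
      rwa [cj_inv_cj] at h6
    · -- grow
      intro P' hP' hBP' _ hPQ
      exact (hJC P' hP' hBP' (hPQ true)).2.1
    · -- tw
      intro x hxB hxc hcom t
      have hc : ∀ b ∈ B, x * (x * b * x⁻¹ * b⁻¹) = (x * b * x⁻¹ * b⁻¹) * x := fun b hb =>
        hxc _ (hcom b hb)
      cases t with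
      | true => exact sw_of h hZ hB2 hself hJC hbig i hxB hc
      | false =>
        apply norm_Dm'
        refine sw_of h hZ hB2 hself hJC hbig i ?_ ?_
        · have h1 := norm_Dm (g := s⁻¹) hxB
          have e : Dm B s⁻¹ = B := Dm_eq_of fun b hb => h.cjsB' i hb
          rwa [e] at h1
        · intro b hb
          have h1 := hc _ (h.cjsB i hb)
          have h2 := (cj_comm (g := s⁻¹)).2 h1
          have e : cj s⁻¹ (x * cj s b * x⁻¹ * (cj s b)⁻¹) =
              cj s⁻¹ x * b * (cj s⁻¹ x)⁻¹ * b⁻¹ := by simp [cj, mul_assoc]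
          rwa [e] at h2
  obtain ⟨x, hx, hodd, hx1⟩ := exists_odd h i
  exact data.false true (mem_O2 hx hodd) (pow_orderOf_eq_one x) hodd hx1

end Cfsg.Agent.Omega.SQ1.Block
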