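import Cfsg.Agent.Omega.SQ1.Block
import Cfsg.Agent.Omega.SQ1.BlockO

/-!
# SQ1: local structure of a block (fields `loc`, `kick` of the killing lemma)

For a matched pair `(i, j)`: `Q_i = V_i C` where `C` is centralised by `O²(L_i)`; a 2-group which
normalises `P` and is normalised by `O²(L_i)` and `B` is centralised by `O²(L_i)` or contains `D_i`.
(bb OMEGA #12483.)
-/

set_option autoImplicit false

namespace Cfsg.Agent.Omega.SQ1.Block

open Cfsg.Agent.MinSimple.PushUp Cfsg.Agent.Omega.PushUp Cfsg.Agent.Omega.SQ1.Match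
open Cfsg.Agent.Omega.SQ1.BlockO Subgroup
open scoped Pointwise

variable {G : Type*} [Group G] {ι : Type*}
variable {A T B Z P : Subgroup G} {s : G} {L Q V D : ι → Subgroup G}

theorem cj_pow (g x : G) (n : ℕ) : cj g (x ^ n) = cj g x ^ n := by
  simp [cj]

theorem mem_norm_of [Finite G] {H : Subgroup G} {x : G} (h : ∀ y ∈ H, x * y * x⁻¹ ∈ H) :
    x ∈ normalizer (H : Set G) := by
  have e : Dm H x = H := Dm_eq_of fun y hy => h y hy
  rw [mem_normalizer_iff]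
  intro y
  refine ⟨h y, fun hy => ?_⟩
  have h1 : cj x y ∈ Dm H x := by rw [e]; exact hy
  have h2 := mem_Dm.1 h1
  rwa [cj_inv_cj] at h2

theorem norm_cj {H : Subgroup G} {x y : G} (h : x ∈ normalizer (H : Set G)) (hy : y ∈ H) :
    cj x y ∈ H := (mem_normalizer_iff.1 h y).1 hy

variable (h : MIn A T B Z P s L Q V D)

section basic

include h

/-- `V' = (V_j)^s` is normalised by `B` -/
theorem B_norm_V' (j : ι) {b u : G} (hb : b ∈ B) (hu : u ∈ Dm (V j) s) :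
    cj b u ∈ Dm (V j) s := by
  rw [mem_Dm] at hu ⊢
  have e : cj s⁻¹ (cj b u) = cj (cj s⁻¹ b) (cj s⁻¹ u) := by simp [cj, mul_assoc]
  rw [e]
  obtain ⟨d, hd, he⟩ := (h.dat j).commB hu (h.cjsB' j hb)
  rw [he]
  exact (V j).mul_mem ((h.dat j).DV hd) hu

theorem V'_le_B (j : ι) : Dm (V j) s ≤ B := by
  rw [Dm_le_iff]
  intro v hv
  exact h.cjsB j ((h.dat j).VB hv)

theorem Z_le_V' (j : ι) : Z ≤ Dm (V j) s := by
  intro z hz
  rw [mem_Dm]
  exact (h.dat j).ZV ((h.dat j).cjZ (A.inv_mem h.sA) hz)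

theorem mem_Q' (j : ι) {x : G} (hx : x ∈ B) :
    x ∈ Dm (Q j) s ↔ ∀ u ∈ Dm (V j) s, x * u = u * x := by
  rw [mem_Dm]
  constructor
  · intro hq u hu
    have h1 := (h.dat j).VcQ _ hq _ (mem_Dm.1 hu)
    have h2 := (cj_comm (g := s)).2 h1
    rwa [cj_cj_inv, cj_cj_inv] at h2
  · intro hc
    apply (h.dat j).QcV _ (h.cjsB' j hx)
    intro v hv
    have h1 := hc _ (cj_mem_Dm hv)
    have h2 := (cj_comm (g := s⁻¹)).2 h1
    rwa [cj_inv_cj] at h2

theorem Q'_le_B (j : ι) : Dm (Q j) s ≤ B := by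
  rw [Dm_le_iff]
  intro v hv
  exact h.cjsB j ((h.dat j).QB hv)

/-- `Q' = C_B(V')` is normalised by `B` -/
theorem B_norm_Q' (j : ι) {b x : G} (hb : b ∈ B) (hx : x ∈ Dm (Q j) s) : cj b x ∈ Dm (Q j) s := by
  have hxB := Q'_le_B h j hx
  have hbx : cj b x ∈ B := B.mul_mem (B.mul_mem hb hxB) (B.inv_mem hb)
  rw [mem_Q' h j hbx]
  intro u hu
  have h1 := (mem_Q' h j hxB).1 hx _ (B_norm_V' h j (B.inv_mem hb) hu)
  have h2 := (cj_comm (g := b)).2 h1
  rwa [cj_cj_inv] at h2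

theorem idx_ij [Finite G] (i j : ι) : Z.relIndex (V i) = Z.relIndex (V j) := by
  obtain ⟨t, ht, hD⟩ := h.trans i j
  have h12 := h.perm_eq ht hD
  have h1 := h12.1
  have h2 := h12.2.1
  have e1 : Dm (V i) t = V j := by
    apply le_antisymm (Dm_le_iff.2 h1)
    intro v hv
    rw [mem_Dm]
    simpa [cj] using h2 v hv
  have e2 : Dm Z t = Z := Dm_eq_of fun z hz => (h.dat i).cjZ (h.TA i ht) hz
  have := Dm_relIndex t Z (V i)
  rw [e1, e2] at this
  exact this.symm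

end basic

section pair

variable {i j : ι} (hp : Par s V i j)

include h hp

theorem V'_cap {u : G} (hu : u ∈ Dm (V j) s) (hc : ∀ v ∈ V i, u * v = v * u) : u ∈ Z := by
  have h1 : cj s⁻¹ u ∈ Z := by
    apply h.inv.par_Z (MIn.par_symm hp) (mem_Dm.1 hu)
    intro v hv
    exact (cj_comm (g := s⁻¹)).2 (hc v hv)
  have h2 := (h.dat i).cjZ h.sA h1
  rwa [cj_cj_inv] at h2

theorem V_cap {v : G} (hv : v ∈ V i) (hc : ∀ u ∈ Dm (V j) s, v * u = u * v) : v ∈ Z :=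
  h.par_Z hp hv fun u hu => hc _ (cj_mem_Dm hu)

theorem B_eq [Finite G] {b : G} (hb : b ∈ B) : ∃ u ∈ Dm (V j) s, ∃ q ∈ Q i, b = u * q := by
  obtain ⟨v, hv, q, hq, he⟩ := h.par_B hp hb
  exact ⟨_, cj_mem_Dm hv, q, hq, he⟩

/-- `C_Q(V', V'^l)` -/
def Cq (s l : G) (Q : ι → Subgroup G) (i j : ι) : Subgroup G :=
  Q i ⊓ (Dm (Q j) s ⊓ Dm (Dm (Q j) s) l)

omit h hp in
theorem mem_Cq {l x : G} : x ∈ Cq s l Q i j ↔
    x ∈ Q i ∧ x ∈ Dm (Q j) s ∧ cj l⁻¹ x ∈ Dm (Q j) s := by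
  unfold Cq
  rw [mem_inf, mem_inf, mem_Dm (g := l)]

/-- `Q = V C_Q(V', V'^l)` -/
theorem dec [Finite G] {l : G} (hl : l ∈ L i) (hmv : Mv (D i) Z l) {f : G} (hf : f ∈ Q i) :
    ∃ v ∈ V i, ∃ c ∈ Cq s l Q i j, f = v * c := by
  set C1 := Dm (Q j) s with hC1
  set C2 := Dm C1 l with hC2
  set q := Z.relIndex (V i) with hq
  have hqj : (Q j).relIndex B = q := by
    rw [← idx_eq (h.dat j), ← idx_ij h i j]
  have hqi : (Q i).relIndex B = q := by rw [← idx_eq (h.dat i)]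
  have hBs : Dm B s = B := Dm_eq_of fun x hx => h.cjsB i hx
  have hQl : Dm (Q i) l = Q i := Dm_eq_of fun x hx => (h.dat i).cjQ hl hx
  have hne : ∀ H K : Subgroup G, H.relIndex K ≠ 0 := fun H K => Nat.card_pos.ne'
  have u1 : C1.relIndex (Q i) ≤ q := by
    have h1 : C1.relIndex B = q := by
      conv_lhs => rw [← hBs]
      rw [hC1, Dm_relIndex]; exact hqj
    rw [← h1]
    exact relIndex_le_of_le_right (h.dat i).QB (hne _ _)
  have u2 : C2.relIndex (Q i) ≤ q := by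
    have h1 : C2.relIndex (Q i) = C1.relIndex (Q i) := by
      conv_lhs => rw [← hQl]
      rw [hC2, Dm_relIndex]
    rw [h1]; exact u1
  have u3 : (C1 ⊓ C2).relIndex (Q i) ≤ q * q :=
    (relIndex_inf_le).trans (Nat.mul_le_mul u1 u2)
  have hcap : (C1 ⊓ C2) ⊓ V i ≤ Z ⊓ Dm Z l := by
    rintro x ⟨⟨hx1, hx2⟩, hxV⟩
    refine ⟨V_cap h hp hxV ((mem_Q' h j (Q'_le_B h j hx1)).1 hx1), ?_⟩
    show x ∈ Dm Z l
    rw [mem_Dm]
    have hx3 : cj l⁻¹ x ∈ C1 := mem_Dm.1 hx2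
    exact V_cap h hp ((h.dat i).cjV ((L i).inv_mem hl) hxV)
      ((mem_Q' h j (Q'_le_B h j hx3)).1 hx3)
  have l1 : q * q ≤ (C1 ⊓ C2).relIndex (V i) := by
    rw [← inf_relIndex_right]
    have h1 : q * q ≤ (Z ⊓ Dm Z l).relIndex (V i) := by
      rw [← relIndex_mul_relIndex (Z ⊓ Dm Z l) Z (V i) inf_le_left (h.dat i).ZV]
      apply Nat.mul_le_mul_right
      rw [inf_relIndex_left, ← hqi]
      exact idx_ZZ (h.dat i) hl hmv
    exact h1.trans (relIndex_le_of_le_left hcap (hne _ _))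
  obtain ⟨v, hv, c, hc, he⟩ := exists_mul_of_relIndex (Q := C1 ⊓ C2) (B := Q i) (U := V i)
    (h.dat i).VQ (u3.trans l1) hf
  refine ⟨v, hv, c, ⟨?_, hc⟩, he⟩
  have : c = v⁻¹ * f := by rw [he]; simp
  rw [this]
  exact (Q i).mul_mem ((Q i).inv_mem ((h.dat i).VQ hv)) hf

omit hp in
theorem Cq_V' {l c u : G} (hc : c ∈ Cq s l Q i j) (hu : u ∈ Dm (V j) s) : c * u = u * c := by
  have h1 := (mem_Cq.1 hc).2.1
  exact (mem_Q' h j (Q'_le_B h j h1)).1 h1 u hu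

omit hp in
theorem Cq_V'l {l c u : G} (hc : c ∈ Cq s l Q i j) (hu : u ∈ Dm (V j) s) :
    c * cj l u = cj l u * c := by
  have h1 := (mem_Cq.1 hc).2.2
  have h2 := (mem_Q' h j (Q'_le_B h j h1)).1 h1 u hu
  have h3 := (cj_comm (g := l)).2 h2
  rwa [cj_cj_inv] at h3

/-- `L` normalises `C_Q(V', V'^l)` -/
theorem L_norm_Cq [Finite G] {l : G} (hl : l ∈ L i) (hmv : Mv (D i) Z l) :
    L i ≤ normalizer (Cq s l Q i j : Set G) := by
  have hcen : ∀ u : G, (∀ c ∈ Cq s l Q i j, c * u = u * c) →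
      u ∈ normalizer (Cq s l Q i j : Set G) := by
    intro u hu
    apply mem_norm_of
    intro c hc
    rw [← hu c hc, mul_assoc, mul_inv_cancel, mul_one]; exact hc
  have hQ : Q i ≤ normalizer (Cq s l Q i j : Set G) := by
    intro q hq
    apply mem_norm_of
    intro c hc
    obtain ⟨h1, h2, h3⟩ := mem_Cq.1 hc
    refine mem_Cq.2 ⟨(Q i).mul_mem ((Q i).mul_mem hq h1) ((Q i).inv_mem hq), ?_, ?_⟩
    · exact B_norm_Q' h j ((h.dat i).QB hq) h2
    · have e : cj l⁻¹ (q * c * q⁻¹) = cj (cj l⁻¹ q) (cj l⁻¹ c) := by simp [cj, mul_assoc]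
      rw [e]
      exact B_norm_Q' h j ((h.dat i).QB ((h.dat i).cjQ ((L i).inv_mem hl) hq)) h3
  apply (h.dat i).gen l hl hmv
  · intro b hb
    obtain ⟨u, hu, q, hq, rfl⟩ := B_eq h hp hb
    exact mul_mem (hcen u fun c hc => Cq_V' h hc hu) (hQ hq)
  · intro b hb
    obtain ⟨u, hu, q, hq, rfl⟩ := B_eq h hp hb
    have e : l * (u * q) * l⁻¹ = cj l u * cj l q := by simp [cj, mul_assoc]
    rw [e]
    exact mul_mem (hcen _ fun c hc => Cq_V'l h hc hu) (hQ ((h.dat i).cjQ hl hq))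

/-- `O²(L)` centralises `C_Q(V', V'^l)` -/
theorem O2_cent [Finite G] (hB2 : IsPGroup 2 B) {l : G} (hl : l ∈ L i) (hmv : Mv (D i) Z l)
    {y c : G} (hy : y ∈ O2 (L i)) (hc : c ∈ Cq s l Q i j) : y * c = c * y := by
  set C := Cq s l Q i j with hC
  set X : Subgroup G := L i ⊓ centralizer (C : Set G) with hX
  have hXm : ∀ x, x ∈ X ↔ x ∈ L i ∧ ∀ c ∈ C, c * x = x * c := by
    intro x
    rw [hX, mem_inf, mem_centralizer_iff]; rfl
  have hLN := L_norm_Cq h hp hl hmv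
  -- `X` is normal in `L`
  have hXn : ∀ g ∈ L i, ∀ x ∈ X, g * x * g⁻¹ ∈ X := by
    intro g hg x hx
    obtain ⟨hx1, hx2⟩ := (hXm x).1 hx
    refine (hXm _).2 ⟨mul_mem (mul_mem hg hx1) (inv_mem hg), fun c hc => ?_⟩
    have h1 := hx2 _ (norm_cj (inv_mem (hLN hg)) hc)
    have h2 := (cj_comm (g := g)).2 h1
    rwa [cj_cj_inv] at h2
  -- `L = X Q`
  have hLX : ∀ g ∈ L i, ∃ x ∈ X, ∃ q ∈ Q i, g = x * q := by
    let K : Subgroup G :=
      { carrier := {g | ∃ x ∈ X, ∃ q ∈ Q i, g = x * q}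
        one_mem' := ⟨1, one_mem _, 1, one_mem _, by simp⟩
        mul_mem' := by
          rintro _ _ ⟨x, hx, q, hq, rfl⟩ ⟨x', hx', q', hq', rfl⟩
          have hqL : q ∈ L i := (h.dat i).BL ((h.dat i).QB hq)
          exact ⟨x * (q * x' * q⁻¹), mul_mem hx (hXn q hqL x' hx'), q * q', mul_mem hq hq',
            by simp [mul_assoc]⟩
        inv_mem' := by
          rintro _ ⟨x, hx, q, hq, rfl⟩
          have hqL : q ∈ L i := (h.dat i).BL ((h.dat i).QB hq)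
          refine ⟨q⁻¹ * x⁻¹ * q⁻¹⁻¹, hXn _ (inv_mem hqL) _ (inv_mem hx), q⁻¹, inv_mem hq, ?_⟩
          simp [mul_assoc] }
    have hLK : L i ≤ K := by
      apply (h.dat i).gen l hl hmv
      · intro b hb
        obtain ⟨u, hu, q, hq, rfl⟩ := B_eq h hp hb
        exact ⟨u, (hXm u).2 ⟨(h.dat i).BL (V'_le_B h j hu), fun c hc => Cq_V' h hc hu⟩, q, hq,
          rfl⟩
      · intro b hb
        obtain ⟨u, hu, q, hq, rfl⟩ := B_eq h hp hb
        refine ⟨cj l u, (hXm _).2 ⟨?_, fun c hc => Cq_V'l h hc hu⟩, cj l q,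
          (h.dat i).cjQ hl hq, by simp [cj, mul_assoc]⟩
        exact mul_mem (mul_mem hl ((h.dat i).BL (V'_le_B h j hu))) (inv_mem hl)
    exact fun g hg => hLK hg
  have hle : O2 (L i) ≤ X := by
    rw [O2, closure_le]
    rintro y ⟨hyL, hodd⟩
    obtain ⟨x, hx, q, hq, rfl⟩ := hLX y hyL
    have hqL : q ∈ L i := (h.dat i).BL ((h.dat i).QB hq)
    have key : ∀ k : ℕ, ∃ x' ∈ X, (x * q) ^ k = x' * q ^ k := by
      intro k
      induction k with
      | zero => exact ⟨1, one_mem _, by simp⟩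
      | succ k ih =>
        obtain ⟨x', hx', he⟩ := ih
        refine ⟨x' * (q ^ k * x * (q ^ k)⁻¹), mul_mem hx' (hXn _ (pow_mem hqL k) x hx), ?_⟩
        rw [pow_succ, he, pow_succ]
        simp [mul_assoc]
    obtain ⟨m, hm⟩ := IsPGroup.iff_card.1 (hB2.to_le (h.dat i).QB)
    obtain ⟨x', hx', he⟩ := key (2 ^ m)
    have hq1 : q ^ 2 ^ m = 1 := by
      have := pow_card_eq_one' (G := Q i) (x := ⟨q, hq⟩)
      rw [hm] at this
      simpa using congrArg Subtype.val this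
    rw [hq1, mul_one] at he
    have hcop : Nat.Coprime (2 ^ m) (orderOf (x * q)) :=
      Nat.Coprime.pow_left _ (Nat.coprime_two_left.2 hodd)
    obtain ⟨k, hk⟩ := exists_pow_eq_self_of_coprime hcop
    show x * q ∈ X
    rw [← hk, he]
    exact pow_mem hx' k
  exact (((hXm y).1 (hle hy)).2 c hc).symm

omit hp in
/-- `L ≤ O²(L) B` -/
theorem L_le [Finite G] : L i ≤ O2 (L i) ⊔ B := by
  obtain ⟨l, hl, hmv⟩ := (h.dat i).moves
  exact le_sup_of_gen (O2_le _) (fun _ hg _ hx => O2_norm hg hx) (fun _ hy => pow_mem_O2 hy)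
    (h.dat i).BL hl ((h.dat i).gen l hl hmv)

omit hp in
/-- some element of `O²(L)` moves `D` -/
theorem O2_moves [Finite G] : ∃ y ∈ O2 (L i), Mv (D i) Z y := by
  obtain ⟨l, hl, d, hd, hdZ⟩ := (h.dat i).moves
  have hl' := L_le h hl
  have hBn : B ≤ normalizer (O2 (L i) : Set G) := fun b hb =>
    mem_norm_of fun x hx => O2_norm ((h.dat i).BL hb) hx
  have h1 : l ∈ ((O2 (L i) : Subgroup G) : Set G) * ((B : Subgroup G) : Set G) := by
    rw [← coe_mul_of_right_le_normalizer_left (O2 (L i)) B hBn]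
    exact hl'
  obtain ⟨y, hy, b, hb, rfl⟩ := Set.mem_mul.1 h1
  refine ⟨y, hy, d, hd, ?_⟩
  rw [cj_mul, cj_eq_self.2 ((h.dat i).BcZ b hb d ((h.dat i).DZ hd))] at hdZ
  exact hdZ

end pair

end Cfsg.Agent.Omega.SQ1.Block
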