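import Cfsg.Agent.Omega.SQ1.Loc

/-!
# SQ1: 2-groups normalised by a block (field `loc` of the killing lemma)
-/

set_option autoImplicit false

namespace Cfsg.Agent.Omega.SQ1.Block

open Cfsg.Agent.MinSimple.PushUp Cfsg.Agent.Omega.PushUp Cfsg.Agent.Omega.SQ1.Match
open Cfsg.Agent.Omega.SQ1.BlockO Subgroup
open scoped Pointwise

variable {G : Type*} [Group G] {ι : Type*}
variable {A T B Z P : Subgroup G} {s : G} {L Q V D : ι → Subgroup G}

/-- elements normalising `B` normalise `Z = Ω₁(Z(B))` -/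
theorem normB_Z (i : ι) (h : MIn A T B Z P s L Q V D)
    (hZ : ∀ x ∈ B, x * x = 1 → (∀ b ∈ B, x * b = b * x) → x ∈ Z)
    {x z : G} (hx : x ∈ normalizer (B : Set G)) (hz : z ∈ Z) : cj x z ∈ Z := by
  have hzV := (h.dat i).ZV hz
  have hzB := (h.dat i).VB hzV
  apply hZ _ (norm_cj hx hzB)
  · rw [← cj_prod, (h.dat i).Vsq z hzV]
    simp [cj]
  · intro b hb
    have h1 := (h.dat i).BcZ _ (norm_cj (inv_mem hx) hb) z hz
    have h2 := (cj_comm (g := x)).2 h1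
    rw [cj_cj_inv] at h2
    exact h2.symm

/-- hypotheses on a 2-group `R` -/
structure Two (B P : Subgroup G) (L : Subgroup G) (R : Subgroup G) : Prop where
  two : IsPGroup 2 R
  RP : R ≤ normalizer (P : Set G)
  X : ∀ y ∈ O2 L, ∀ r ∈ R, cj y r ∈ R
  B : ∀ b ∈ B, ∀ r ∈ R, cj b r ∈ R

section two

variable (h : MIn A T B Z P s L Q V D)
  (hZ : ∀ x ∈ B, x * x = 1 → (∀ b ∈ B, x * b = b * x) → x ∈ Z)
  (hB2 : IsPGroup 2 B)
  (hJC : ∀ R : Subgroup G, IsPGroup 2 R → B ≤ R → R ≤ normalizer (P : Set G) →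
    R ≤ normalizer (B : Set G))
  {i : ι} {R : Subgroup G} (hR : Two B P (L i) R)

include h hR

theorem R_L [Finite G] {y r : G} (hy : y ∈ L i) (hr : r ∈ R) : cj y r ∈ R := by
  have h1 : L i ≤ normalizer (R : Set G) := by
    refine (L_le h).trans (sup_le ?_ ?_)
    · exact fun x hx => mem_norm_of fun r hr => hR.X x hx r hr
    · exact fun x hx => mem_norm_of fun r hr => hR.B x hx r hr
  exact norm_cj (h1 hy) hr

include hB2 hJC

theorem R_NB [Finite G] : R ≤ normalizer (B : Set G) := by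
  have h1 : B ≤ normalizer (R : Set G) := fun x hx => mem_norm_of fun r hr => hR.B x hx r hr
  have h2 : IsPGroup 2 (R ⊔ B : Subgroup G) := IsPGroup.to_sup_of_normal_left' hR.two hB2 h1
  have h3 : B ≤ normalizer (P : Set G) := fun b hb =>
    mem_norm_of fun x hx => h.LP i b ((h.dat i).BL hb) x hx
  exact le_sup_left.trans (hJC _ h2 le_sup_right (sup_le hR.RP h3))

include hZ

theorem R_cap [Finite G] {r : G} (hr : r ∈ R) (hrB : r ∈ B) : r ∈ Q i := by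
  by_contra hrQ
  obtain ⟨l, hl, hmv⟩ := (h.dat i).moves
  obtain ⟨d, hd, hdZ⟩ := (h.dat i).ti l hl hmv r hrB hrQ
  apply hdZ
  apply normB_Z i h hZ _ ((h.dat i).DZ hd)
  have h1 := R_L h hR ((L i).inv_mem hl) hr
  have h2 : cj l⁻¹ r = l⁻¹ * r * l := by simp [cj]
  rw [h2] at h1
  exact R_NB h hB2 hJC hR h1

omit hZ hB2 hJC in
/-- the case that `R` contains an element of `V` which is not centralised by `L` -/
theorem D_le [Finite G] {m : G} (hmR : m ∈ R) (hmV : m ∈ V i)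
    (hm : ∃ y ∈ L i, y * m ≠ m * y) : D i ≤ R := by
  have hd := h.dat i
  obtain ⟨l, hl, hmv⟩ := hd.moves
  have hli := (L i).inv_mem hl
  -- an element outside `Z`
  obtain ⟨m, hmR, hmV, hmZ⟩ : ∃ m ∈ R, m ∈ V i ∧ m ∉ Z := by
    by_contra hcon
    push Not at hcon
    obtain ⟨y, hy, hne⟩ := hm
    exact hne (cent_inter hd hl hmv (hcon m hmR hmV)
      (hcon _ (R_L h hR hli hmR) (hd.cjV hli hmV)) hy)
  have hcR : ∀ v ∈ R, ∀ b ∈ B, v * b * v⁻¹ * b⁻¹ ∈ R := by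
    intro v hv b hb
    have e : v * b * v⁻¹ * b⁻¹ = v * cj b v⁻¹ := by simp [cj, mul_assoc]
    rw [e]
    exact mul_mem hv (hR.B b hb _ (inv_mem hv))
  have hVl : Dm (V i) l = V i := Dm_eq_of fun x hx => hd.cjV hl hx
  have h0 : (Dm Z l).relIndex Z ≤ (Q i).relIndex B := by
    rw [← idx_eq hd]
    have h2 : (Dm Z l).relIndex (V i) = Z.relIndex (V i) := by
      conv_lhs => rw [← hVl]
      exact Dm_relIndex l Z (V i)
    rw [← h2]
    exact relIndex_le_of_le_right hd.ZV Nat.card_pos.ne'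
  have h1 : (Q i).relIndex B ≤ (Dm Z l).relIndex (R ⊓ Z) := by
    apply relIndex_le_of_map (fun b => m * b * m⁻¹ * b⁻¹)
    · intro b hb
      exact ⟨hcR m hmR b hb, hd.DZ (hd.comm m hmV b hb)⟩
    · intro b hb c hc hbc
      have hcB : b⁻¹ * c ∈ B := B.mul_mem (B.inv_mem hb) hc
      apply star hd hmV hmZ hcB
      have hcb := hd.comm _ hmV b hb
      have hcc := hd.comm _ hmV c hc
      have hcbc := hd.comm _ hmV _ hcB
      have e : m * (b⁻¹ * c) * m⁻¹ * (b⁻¹ * c)⁻¹ =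
          (m * b * m⁻¹ * b⁻¹)⁻¹ * (m * c * m⁻¹ * c⁻¹) := by
        have r1 := hd.BcZ b hb _ (hd.DZ hcb)
        have r2 : b⁻¹ * (m * b * m⁻¹ * b⁻¹)⁻¹ * b = (m * b * m⁻¹ * b⁻¹)⁻¹ := by
          have : Commute b (m * b * m⁻¹ * b⁻¹)⁻¹ := Commute.inv_right r1
          rw [mul_assoc, ← this.eq, ← mul_assoc, inv_mul_cancel, one_mul]
        have r3 := hd.BcZ b⁻¹ (B.inv_mem hb) _ (hd.DZ hcc)
        calc m * (b⁻¹ * c) * m⁻¹ * (b⁻¹ * c)⁻¹
            = (b⁻¹ * (m * b * m⁻¹ * b⁻¹)⁻¹ * b) * (b⁻¹ * (m * c * m⁻¹ * c⁻¹)) * b := by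
              simp [mul_assoc]
          _ = (m * b * m⁻¹ * b⁻¹)⁻¹ * ((m * c * m⁻¹ * c⁻¹) * b⁻¹) * b := by rw [r2, r3]
          _ = _ := by simp [mul_assoc]
      intro y hy
      apply cent_inter hd hl hmv (hd.DZ hcbc) _ hy
      rw [e]
      exact mem_Dm.1 hbc
  -- `Z ≤ (R ∩ Z) C(L)`
  have h2 : ∀ z ∈ Z, ∃ r ∈ R, ∃ f ∈ Z, z = r * f ∧ ∀ y ∈ L i, y * f = f * y := by
    intro z hz
    obtain ⟨r, hr, f, hf, he⟩ := exists_mul_of_relIndex (Q := Dm Z l) (B := Z) (U := R ⊓ Z)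
      inf_le_right (h0.trans h1) hz
    have hfZ : f ∈ Z := by
      have : f = r⁻¹ * z := by rw [he]; simp
      rw [this]; exact Z.mul_mem (Z.inv_mem hr.2) hz
    exact ⟨r, hr.1, f, hfZ, he, fun y hy => cent_inter hd hl hmv hfZ (mem_Dm.1 hf) hy⟩
  refine hd.Dgen.trans ?_
  rw [closure_le]
  rintro x ⟨v, hv, b, hb, rfl⟩
  obtain ⟨z, hz, z', hz', rfl⟩ := VZZ hd hl hmv hv
  obtain ⟨r, hr, f, hf, rfl, hfc⟩ := h2 z hz
  obtain ⟨r', hr', f', hf', rfl, hfc'⟩ := h2 z' hz'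
  have hρ : r * cj l r' ∈ R := mul_mem hr (R_L h hR hl hr')
  have hrL : ∀ g ∈ Z, g ∈ L i := fun g hg => hd.BL (hd.VB (hd.ZV hg))
  have e1 : cj l (r' * f') = cj l r' * f' := by
    rw [cj_prod, cj_eq_self.2 (hfc' l hl)]
  have hr'V : cj l r' ∈ V i := by
    have : r' = (r' * f') * f'⁻¹ := by simp
    rw [this]
    exact hd.cjV hl ((V i).mul_mem (hd.ZV hz') ((V i).inv_mem (hd.ZV hf')))
  have hρL : cj l r' ∈ L i := hd.BL (hd.VB hr'V)
  have e2 : r * f * cj l (r' * f') = (r * cj l r') * (f * f') := by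
    rw [e1]
    have := hfc _ hρL
    calc r * f * (cj l r' * f') = r * (f * cj l r') * f' := by simp [mul_assoc]
      _ = r * (cj l r' * f) * f' := by rw [this]
      _ = _ := by simp [mul_assoc]
  set ρ := r * cj l r' with hρd
  set g := f * f' with hg
  have hgb : g * b = b * g := by
    have c1 : Commute f b := (hfc b (hd.BL hb)).symm
    have c2 : Commute f' b := (hfc' b (hd.BL hb)).symm
    exact c1.mul_left c2
  have e3 : (ρ * g) * b * (ρ * g)⁻¹ * b⁻¹ = ρ * b * ρ⁻¹ * b⁻¹ := by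
    calc (ρ * g) * b * (ρ * g)⁻¹ * b⁻¹ = ρ * (g * b) * g⁻¹ * ρ⁻¹ * b⁻¹ := by simp [mul_assoc]
      _ = ρ * (b * g) * g⁻¹ * ρ⁻¹ * b⁻¹ := by rw [hgb]
      _ = _ := by simp [mul_assoc]
  simp only [SetLike.mem_coe]
  rw [e2, e3]
  exact hcR ρ hρ b hb

/-- **loc**: `R` contains `D` or is centralised by `O²(L)`. -/
theorem loc [Finite G] {j : ι} (hp : Par s V i j) :
    (∀ x ∈ O2 (L i), ∀ r ∈ R, x * r = r * x) ∨ D i ≤ R := by
  have hd := h.dat i
  by_cases hF : ∃ m ∈ R, m ∈ V i ∧ ∃ y ∈ L i, y * m ≠ m * y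
  · obtain ⟨m, hmR, hmV, hm⟩ := hF
    exact Or.inr (D_le h hR hmR hmV hm)
  left
  push Not at hF
  obtain ⟨l, hl, hmv⟩ := hd.moves
  have hli := (L i).inv_mem hl
  -- odd elements centralise `R ∩ Q`
  have step1 : ∀ y ∈ L i, Odd (orderOf y) → ∀ f ∈ R, f ∈ Q i → y * f = f * y := by
    intro y hy hodd f hfR hfQ
    obtain ⟨v, hv, c, hc, rfl⟩ := dec h hp hl hmv hfQ
    have hyc := O2_cent h hp hB2 hl hmv (mem_O2 hy hodd) hc
    have e1 : cj y (v * c) = cj y v * c := by rw [cj_prod, cj_eq_self.2 hyc]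
    set e := cj y v * v⁻¹ with he
    have heV : e ∈ V i := (V i).mul_mem (hd.cjV hy hv) ((V i).inv_mem hv)
    have heR : e ∈ R := by
      have : e = cj y (v * c) * (v * c)⁻¹ := by rw [e1, he]; simp [mul_assoc]
      rw [this]
      exact mul_mem (R_L h hR hy hfR) (inv_mem hfR)
    have hye := hF e heR heV y hy
    apply comm_of_odd hodd (c := e) (m := 1) _ hye
    · rw [pow_one, pow_two]; exact hd.Vsq e heV
    · have : y * (v * c) * y⁻¹ = cj y (v * c) := rfl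
      rw [this, e1, he]; simp [mul_assoc]
  have hRQ : ∀ y ∈ L i, ∀ f ∈ R ⊓ Q i, cj y f ∈ R ⊓ Q i := fun y hy f hf =>
    ⟨R_L h hR hy hf.1, hd.cjQ hy hf.2⟩
  -- `[L, R] ≤ R ∩ Q`
  have hNB := R_NB h hB2 hJC hR
  have step2 : ∀ r ∈ R, ∀ g ∈ L i, cj g r * r⁻¹ ∈ R ⊓ Q i := by
    intro r hr
    have hBr : ∀ r ∈ R, ∀ b ∈ B, cj b r * r⁻¹ ∈ R ⊓ Q i := by
      intro r hr b hb
      have h1 : cj b r * r⁻¹ ∈ R := mul_mem (hR.B b hb r hr) (inv_mem hr)
      have h2 : cj b r * r⁻¹ ∈ B := by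
        have e : cj b r * r⁻¹ = b * cj r b⁻¹ := by simp [cj, mul_assoc]
        rw [e]
        exact mul_mem hb (norm_cj (hNB hr) (inv_mem hb))
      exact ⟨h1, R_cap h hZ hB2 hJC hR h1 h2⟩
    let N : Subgroup G :=
      { carrier := {g | g ∈ L i ∧ cj g r * r⁻¹ ∈ R ⊓ Q i}
        one_mem' := ⟨one_mem _, by rw [cj_one, mul_inv_cancel]; exact one_mem _⟩
        mul_mem' := by
          rintro a b ⟨ha, ha'⟩ ⟨hb, hb'⟩
          refine ⟨mul_mem ha hb, ?_⟩
          have e : cj (a * b) r * r⁻¹ = cj a (cj b r * r⁻¹) * (cj a r * r⁻¹) := by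
            simp [cj, mul_assoc]
          rw [e]
          exact mul_mem (hRQ a ha _ hb') ha'
        inv_mem' := by
          rintro a ⟨ha, ha'⟩
          refine ⟨inv_mem ha, ?_⟩
          have e : cj a⁻¹ r * r⁻¹ = cj a⁻¹ (cj a r * r⁻¹)⁻¹ := by
            simp [cj, mul_assoc]
          rw [e]
          exact hRQ _ (inv_mem ha) _ (inv_mem ha') }
    have hLN : L i ≤ N := by
      apply hd.gen l hl hmv
      · exact fun b hb => ⟨hd.BL hb, hBr r hr b hb⟩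
      · intro b hb
        refine ⟨mul_mem (mul_mem hl (hd.BL hb)) hli, ?_⟩
        have h1 := hRQ l hl _ (hBr (cj l⁻¹ r) (R_L h hR hli hr) b hb)
        have e : cj l (cj b (cj l⁻¹ r) * (cj l⁻¹ r)⁻¹) = cj (l * b * l⁻¹) r * r⁻¹ := by
          simp [cj, mul_assoc]
        rwa [e] at h1
    exact fun g hg => (hLN hg).2
  have hle : ∀ r ∈ R, O2 (L i) ≤ centralizer {r} := by
    intro r hr
    rw [O2, closure_le]
    rintro y ⟨hy, hodd⟩
    simp only [SetLike.mem_coe]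
    rw [mem_centralizer_iff]
    intro r' hr'
    rw [Set.mem_singleton_iff] at hr'
    rw [hr']
    have h1 := step2 r hr y hy
    set e := cj y r * r⁻¹ with he
    obtain ⟨m, hm⟩ := hR.two ⟨e, h1.1⟩
    have hm' : e ^ 2 ^ m = 1 := by simpa using congrArg Subtype.val hm
    refine (comm_of_odd hodd (c := e) ?_ (step1 y hy hodd e h1.1 h1.2) hm').symm
    rw [he]; simp [cj]
  intro x hx r hr
  exact (mem_centralizer_iff.1 (hle r hr hx) r rfl).symm

end two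

end Cfsg.Agent.Omega.SQ1.Block
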