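import Cfsg.Agent.Omega.SQ1.Match
import Cfsg.Agent.Omega.SQ1.Bau

/-!
# SQ1: the matching and the Thompson subgroup

`MIn` with `B = bau T`, `Z = zj T`: `P`, `P^s` are elementary abelian subgroups of `T` of maximal
order, `J(T) = B`, elementary abelian subgroups of `T` of maximal order lie in `B`.
-/

set_option autoImplicit false

namespace Cfsg.Agent.Omega.SQ1.Match

open Cfsg Cfsg.Agent.Omega.PushUp Cfsg.Agent.ZN Cfsg.Agent.ZN.ChoiceBase
open Cfsg.Agent.PLocal.ThompsonJ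

universe u v

variable {G : Type u} [Group G] {ι : Type v}
variable {A T P : Subgroup G} {s : G} {L Q V D : ι → Subgroup G}

/-- involutions of `T` centralising `bau T` lie in `zj T` -/
theorem hZ_bau [Finite G] : ∀ x ∈ bau T, x * x = 1 → (∀ b ∈ bau T, x * b = b * x) → x ∈ zj T := by
  intro x hx hxx hc
  have hx2 : x ^ 2 = 1 := by rw [pow_two]; exact hxx
  have hcj : ∀ y ∈ jj T, y * x = x * y := fun y hy => (hc y (jj_le_bau T hy)).symm
  exact mem_zj.2 ⟨mem_jj_of_comm (bau_le T hx) hx2 hcj, hx2, hcj⟩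

namespace MIn

variable (h : MIn A T (bau T) (zj T) P s L Q V D)

include h

theorem P_elem [Finite ι] [Finite G] (i : ι) : IsElementaryAbelian 2 P :=
  isElementaryAbelian_iff.2 ⟨fun _ hx _ hy => h.Pcomm i hx hy,
    fun _ hx => by rw [pow_two]; exact h.Psq i hx⟩

theorem P_le_T : P ≤ T := fun x hx => bau_le T ((h.Pmem x).1 hx).1

/-- `P ∈ A(T)` if `P` contains a member of `A(T)`. -/
theorem P_AA [Finite ι] [Finite G] (i : ι) {E : Subgroup G} (hE : E ∈ AA T) (hEP : E ≤ P) :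
    P ∈ AA T := by
  rw [mem_AA_iff]
  refine ⟨h.P_elem i, h.P_le_T, ?_⟩
  rw [mm_eq hE]
  exact Subgroup.card_le_of_le hEP

theorem T_conj (i : ι) {a t : G} (ha : a ∈ A) (ht : t ∈ T) : a * t * a⁻¹ ∈ T := by
  by_cases haT : a ∈ T
  · exact T.mul_mem (T.mul_mem haT ht) (T.inv_mem haT)
  · have h1 : a⁻¹ ∉ T := fun h1 => haT (by simpa using T.inv_mem h1)
    have h2 : (a * t)⁻¹ ∉ T := by
      intro h2
      apply haT
      have := T.mul_mem (T.inv_mem h2) (T.inv_mem ht)
      simpa using this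
    have h3 := (h.dat i).idx (a * t)⁻¹ (A.inv_mem (A.mul_mem ha (h.TA i ht))) a⁻¹ (A.inv_mem ha)
      h2 h1
    simpa using h3

theorem s_normT (i : ι) [Finite G] : cj s T = T := by
  apply cj_eq_of_mem_normalizer
  apply mem_normalizer_of_cj_le
  rintro _ ⟨t, ht, rfl⟩
  exact h.T_conj i h.sA ht

theorem Ps_AA [Finite G] (i : ι) (hP : P ∈ AA T) : cj s P ∈ AA T := by
  refine ⟨isElementaryAbelian_map hP.1 _, ?_, fun E hE hET => ?_⟩
  · rw [← h.s_normT i]
    exact cj_mono s hP.2.1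
  · rw [card_cj]
    exact hP.2.2 E hE hET

theorem J_eq [Finite ι] [Finite G] (i : ι) (hP : P ∈ AA T) : jj T = bau T := by
  apply le_antisymm (jj_le_bau T)
  intro b hb
  obtain ⟨y, hy, p, hp, rfl⟩ := h.cover hb
  apply mul_mem
  · apply le_jj (h.Ps_AA i hP)
    rw [ChoiceBase.mem_cj]
    have : s⁻¹ * Cfsg.Agent.MinSimple.PushUp.cj s y * s = y := by
      simp [Cfsg.Agent.MinSimple.PushUp.cj, mul_assoc]
    rw [this]
    exact h.Y_le hy
  · exact le_jj hP hp

/-- elementary abelian subgroups of maximal order of `T` lie in `B` -/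
theorem AA_le [Finite ι] [Finite G] (i : ι) (hP : P ∈ AA T) {E : Subgroup G} (hE : E ∈ AA T) :
    E ≤ bau T := by
  rw [← h.J_eq i hP]
  exact le_jj hE

end MIn

end Cfsg.Agent.Omega.SQ1.Match
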