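import Cfsg.Agent.Omega.SQ1.Bau

/-!
# SQ1, one block, `b = 1`: the structure of `B` (text 2, (4.1)-(4.3))

`h : In H T Q V V1 V0 q` are the Baumann data of `H`; `s` normalises `T`, `s² ∈ T`, no nontrivial
subgroup of `T` is normal in `H` and normalised by `s`, and `Y = V Z` does not commute with `Y^s`.

Then `B ∩ Q = Y`, `B = Y Y^s`, `Y ∩ Y^s = Z(B) = Z`, the elementary abelian subgroups of `B` lie in `Y`
or `Y^s`, `A(T) = {Y, Y^s}`, `J(T) = B`.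
-/

set_option autoImplicit false
set_option linter.unusedVariables false

namespace Cfsg.Agent.Omega.SQ1.MatchOne

open Subgroup Cfsg Cfsg.Agent.PLocal.ThompsonJ Cfsg.Agent.ZN Cfsg.Agent.ZN.ChoiceBase
open Cfsg.Agent.PLocal.ElemAbSup
open Cfsg.Agent.Omega.SQ1.Bau
open Cfsg.Agent.Omega.SQ1.Bau.In (Y Z_le_Y V_le_Y)
open scoped Pointwise

universe u

variable {G : Type u} [Group G]

/-- Baumann data together with the switching element `s` and `b = 1`. -/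
structure Sit (H T Q V V1 V0 : Subgroup G) (q : ℕ) (s : G) : Prop where
  dd : In H T Q V V1 V0 q
  two : IsPGroup 2 T
  sN : s ∈ normalizer (T : Set G)
  sq : s * s ∈ T
  core : ∀ R ≤ T, (∀ h ∈ H, ∀ r ∈ R, h * r * h⁻¹ ∈ R) → (∀ r ∈ R, s * r * s⁻¹ ∈ R) → R = ⊥
  nc : ∃ y ∈ Y T V, ∃ y' ∈ Y T V, y * (s * y' * s⁻¹) ≠ (s * y' * s⁻¹) * y

namespace Sit

variable {H T Q V V1 V0 : Subgroup G} {q : ℕ} {s : G}

theorem cj_eq_of_norm {g : G} {K : Subgroup G} (hg : g ∈ normalizer (K : Set G)) : cj g K = K := by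
  ext x
  rw [mem_cj]
  have := mem_normalizer_iff.1 (inv_mem hg) x
  rw [inv_inv] at this
  exact this.symm

theorem cj_T (h : Sit H T Q V V1 V0 q s) : cj s T = T := cj_eq_of_norm h.sN

theorem cj_bau (h : Sit H T Q V V1 V0 q s) [Finite G] : cj s (bau T) = bau T :=
  cj_eq_of_norm (normalizer_le_bau T h.sN)

theorem cj_zj (h : Sit H T Q V V1 V0 q s) [Finite G] : cj s (zj T) = zj T :=
  cj_eq_of_norm (normalizer_le_of_cj (F := zj) zj_cj T h.sN)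

theorem cj_of_T (h : Sit H T Q V V1 V0 q s) {K : Subgroup G}
    (hK : ∀ t ∈ T, ∀ k ∈ K, t * k * t⁻¹ ∈ K) {t : G} (ht : t ∈ T) : cj t K = K := by
  apply cj_eq_of_norm
  rw [mem_normalizer_iff]
  intro x
  refine ⟨hK t ht x, fun hx => ?_⟩
  have := hK t⁻¹ (inv_mem ht) _ hx
  have e : t⁻¹ * (t * x * t⁻¹) * t⁻¹⁻¹ = x := by group
  rwa [e] at this

theorem cj_ss (h : Sit H T Q V V1 V0 q s) {K : Subgroup G}
    (hK : ∀ t ∈ T, ∀ k ∈ K, t * k * t⁻¹ ∈ K) : cj s (cj s K) = K := by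
  rw [cj_cj]
  exact h.cj_of_T hK h.sq

theorem Y_T (h : Sit H T Q V V1 V0 q s) [Finite G] : ∀ t ∈ T, ∀ y ∈ Y T V, t * y * t⁻¹ ∈ Y T V :=
  fun t ht => h.dd.Y_norm t (h.dd.TH ht)

theorem star_T (h : Sit H T Q V V1 V0 q s) [Finite G] :
    ∀ t ∈ T, ∀ y ∈ bau T ⊓ Q, t * y * t⁻¹ ∈ bau T ⊓ Q :=
  fun t ht => h.dd.star_norm t (h.dd.TH ht)

theorem Y_le_star (h : Sit H T Q V V1 V0 q s) [Finite G] : Y T V ≤ bau T ⊓ Q := by
  intro y hy
  exact h.dd.mem_star_iff.2 ⟨h.dd.QT (h.dd.Y_le_Q hy), fun y' hy' => elem_comm h.dd.Y_elem y hy y' hy'⟩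

theorem Y_le_B (h : Sit H T Q V V1 V0 q s) [Finite G] : Y T V ≤ bau T :=
  h.Y_le_star.trans inf_le_left

theorem Ys_le_B (h : Sit H T Q V V1 V0 q s) [Finite G] : cj s (Y T V) ≤ bau T := by
  rw [← h.cj_bau]
  exact cj_mono s h.Y_le_B

theorem Z_le_Ys (h : Sit H T Q V V1 V0 q s) [Finite G] : zj T ≤ cj s (Y T V) := by
  rw [← h.cj_zj]
  exact cj_mono s (Z_le_Y T V)

/-- `Y` does not commute with `Y^s`, elementwise. -/
theorem exists_u (h : Sit H T Q V V1 V0 q s) [Finite G] : ∃ u ∈ cj s (Y T V), u ∉ Q := by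
  by_contra hc
  push Not at hc
  obtain ⟨y, hy, y', hy', hne⟩ := h.nc
  have hu : s * y' * s⁻¹ ∈ cj s (Y T V) := ⟨y', hy', rfl⟩
  exact hne ((h.dd.mem_star_iff.1 ⟨h.Ys_le_B hu, hc _ hu⟩).2 y hy).symm

theorem Y_cent (h : Sit H T Q V V1 V0 q s) [Finite G] {y : G} (hy : y ∈ Y T V)
    (hc : ∀ u ∈ cj s (Y T V), u * y = y * u) : y ∈ zj T := by
  obtain ⟨u, hu, huQ⟩ := h.exists_u
  exact h.dd.cent_Y (h.Ys_le_B hu) huQ hy (hc u hu)

theorem Ys_cent (h : Sit H T Q V V1 V0 q s) [Finite G] {x : G} (hx : x ∈ cj s (Y T V))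
    (hc : ∀ y ∈ Y T V, x * y = y * x) : x ∈ zj T := by
  obtain ⟨y, hy, rfl⟩ := hx
  have h1 : y ∈ zj T := by
    refine h.Y_cent hy fun u hu => ?_
    have h2 : s * u * s⁻¹ ∈ Y T V := by
      have : s * u * s⁻¹ ∈ cj s (cj s (Y T V)) := ⟨u, hu, rfl⟩
      rwa [h.cj_ss h.Y_T] at this
    have h3 := hc _ h2
    simp only [MulEquiv.toMonoidHom_eq_coe, MonoidHom.coe_coe, MulAut.conj_apply] at h3
    have e1 : s * y * s⁻¹ * (s * u * s⁻¹) = s * (y * u) * s⁻¹ := by group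
    have e2 : s * u * s⁻¹ * (s * y * s⁻¹) = s * (u * y) * s⁻¹ := by group
    rw [e1, e2] at h3
    exact (mul_left_cancel (mul_right_cancel h3)).symm
  have h2 : s * y * s⁻¹ ∈ cj s (zj T) := ⟨y, h1, rfl⟩
  rw [h.cj_zj] at h2
  exact h2

theorem Ys_inf_star (h : Sit H T Q V V1 V0 q s) [Finite G] :
    cj s (Y T V) ⊓ (bau T ⊓ Q) = zj T := by
  apply le_antisymm
  · rintro x ⟨hx1, hx2⟩
    exact h.Ys_cent hx1 (h.dd.mem_star_iff.1 hx2).2
  · exact le_inf h.Z_le_Ys ((Z_le_Y T V).trans h.Y_le_star)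

theorem split1 (h : Sit H T Q V V1 V0 q s) [Finite G] {b : G} (hb : b ∈ bau T) :
    ∃ u ∈ cj s (Y T V), ∃ x ∈ bau T ⊓ Q, b = u * x := by
  have h1 := Cfsg.Agent.Lib.ProductSet.card_mul_card_inf (cj s (Y T V)) (bau T ⊓ Q)
  rw [h.Ys_inf_star, card_cj, h.dd.card_Y] at h1
  have hsub : (cj s (Y T V) : Set G) * ((bau T ⊓ Q : Subgroup G) : Set G) ⊆
      ((bau T : Subgroup G) : Set G) := by
    rintro _ ⟨u, hu, x, hx, rfl⟩
    exact mul_mem (h.Ys_le_B hu) (mem_inf.1 hx).1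
  have hp : 0 < Nat.card (zj T) := Nat.card_pos
  have h2 : Nat.card ((cj s (Y T V) : Set G) * ((bau T ⊓ Q : Subgroup G) : Set G) : Set G) =
      Nat.card (bau T) := by
    rw [h.dd.card_bau]
    apply Nat.eq_of_mul_eq_mul_right hp
    rw [h1]; ring
  have h3 : (cj s (Y T V) : Set G) * ((bau T ⊓ Q : Subgroup G) : Set G) =
      ((bau T : Subgroup G) : Set G) := by
    apply Set.eq_of_subset_of_ncard_le hsub
    rw [← Nat.card_coe_set_eq, ← Nat.card_coe_set_eq, h2]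
    exact le_rfl
  have hb' : b ∈ (cj s (Y T V) : Set G) * ((bau T ⊓ Q : Subgroup G) : Set G) := by
    rw [h3]; exact hb
  obtain ⟨u, hu, x, hx, rfl⟩ := Set.mem_mul.1 hb'
  exact ⟨u, hu, x, hx, rfl⟩

theorem split2 (h : Sit H T Q V V1 V0 q s) [Finite G] {b : G} (hb : b ∈ bau T) :
    ∃ y ∈ Y T V, ∃ x ∈ cj s (bau T ⊓ Q), b = y * x := by
  rw [← h.cj_bau] at hb
  obtain ⟨b', hb', rfl⟩ := hb
  obtain ⟨u, hu, x, hx, rfl⟩ := h.split1 hb'
  refine ⟨s * u * s⁻¹, ?_, s * x * s⁻¹, ⟨x, hx, rfl⟩, ?_⟩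
  · have : s * u * s⁻¹ ∈ cj s (cj s (Y T V)) := ⟨u, hu, rfl⟩
    rwa [h.cj_ss h.Y_T] at this
  · simp only [MulEquiv.toMonoidHom_eq_coe, MonoidHom.coe_coe, MulAut.conj_apply]
    group

/-- `B ∩ Q = Y (B ∩ Q ∩ (B ∩ Q)^s)`. -/
theorem split3 (h : Sit H T Q V V1 V0 q s) [Finite G] {b : G} (hb : b ∈ bau T ⊓ Q) :
    ∃ y ∈ Y T V, ∃ x ∈ cj s (bau T ⊓ Q), x ∈ bau T ⊓ Q ∧ b = y * x := by
  obtain ⟨y, hy, x, hx, e⟩ := h.split2 (mem_inf.1 hb).1
  refine ⟨y, hy, x, hx, ?_, e⟩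
  have : x = y⁻¹ * b := by rw [e]; group
  rw [this]
  exact mul_mem (inv_mem (h.Y_le_star hy)) hb

theorem Ysq (h : Sit H T Q V V1 V0 q s) [Finite G] {y : G} (hy : y ∈ Y T V) : y * y = 1 := by
  have := elem_sq h.dd.Y_elem y hy
  rwa [pow_two] at this

/-- squares of elements of `B ∩ Q` are squares of elements of `(B ∩ Q)^s` -/
theorem sq_star (h : Sit H T Q V V1 V0 q s) [Finite G] {b : G} (hb : b ∈ bau T ⊓ Q) :
    ∃ x ∈ cj s (bau T ⊓ Q), b * b = x * x := by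
  obtain ⟨y, hy, x, hx, hx', rfl⟩ := h.split3 hb
  refine ⟨x, hx, ?_⟩
  have h1 := (h.dd.mem_star_iff.1 hx').2 y hy
  calc y * x * (y * x) = y * (x * y) * x := by group
    _ = y * (y * x) * x := by rw [h1]
    _ = (y * y) * (x * x) := by group
    _ = x * x := by rw [h.Ysq hy, one_mul]

theorem sq_star' (h : Sit H T Q V V1 V0 q s) [Finite G] {b : G}
    (hb : b ∈ cj s (bau T ⊓ Q)) :
    ∃ x ∈ bau T ⊓ Q, b * b = x * x := by
  obtain ⟨b', hb', rfl⟩ := hb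
  obtain ⟨x, hx, e⟩ := h.sq_star hb'
  refine ⟨s * x * s⁻¹, ?_, ?_⟩
  · have : s * x * s⁻¹ ∈ cj s (cj s (bau T ⊓ Q)) := ⟨x, hx, rfl⟩
    rwa [h.cj_ss h.star_T] at this
  · simp only [MulEquiv.toMonoidHom_eq_coe, MonoidHom.coe_coe, MulAut.conj_apply]
    calc s * b' * s⁻¹ * (s * b' * s⁻¹) = s * (b' * b') * s⁻¹ := by group
      _ = s * (x * x) * s⁻¹ := by rw [e]
      _ = _ := by group

/-- `B ∩ Q` has exponent two. -/
theorem star_sq (h : Sit H T Q V V1 V0 q s) [Finite G] {b : G} (hb : b ∈ bau T ⊓ Q) :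
    b * b = 1 := by
  set R : Subgroup G := closure {x | ∃ c ∈ bau T ⊓ Q, x = c * c} with hR
  have hRT : R ≤ T := by
    rw [hR, closure_le]
    rintro _ ⟨c, hc, rfl⟩
    exact mul_mem (bau_le T (mem_inf.1 hc).1) (bau_le T (mem_inf.1 hc).1)
  have hR1 : R = ⊥ := by
    refine h.core R hRT ?_ ?_
    · intro g hg r hr
      have hle : R ≤ R.comap (MulAut.conj g).toMonoidHom := by
        nth_rewrite 1 [hR]
        rw [closure_le]
        rintro _ ⟨c, hc, rfl⟩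
        refine subset_closure ⟨g * c * g⁻¹, h.dd.star_norm g hg c hc, ?_⟩
        simp only [MulEquiv.toMonoidHom_eq_coe, MonoidHom.coe_coe, MulAut.conj_apply]
        group
      exact hle hr
    · intro r hr
      have hle : R ≤ R.comap (MulAut.conj s).toMonoidHom := by
        nth_rewrite 1 [hR]
        rw [closure_le]
        rintro _ ⟨c, hc, rfl⟩
        obtain ⟨x, hx, e⟩ := h.sq_star' (b := s * c * s⁻¹) ⟨c, hc, rfl⟩
        refine subset_closure ⟨x, hx, ?_⟩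
        rw [← e]
        simp only [MulEquiv.toMonoidHom_eq_coe, MonoidHom.coe_coe, MulAut.conj_apply]
        group
      exact hle hr
  have h1 : b * b ∈ R := subset_closure ⟨b, hb, rfl⟩
  rw [hR1] at h1
  exact mem_bot.1 h1

theorem star_comm (h : Sit H T Q V V1 V0 q s) [Finite G] {a b : G}
    (ha : a ∈ bau T ⊓ Q) (hb : b ∈ bau T ⊓ Q) : a * b = b * a := by
  have h1 := h.star_sq ha
  have h2 := h.star_sq hb
  have h3 := h.star_sq (mul_mem ha hb)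
  calc a * b = a * 1 * b := by group
    _ = a * (a * b * (a * b)) * b := by rw [h3]
    _ = (a * a) * (b * a) * (b * b) := by group
    _ = b * a := by rw [h1, h2]; group

/-- `B ∩ Q ∩ (B ∩ Q)^s ≤ Z`. -/
theorem E_le (h : Sit H T Q V V1 V0 q s) [Finite G] {e : G} (he : e ∈ bau T ⊓ Q)
    (he' : e ∈ cj s (bau T ⊓ Q)) : e ∈ zj T := by
  have hcB : ∀ b ∈ bau T, b * e = e * b := by
    intro b hb
    obtain ⟨u, hu, x, hx, rfl⟩ := h.split1 hb
    have h1 : x * e = e * x := h.star_comm hx he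
    have h2 : u * e = e * u := by
      obtain ⟨e', he2, rfl⟩ := he'
      obtain ⟨u', hu2, rfl⟩ := hu
      have h3 := h.star_comm (h.Y_le_star hu2) he2
      simp only [MulEquiv.toMonoidHom_eq_coe, MonoidHom.coe_coe, MulAut.conj_apply]
      calc s * u' * s⁻¹ * (s * e' * s⁻¹) = s * (u' * e') * s⁻¹ := by group
        _ = s * (e' * u') * s⁻¹ := by rw [h3]
        _ = _ := by group
    calc u * x * e = u * (x * e) := by group
      _ = (u * e) * x := by rw [h1]; group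
      _ = e * (u * x) := by rw [h2]; group
  have h2 : e ^ 2 = 1 := by rw [pow_two]; exact h.star_sq he
  have hc : ∀ y ∈ jj T, y * e = e * y := fun y hy => hcB y (jj_le_bau T hy)
  exact mem_zj.2 ⟨mem_jj_of_comm (bau_le T (mem_inf.1 he).1) h2 hc, h2, hc⟩

/-- **(4.2)** `B ∩ Q = Y`. -/
theorem star_eq (h : Sit H T Q V V1 V0 q s) [Finite G] : bau T ⊓ Q = Y T V := by
  apply le_antisymm _ h.Y_le_star
  intro b hb
  obtain ⟨y, hy, x, hx, hx', rfl⟩ := h.split3 hb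
  exact mul_mem hy (Z_le_Y T V (h.E_le hx' hx))

/-- `B = Y^s Y` -/
theorem split (h : Sit H T Q V V1 V0 q s) [Finite G] {b : G} (hb : b ∈ bau T) :
    ∃ u ∈ cj s (Y T V), ∃ y ∈ Y T V, b = u * y := by
  obtain ⟨u, hu, x, hx, rfl⟩ := h.split1 hb
  rw [h.star_eq] at hx
  exact ⟨u, hu, x, hx, rfl⟩

theorem split' (h : Sit H T Q V V1 V0 q s) [Finite G] {b : G} (hb : b ∈ bau T) :
    ∃ y ∈ Y T V, ∃ u ∈ cj s (Y T V), b = y * u := by
  obtain ⟨y, hy, x, hx, rfl⟩ := h.split2 hb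
  rw [h.star_eq] at hx
  exact ⟨y, hy, x, hx, rfl⟩

theorem inf_eq (h : Sit H T Q V V1 V0 q s) [Finite G] : Y T V ⊓ cj s (Y T V) = zj T := by
  have := h.Ys_inf_star
  rw [h.star_eq, inf_comm] at this
  exact this

theorem B_cent_Z (h : Sit H T Q V V1 V0 q s) {b z : G} (hb : b ∈ bau T)
    (hz : z ∈ zj T) : b * z = z * b := ((mem_bau.1 hb).2 z hz).symm

/-- `Z(B) = Z`. -/
theorem center (h : Sit H T Q V V1 V0 q s) [Finite G] {x : G} (hx : x ∈ bau T)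
    (hc : ∀ b ∈ bau T, x * b = b * x) : x ∈ zj T := by
  have h1 : x ∈ bau T ⊓ Q :=
    h.dd.mem_star_iff.2 ⟨bau_le T hx, fun y hy => hc y (h.Y_le_B hy)⟩
  rw [h.star_eq] at h1
  exact h.Y_cent h1 fun u hu => (hc u (h.Ys_le_B hu)).symm

/-! ### Involutions and elementary abelian subgroups of `B` -/

theorem Ys_elem (h : Sit H T Q V V1 V0 q s) [Finite G] : IsElementaryAbelian 2 (cj s (Y T V)) :=
  isElementaryAbelian_map h.dd.Y_elem _

theorem Yss (h : Sit H T Q V V1 V0 q s) [Finite G] : cj s (cj s (Y T V)) = Y T V := h.cj_ss h.Y_T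

/-- An element of `B` not in `Y` has centraliser `Z` on `Y`. -/
theorem cent_Y' (h : Sit H T Q V V1 V0 q s) [Finite G] {b y : G} (hb : b ∈ bau T) (hbY : b ∉ Y T V)
    (hy : y ∈ Y T V) (hby : b * y = y * b) : y ∈ zj T := by
  refine h.dd.cent_Y hb (fun hQ => hbY ?_) hy hby
  rw [← h.star_eq]
  exact ⟨hb, hQ⟩

theorem cent_Ys' (h : Sit H T Q V V1 V0 q s) [Finite G] {b y : G} (hb : b ∈ bau T)
    (hbY : b ∉ cj s (Y T V)) (hy : y ∈ cj s (Y T V)) (hby : b * y = y * b) : y ∈ zj T := by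
  have h1 : s⁻¹ * b * s ∈ bau T := by
    rw [← mem_cj, h.cj_bau]; exact hb
  have h2 : s⁻¹ * b * s ∉ Y T V := fun hc => hbY (mem_cj.2 hc)
  have h3 := h.cent_Y' h1 h2 (mem_cj.1 hy) (by
    calc s⁻¹ * b * s * (s⁻¹ * y * s) = s⁻¹ * (b * y) * s := by group
      _ = s⁻¹ * (y * b) * s := by rw [hby]
      _ = _ := by group)
  rw [← mem_cj, h.cj_zj] at h3
  exact h3

/-- (4.3): elements of order `≤ 2` of `B` lie in `Y` or in `Y^s`. -/
theorem inv_mem_or (h : Sit H T Q V V1 V0 q s) [Finite G] {b : G} (hb : b ∈ bau T)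
    (hb2 : b * b = 1) : b ∈ Y T V ∨ b ∈ cj s (Y T V) := by
  obtain ⟨u, hu, y, hy, rfl⟩ := h.split hb
  have hu2 : u * u = 1 := by
    have := elem_sq h.Ys_elem u hu
    rwa [pow_two] at this
  have hy2 := h.Ysq hy
  have hcomm : u * y = y * u := by
    calc u * y = u * (u * y * (u * y)) * y := by rw [hb2]; group
      _ = (u * u) * (y * u) * (y * y) := by group
      _ = y * u := by rw [hu2, hy2]; group
  by_cases hyZ : y ∈ zj T
  · right
    exact mul_mem hu (h.Z_le_Ys hyZ)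
  · left
    refine mul_mem ?_ hy
    by_contra huY
    exact hyZ (h.cent_Y' (h.Ys_le_B hu) huY hy hcomm)

/-- a group is not the union of two proper subgroups -/
theorem le_or_le_of_union {E A C : Subgroup G} (hE : ∀ e ∈ E, e ∈ A ∨ e ∈ C) : E ≤ A ∨ E ≤ C := by
  by_contra hc
  push Not at hc
  obtain ⟨a, ha, haA⟩ := SetLike.not_le_iff_exists.1 hc.1
  obtain ⟨c, hc', hcC⟩ := SetLike.not_le_iff_exists.1 hc.2
  have haC := (hE a ha).resolve_left haA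
  have hcA := (hE c hc').resolve_right hcC
  rcases hE (a * c) (mul_mem ha hc') with h1 | h1
  · apply haA
    have := mul_mem h1 (inv_mem hcA)
    rwa [mul_inv_cancel_right] at this
  · apply hcC
    have := mul_mem (inv_mem haC) h1
    rwa [inv_mul_cancel_left] at this

/-- (4.3): elementary abelian subgroups of `B` lie in `Y` or in `Y^s`. -/
theorem elem_le (h : Sit H T Q V V1 V0 q s) [Finite G] {E : Subgroup G}
    (hE : IsElementaryAbelian 2 E) (hEB : E ≤ bau T) : E ≤ Y T V ∨ E ≤ cj s (Y T V) :=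
  le_or_le_of_union fun e he => h.inv_mem_or (hEB he) (by
    have := elem_sq hE e he
    rwa [pow_two] at this)

/-- `A(T) = {Y, Y^s}`. -/
theorem mem_AA (h : Sit H T Q V V1 V0 q s) [Finite G] {A : Subgroup G} :
    A ∈ AA T ↔ A = Y T V ∨ A = cj s (Y T V) := by
  have hcard : Nat.card (cj s (Y T V)) = Nat.card (Y T V) := card_cj s _
  have hYT : Y T V ≤ T := h.Y_le_B.trans (bau_le T)
  have hYsT : cj s (Y T V) ≤ T := h.Ys_le_B.trans (bau_le T)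
  have key : ∀ A ∈ AA T, A = Y T V ∨ A = cj s (Y T V) := by
    intro A hA
    rcases h.elem_le hA.1 ((le_jj hA).trans (jj_le_bau T)) with h1 | h1
    · left
      exact Subgroup.eq_of_le_of_card_ge h1 (hA.2.2 _ h.dd.Y_elem hYT)
    · right
      exact Subgroup.eq_of_le_of_card_ge h1 (hA.2.2 _ h.Ys_elem hYsT)
  refine ⟨key A, ?_⟩
  have hm : mm T = Nat.card (Y T V) := by
    obtain ⟨A, hA⟩ := AA_nonempty T
    rw [mm_eq hA]
    rcases key A hA with rfl | rfl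
    · rfl
    · exact hcard
  rintro (rfl | rfl)
  · exact mem_AA_iff.2 ⟨h.dd.Y_elem, hYT, hm.le⟩
  · exact mem_AA_iff.2 ⟨h.Ys_elem, hYsT, by rw [hcard, hm]⟩

theorem Y_mem_AA (h : Sit H T Q V V1 V0 q s) [Finite G] : Y T V ∈ AA T := h.mem_AA.2 (Or.inl rfl)

theorem Ys_mem_AA (h : Sit H T Q V V1 V0 q s) [Finite G] : cj s (Y T V) ∈ AA T :=
  h.mem_AA.2 (Or.inr rfl)

/-- `J(T) = B`. -/
theorem jj_eq_bau (h : Sit H T Q V V1 V0 q s) [Finite G] : jj T = bau T := by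
  apply le_antisymm (jj_le_bau T)
  intro b hb
  obtain ⟨u, hu, y, hy, rfl⟩ := h.split hb
  exact mul_mem (le_jj h.Ys_mem_AA hu) (le_jj h.Y_mem_AA hy)

theorem Y_ne_Ys (h : Sit H T Q V V1 V0 q s) [Finite G] : Y T V ≠ cj s (Y T V) := by
  intro e
  obtain ⟨u, hu, huQ⟩ := h.exists_u
  rw [← e] at hu
  exact huQ (h.dd.Y_le_Q hu)

/-! ### Commutators and squares -/

/-- all commutators `[y, b]`, `y ∈ Y`, lie in `D = [V, B] ≤ V1` -/
theorem comm_mem (h : Sit H T Q V V1 V0 q s) [Finite G] {b y : G} (hb : b ∈ bau T)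
    (hy : y ∈ Y T V) : b * y * b⁻¹ * y⁻¹ ∈ V1 := by
  obtain ⟨z, hz, v, hv, rfl⟩ := h.dd.mem_Y hy
  obtain ⟨j, hj, -, hact⟩ := h.dd.bau_act hb
  have h1 : b * v * b⁻¹ * v⁻¹ ∈ V1 := by
    rw [hact v hv]; exact h.dd.quad j hj v hv
  have h2 : b * z = z * b := h.B_cent_Z hb hz
  have e : b * (z * v) * b⁻¹ * (z * v)⁻¹ = z * (b * v * b⁻¹ * v⁻¹) * z⁻¹ := by
    calc b * (z * v) * b⁻¹ * (z * v)⁻¹ = (b * z) * v * b⁻¹ * v⁻¹ * z⁻¹ := by group
      _ = (z * b) * v * b⁻¹ * v⁻¹ * z⁻¹ := by rw [h2]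
      _ = _ := by group
  rw [e]
  have h3 : z * (b * v * b⁻¹ * v⁻¹) = (b * v * b⁻¹ * v⁻¹) * z :=
    (h.B_cent_Z (h.Y_le_B (V_le_Y T V (h.dd.V1V h1))) hz).symm
  rw [h3, mul_inv_cancel_right]
  exact h1

/-- the commutators of elements of `B` lie in `Z` -/
theorem comm_Z (h : Sit H T Q V V1 V0 q s) [Finite G] {a b : G} (ha : a ∈ bau T)
    (hb : b ∈ bau T) : a * b * a⁻¹ * b⁻¹ ∈ zj T := by
  have h1 : ∀ {a y : G}, a ∈ bau T → y ∈ Y T V → a * y * a⁻¹ * y⁻¹ ∈ zj T :=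
    fun ha hy => h.dd.V1_le_Z (h.comm_mem ha hy)
  have h2 : ∀ {a y : G}, a ∈ bau T → y ∈ cj s (Y T V) → a * y * a⁻¹ * y⁻¹ ∈ zj T := by
    intro a y ha hy
    have h3 : s⁻¹ * a * s ∈ bau T := by
      rw [← mem_cj, h.cj_bau]; exact ha
    have h4 := h1 h3 (mem_cj.1 hy)
    have e : s⁻¹ * a * s * (s⁻¹ * y * s) * (s⁻¹ * a * s)⁻¹ * (s⁻¹ * y * s)⁻¹ =
      s⁻¹ * (a * y * a⁻¹ * y⁻¹) * s := by group
    rw [e, ← mem_cj, h.cj_zj] at h4
    exact h4
  obtain ⟨u, hu, y, hy, rfl⟩ := h.split hb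
  have e : a * (u * y) * a⁻¹ * (u * y)⁻¹ = (a * u * a⁻¹ * u⁻¹) * (u * (a * y * a⁻¹ * y⁻¹) * u⁻¹) := by
    group
  rw [e]
  refine mul_mem (h2 ha hu) ?_
  have h3 := h1 ha hy
  rw [h.B_cent_Z (h.Ys_le_B hu) h3, mul_inv_cancel_right]
  exact h3

/-- squares of elements of `B` lie in `V1` -/
theorem sq_mem (h : Sit H T Q V V1 V0 q s) [Finite G] {b : G} (hb : b ∈ bau T) : b * b ∈ V1 := by
  obtain ⟨u, hu, y, hy, rfl⟩ := h.split hb
  have hu2 : u * u = 1 := by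
    have := elem_sq h.Ys_elem u hu
    rwa [pow_two] at this
  have hy2 := h.Ysq hy
  have h1 := h.comm_mem (h.Ys_le_B hu) hy
  have eu : u⁻¹ = u := inv_eq_of_mul_eq_one_left hu2
  have ey : y⁻¹ = y := inv_eq_of_mul_eq_one_left hy2
  rw [eu, ey] at h1
  have e : u * y * (u * y) = u * y * u * y := by group
  rw [e]
  exact h1

theorem comm_elem (h : Sit H T Q V V1 V0 q s) [Finite G] {a b : G} (ha : a ∈ bau T)
    (hb : b ∈ bau T) {z : G} (hz : z ∈ zj T) : a * b * z = z * (a * b) :=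
  h.B_cent_Z (mul_mem ha hb) hz

end Sit

end Cfsg.Agent.Omega.SQ1.MatchOne
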