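import Cfsg.Agent.Omega.SQ1.FFIn

/-!
# SQ1, one block, `b = 1`, `q ≥ 4`: the 2-group `T` acts semilinearly (text 2, (4.5))

`Mid F H T B Y Z C L s`: `L / Y = SL₂(F)`, `Y / C` is a natural module, `B / Y` is the group of upper
unitriangular matrices, `Z / C` its fixed line, `s` normalises `T`, `B = Y Y^s`, `Y ∩ Y^s = Z`,
`C ∩ C^s = 1`, `C_T(Z) = B`.

* `Mid.exists_tw`: `t ∈ T` acts on `Z/C`, `Y/Z`, `B/Y` by `x ↦ a σ(x)`, `x ↦ d σ(x)`,
  `x ↦ (a/d) σ(x)`;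
* `Mid.mem_B`: `σ = 1` if and only if `t ∈ B`;
* `Mid.uniq`, `Mid.free_*`: the fields of `End.Base`.
-/

set_option autoImplicit false
set_option linter.unusedSectionVars false
set_option linter.unusedVariables false

namespace Cfsg.Agent.Omega.SQ1.MidOne

open Subgroup Cfsg Cfsg.Agent.ZN Cfsg.Agent.ZN.ChoiceBase
open Cfsg.Agent.Omega.NatPair Cfsg.Agent.Lib.SL2Mat
open Cfsg.Agent.Omega.SQ1.FFOne
open scoped Pointwise

universe u

variable {G : Type u} [Group G]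

/-- One block `L` with its natural module `Y / C`, and the switching element `s`. -/
structure Mid (F : Type*) [Field F] (H T B Y Z C L : Subgroup G) (s : G) extends
    NatSec F H Y C where
  TH : T ≤ H
  LH : L ≤ H
  BT : B ≤ T
  BL : B ≤ L
  YB : Y ≤ B
  ZY : Z ≤ Y
  two : IsPGroup 2 T
  TL : ∀ t ∈ T, ∀ l ∈ L, t * l * t⁻¹ ∈ L
  TB : ∀ t ∈ T, ∀ b ∈ B, t * b * t⁻¹ ∈ B
  TZ : ∀ t ∈ T, ∀ z ∈ Z, t * z * t⁻¹ ∈ Z
  ind : ∀ l ∈ L, ∃ A : Matrix.SpecialLinearGroup (Fin 2) F, ∀ v ∈ Y, π (l * v * l⁻¹) = ap A (π v)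
  liftL : ∀ A : Matrix.SpecialLinearGroup (Fin 2) F, ∃ l ∈ L, ∀ v ∈ Y, π (l * v * l⁻¹) = ap A (π v)
  kerL : ∀ l ∈ L, (∀ v ∈ Y, π (l * v * l⁻¹) = π v) → l ∈ Y
  upB : ∀ b ∈ B, ∃ c : F, ∀ v ∈ Y, π (b * v * b⁻¹) = ap (up c) (π v)
  cup : ∀ c : F, ∃ b ∈ B, ∀ v ∈ Y, π (b * v * b⁻¹) = ap (up c) (π v)
  Zpi : ∀ y ∈ Y, y ∈ Z ↔ π y 1 = 0
  cC : ∀ c, c ∈ C ↔ c ∈ Y ∧ ∀ l ∈ L, l * c = c * l
  Ycomm : ∀ x ∈ Y, ∀ y ∈ Y, x * y = y * x
  Ysq : ∀ y ∈ Y, y * y = 1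
  BcZ : ∀ b ∈ B, ∀ z ∈ Z, b * z = z * b
  cent : ∀ t ∈ T, (∀ z ∈ Z, t * z = z * t) → t ∈ B
  sT : ∀ t ∈ T, s * t * s⁻¹ ∈ T
  ss : s * s ∈ T
  sB : ∀ b ∈ B, s * b * s⁻¹ ∈ B
  sZ : ∀ z ∈ Z, s * z * s⁻¹ ∈ Z
  prod : ∀ b ∈ B, ∃ y ∈ Y, ∃ y' ∈ Y, b = y * (s * y' * s⁻¹)
  inf : ∀ y ∈ Y, s * y * s⁻¹ ∈ Y → y ∈ Z
  CC : ∀ c ∈ C, s * c * s⁻¹ ∈ C → c = 1

namespace Mid

variable {F : Type*} [Field F] {H T B Y Z C L : Subgroup G} {s : G}

section

variable (M : Mid F H T B Y Z C L s)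

include M

theorem TY {t y : G} (ht : t ∈ T) (hy : y ∈ Y) : t * y * t⁻¹ ∈ Y := M.Vn t (M.TH ht) y hy

theorem LY {l y : G} (hl : l ∈ L) (hy : y ∈ Y) : l * y * l⁻¹ ∈ Y := M.Vn l (M.LH hl) y hy

theorem YT : Y ≤ T := M.YB.trans M.BT

theorem YL : Y ≤ L := M.YB.trans M.BL

theorem CY : C ≤ Y := M.V0V

theorem CZ : C ≤ Z := fun c hc => (M.Zpi c (M.CY hc)).2 (by
  rw [(M.ker c (M.CY hc)).2 hc]; rfl)

theorem inv_sq {y : G} (hy : y ∈ Y) : y⁻¹ = y := inv_eq_of_mul_eq_one_right (M.Ysq y hy)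

theorem piY {y : G} (hy : y ∈ Y) (v : G) (hv : v ∈ Y) : M.π (y * v * y⁻¹) = M.π v := by
  rw [M.Ycomm y hy v hv, mul_inv_cancel_right]

/-- the parameter of `b ∈ B` -/
noncomputable def β (b : G) : F :=
  by classical exact if h : b ∈ B then (M.upB b h).choose else 0

theorem β_spec {b : G} (hb : b ∈ B) {v : G} (hv : v ∈ Y) :
    M.π (b * v * b⁻¹) = ap (up (M.β b)) (M.π v) := by
  have h := (M.upB b hb).choose_spec v hv
  have e : M.β b = (M.upB b hb).choose := by rw [β, dif_pos hb]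
  rw [e]; exact h

theorem ind_β {b : G} (hb : b ∈ B) : M.Ind b (up (M.β b)) := fun _ hv => M.β_spec hb hv

theorem ap_up_one (c : F) (x : Fin 2 → F) : ap (up c) x 1 = x 1 := by
  rw [ap_one', up_10, up_11]; ring

theorem ap_up_zero (c : F) (x : Fin 2 → F) : ap (up c) x 0 = x 0 + c * x 1 := by
  rw [ap_zero', up_00, up_01]; ring

theorem β_eq {b : G} (hb : b ∈ B) {c : F} (hc : M.Ind b (up c)) : M.β b = c :=
  up_inj (M.ind_unique (M.LH (M.BL hb)) (M.ind_β hb) hc)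

theorem β_mul {b b' : G} (hb : b ∈ B) (hb' : b' ∈ B) : M.β (b * b') = M.β b + M.β b' := by
  apply M.β_eq (mul_mem hb hb')
  have h := M.ind_mul (M.LH (M.BL hb)) (M.LH (M.BL hb')) (M.ind_β hb) (M.ind_β hb')
  rwa [up_mul] at h

theorem β_inv {b : G} (hb : b ∈ B) : M.β b⁻¹ = - M.β b := by
  apply M.β_eq (inv_mem hb)
  have h := M.ind_inv (M.LH (M.BL hb)) (M.ind_β hb)
  rwa [up_inv] at h

theorem β_zero_iff {b : G} (hb : b ∈ B) : M.β b = 0 ↔ b ∈ Y := by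
  constructor
  · intro h
    apply M.kerL b (M.BL hb)
    intro v hv
    rw [M.β_spec hb hv, h, up_zero, ap_one]
  · intro h
    apply M.β_eq hb
    intro v hv
    rw [M.piY h v hv, up_zero, ap_one]

theorem β_surj (c : F) : ∃ b ∈ B, M.β b = c := by
  obtain ⟨b, hb, h⟩ := M.cup c
  exact ⟨b, hb, M.β_eq hb h⟩

theorem tY_iff {t y : G} (ht : t ∈ T) : t * y * t⁻¹ ∈ Y ↔ y ∈ Y := by
  constructor
  · intro h
    have h1 := M.TY (inv_mem ht) h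
    have e : t⁻¹ * (t * y * t⁻¹) * t⁻¹⁻¹ = y := by group
    rwa [e] at h1
  · exact M.TY ht

end

/-- `t` acts as `x ↦ a σ(x)` on `Z/C`, as `x ↦ d σ(x)` on `Y/Z`. -/
structure Tw (M : Mid F H T B Y Z C L s) (t : G) (σ : F ≃+* F) (a d : F) : Prop where
  a0 : a ≠ 0
  d0 : d ≠ 0
  one : ∀ v ∈ Y, M.π (t * v * t⁻¹) 1 = d * σ (M.π v 1)
  zero : ∀ z ∈ Z, M.π (t * z * t⁻¹) 0 = a * σ (M.π z 0)
  bet : ∀ b ∈ B, d * M.β (t * b * t⁻¹) = a * σ (M.β b)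

section

variable (M : Mid F H T B Y Z C L s)

theorem exists_tw [Finite F] {t : G} (ht : t ∈ T) : ∃ σ a d, M.Tw t σ a d := by
  have htH := M.TH ht
  obtain ⟨σ, hσ⟩ := M.exists_semi htH
  obtain ⟨z₁, hz₁, e₁⟩ := M.surj ![1, 0]
  obtain ⟨y₂, hy₂, e₂⟩ := M.surj ![0, 1]
  have hz₁Z : z₁ ∈ Z := (M.Zpi z₁ hz₁).2 (by rw [e₁]; rfl)
  set w₁ := M.act t ![1, 0] with hw₁
  set w₂ := M.act t ![0, 1] with hw₂
  have hw₁1 : w₁ 1 = 0 := by
    rw [hw₁, ← e₁, M.act_π htH hz₁]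
    exact (M.Zpi _ (M.TY ht hz₁)).1 (M.TZ t ht z₁ hz₁Z)
  have hact : ∀ x : Fin 2 → F, M.act t x = σ (x 0) • w₁ + σ (x 1) • w₂ := by
    intro x
    have e : x = x 0 • ![1, 0] + x 1 • ![0, 1] := by
      apply ext2
      · simp
      · simp
    conv_lhs => rw [e]
    rw [M.act_add htH, hσ, hσ]
  have hone : ∀ x : Fin 2 → F, M.act t x 1 = w₂ 1 * σ (x 1) := by
    intro x
    rw [hact, Pi.add_apply, Pi.smul_apply, Pi.smul_apply, hw₁1, smul_eq_mul, smul_eq_mul]; ring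
  have hzero : ∀ x : Fin 2 → F, x 1 = 0 → M.act t x 0 = w₁ 0 * σ (x 0) := by
    intro x hx
    rw [hact, hx, map_zero, zero_smul, add_zero, Pi.smul_apply, smul_eq_mul]; ring
  have ha0 : w₁ 0 ≠ 0 := by
    intro h0
    have h1 : w₁ = 0 := ext2 h0 hw₁1
    have h2 := M.act_inv_act htH ![1, 0]
    rw [← hw₁, h1, M.act_zero (inv_mem htH)] at h2
    have h3 := congrFun h2 0
    simp at h3
  have hd0 : w₂ 1 ≠ 0 := by
    intro h0
    have h1 := M.act_act_inv htH ![0, 1]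
    have h2 := hone (M.act t⁻¹ ![0, 1])
    rw [h1, h0, zero_mul] at h2
    simp at h2
  refine ⟨σ, w₁ 0, w₂ 1, ha0, hd0, ?_, ?_, ?_⟩
  · intro v hv
    rw [← M.act_π htH hv, hone]
  · intro z hz
    have hzY := M.ZY hz
    rw [← M.act_π htH hzY, hzero _ ((M.Zpi z hzY).1 hz)]
  · intro b hb
    have hb' := M.TB t ht b hb
    have h1 := M.β_spec hb' (M.TY ht hy₂)
    have e3 : t * b * t⁻¹ * (t * y₂ * t⁻¹) * (t * b * t⁻¹)⁻¹ = t * (b * y₂ * b⁻¹) * t⁻¹ := by group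
    have hb2 := M.LY (M.BL hb) hy₂
    rw [e3, ← M.act_π htH hb2, ← M.act_π htH hy₂, M.β_spec hb hy₂, e₂] at h1
    have h2 := congrFun h1 0
    rw [M.ap_up_zero, hone, hact, hact, Pi.add_apply, Pi.add_apply] at h2
    simp only [Pi.smul_apply, smul_eq_mul, M.ap_up_zero, M.ap_up_one] at h2
    simp at h2
    linear_combination -h2

variable {M}

theorem Tw.mul {t t' : G} {σ σ' : F ≃+* F} {a a' d d' : F} (h : M.Tw t σ a d)
    (h' : M.Tw t' σ' a' d') (ht : t ∈ T) (ht' : t' ∈ T) :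
    M.Tw (t * t') (σ'.trans σ) (a * σ a') (d * σ d') where
  a0 := mul_ne_zero h.a0 (by simpa using h'.a0)
  d0 := mul_ne_zero h.d0 (by simpa using h'.d0)
  one := by
    intro v hv
    have e : t * t' * v * (t * t')⁻¹ = t * (t' * v * t'⁻¹) * t⁻¹ := by group
    rw [e, h.one _ (M.TY ht' hv), h'.one v hv, map_mul, RingEquiv.trans_apply, mul_assoc]
  zero := by
    intro z hz
    have e : t * t' * z * (t * t')⁻¹ = t * (t' * z * t'⁻¹) * t⁻¹ := by group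
    rw [e, h.zero _ (M.TZ t' ht' z hz), h'.zero z hz, map_mul, RingEquiv.trans_apply, mul_assoc]
  bet := by
    intro b hb
    have e : t * t' * b * (t * t')⁻¹ = t * (t' * b * t'⁻¹) * t⁻¹ := by group
    have h1 := h.bet _ (M.TB t' ht' b hb)
    have h2 := congrArg σ (h'.bet b hb)
    rw [map_mul, map_mul] at h2
    rw [e, RingEquiv.trans_apply]
    calc d * σ d' * M.β (t * (t' * b * t'⁻¹) * t⁻¹) = σ d' * (d * M.β (t * (t' * b * t'⁻¹) * t⁻¹)) := by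
          ring
      _ = a * (σ d' * σ (M.β (t' * b * t'⁻¹))) := by rw [h1]; ring
      _ = a * σ a' * σ (σ' (M.β b)) := by rw [h2]; ring

variable (M)

theorem B_comm_mem {b v : G} (hb : b ∈ B) (hv : v ∈ Y) : M.π (b * v * b⁻¹) 1 = M.π v 1 := by
  rw [M.β_spec hb hv, M.ap_up_one]

theorem tw_B {b : G} (hb : b ∈ B) : M.Tw b (RingEquiv.refl F) 1 1 where
  a0 := one_ne_zero
  d0 := one_ne_zero
  one := by
    intro v hv
    rw [M.B_comm_mem hb hv, one_mul]; rfl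
  zero := by
    intro z hz
    rw [M.BcZ b hb z hz, mul_inv_cancel_right, one_mul]; rfl
  bet := by
    intro x hx
    rw [M.β_mul (mul_mem hb hx) (inv_mem hb), M.β_mul hb hx, M.β_inv hb, one_mul, one_mul]
    show M.β b + M.β x + -M.β b = M.β x
    ring

variable {M}

theorem Tw.unique {t : G} {σ σ' : F ≃+* F} {a a' d d' : F} (h : M.Tw t σ a d)
    (h' : M.Tw t σ' a' d') : σ = σ' ∧ a = a' ∧ d = d' := by
  have h1 : ∀ x, a * σ x = a' * σ' x := by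
    intro x
    obtain ⟨z, hz, e⟩ := M.surj ![x, 0]
    have hzZ : z ∈ Z := (M.Zpi z hz).2 (by rw [e]; rfl)
    have h2 := h.zero z hzZ
    rw [h'.zero z hzZ, e] at h2
    exact h2.symm
  have h2 := h1 1
  rw [map_one, map_one, mul_one, mul_one] at h2
  have h3 : ∀ x, d * σ x = d' * σ' x := by
    intro x
    obtain ⟨z, hz, e⟩ := M.surj ![0, x]
    have h2 := h.one z hz
    rw [h'.one z hz, e] at h2
    exact h2.symm
  have h4 := h3 1
  rw [map_one, map_one, mul_one, mul_one] at h4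
  refine ⟨?_, h2, h4⟩
  ext x
  have h5 := h1 x
  rw [← h2] at h5
  exact mul_left_cancel₀ h.a0 h5

theorem Tw.pow {t : G} {a d : F} (h : M.Tw t (RingEquiv.refl F) a d) (ht : t ∈ T) (n : ℕ) :
    M.Tw (t ^ n) (RingEquiv.refl F) (a ^ n) (d ^ n) := by
  induction n with
  | zero =>
    simp only [pow_zero]
    exact M.tw_B (one_mem B)
  | succ n ih =>
    have h1 := ih.mul h (pow_mem ht n) ht
    rw [pow_succ, pow_succ, pow_succ]
    exact h1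

/-- Linear elements of `T` act trivially. -/
theorem Tw.eq_one [Finite G] [CharP F 2] {t : G} {a d : F} (h : M.Tw t (RingEquiv.refl F) a d)
    (ht : t ∈ T) : a = 1 ∧ d = 1 := by
  obtain ⟨k, hk⟩ := M.two ⟨t, ht⟩
  have hk' : t ^ 2 ^ k = 1 := by simpa using congrArg Subtype.val hk
  have h1 := h.pow ht (2 ^ k)
  rw [hk'] at h1
  obtain ⟨-, h2, h3⟩ := h1.unique (M.tw_B (one_mem B))
  exact ⟨FF.eq_one_of_pow' h2, FF.eq_one_of_pow' h3⟩

end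

section

variable (M : Mid F H T B Y Z C L s)

include M

theorem sC_inv {X : Subgroup G} [Finite G] (h : ∀ x ∈ X, s * x * s⁻¹ ∈ X) :
    ∀ x ∈ X, s⁻¹ * x * s ∈ X := by
  have h1 : cj s X = X := by
    apply Subgroup.eq_of_le_of_card_ge
    · rintro _ ⟨x, hx, rfl⟩
      exact h x hx
    · rw [card_cj]
  intro x hx
  rw [← mem_cj, h1]
  exact hx

/-- `t ∈ T` with `σ_t = 1` lies in `B`. -/
theorem mem_B [Finite G] [Finite F] [CharP F 2] {t : G} (ht : t ∈ T) {a d : F}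
    (h : M.Tw t (RingEquiv.refl F) a d) : t ∈ B := by
  obtain ⟨ha, hd⟩ := h.eq_one ht
  subst ha hd
  -- the switched element
  have ht' := M.sT t ht
  obtain ⟨σ', a', d', h'⟩ := M.exists_tw ht'
  -- `t` acts trivially on `Y/Z`, so `s t s⁻¹` acts trivially on `B/Y`
  have key : ∀ c : F, a' * σ' c = d' * c := by
    intro c
    obtain ⟨b, hb, rfl⟩ := M.β_surj c
    obtain ⟨y, hy, y', hy', rfl⟩ := M.prod b hb
    have hsy : s * y' * s⁻¹ ∈ B := M.sB _ (M.YB hy')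
    have hβ : M.β (y * (s * y' * s⁻¹)) = M.β (s * y' * s⁻¹) := by
      rw [M.β_mul (M.YB hy) hsy, (M.β_zero_iff (M.YB hy)).2 hy, zero_add]
    have h1 := h'.bet _ hsy
    have h2 : t * y' * t⁻¹ * y'⁻¹ ∈ Z := by
      have h3 : t * y' * t⁻¹ * y'⁻¹ ∈ Y := mul_mem (M.TY ht hy') (inv_mem hy')
      rw [M.Zpi _ h3, M.map_mul _ (M.TY ht hy') _ (inv_mem hy'), M.map_inv hy', Pi.add_apply,
        Pi.neg_apply, h.one y' hy', one_mul]
      exact add_neg_cancel _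
    have h3 := M.sZ _ h2
    have e : s * t * s⁻¹ * (s * y' * s⁻¹) * (s * t * s⁻¹)⁻¹ =
      s * (t * y' * t⁻¹ * y'⁻¹) * s⁻¹ * (s * y' * s⁻¹) := by group
    rw [e, M.β_mul (M.YB (M.ZY h3)) hsy, (M.β_zero_iff (M.YB (M.ZY h3))).2 (M.ZY h3), zero_add] at h1
    rw [hβ]
    exact h1.symm
  have h1 := key 1
  rw [map_one, mul_one, mul_one] at h1
  have hσ : σ' = RingEquiv.refl F := by
    ext c
    have h2 := key c
    rw [h1] at h2
    exact mul_left_cancel₀ h'.d0 h2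
  subst hσ
  obtain ⟨ha', hd'⟩ := h'.eq_one ht'
  subst ha' hd'
  apply M.cent t ht
  intro z hz
  have hZ1 : ∀ {u : G}, u ∈ T → M.Tw u (RingEquiv.refl F) 1 1 → ∀ z ∈ Z, u * z * u⁻¹ * z⁻¹ ∈ C := by
    intro u hu hw z hz
    have hzY := M.ZY hz
    have h3 : u * z * u⁻¹ * z⁻¹ ∈ Y := mul_mem (M.TY hu hzY) (inv_mem hzY)
    rw [← M.ker _ h3, M.map_mul _ (M.TY hu hzY) _ (inv_mem hzY), M.map_inv hzY]
    apply NatPair.ext2
    · rw [Pi.add_apply, Pi.neg_apply, hw.zero z hz, one_mul]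
      exact add_neg_cancel _
    · rw [Pi.add_apply, Pi.neg_apply, hw.one z hzY, one_mul]
      exact add_neg_cancel _
  have h3 := hZ1 ht h z hz
  have h4 := hZ1 ht' h' _ (M.sZ z hz)
  have e : s * t * s⁻¹ * (s * z * s⁻¹) * (s * t * s⁻¹)⁻¹ * (s * z * s⁻¹)⁻¹ =
    s * (t * z * t⁻¹ * z⁻¹) * s⁻¹ := by group
  rw [e] at h4
  have h5 := M.CC _ h3 h4
  exact mul_inv_eq_iff_eq_mul.1 (mul_inv_eq_one.1 h5)

end

end Mid

end Cfsg.Agent.Omega.SQ1.MidOne
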