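import Cfsg.Agent.Omega.SQ1.Mid
import Cfsg.Agent.Omega.SQ1.End1
import Cfsg.Agent.Omega.SQ1.NSOf
import Cfsg.Agent.LieRecognition.FieldSemilinear

/-!
# SQ1, one block, `b = 1`, `q ≥ 4`: the fields of `End.Base`
-/

set_option autoImplicit false
set_option linter.unusedSectionVars false
set_option linter.unusedVariables false

namespace Cfsg.Agent.Omega.SQ1.MidOne

open Subgroup Cfsg Cfsg.Agent.ZN Cfsg.Agent.ZN.ChoiceBase
open Cfsg.Agent.Omega.NatPair Cfsg.Agent.Lib.SL2Mat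
open Cfsg.Agent.Omega.SQ1.FFOne Cfsg.Agent.Omega.SQ1.End
open scoped Pointwise

universe u

variable {G : Type u} [Group G]

/-- `F` has at most one automorphism of order two. -/
theorem unique_invol (F : Type*) [Field F] [Finite F] {σ τ : F ≃+* F} (hσ : σ ≠ 1) (hτ : τ ≠ 1)
    (hσ2 : σ * σ = 1) (hτ2 : τ * τ = 1) : σ = τ := by
  classical
  have hc : IsCyclic (F ≃+* F) := LieRecognition.FieldSemilinear.isCyclic_ringAut F
  have hfin : Finite (F ≃+* F) := Finite.of_injective (fun σ : F ≃+* F => (σ : F → F)) DFunLike.coe_injective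
  have := Fintype.ofFinite (F ≃+* F)
  by_contra hne
  have h1 := hc.card_pow_eq_one_le (n := 2) (by norm_num)
  have h2 : ({1, σ, τ} : Finset (F ≃+* F)) ⊆ Finset.univ.filter (fun a => a ^ 2 = 1) := by
    intro x hx
    simp only [Finset.mem_insert, Finset.mem_singleton] at hx
    simp only [Finset.mem_filter, Finset.mem_univ, true_and]
    rcases hx with rfl | rfl | rfl
    · exact one_pow 2
    · rw [pow_two]; exact hσ2
    · rw [pow_two]; exact hτ2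
  have h3 := Finset.card_le_card h2
  rw [Finset.card_eq_three.2 ⟨1, σ, τ, fun h => hσ h.symm, fun h => hτ h.symm, hne, rfl⟩] at h3
  omega

/-- An involution `σ` of `F` has an element of trace one. -/
theorem exists_trace_one {F : Type*} [Field F] [CharP F 2] {σ : F ≃+* F} (hσ : σ ≠ 1)
    (hσ2 : ∀ x, σ (σ x) = x) : ∃ c : F, c + σ c = 1 := by
  have h1 : ∃ x, σ x ≠ x := by
    by_contra h
    push Not at h
    exact hσ (by ext x; exact h x)
  obtain ⟨x, hx⟩ := h1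
  have hf : x + σ x ≠ 0 := by
    intro h
    apply hx
    have := eq_neg_of_add_eq_zero_right h
    rwa [CharTwo.neg_eq] at this
  refine ⟨x / (x + σ x), ?_⟩
  rw [map_div₀, map_add, hσ2, add_comm (σ x) x, ← add_div, div_self hf]

theorem free_cj {s t : G} {X X0 : Subgroup G} (h : Free (s⁻¹ * t * s) X X0) :
    Free t (cj s X) (cj s X0) := by
  intro x hx hx2
  rw [mem_cj] at hx hx2
  obtain ⟨u, hu, hu2⟩ := h _ hx (by
    have e : (s⁻¹ * x * s)⁻¹ * (s⁻¹ * t * s * (s⁻¹ * x * s) * (s⁻¹ * t * s)⁻¹) =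
      s⁻¹ * (x⁻¹ * (t * x * t⁻¹)) * s := by group
    rw [e]; exact hx2)
  refine ⟨s * u * s⁻¹, ?_, ?_⟩
  · rw [mem_cj]
    have e : s⁻¹ * (s * u * s⁻¹) * s = u := by group
    rwa [e]
  · rw [mem_cj]
    have e : s⁻¹ * (x⁻¹ * (s * u * s⁻¹ * (t * (s * u * s⁻¹) * t⁻¹))) * s =
      (s⁻¹ * x * s)⁻¹ * (u * (s⁻¹ * t * s * u * (s⁻¹ * t * s)⁻¹)) := by group
    rwa [e]

namespace Mid

variable {F : Type*} [Field F] {H T B Y Z C L : Subgroup G} {s : G}
variable (M : Mid F H T B Y Z C L s)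

include M

/-- `t ∈ T - B` with `t² ∈ B`: `σ_t` is an involution. -/
theorem tw_sq [Finite G] [Finite F] [CharP F 2] {t : G} (ht : t ∈ T) (htB : t ∉ B)
    (ht2 : t * t ∈ B) : ∃ σ a d, M.Tw t σ a d ∧ σ ≠ 1 ∧ σ * σ = 1 ∧ a * σ a = 1 ∧ d * σ d = 1 := by
  obtain ⟨σ, a, d, h⟩ := M.exists_tw ht
  obtain ⟨h1, h2, h3⟩ := (h.mul h ht ht).unique (M.tw_B ht2)
  refine ⟨σ, a, d, h, ?_, ?_, h2, h3⟩
  · rintro rfl
    exact htB (M.mem_B ht h)
  · exact h1

theorem uniq [Finite G] [Finite F] [CharP F 2] (t : G) (ht : t ∈ T) (htB : t ∉ B)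
    (ht2 : t * t ∈ B) (t' : G) (ht' : t' ∈ T) (htB' : t' ∉ B) (ht2' : t' * t' ∈ B) :
    t⁻¹ * t' ∈ B := by
  obtain ⟨σ, a, d, h, hσ, hσ2, -, -⟩ := M.tw_sq ht htB ht2
  obtain ⟨σ', a', d', h', hσ', hσ2', -, -⟩ := M.tw_sq ht' htB' ht2'
  have e := unique_invol F hσ hσ' hσ2 hσ2'
  subst e
  have hti : t⁻¹ ∉ B := fun hx => htB (by simpa using inv_mem hx)
  have hti2 : t⁻¹ * t⁻¹ ∈ B := by
    have h1 := inv_mem ht2
    have e : (t * t)⁻¹ = t⁻¹ * t⁻¹ := by group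
    rwa [e] at h1
  obtain ⟨τ, a₁, d₁, k, hτ, hτ2, -, -⟩ := M.tw_sq (inv_mem ht) hti hti2
  have e := unique_invol F hσ hτ hσ2 hτ2
  subst e
  have h1 := k.mul h' (inv_mem ht) ht'
  have e : σ.trans σ = RingEquiv.refl F := hσ2
  rw [e] at h1
  exact M.mem_B (mul_mem (inv_mem ht) ht') h1

theorem π_mem_Z {v : G} (hv : v ∈ Y) (h : M.π v 1 = 0) : v ∈ Z := (M.Zpi v hv).2 h

theorem free_YZ [Finite G] [Finite F] [CharP F 2] {t : G} (ht : t ∈ T) (htB : t ∉ B)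
    (ht2 : t * t ∈ B) : Free t Y Z := by
  obtain ⟨σ, a, d, h, hσ, hσ2, ha, hd⟩ := M.tw_sq ht htB ht2
  obtain ⟨c, hc⟩ := exists_trace_one hσ (fun x => by
    have := congrArg (fun τ : F ≃+* F => τ x) hσ2; exact this)
  intro x hx hx2
  have htx := M.TY ht hx
  have h1 : d * σ (M.π x 1) = M.π x 1 := by
    have h2 := (M.Zpi _ (mul_mem (inv_mem hx) htx)).1 hx2
    rw [M.map_mul _ (inv_mem hx) _ htx, M.map_inv hx, Pi.add_apply, Pi.neg_apply, h.one x hx] at h2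
    linear_combination h2
  obtain ⟨u, hu, e⟩ := M.surj ![0, c * M.π x 1]
  refine ⟨u, hu, ?_⟩
  have htu := M.TY ht hu
  apply M.π_mem_Z (mul_mem (inv_mem hx) (mul_mem hu htu))
  rw [M.map_mul _ (inv_mem hx) _ (mul_mem hu htu), M.map_inv hx, M.map_mul u hu _ htu, Pi.add_apply,
    Pi.add_apply, Pi.neg_apply, h.one u hu, e]
  simp only [Matrix.cons_val_one, Matrix.cons_val_fin_one, map_mul]
  linear_combination (σ c) * h1 + (M.π x 1) * hc

theorem free_ZC [Finite G] [Finite F] [CharP F 2] {t : G} (ht : t ∈ T) (htB : t ∉ B)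
    (ht2 : t * t ∈ B) : Free t Z C := by
  obtain ⟨σ, a, d, h, hσ, hσ2, ha, hd⟩ := M.tw_sq ht htB ht2
  obtain ⟨c, hc⟩ := exists_trace_one hσ (fun x => by
    have := congrArg (fun τ : F ≃+* F => τ x) hσ2; exact this)
  intro x hxZ hx2
  have hx := M.ZY hxZ
  have htx := M.TY ht hx
  have h1 : a * σ (M.π x 0) = M.π x 0 := by
    have h2 := congrFun ((M.ker _ (mul_mem (inv_mem hx) htx)).2 hx2) 0
    rw [M.map_mul _ (inv_mem hx) _ htx, M.map_inv hx, Pi.add_apply, Pi.neg_apply,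
      h.zero x hxZ] at h2
    have h3 : -(M.π x 0) + a * σ (M.π x 0) = 0 := h2
    linear_combination h3
  obtain ⟨u, hu, e⟩ := M.surj ![c * M.π x 0, 0]
  have huZ : u ∈ Z := M.π_mem_Z hu (by rw [e]; rfl)
  refine ⟨u, huZ, ?_⟩
  have htu := M.TY ht hu
  rw [← M.ker _ (mul_mem (inv_mem hx) (mul_mem hu htu)), M.map_mul _ (inv_mem hx) _ (mul_mem hu htu),
    M.map_inv hx, M.map_mul u hu _ htu]
  apply NatPair.ext2
  · rw [Pi.add_apply, Pi.add_apply, Pi.neg_apply, h.zero u huZ, e]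
    simp only [Matrix.cons_val_zero, map_mul]
    show -(M.π x 0) + (c * M.π x 0 + a * (σ c * σ (M.π x 0))) = 0
    linear_combination (σ c) * h1 + (M.π x 0) * hc
  · rw [Pi.add_apply, Pi.add_apply, Pi.neg_apply, h.one u hu, (M.Zpi x hx).1 hxZ,
      (M.Zpi u hu).1 huZ, map_zero, mul_zero, add_zero, neg_zero, add_zero]
    rfl

theorem free_BY [Finite G] [Finite F] [CharP F 2] {t : G} (ht : t ∈ T) (htB : t ∉ B)
    (ht2 : t * t ∈ B) : Free t B Y := by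
  obtain ⟨σ, a, d, h, hσ, hσ2, ha, hd⟩ := M.tw_sq ht htB ht2
  obtain ⟨c, hc⟩ := exists_trace_one hσ (fun x => by
    have := congrArg (fun τ : F ≃+* F => τ x) hσ2; exact this)
  intro x hx hx2
  have htx := M.TB t ht x hx
  have h1 : M.β (t * x * t⁻¹) = M.β x := by
    have h2 := (M.β_zero_iff (mul_mem (inv_mem hx) htx)).2 hx2
    rw [M.β_mul (inv_mem hx) htx, M.β_inv hx] at h2
    linear_combination h2
  have h2 := h.bet x hx
  rw [h1] at h2
  obtain ⟨u, hu, e⟩ := M.β_surj (c * M.β x)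
  refine ⟨u, hu, ?_⟩
  have htu := M.TB t ht u hu
  rw [← M.β_zero_iff (mul_mem (inv_mem hx) (mul_mem hu htu)), M.β_mul (inv_mem hx) (mul_mem hu htu),
    M.β_inv hx, M.β_mul hu htu, e]
  have h3 := h.bet u hu
  rw [e, map_mul] at h3
  apply mul_left_cancel₀ h.d0
  rw [mul_zero]
  linear_combination h3 + (σ c) * (-h2) + (d * M.β x) * hc

/-! ### The switched side -/

theorem sT' [Finite G] {t : G} (ht : t ∈ T) : s⁻¹ * t * s ∈ T := M.sC_inv M.sT t ht

theorem sB' [Finite G] {t : G} (ht : t ∈ B) : s⁻¹ * t * s ∈ B := M.sC_inv M.sB t ht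

theorem sZ' [Finite G] {t : G} (ht : t ∈ Z) : s⁻¹ * t * s ∈ Z := M.sC_inv M.sZ t ht

theorem cjB [Finite G] : cj s B = B := by
  ext x
  rw [mem_cj]
  constructor
  · intro h
    have h1 := M.sB _ h
    have e : s * (s⁻¹ * x * s) * s⁻¹ = x := by group
    rwa [e] at h1
  · exact M.sB'

theorem cjT [Finite G] : cj s T = T := by
  ext x
  rw [mem_cj]
  constructor
  · intro h
    have h1 := M.sT _ h
    have e : s * (s⁻¹ * x * s) * s⁻¹ = x := by group
    rwa [e] at h1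
  · exact M.sT'

theorem cjZ [Finite G] : cj s Z = Z := by
  ext x
  rw [mem_cj]
  constructor
  · intro h
    have h1 := M.sZ _ h
    have e : s * (s⁻¹ * x * s) * s⁻¹ = x := by group
    rwa [e] at h1
  · exact M.sZ'

theorem sw [Finite G] {t : G} (ht : t ∈ T) (htB : t ∉ B) (ht2 : t * t ∈ B) :
    s⁻¹ * t * s ∈ T ∧ s⁻¹ * t * s ∉ B ∧ s⁻¹ * t * s * (s⁻¹ * t * s) ∈ B := by
  refine ⟨M.sT' ht, fun h => htB ?_, ?_⟩
  · have h1 := M.sB _ h
    have e : s * (s⁻¹ * t * s) * s⁻¹ = t := by group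
    rwa [e] at h1
  · have h1 := M.sB' ht2
    have e : s⁻¹ * (t * t) * s = s⁻¹ * t * s * (s⁻¹ * t * s) := by group
    rwa [e] at h1

theorem free_YZ' [Finite G] [Finite F] [CharP F 2] {t : G} (ht : t ∈ T) (htB : t ∉ B)
    (ht2 : t * t ∈ B) : Free t (cj s Y) Z := by
  obtain ⟨h1, h2, h3⟩ := M.sw ht htB ht2
  have h4 := free_cj (M.free_YZ h1 h2 h3)
  rwa [M.cjZ] at h4

theorem free_ZC' [Finite G] [Finite F] [CharP F 2] {t : G} (ht : t ∈ T) (htB : t ∉ B)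
    (ht2 : t * t ∈ B) : Free t Z (cj s C) := by
  obtain ⟨h1, h2, h3⟩ := M.sw ht htB ht2
  have h4 := free_cj (M.free_ZC h1 h2 h3)
  rwa [M.cjZ] at h4

theorem free_BY' [Finite G] [Finite F] [CharP F 2] {t : G} (ht : t ∈ T) (htB : t ∉ B)
    (ht2 : t * t ∈ B) : Free t B (cj s Y) := by
  obtain ⟨h1, h2, h3⟩ := M.sw ht htB ht2
  have h4 := free_cj (M.free_BY h1 h2 h3)
  rwa [M.cjB] at h4

end Mid

end Cfsg.Agent.Omega.SQ1.MidOne
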