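import Cfsg.Agent.ZN.ChoiceBase
import Cfsg.Agent.PLocal.ElemAbSup

/-!
# SQ1, the end for `k = 1`, `q ≥ 4`: (F), (NS), (5.3)  (#11812)

`B = ⟨Y, Y'⟩` weakly closed in its normaliser, `Y' = Y^s`, `L = ⟨B^L⟩ ≤ N(Y)`, `C = C_Y(L)`,
`C' = C^s`, `C ∩ C' = 1`, `K ≤ N_L(B)` of odd order and transitive on `(Z / C) - 0`, `Z = Y ∩ Y'`;
`z₀ ∈ Z`, `z₀ ≠ 1`, commutes with `s` and `C_G(z₀) ≤ N_G(B)`.

* `mem_of_fused` = (F), `NSIn.normal` = (NS): `L` is normal in `N_G(Y)`;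
* `NSIn.dich` = (5.3): `C = 1` (type `L₃`) or `Z = C × C'` (type `Sp₄`);
* `Good z`: `z ∈ Z - (C ∪ C')`; `NSIn.go1`: `N_G(B) ∩ N(Y) ∩ N(Y')` is transitive on the good
  elements; `NSIn.go2`: a nontrivial element of `Z` centralised by an element which swaps `Y` and
  `Y'` is good; `NSIn.cent_good`: `C_G(z) ≤ N_G(B)` for `z` good; `NSIn.fused_good`.
-/

set_option autoImplicit false

namespace Cfsg.Agent.Omega.SQ1.NS

open Subgroup Cfsg Cfsg.Agent.PLocal.ThompsonJ Cfsg.Agent.ZN Cfsg.Agent.ZN.ChoiceBase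

universe u

variable {G : Type u} [Group G]

theorem cj_le_of {g : G} {H K : Subgroup G} (h : ∀ x ∈ H, g * x * g⁻¹ ∈ K) : cj g H ≤ K := by
  intro x hx
  have h1 := h _ (mem_cj.1 hx)
  have e : g * (g⁻¹ * x * g) * g⁻¹ = x := by group
  rwa [e] at h1

theorem mem_of_cj_le {g : G} {H K : Subgroup G} (h : cj g H ≤ K) {x : G} (hx : x ∈ H) :
    g * x * g⁻¹ ∈ K := by
  apply h
  rw [mem_cj]
  have e : g⁻¹ * (g * x * g⁻¹) * g = x := by group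
  rwa [e]

theorem conj_mem_cj {g x : G} {H : Subgroup G} (hx : x ∈ H) : g * x * g⁻¹ ∈ cj g H :=
  mem_of_cj_le le_rfl hx

/-- The weak closure of `B = J(S)` in `N_G(B)`. -/
theorem weak_of_jj [Finite G] {S B : Subgroup G} (hS : IsPGroup 2 S) (hJ : jj S = B)
    (hSyl : ∀ P : Subgroup G, IsPGroup 2 P → P ≤ normalizer (B : Set G) →
      ∃ n ∈ normalizer (B : Set G), cj n P ≤ S) (x : G)
    (hx : ∀ b ∈ B, x * b * x⁻¹ ∈ normalizer (B : Set G)) : x ∈ normalizer (B : Set G) := by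
  have hBS : B ≤ S := hJ ▸ jj_le S
  obtain ⟨n, hn, hnS⟩ := hSyl (cj x B) (isPGroup_cj x (hS.to_le hBS)) (cj_le_of hx)
  rw [cj_cj] at hnS
  have h1 : cj (n * x) B ≤ B := by
    have h2 : jj (cj (n * x) B) ≤ jj S := by
      refine jj_mono hnS ?_
      rw [mm_cj, ← hJ]
      exact (mm_eq_of_jj_le (T := jj S) (U := S) le_rfl (jj_le S)).ge
    rw [jj_cj, ← hJ, jj_eq_of_jj_le (T := jj S) (U := S) le_rfl (jj_le S)] at h2
    rw [← hJ]
    exact h2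
  have h3 : n * x ∈ normalizer (B : Set G) := mem_normalizer_of_cj_le h1
  have h4 := mul_mem (inv_mem hn) h3
  rwa [inv_mul_cancel_left] at h4

/-- (F) -/
theorem mem_of_fused {B : Subgroup G}
    (hw : ∀ x : G, (∀ b ∈ B, x * b * x⁻¹ ∈ normalizer (B : Set G)) → x ∈ normalizer (B : Set G))
    {z g : G} (hz : ∀ x, x * z = z * x → x ∈ normalizer (B : Set G))
    (hg : ∀ b ∈ B, b * (g * z * g⁻¹) = (g * z * g⁻¹) * b) : g ∈ normalizer (B : Set G) := by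
  rw [← inv_mem_iff]
  apply hw
  intro b hb
  apply hz
  have h1 := hg b hb
  have h2 : g⁻¹ * (b * (g * z * g⁻¹)) * g = g⁻¹ * ((g * z * g⁻¹) * b) * g := by rw [h1]
  have e1 : g⁻¹ * (b * (g * z * g⁻¹)) * g = g⁻¹ * b * g⁻¹⁻¹ * z := by group
  have e2 : g⁻¹ * ((g * z * g⁻¹) * b) * g = z * (g⁻¹ * b * g⁻¹⁻¹) := by group
  rw [← e1, ← e2, h2]

/-- (NS) -/
theorem normal_of [Finite G] {B Y L : Subgroup G}
    (hw : ∀ x : G, (∀ b ∈ B, x * b * x⁻¹ ∈ normalizer (B : Set G)) → x ∈ normalizer (B : Set G))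
    (hBL : B ≤ L) (hLY : L ≤ normalizer (Y : Set G))
    (hgen : ∀ N : Subgroup G, (∀ l ∈ L, ∀ b ∈ B, l * b * l⁻¹ ∈ N) → L ≤ N)
    (hcov : ∀ y ∈ Y, ∃ l ∈ L, ∀ b ∈ B, (l * b * l⁻¹) * y = y * (l * b * l⁻¹))
    {z : G} (hzY : z ∈ Y) (hz : ∀ x, x * z = z * x → x ∈ normalizer (B : Set G)) :
    normalizer (Y : Set G) ≤ normalizer (L : Set G) := by
  -- every conjugate of `B` under `N_G(Y)` is a conjugate under `L`
  have key : ∀ g ∈ normalizer (Y : Set G), ∀ b ∈ B, g * b * g⁻¹ ∈ L := by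
    intro g hg
    obtain ⟨l, hl, hlc⟩ := hcov _ ((mem_normalizer_iff.1 hg z).1 hzY)
    -- `g⁻¹ l ∈ N(B)`
    have h1 : l⁻¹ * g ∈ normalizer (B : Set G) := by
      apply mem_of_fused hw hz
      intro b hb
      have h2 := hlc b hb
      have e1 : b * (l⁻¹ * g * z * (l⁻¹ * g)⁻¹) = l⁻¹ * (l * b * l⁻¹ * (g * z * g⁻¹)) * l := by group
      have e2 : (l⁻¹ * g * z * (l⁻¹ * g)⁻¹) * b = l⁻¹ * ((g * z * g⁻¹) * (l * b * l⁻¹)) * l := by group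
      rw [e1, e2, h2]
    intro b hb
    have h3 : l⁻¹ * g * b * (l⁻¹ * g)⁻¹ ∈ B := (mem_normalizer_iff.1 h1 b).1 hb
    have h4 := mul_mem (mul_mem hl (hBL h3)) (inv_mem hl)
    have e : l * (l⁻¹ * g * b * (l⁻¹ * g)⁻¹) * l⁻¹ = g * b * g⁻¹ := by group
    rwa [e] at h4
  intro g hg
  apply mem_normalizer_of_cj_le
  rw [cj_le_iff]
  apply hgen
  intro l hl b hb
  rw [mem_cj]
  have h1 := key (g * l) (mul_mem hg (hLY hl)) b hb
  have e : g⁻¹⁻¹ * (l * b * l⁻¹) * g⁻¹ = g * l * b * (g * l)⁻¹ := by group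
  rwa [e]

/-- Elements of odd order cannot swap. -/
theorem fix_of_odd [Finite G] {B Y Y' : Subgroup G}
    (hsw : ∀ g ∈ normalizer (B : Set G), cj g Y = Y ∨ cj g Y = Y')
    (hsw' : ∀ g ∈ normalizer (B : Set G), cj g Y' = Y ∨ cj g Y' = Y')
    {K : Subgroup G} (hK : Odd (Nat.card K)) (hKB : K ≤ normalizer (B : Set G)) :
    K ≤ normalizer (Y : Set G) := by
  intro k hk
  have hodd : Odd (orderOf k) := by
    have h1 : orderOf k ∣ Nat.card K := by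
      have := orderOf_dvd_natCard (⟨k, hk⟩ : K)
      rwa [Subgroup.orderOf_mk] at this
    exact Odd.of_dvd_nat hK h1
  have h2 : k ^ 2 ∈ normalizer (Y : Set G) := by
    rw [mem_normalizer_iff_cj, pow_two, ← cj_cj]
    rcases hsw k (hKB hk) with h | h
    · rw [h, h]
    · rw [h]
      rcases hsw' k (hKB hk) with h' | h'
      · exact h'
      · have h3 : cj k Y = cj k Y' := by rw [h, h']
        have h4 : Y = Y' := by
          have := congrArg (cj k⁻¹) h3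
          rwa [cj_inv_cj, cj_inv_cj] at this
        rw [h', h4]
  obtain ⟨m, hm⟩ := hodd
  have h3 : k = (k ^ 2) ^ (m + 1) := by
    rw [← pow_mul]
    have e : 2 * (m + 1) = orderOf k + 1 := by omega
    rw [e, pow_add, pow_orderOf_eq_one, one_mul, pow_one]
  rw [h3]
  exact pow_mem h2 _

theorem card_sup {A C : Subgroup G} (hd : A ⊓ C = ⊥) (hc : ∀ a ∈ A, ∀ c ∈ C, a * c = c * a) :
    Nat.card ↥(A ⊔ C) = Nat.card A * Nat.card C := by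
  have h1 := Cfsg.Agent.PLocal.ElemAbSup.card_sup_mul_card_inf
    (A := A) (B := C) fun c hc' => mem_centralizer_iff.2 fun a ha => hc a ha c hc'
  rwa [hd, card_bot, mul_one] at h1

/-- Input for (NS) and (5.3). -/
structure NSIn (B Y Y' L K : Subgroup G) (s z₀ : G) : Prop where
  sY : cj s Y = Y'
  sY' : cj s Y' = Y
  BYY : B = Y ⊔ Y'
  /-- `B` is weakly closed in `N_G(B)` -/
  weak : ∀ x : G, (∀ b ∈ B, x * b * x⁻¹ ∈ normalizer (B : Set G)) → x ∈ normalizer (B : Set G)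
  BL : B ≤ L
  LY : L ≤ normalizer (Y : Set G)
  gen : ∀ N : Subgroup G, (∀ l ∈ L, ∀ b ∈ B, l * b * l⁻¹ ∈ N) → L ≤ N
  cover : ∀ y ∈ Y, ∃ l ∈ L, ∀ b ∈ B, (l * b * l⁻¹) * y = y * (l * b * l⁻¹)
  Bz : ∀ z ∈ Y ⊓ Y', ∀ b ∈ B, b * z = z * b
  zB : ∀ y ∈ Y, (∀ b ∈ B, b * y = y * b) → y ∈ Y'
  z0Y : z₀ ∈ Y
  z0ne : z₀ ≠ 1
  z0s : s * z₀ = z₀ * s
  z0c : ∀ x, x * z₀ = z₀ * x → x ∈ normalizer (B : Set G)
  swap : ∀ g ∈ normalizer (B : Set G), cj g Y = Y ∨ cj g Y = Y'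
  swap' : ∀ g ∈ normalizer (B : Set G), cj g Y' = Y ∨ cj g Y' = Y'
  KL : K ≤ L
  KB : K ≤ normalizer (B : Set G)
  Kodd : Odd (Nat.card K)
  Ktrans : ∀ z ∈ Y ⊓ Y', z ∉ centralizer (L : Set G) → ∀ w ∈ Y ⊓ Y', w ∉ centralizer (L : Set G) →
    ∃ k ∈ K, k * z * k⁻¹ * w⁻¹ ∈ centralizer (L : Set G)
  /-- `C ∩ C^s = 1` -/
  disj : (Y ⊓ centralizer (L : Set G)) ⊓ cj s (Y ⊓ centralizer (L : Set G)) = ⊥

namespace NSIn

variable {B Y Y' L K : Subgroup G} {s z₀ : G}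

/-- good elements -/
def Good (Y Y' L : Subgroup G) (s z : G) : Prop :=
  z ∈ Y ⊓ Y' ∧ z ∉ Y ⊓ centralizer (L : Set G) ∧ z ∉ cj s (Y ⊓ centralizer (L : Set G))

/-- (NS) -/
theorem normal [Finite G] (h : NSIn B Y Y' L K s z₀) :
    normalizer (Y : Set G) ≤ normalizer (L : Set G) :=
  normal_of h.weak h.BL h.LY h.gen h.cover h.z0Y h.z0c

theorem K_Y [Finite G] (h : NSIn B Y Y' L K s z₀) : K ≤ normalizer (Y : Set G) :=
  fix_of_odd h.swap h.swap' h.Kodd h.KB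

theorem K_Y' [Finite G] (h : NSIn B Y Y' L K s z₀) : K ≤ normalizer (Y' : Set G) :=
  fix_of_odd (fun g hg => (h.swap' g hg).symm) (fun g hg => (h.swap g hg).symm) h.Kodd h.KB

/-- `N_G(Y)` normalises `C`. -/
theorem cj_C [Finite G] (h : NSIn B Y Y' L K s z₀) {g : G} (hg : cj g Y = Y) :
    cj g (Y ⊓ centralizer (L : Set G)) = Y ⊓ centralizer (L : Set G) := by
  have hgL := cj_eq_of_mem_normalizer (h.normal (mem_normalizer_iff_cj.2 hg))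
  rw [cj_inf, hg, cj_centralizer, hgL]

theorem s_sq (h : NSIn B Y Y' L K s z₀) : cj (s * s) Y = Y := by rw [← cj_cj, h.sY, h.sY']

theorem cj_sC [Finite G] (h : NSIn B Y Y' L K s z₀) :
    cj s (cj s (Y ⊓ centralizer (L : Set G))) = Y ⊓ centralizer (L : Set G) := by
  rw [cj_cj, h.cj_C h.s_sq]

theorem cj_sinv (h : NSIn B Y Y' L K s z₀) : cj s⁻¹ Y' = Y := by rw [← h.sY, cj_inv_cj]

theorem cj_sinv' (h : NSIn B Y Y' L K s z₀) : cj s⁻¹ Y = Y' := by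
  have := cj_inv_cj s Y'
  rwa [h.sY'] at this

/-- an element which maps `Y` to `Y'` maps `C` to `C'`. -/
theorem cj_C_swap [Finite G] (h : NSIn B Y Y' L K s z₀) {g : G} (hg : cj g Y = Y') :
    cj g (Y ⊓ centralizer (L : Set G)) = cj s (Y ⊓ centralizer (L : Set G)) := by
  have h1 : cj (s⁻¹ * g) Y = Y := by rw [← cj_cj, hg, h.cj_sinv]
  have h2 := h.cj_C h1
  rw [← cj_cj] at h2
  have h3 := congrArg (cj s) h2
  rwa [cj_cj_inv] at h3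

/-- an element which maps `Y'` to `Y` maps `C'` to `C`. -/
theorem cj_C'_swap [Finite G] (h : NSIn B Y Y' L K s z₀) {g : G} (hg : cj g Y' = Y) :
    cj g (cj s (Y ⊓ centralizer (L : Set G))) = Y ⊓ centralizer (L : Set G) := by
  rw [cj_cj]
  apply h.cj_C
  rw [← cj_cj, h.sY, hg]

/-- an element which normalises `Y'` normalises `C'`. -/
theorem cj_C' [Finite G] (h : NSIn B Y Y' L K s z₀) {g : G} (hg : cj g Y' = Y') :
    cj g (cj s (Y ⊓ centralizer (L : Set G))) = cj s (Y ⊓ centralizer (L : Set G)) := by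
  rw [cj_cj]
  apply h.cj_C_swap
  rw [← cj_cj, h.sY, hg]

theorem sB (h : NSIn B Y Y' L K s z₀) : s ∈ normalizer (B : Set G) := by
  have h1 : cj s B = cj s Y ⊔ cj s Y' := by
    rw [h.BYY]
    exact map_sup _ _ _
  rw [mem_normalizer_iff_cj, h1, h.sY, h.sY', h.BYY, sup_comm]

theorem C_Z (h : NSIn B Y Y' L K s z₀) : Y ⊓ centralizer (L : Set G) ≤ Y ⊓ Y' := by
  intro c hc
  exact ⟨hc.1, h.zB c hc.1 fun b hb => mem_centralizer_iff.1 hc.2 b (h.BL hb)⟩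

theorem cj_Z (h : NSIn B Y Y' L K s z₀) : cj s (Y ⊓ Y') = Y ⊓ Y' := by
  rw [cj_inf, h.sY, h.sY', inf_comm]

theorem C'_Z (h : NSIn B Y Y' L K s z₀) : cj s (Y ⊓ centralizer (L : Set G)) ≤ Y ⊓ Y' := by
  rw [← h.cj_Z]
  exact cj_mono s h.C_Z

theorem sinv_Z (h : NSIn B Y Y' L K s z₀) {z : G} (hz : z ∈ Y ⊓ Y') : s⁻¹ * z * s ∈ Y ⊓ Y' := by
  rw [← h.cj_Z] at hz
  exact mem_cj.1 hz

/-- `K` centralises `C`. -/
theorem K_C (h : NSIn B Y Y' L K s z₀) {c k : G} (hc : c ∈ Y ⊓ centralizer (L : Set G))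
    (hk : k ∈ K) : k * c = c * k := mem_centralizer_iff.1 hc.2 k (h.KL hk)

/-- `K^s` centralises `C'`. -/
theorem K'_C' (h : NSIn B Y Y' L K s z₀) {c k : G}
    (hc : c ∈ cj s (Y ⊓ centralizer (L : Set G))) (hk : k ∈ cj s K) : k * c = c * k := by
  have h1 := h.K_C (mem_cj.1 hc) (mem_cj.1 hk)
  have e1 : s⁻¹ * k * s * (s⁻¹ * c * s) = s⁻¹ * (k * c) * s := by group
  have e2 : s⁻¹ * c * s * (s⁻¹ * k * s) = s⁻¹ * (c * k) * s := by group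
  rw [e1, e2] at h1
  exact mul_left_cancel (mul_right_cancel h1)

theorem K'_Y [Finite G] (h : NSIn B Y Y' L K s z₀) : cj s K ≤ normalizer (Y : Set G) := by
  have h1 := cj_mono s h.K_Y'
  rwa [cj_normalizer, h.sY'] at h1

theorem K'_Y' [Finite G] (h : NSIn B Y Y' L K s z₀) : cj s K ≤ normalizer (Y' : Set G) := by
  have h1 := cj_mono s h.K_Y
  rwa [cj_normalizer, h.sY] at h1

theorem K'_B [Finite G] (h : NSIn B Y Y' L K s z₀) : cj s K ≤ normalizer (B : Set G) := by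
  have h1 := cj_mono s h.KB
  rwa [cj_normalizer, cj_eq_of_mem_normalizer h.sB] at h1

/-- `C_Z(L)` -/
theorem mem_C_of (_h : NSIn B Y Y' L K s z₀) {z : G} (hz : z ∈ Y)
    (h' : z ∈ centralizer (L : Set G)) : z ∈ Y ⊓ centralizer (L : Set G) := ⟨hz, h'⟩

/-- `K` is transitive on `(Z/C) - 0`. -/
theorem K_trans [Finite G] (h : NSIn B Y Y' L K s z₀) {z w : G} (hz : z ∈ Y ⊓ Y')
    (hzC : z ∉ Y ⊓ centralizer (L : Set G)) (hw : w ∈ Y ⊓ Y')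
    (hwC : w ∉ Y ⊓ centralizer (L : Set G)) :
    ∃ k ∈ K, k * z * k⁻¹ * w⁻¹ ∈ Y ⊓ centralizer (L : Set G) := by
  obtain ⟨k, hk, hkc⟩ := h.Ktrans z hz (fun hc => hzC ⟨hz.1, hc⟩) w hw (fun hc => hwC ⟨hw.1, hc⟩)
  exact ⟨k, hk, mul_mem ((mem_normalizer_iff.1 (h.K_Y hk) z).1 hz.1) (Y.inv_mem hw.1), hkc⟩

/-- `K^s` is transitive on `(Z/C') - 0`. -/
theorem K'_trans [Finite G] (h : NSIn B Y Y' L K s z₀) {z w : G} (hz : z ∈ Y ⊓ Y')
    (hzC : z ∉ cj s (Y ⊓ centralizer (L : Set G))) (hw : w ∈ Y ⊓ Y')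
    (hwC : w ∉ cj s (Y ⊓ centralizer (L : Set G))) :
    ∃ k ∈ cj s K, k * z * k⁻¹ * w⁻¹ ∈ cj s (Y ⊓ centralizer (L : Set G)) := by
  obtain ⟨k, hk, hkc⟩ := h.K_trans (h.sinv_Z hz) (fun hc => hzC (mem_cj.2 hc)) (h.sinv_Z hw)
    (fun hc => hwC (mem_cj.2 hc))
  refine ⟨s * k * s⁻¹, conj_mem_cj hk, ?_⟩
  rw [mem_cj]
  have e : s⁻¹ * (s * k * s⁻¹ * z * (s * k * s⁻¹)⁻¹ * w⁻¹) * s
      = k * (s⁻¹ * z * s) * k⁻¹ * (s⁻¹ * w * s)⁻¹ := by group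
  rwa [e]

/-- `K^s` is transitive on `C - 1`. -/
theorem K'_C_trans [Finite G] (h : NSIn B Y Y' L K s z₀) {c d : G}
    (hc : c ∈ Y ⊓ centralizer (L : Set G)) (hc1 : c ≠ 1)
    (hd : d ∈ Y ⊓ centralizer (L : Set G)) (hd1 : d ≠ 1) : ∃ k ∈ cj s K, k * c * k⁻¹ = d := by
  have hn : ∀ x ∈ Y ⊓ centralizer (L : Set G), x ≠ 1 →
      x ∉ cj s (Y ⊓ centralizer (L : Set G)) := by
    intro x hx hx1 hx'
    apply hx1
    have : x ∈ (Y ⊓ centralizer (L : Set G)) ⊓ cj s (Y ⊓ centralizer (L : Set G)) := ⟨hx, hx'⟩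
    rwa [h.disj, mem_bot] at this
  obtain ⟨k, hk, hkc⟩ := h.K'_trans (h.C_Z hc) (hn c hc hc1) (h.C_Z hd) (hn d hd hd1)
  refine ⟨k, hk, ?_⟩
  have h1 : k * c * k⁻¹ ∈ Y ⊓ centralizer (L : Set G) := by
    have h2 := conj_mem_cj (g := k) hc
    rwa [h.cj_C (cj_eq_of_mem_normalizer (h.K'_Y hk))] at h2
  have h3 : k * c * k⁻¹ * d⁻¹ ∈
      (Y ⊓ centralizer (L : Set G)) ⊓ cj s (Y ⊓ centralizer (L : Set G)) :=
    ⟨mul_mem h1 (Subgroup.inv_mem _ hd), hkc⟩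
  rw [h.disj, mem_bot] at h3
  exact mul_inv_eq_one.1 h3

/-- `K` is transitive on `C' - 1`. -/
theorem K_C'_trans [Finite G] (h : NSIn B Y Y' L K s z₀) {c d : G}
    (hc : c ∈ cj s (Y ⊓ centralizer (L : Set G))) (hc1 : c ≠ 1)
    (hd : d ∈ cj s (Y ⊓ centralizer (L : Set G))) (hd1 : d ≠ 1) :
    ∃ k ∈ K, k * c * k⁻¹ = d := by
  have hn : ∀ x ∈ cj s (Y ⊓ centralizer (L : Set G)), x ≠ 1 →
      x ∉ Y ⊓ centralizer (L : Set G) := by
    intro x hx hx1 hx'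
    apply hx1
    have : x ∈ (Y ⊓ centralizer (L : Set G)) ⊓ cj s (Y ⊓ centralizer (L : Set G)) := ⟨hx', hx⟩
    rwa [h.disj, mem_bot] at this
  obtain ⟨k, hk, hkc⟩ := h.K_trans (h.C'_Z hc) (hn c hc hc1) (h.C'_Z hd) (hn d hd hd1)
  refine ⟨k, hk, ?_⟩
  have h1 : k * c * k⁻¹ ∈ cj s (Y ⊓ centralizer (L : Set G)) := by
    have h2 := conj_mem_cj (g := k) hc
    rwa [h.cj_C' (cj_eq_of_mem_normalizer (h.K_Y' hk))] at h2
  have h3 : k * c * k⁻¹ * d⁻¹ ∈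
      (Y ⊓ centralizer (L : Set G)) ⊓ cj s (Y ⊓ centralizer (L : Set G)) :=
    ⟨hkc, mul_mem h1 (Subgroup.inv_mem _ hd)⟩
  rw [h.disj, mem_bot] at h3
  exact mul_inv_eq_one.1 h3

theorem C'_bot (_h : NSIn B Y Y' L K s z₀) (hC : Y ⊓ centralizer (L : Set G) = ⊥) :
    cj s (Y ⊓ centralizer (L : Set G)) = ⊥ := by
  rw [hC]
  exact map_bot _

theorem C_comm (h : NSIn B Y Y' L K s z₀) {c d : G} (hc : c ∈ Y ⊓ Y') (hd : d ∈ Y ⊓ Y') :
    c * d = d * c := by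
  refine h.Bz d hd c ?_
  rw [h.BYY]
  exact mem_sup_left hc.1

/-- (5.3): `C = 1` or `Z = C C'`. -/
theorem dich [Finite G] (h : NSIn B Y Y' L K s z₀) :
    Y ⊓ centralizer (L : Set G) = ⊥ ∨
      ∀ z ∈ Y ⊓ Y', ∃ c ∈ Y ⊓ centralizer (L : Set G),
        ∃ d ∈ cj s (Y ⊓ centralizer (L : Set G)), z = c * d := by
  by_cases hC : Y ⊓ centralizer (L : Set G) = ⊥
  · exact Or.inl hC
  right
  obtain ⟨c, hc, hc1⟩ := (bot_or_exists_ne_one _).resolve_left hC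
  intro z hz
  by_cases hzC : z ∈ cj s (Y ⊓ centralizer (L : Set G))
  · exact ⟨1, one_mem _, z, hzC, (one_mul z).symm⟩
  have hcC : c ∉ cj s (Y ⊓ centralizer (L : Set G)) := by
    intro hx'
    apply hc1
    have : c ∈ (Y ⊓ centralizer (L : Set G)) ⊓ cj s (Y ⊓ centralizer (L : Set G)) := ⟨hc, hx'⟩
    rwa [h.disj, mem_bot] at this
  obtain ⟨k, hk, hkc⟩ := h.K'_trans (h.C_Z hc) hcC hz hzC
  have h1 : k * c * k⁻¹ ∈ Y ⊓ centralizer (L : Set G) := by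
    have h2 := conj_mem_cj (g := k) hc
    rwa [h.cj_C (cj_eq_of_mem_normalizer (h.K'_Y hk))] at h2
  refine ⟨k * c * k⁻¹, h1, (k * c * k⁻¹ * z⁻¹)⁻¹, inv_mem hkc, ?_⟩
  have h3 := h.C_comm hz (h.C_Z h1)
  rw [mul_inv_rev, inv_inv, ← mul_assoc, ← h3, mul_inv_cancel_right]

theorem Z_eq [Finite G] (h : NSIn B Y Y' L K s z₀) (hC : Y ⊓ centralizer (L : Set G) ≠ ⊥) :
    Y ⊓ Y' = (Y ⊓ centralizer (L : Set G)) ⊔ cj s (Y ⊓ centralizer (L : Set G)) := by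
  apply le_antisymm
  · intro z hz
    obtain ⟨c, hc, d, hd, rfl⟩ := h.dich.resolve_left hC z hz
    exact mul_mem_sup hc hd
  · exact sup_le h.C_Z h.C'_Z

/-- `|C| = q` in type `Sp₄`. -/
theorem card_C [Finite G] (h : NSIn B Y Y' L K s z₀) (hC : Y ⊓ centralizer (L : Set G) ≠ ⊥)
    {q : ℕ} (hq : Nat.card ↥(Y ⊓ Y') = Nat.card ↥(Y ⊓ centralizer (L : Set G)) * q) :
    Nat.card ↥(Y ⊓ centralizer (L : Set G)) = q := by
  have h1 := Cfsg.Agent.Omega.SQ1.NS.card_sup (h.disj) fun c hc d hd => h.C_comm (h.C_Z hc) (h.C'_Z hd)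
  rw [← h.Z_eq hC, hq, card_cj] at h1
  exact (Nat.eq_of_mul_eq_mul_left Nat.card_pos h1).symm

/-- `N_G(B) ∩ N(Y) ∩ N(Y')` is transitive on the good elements. -/
theorem go1 [Finite G] (h : NSIn B Y Y' L K s z₀) {z w : G} (hz : Good Y Y' L s z)
    (hw : Good Y Y' L s w) : ∃ n, n ∈ normalizer (B : Set G) ∧ n ∈ normalizer (Y : Set G) ∧
      n ∈ normalizer (Y' : Set G) ∧ n * z * n⁻¹ = w := by
  rcases h.dich with hC | hC
  · obtain ⟨k, hk, hkc⟩ := h.K_trans hz.1 hz.2.1 hw.1 hw.2.1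
    rw [hC, mem_bot] at hkc
    exact ⟨k, h.KB hk, h.K_Y hk, h.K_Y' hk, mul_inv_eq_one.1 hkc⟩
  · obtain ⟨c, hc, d, hd, rfl⟩ := hC z hz.1
    obtain ⟨c', hc', d', hd', rfl⟩ := hC w hw.1
    have hc1 : c ≠ 1 := by
      rintro rfl
      exact hz.2.2 (by rwa [one_mul])
    have hd1 : d ≠ 1 := by
      rintro rfl
      exact hz.2.1 (by rwa [mul_one])
    have hc1' : c' ≠ 1 := by
      rintro rfl
      exact hw.2.2 (by rwa [one_mul])
    have hd1' : d' ≠ 1 := by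
      rintro rfl
      exact hw.2.1 (by rwa [mul_one])
    obtain ⟨k, hk, hkc⟩ := h.K'_C_trans hc hc1 hc' hc1'
    obtain ⟨l, hl, hld⟩ := h.K_C'_trans hd hd1 hd' hd1'
    refine ⟨l * k, mul_mem (h.KB hl) (h.K'_B hk), mul_mem (h.K_Y hl) (h.K'_Y hk),
      mul_mem (h.K_Y' hl) (h.K'_Y' hk), ?_⟩
    have e1 : k * d * k⁻¹ = d := by rw [h.K'_C' hd hk, mul_inv_cancel_right]
    have e2 : l * c' * l⁻¹ = c' := by rw [h.K_C hc' hl, mul_inv_cancel_right]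
    have e3 : l * k * (c * d) * (l * k)⁻¹ = l * ((k * c * k⁻¹) * (k * d * k⁻¹)) * l⁻¹ := by group
    rw [e3, e1, hkc]
    have e4 : l * (c' * d) * l⁻¹ = (l * c' * l⁻¹) * (l * d * l⁻¹) := by group
    rw [e4, e2, hld]

/-- (*) a nontrivial element of `Z` centralised by a swap is good. -/
theorem go2 [Finite G] (h : NSIn B Y Y' L K s z₀) {x z : G} (hx : cj x Y = Y')
    (hx' : cj x Y' = Y) (hz : z ∈ Y ⊓ Y') (hz1 : z ≠ 1) (hxz : x * z = z * x) :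
    Good Y Y' L s z := by
  have e : x * z * x⁻¹ = z := by rw [hxz, mul_inv_cancel_right]
  refine ⟨hz, fun hc => ?_, fun hc => ?_⟩
  · have h1 := conj_mem_cj (g := x) hc
    rw [h.cj_C_swap hx, e] at h1
    apply hz1
    have : z ∈ (Y ⊓ centralizer (L : Set G)) ⊓ cj s (Y ⊓ centralizer (L : Set G)) := ⟨hc, h1⟩
    rwa [h.disj, mem_bot] at this
  · have h1 := conj_mem_cj (g := x) hc
    rw [h.cj_C'_swap hx', e] at h1
    apply hz1
    have : z ∈ (Y ⊓ centralizer (L : Set G)) ⊓ cj s (Y ⊓ centralizer (L : Set G)) := ⟨h1, hc⟩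
    rwa [h.disj, mem_bot] at this

theorem z0Z (h : NSIn B Y Y' L K s z₀) : z₀ ∈ Y ⊓ Y' := by
  refine ⟨h.z0Y, ?_⟩
  have h1 := conj_mem_cj (g := s) h.z0Y
  rwa [h.sY, h.z0s, mul_inv_cancel_right] at h1

theorem good0 [Finite G] (h : NSIn B Y Y' L K s z₀) : Good Y Y' L s z₀ :=
  h.go2 h.sY h.sY' h.z0Z h.z0ne h.z0s

/-- `C_G(z) ≤ N_G(B)` for `z` good. -/
theorem cent_good [Finite G] (h : NSIn B Y Y' L K s z₀) {z : G} (hz : Good Y Y' L s z) {x : G}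
    (hx : x * z = z * x) : x ∈ normalizer (B : Set G) := by
  obtain ⟨n, hn, -, -, hnz⟩ := h.go1 hz h.good0
  have h1 : n * x * n⁻¹ ∈ normalizer (B : Set G) := by
    apply h.z0c
    rw [← hnz]
    have e1 : n * x * n⁻¹ * (n * z * n⁻¹) = n * (x * z) * n⁻¹ := by group
    have e2 : n * z * n⁻¹ * (n * x * n⁻¹) = n * (z * x) * n⁻¹ := by group
    rw [e1, e2, hx]
  have h2 := mul_mem (mul_mem (inv_mem hn) h1) hn
  have e : n⁻¹ * (n * x * n⁻¹) * n = x := by group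
  rwa [e] at h2

/-- (F) for good elements. -/
theorem fused_good [Finite G] (h : NSIn B Y Y' L K s z₀) {z g : G} (hz : Good Y Y' L s z)
    (hg : g * z * g⁻¹ ∈ Y ⊓ Y') : g ∈ normalizer (B : Set G) :=
  mem_of_fused h.weak (fun _ hx => h.cent_good hz hx) fun b hb => h.Bz _ hg b hb

/-- `N_G(B)` permutes the good elements. -/
theorem good_conj [Finite G] (h : NSIn B Y Y' L K s z₀) {z n : G} (hz : Good Y Y' L s z)
    (hn : n ∈ normalizer (B : Set G)) : Good Y Y' L s (n * z * n⁻¹) := by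
  have hne : Y = Y' → Y ⊓ centralizer (L : Set G) = cj s (Y ⊓ centralizer (L : Set G)) :=
    fun hY => (h.cj_C (by rw [h.sY, hY])).symm
  have key : ∀ {A : Subgroup G} {x : G}, n * x * n⁻¹ ∈ cj n A → x ∈ A := by
    intro A x hx
    have := mem_cj.1 hx
    have e : n⁻¹ * (n * x * n⁻¹) * n = x := by group
    rwa [e] at this
  rcases h.swap n hn with h1 | h1 <;> rcases h.swap' n hn with h2 | h2
  · have hY : Y = Y' := by
      have := congrArg (cj n⁻¹) (h1.trans h2.symm)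
      rwa [cj_inv_cj, cj_inv_cj] at this
    refine ⟨⟨by rw [← h1]; exact conj_mem_cj hz.1.1, by rw [← hY, ← h1]; exact conj_mem_cj hz.1.1⟩,
      fun hc => hz.2.1 ?_, fun hc => hz.2.1 ?_⟩
    · rw [← h.cj_C h1] at hc
      exact key hc
    · rw [← hne hY, ← h.cj_C h1] at hc
      exact key hc
  · refine ⟨⟨by rw [← h1]; exact conj_mem_cj hz.1.1, by rw [← h2]; exact conj_mem_cj hz.1.2⟩,
      fun hc => hz.2.1 ?_, fun hc => hz.2.2 ?_⟩
    · rw [← h.cj_C h1] at hc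
      exact key hc
    · rw [← h.cj_C' h2] at hc
      exact key hc
  · refine ⟨⟨by rw [← h2]; exact conj_mem_cj hz.1.2, by rw [← h1]; exact conj_mem_cj hz.1.1⟩,
      fun hc => hz.2.2 ?_, fun hc => hz.2.1 ?_⟩
    · rw [← h.cj_C'_swap h2] at hc
      exact key hc
    · rw [← h.cj_C_swap h1] at hc
      exact key hc
  · have hY : Y = Y' := by
      have := congrArg (cj n⁻¹) (h1.trans h2.symm)
      rwa [cj_inv_cj, cj_inv_cj] at this
    refine ⟨⟨by rw [hY, ← h1]; exact conj_mem_cj hz.1.1, by rw [← h1]; exact conj_mem_cj hz.1.1⟩,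
      fun hc => hz.2.1 ?_, fun hc => hz.2.1 ?_⟩
    · rw [hne hY, ← h.cj_C_swap h1] at hc
      exact key hc
    · rw [← h.cj_C_swap h1] at hc
      exact key hc

end NSIn

end Cfsg.Agent.Omega.SQ1.NS
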