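import Cfsg.Agent.Omega.SQ1.NodeA0
import Cfsg.Agent.Lib.ProductSet

/-!
# SQ1, node (A), part 1: the torus element `k` and the decomposition `D = C₁ × E`

`Tor`: `k` normalises `Q₁`, `Q₂`, centralises `C₁`, is transitive on `(Q₁/D)#` and satisfies
`[k⁻¹ak, b] ≡ k[a,b]k⁻¹` modulo `C₁` (the action of a torus of `SL₂(q)` on the natural module).

* `Base.br_*`: the commutator pairing `Q₁/D × Q₂/D → D`.
* `Tor.trD`: `k` is transitive on `(D/C₁)#`.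
* `Tor.E`: `E = {kdk⁻¹d⁻¹ : d ∈ D}`, `|E| = q`, `D = C₁ E`, `C₁ ∩ E = 1`.
-/

set_option autoImplicit false
set_option Elab.async false

namespace Cfsg.Agent.Omega.SQ1.NodeA

open Subgroup Cfsg Cfsg.Agent.Omega.SQ1.End
open scoped Pointwise

universe u

variable {G : Type u} [Group G]

/-- The commutator `[a, b]`. -/
def br (a b : G) : G := a * b * a⁻¹ * b⁻¹

theorem br_conj (g a b : G) : g * br a b * g⁻¹ = br (g * a * g⁻¹) (g * b * g⁻¹) := by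
  simp only [br]; group

theorem br_inv (a b : G) : (br a b)⁻¹ = br b a := by
  simp only [br]; group

theorem br_one_right (a : G) : br a 1 = 1 := by simp [br]

theorem br_one_left (a : G) : br 1 a = 1 := by simp [br]

section BaseBr

variable {S T B Q₁ Q₂ D C₁ C₂ : Subgroup G} {s : G} {q : ℕ}
variable (h : Base S T B Q₁ Q₂ D C₁ C₂ s q)

include h

theorem br_mem {a b : G} (ha : a ∈ Q₁) (hb : b ∈ Q₂) : br a b ∈ D := h.comm12 ha hb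

theorem br_good {a b : G} (ha : a ∈ Q₁) (ha' : a ∉ D) (hb : b ∈ Q₂) (hb' : b ∉ D) :
    Gd D C₁ C₂ (br a b) := h.good a ha ha' b hb hb'

theorem D_comm {d e : G} (hd : d ∈ D) (he : e ∈ D) : d * e = e * d := h.c1 d (h.D1 hd) e (h.D1 he)

theorem br_mul_left {a a' b : G} (ha : a ∈ Q₁) (ha' : a' ∈ Q₁) (hb : b ∈ Q₂) :
    br (a * a') b = br a b * br a' b := by
  have h1 := br_mem h ha' hb
  have h2 := h.c1 a ha _ (h.D1 h1)
  have h3 : br (a * a') b = a * br a' b * (b * a⁻¹ * b⁻¹) := by simp only [br]; group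
  rw [h3, h2]
  have h4 : br a' b * a * (b * a⁻¹ * b⁻¹) = br a' b * br a b := by simp only [br]; group
  rw [h4]
  exact D_comm h h1 (br_mem h ha hb)

theorem br_mul_right {a b b' : G} (ha : a ∈ Q₁) (hb : b ∈ Q₂) (hb' : b' ∈ Q₂) :
    br a (b * b') = br a b * br a b' := by
  have h1 := br_mem h ha hb'
  have h2 := h.c2 b hb _ (h.D2 h1)
  have h3 : br a (b * b') = br a b * (b * br a b' * b⁻¹) := by simp only [br]; group
  rw [h3, h2]; group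

theorem br_D_left {d b : G} (hd : d ∈ D) (hb : b ∈ Q₂) : br d b = 1 := by
  simp only [br]
  rw [h.c2 d (h.D2 hd) b hb]; group

theorem br_D_right {a d : G} (ha : a ∈ Q₁) (hd : d ∈ D) : br a d = 1 := by
  simp only [br]
  rw [h.c1 a ha d (h.D1 hd)]; group

/-- `[a, b]` depends on `a` modulo `D` only. -/
theorem br_congr_left {a a' b : G} (ha : a ∈ Q₁) (hb : b ∈ Q₂) (haa : a⁻¹ * a' ∈ D) :
    br a' b = br a b := by
  have h1 : a' = a * (a⁻¹ * a') := by group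
  rw [h1, br_mul_left h ha (h.D1 haa) hb, br_D_left h haa hb, mul_one]

theorem br_congr_right {a b b' : G} (ha : a ∈ Q₁) (hb : b ∈ Q₂) (hbb : b⁻¹ * b' ∈ D) :
    br a b' = br a b := by
  have h1 : b' = b * (b⁻¹ * b') := by group
  rw [h1, br_mul_right h ha hb (h.D2 hbb), br_D_right h ha hbb, mul_one]

theorem br_symm {a b : G} (ha : a ∈ Q₁) (hb : b ∈ Q₂) : br b a = br a b := by
  rw [← br_inv]
  exact inv_eq_of_mul_eq_one_right (h.sqD (br_mem h ha hb))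

theorem br_ne_one {a b : G} (ha : a ∈ Q₁) (ha' : a ∉ D) (hb : b ∈ Q₂) (hb' : b ∉ D) :
    br a b ≠ 1 := h.good_ne (br_good h ha ha' hb hb')

/-- If `[a, b] = [a', b]` with `b ∉ D` then `a ≡ a'` modulo `D`. -/
theorem left_inj {a a' b : G} (ha : a ∈ Q₁) (ha' : a' ∈ Q₁) (hb : b ∈ Q₂) (hb' : b ∉ D)
    (he : br a b = br a' b) : a⁻¹ * a' ∈ D := by
  by_contra hcon
  apply br_ne_one h (Q₁.mul_mem (Q₁.inv_mem ha) ha') hcon hb hb'
  rw [h.inv1 ha, br_mul_left h ha ha' hb, he]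
  exact h.sqD (br_mem h ha' hb)

theorem right_inj {a b b' : G} (ha : a ∈ Q₁) (ha' : a ∉ D) (hb : b ∈ Q₂) (hb' : b' ∈ Q₂)
    (he : br a b = br a b') : b⁻¹ * b' ∈ D := by
  by_contra hcon
  apply br_ne_one h ha ha' (Q₂.mul_mem (Q₂.inv_mem hb) hb') hcon
  rw [h.inv2 hb, br_mul_right h ha hb hb', he]
  exact h.sqD (br_mem h ha hb')

/-- The homomorphism `b ↦ [a, b]`. -/
def brR {a : G} (ha : a ∈ Q₁) : Q₂ →* D where
  toFun b := ⟨br a b, br_mem h ha b.2⟩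
  map_one' := by ext; exact br_one_right a
  map_mul' := by
    intro b b'
    ext
    exact br_mul_right h ha b.2 b'.2

theorem brR_apply {a : G} (ha : a ∈ Q₁) (b : Q₂) : (brR h ha b : G) = br a b := rfl

end BaseBr

/-- The torus element. -/
structure Tor (T Q₁ Q₂ D C₁ : Subgroup G) (k : G) (q : ℕ) : Prop where
  C1D : C₁ ≤ D
  cardD : Nat.card D = q * Nat.card C₁
  k1 : ∀ x ∈ Q₁, k * x * k⁻¹ ∈ Q₁
  k2 : ∀ x ∈ Q₂, k * x * k⁻¹ ∈ Q₂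
  odd : ∃ n : ℕ, Odd n ∧ k ^ n = 1
  kc : ∀ c ∈ C₁, k * c * k⁻¹ = c
  tr : ∀ a ∈ Q₁, a ∉ D → ∀ a' ∈ Q₁, a' ∉ D → ∃ n : ℕ, (k ^ n * a * (k ^ n)⁻¹)⁻¹ * a' ∈ D
  rel : ∀ a ∈ Q₁, ∀ b ∈ Q₂, (br (k⁻¹ * a * k) b)⁻¹ * (k * br a b * k⁻¹) ∈ C₁
  cQ : centralizer (Q₁ : Set G) ≤ Q₁
  syl : ∀ P : Subgroup G, IsPGroup 2 P → P ≤ normalizer (Q₁ : Set G) →
    ∃ g ∈ normalizer (Q₁ : Set G), ∀ x ∈ P, g * x * g⁻¹ ∈ T

namespace Tor

variable [Finite G] {S T B Q₁ Q₂ D C₁ C₂ : Subgroup G} {s k : G} {q : ℕ}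
variable (t : Tor T Q₁ Q₂ D C₁ k q) (h : Base S T B Q₁ Q₂ D C₁ C₂ s q)

include t

omit [Finite G] in
theorem cC1 {c : G} (hc : c ∈ C₁) : c * k = k * c := (mul_inv_eq_iff_eq_mul.1 (t.kc c hc)).symm

omit [Finite G] in
theorem kn1 (n : ℕ) : ∀ x ∈ Q₁, k ^ n * x * (k ^ n)⁻¹ ∈ Q₁ := by
  induction n with
  | zero => intro x hx; simpa using hx
  | succ n ih =>
    intro x hx
    have h1 := t.k1 _ (ih x hx)
    have h2 : k * (k ^ n * x * (k ^ n)⁻¹) * k⁻¹ = k ^ (n + 1) * x * (k ^ (n + 1))⁻¹ := by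
      rw [pow_succ' k n]; group
    rwa [h2] at h1

omit [Finite G] in
theorem kn2 (n : ℕ) : ∀ x ∈ Q₂, k ^ n * x * (k ^ n)⁻¹ ∈ Q₂ := by
  induction n with
  | zero => intro x hx; simpa using hx
  | succ n ih =>
    intro x hx
    have h1 := t.k2 _ (ih x hx)
    have h2 : k * (k ^ n * x * (k ^ n)⁻¹) * k⁻¹ = k ^ (n + 1) * x * (k ^ (n + 1))⁻¹ := by
      rw [pow_succ' k n]; group
    rwa [h2] at h1

theorem k1' : ∀ x ∈ Q₁, k⁻¹ * x * k ∈ Q₁ := inv_conj_mem t.k1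

theorem k2' : ∀ x ∈ Q₂, k⁻¹ * x * k ∈ Q₂ := inv_conj_mem t.k2

theorem kn1' (n : ℕ) : ∀ x ∈ Q₁, (k ^ n)⁻¹ * x * k ^ n ∈ Q₁ := inv_conj_mem (t.kn1 n)

theorem kn2' (n : ℕ) : ∀ x ∈ Q₂, (k ^ n)⁻¹ * x * k ^ n ∈ Q₂ := inv_conj_mem (t.kn2 n)

omit [Finite G] in
theorem knC (n : ℕ) {c : G} (hc : c ∈ C₁) : k ^ n * c * (k ^ n)⁻¹ = c := by
  have h1 : Commute k c := (t.cC1 hc).symm
  have h2 : Commute (k ^ n) c := h1.pow_left n
  exact mul_inv_eq_iff_eq_mul.2 h2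

include h

omit [Finite G] in
theorem kD {d : G} (hd : d ∈ D) : k * d * k⁻¹ ∈ D :=
  (h.memD _).2 ⟨t.k1 _ (h.D1 hd), t.k2 _ (h.D2 hd)⟩

omit [Finite G] in
theorem knD (n : ℕ) {d : G} (hd : d ∈ D) : k ^ n * d * (k ^ n)⁻¹ ∈ D :=
  (h.memD _).2 ⟨t.kn1 n _ (h.D1 hd), t.kn2 n _ (h.D2 hd)⟩

/-- The relation for powers of `k`. -/
theorem reln (n : ℕ) : ∀ a ∈ Q₁, ∀ b ∈ Q₂,
    (br ((k ^ n)⁻¹ * a * k ^ n) b)⁻¹ * (k ^ n * br a b * (k ^ n)⁻¹) ∈ C₁ := by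
  induction n with
  | zero => intro a _ b _; simp
  | succ n ih =>
    intro a ha b hb
    have h1 := t.rel _ (t.kn1' n a ha) b hb
    have h2 := ih a ha b hb
    -- `k^{n+1} [a,b] k^{-n-1} = k ([..] c) k⁻¹`
    set e := br ((k ^ n)⁻¹ * a * k ^ n) b with he
    have e1 : k⁻¹ * ((k ^ n)⁻¹ * a * k ^ n) * k = (k ^ (n + 1))⁻¹ * a * k ^ (n + 1) := by
      rw [pow_succ k n]; group
    rw [e1] at h1
    set f := br ((k ^ (n + 1))⁻¹ * a * k ^ (n + 1)) b with hf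
    have h3 : k * (e⁻¹ * (k ^ n * br a b * (k ^ n)⁻¹)) * k⁻¹ ∈ C₁ := by
      rw [t.kc _ h2]; exact h2
    have h4 := C₁.mul_mem h1 h3
    have h5 : f⁻¹ * (k * e * k⁻¹) * (k * (e⁻¹ * (k ^ n * br a b * (k ^ n)⁻¹)) * k⁻¹) =
        f⁻¹ * (k ^ (n + 1) * br a b * (k ^ (n + 1))⁻¹) := by
      rw [pow_succ' k n]; group
    rwa [h5] at h4

omit t in
/-- Counting: `b ↦ [a, b]` is onto modulo a subgroup `X` of `D` with `|D| = q |X|` which contains `[a, b]`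
for `b ∈ D` only. -/
theorem surj_right {X : Subgroup G} (hXD : X ≤ D) (hX : Nat.card D = q * Nat.card X) {a : G}
    (ha : a ∈ Q₁) (hinj : ∀ b ∈ Q₂, br a b ∈ X → b ∈ D) {d : G} (hd : d ∈ D) :
    ∃ b ∈ Q₂, (br a b)⁻¹ * d ∈ X := by
  have hXn : (X.subgroupOf D).Normal := by
    refine ⟨fun n hn g => ?_⟩
    have : g * n * g⁻¹ = n := by
      ext
      show (g : G) * n * (g : G)⁻¹ = n
      rw [D_comm h g.2 n.2]; group
    rwa [this]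
  let φ : Q₂ →* D ⧸ X.subgroupOf D := (QuotientGroup.mk' _).comp (brR h ha)
  have hφ : ∀ b : Q₂, φ b = 1 ↔ br a b ∈ X := by
    intro b
    show ((brR h ha b : D) : D ⧸ X.subgroupOf D) = 1 ↔ _
    rw [QuotientGroup.eq_one_iff, mem_subgroupOf]
    rfl
  have hker : φ.ker = D.subgroupOf Q₂ := by
    ext b
    rw [MonoidHom.mem_ker, hφ, mem_subgroupOf]
    refine ⟨fun h1 => hinj _ b.2 h1, fun h1 => ?_⟩
    rw [br_D_right h ha h1]; exact one_mem _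
  have h1 : Nat.card φ.ker * Nat.card φ.range = Nat.card Q₂ := by
    rw [← Subgroup.index_ker, Subgroup.card_mul_index]
  have h2 : Nat.card φ.ker = Nat.card D := by
    rw [hker]
    exact Nat.card_congr (Subgroup.subgroupOfEquivOfLe h.D2).toEquiv
  have h3 : Nat.card (D ⧸ X.subgroupOf D) * Nat.card X = Nat.card D := by
    have h4 := Subgroup.card_eq_card_quotient_mul_card_subgroup (X.subgroupOf D)
    rw [Nat.card_congr (Subgroup.subgroupOfEquivOfLe hXD).toEquiv] at h4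
    exact h4.symm
  have hDpos : 0 < Nat.card D := Nat.card_pos
  have hXpos : 0 < Nat.card X := Nat.card_pos
  have h4 : Nat.card φ.range = q := by
    rw [h2, h.card2, mul_comm q] at h1
    exact Nat.eq_of_mul_eq_mul_left hDpos h1
  have h5 : Nat.card (D ⧸ X.subgroupOf D) = q := by
    rw [hX] at h3
    exact Nat.eq_of_mul_eq_mul_right hXpos h3
  have h6 : φ.range = ⊤ := by
    apply Subgroup.eq_top_of_card_eq
    rw [h4, h5]
  have h7 : ((⟨d, hd⟩ : D) : D ⧸ X.subgroupOf D) ∈ φ.range := by rw [h6]; exact mem_top _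
  obtain ⟨b, hb⟩ := h7
  refine ⟨b, b.2, ?_⟩
  have h8 : ((brR h ha b : D) : D ⧸ X.subgroupOf D) = ((⟨d, hd⟩ : D) : D ⧸ X.subgroupOf D) := hb
  rw [QuotientGroup.eq, mem_subgroupOf] at h8
  exact h8

/-- `[a, Q₂]` covers `D/C₁`. -/
theorem surj1 {a : G} (ha : a ∈ Q₁) (ha' : a ∉ D) {d : G} (hd : d ∈ D) :
    ∃ b ∈ Q₂, (br a b)⁻¹ * d ∈ C₁ :=
  surj_right h t.C1D t.cardD ha (fun b hb hbC => by
    by_contra hbD
    exact (br_good h ha ha' hb hbD).2.1 hbC) hd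

/-- `[Q₁, b]` covers `D/C₁`. -/
theorem surj1' {b : G} (hb : b ∈ Q₂) (hb' : b ∉ D) {d : G} (hd : d ∈ D) :
    ∃ a ∈ Q₁, (br a b)⁻¹ * d ∈ C₁ := by
  obtain ⟨a, ha, ha2⟩ := surj_right h.symm t.C1D t.cardD hb (fun a ha haC => by
    by_contra haD
    rw [br_symm h ha hb] at haC
    exact (br_good h ha haD hb hb').2.1 haC) hd
  exact ⟨a, ha, by rwa [br_symm h ha hb] at ha2⟩

/-- `k` is transitive on `(D/C₁)#`. -/
theorem trD {d d' : G} (hd : d ∈ D) (hdC : d ∉ C₁) (hd' : d' ∈ D) (hdC' : d' ∉ C₁) :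
    ∃ n : ℕ, (k ^ n * d * (k ^ n)⁻¹)⁻¹ * d' ∈ C₁ := by
  obtain ⟨b, hb, hbD⟩ := h.exists_b
  obtain ⟨a, ha, ha2⟩ := t.surj1' h hb hbD hd
  obtain ⟨a', ha', ha2'⟩ := t.surj1' h hb hbD hd'
  have haD : a ∉ D := fun h1 => hdC (by
    rw [br_D_left h h1 hb, inv_one, one_mul] at ha2; exact ha2)
  have haD' : a' ∉ D := fun h1 => hdC' (by
    rw [br_D_left h h1 hb, inv_one, one_mul] at ha2'; exact ha2')
  -- `a ≡ k^n a' k^{-n}`
  obtain ⟨n, hn⟩ := t.tr a' ha' haD' a ha haD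
  refine ⟨n, ?_⟩
  have h1 := t.reln h n a ha b hb
  have h2 : a'⁻¹ * ((k ^ n)⁻¹ * a * k ^ n) ∈ D := by
    have h3 : (k ^ n)⁻¹ * ((k ^ n * a' * (k ^ n)⁻¹)⁻¹ * a) * k ^ n ∈ D := inv_conj_mem
      (fun x hx => t.knD h n hx) _ hn
    have h4 : (k ^ n)⁻¹ * ((k ^ n * a' * (k ^ n)⁻¹)⁻¹ * a) * k ^ n =
      a'⁻¹ * ((k ^ n)⁻¹ * a * k ^ n) := by group
    rwa [h4] at h3
  rw [br_congr_left h ha' hb h2] at h1
  -- `d = [a,b] c`, `d' = [a',b] c'`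
  have hc := t.knC n ha2
  have h3 : k ^ n * d * (k ^ n)⁻¹ = k ^ n * br a b * (k ^ n)⁻¹ * ((br a b)⁻¹ * d) := by
    calc k ^ n * d * (k ^ n)⁻¹ = k ^ n * br a b * (k ^ n)⁻¹ *
          (k ^ n * ((br a b)⁻¹ * d) * (k ^ n)⁻¹) := by group
      _ = _ := by rw [hc]
  have h4 := C₁.mul_mem (C₁.mul_mem (C₁.inv_mem ha2) (C₁.inv_mem h1)) ha2'
  have h5 : (k ^ n * d * (k ^ n)⁻¹)⁻¹ * d' = ((br a b)⁻¹ * d)⁻¹ *
      ((br a' b)⁻¹ * (k ^ n * br a b * (k ^ n)⁻¹))⁻¹ * ((br a' b)⁻¹ * d') := by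
    rw [h3]; group
  rw [h5]; exact h4

/-- `k` fixes no class of `(D/C₁)#`. -/
theorem fpf {d : G} (hd : d ∈ D) (hf : k * d * k⁻¹ * d⁻¹ ∈ C₁) : d ∈ C₁ := by
  by_contra hdC
  -- every class is `d C₁`
  have hfn : ∀ n : ℕ, (k ^ n * d * (k ^ n)⁻¹)⁻¹ * d ∈ C₁ := by
    intro n
    induction n with
    | zero => simp
    | succ n ih =>
      have h1 : k * ((k ^ n * d * (k ^ n)⁻¹)⁻¹ * d) * k⁻¹ ∈ C₁ := by rw [t.kc _ ih]; exact ih
      have h2 := D_comm h (t.C1D hf) hd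
      have h3 := C₁.mul_mem h1 (C₁.inv_mem hf)
      have h5 : k * d * k⁻¹ * (k * d * k⁻¹ * d⁻¹)⁻¹ = d := by
        rw [mul_inv_eq_iff_eq_mul, ← h2, inv_mul_cancel_right]
      have h4 : k * ((k ^ n * d * (k ^ n)⁻¹)⁻¹ * d) * k⁻¹ * (k * d * k⁻¹ * d⁻¹)⁻¹ =
        (k ^ (n + 1) * d * (k ^ (n + 1))⁻¹)⁻¹ * d := by
        calc k * ((k ^ n * d * (k ^ n)⁻¹)⁻¹ * d) * k⁻¹ * (k * d * k⁻¹ * d⁻¹)⁻¹
            = (k * k ^ n * d * (k * k ^ n)⁻¹)⁻¹ * (k * d * k⁻¹ * (k * d * k⁻¹ * d⁻¹)⁻¹) := by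
              group
          _ = _ := by rw [h5, pow_succ' k n]
      rwa [h4] at h3
  have hall : ∀ d' ∈ D, d' ∈ C₁ ∨ d⁻¹ * d' ∈ C₁ := by
    intro d' hd'
    by_cases h1 : d' ∈ C₁
    · exact Or.inl h1
    · right
      obtain ⟨n, hn⟩ := t.trD h hd hdC hd' h1
      have h2 := C₁.mul_mem (C₁.inv_mem (hfn n)) hn
      have h3 : ((k ^ n * d * (k ^ n)⁻¹)⁻¹ * d)⁻¹ * ((k ^ n * d * (k ^ n)⁻¹)⁻¹ * d') = d⁻¹ * d' := by
        group
      rwa [h3] at h2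
  have h1 := card_le_two_mul hd hall
  have h2 := t.cardD
  have h3 := h.hq
  have h4 : 0 < Nat.card C₁ := Nat.card_pos
  nlinarith

theorem fix {d : G} (hd : d ∈ D) (hf : k * d * k⁻¹ = d) : d ∈ C₁ :=
  t.fpf h hd (by rw [hf, mul_inv_cancel]; exact one_mem _)

omit [Finite G] in
/-- `d ↦ kdk⁻¹d⁻¹`. -/
theorem δ_mul {x y : G} (hx : x ∈ D) (hy : y ∈ D) :
    k * (x * y) * k⁻¹ * (x * y)⁻¹ = (k * x * k⁻¹ * x⁻¹) * (k * y * k⁻¹ * y⁻¹) := by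
  have h1 := D_comm h (D.inv_mem hx) (t.kD h hy)
  have h2 := D_comm h (D.inv_mem hx) (D.inv_mem hy)
  calc k * (x * y) * k⁻¹ * (x * y)⁻¹ = k * x * k⁻¹ * (k * y * k⁻¹) * (y⁻¹ * x⁻¹) := by group
    _ = k * x * k⁻¹ * (k * y * k⁻¹) * (x⁻¹ * y⁻¹) := by rw [h2]
    _ = k * x * k⁻¹ * (k * y * k⁻¹ * x⁻¹) * y⁻¹ := by group
    _ = k * x * k⁻¹ * (x⁻¹ * (k * y * k⁻¹)) * y⁻¹ := by rw [h1]
    _ = _ := by group

/-- `E = [D, k]`. -/
def E : Subgroup G where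
  carrier := {x | ∃ d ∈ D, x = k * d * k⁻¹ * d⁻¹}
  one_mem' := ⟨1, one_mem _, by simp⟩
  mul_mem' := by
    rintro x y ⟨d, hd, rfl⟩ ⟨e, he, rfl⟩
    exact ⟨d * e, D.mul_mem hd he, (t.δ_mul h hd he).symm⟩
  inv_mem' := by
    rintro x ⟨d, hd, rfl⟩
    refine ⟨d⁻¹, D.inv_mem hd, ?_⟩
    have h1 := t.δ_mul h hd (D.inv_mem hd)
    rw [mul_inv_cancel, mul_one, mul_inv_cancel, inv_one, mul_one] at h1
    exact inv_eq_of_mul_eq_one_right h1.symm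

omit [Finite G] in
theorem mem_E {x : G} : x ∈ t.E h ↔ ∃ d ∈ D, x = k * d * k⁻¹ * d⁻¹ := Iff.rfl

omit [Finite G] in
theorem E_le : t.E h ≤ D := by
  rintro _ ⟨d, hd, rfl⟩
  exact D.mul_mem (t.kD h hd) (D.inv_mem hd)

omit [Finite G] in
theorem E_k {x : G} (hx : x ∈ t.E h) : k * x * k⁻¹ ∈ t.E h := by
  obtain ⟨d, hd, rfl⟩ := hx
  exact ⟨k * d * k⁻¹, t.kD h hd, by group⟩

omit [Finite G] in
theorem E_kn (n : ℕ) {x : G} (hx : x ∈ t.E h) : k ^ n * x * (k ^ n)⁻¹ ∈ t.E h := by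
  obtain ⟨d, hd, rfl⟩ := hx
  refine ⟨k ^ n * d * (k ^ n)⁻¹, t.knD h n hd, ?_⟩
  have h1 : k * k ^ n = k ^ n * k := by rw [← pow_succ', pow_succ]
  calc k ^ n * (k * d * k⁻¹ * d⁻¹) * (k ^ n)⁻¹
      = (k ^ n * k) * d * (k ^ n * k)⁻¹ * (k ^ n * d⁻¹ * (k ^ n)⁻¹) := by group
    _ = (k * k ^ n) * d * (k * k ^ n)⁻¹ * (k ^ n * d⁻¹ * (k ^ n)⁻¹) := by rw [h1]
    _ = _ := by group

theorem E_inf : t.E h ⊓ C₁ = ⊥ := by
  rw [eq_bot_iff]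
  rintro x ⟨⟨d, hd, rfl⟩, hx⟩
  have h1 := t.fpf h hd hx
  rw [mem_bot, t.kc d h1, mul_inv_cancel]

theorem card_E : Nat.card (t.E h) = q := by
  let δ : D →* D :=
    { toFun := fun d => ⟨k * d * k⁻¹ * (d : G)⁻¹, D.mul_mem (t.kD h d.2) (D.inv_mem d.2)⟩
      map_one' := by ext; simp
      map_mul' := by
        intro x y
        ext
        exact t.δ_mul h x.2 y.2 }
  have hker : δ.ker = C₁.subgroupOf D := by
    ext d
    rw [MonoidHom.mem_ker, mem_subgroupOf]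
    constructor
    · intro h1
      have h2 : k * d * k⁻¹ * (d : G)⁻¹ = 1 := congrArg Subtype.val h1
      exact t.fix h d.2 (mul_inv_eq_one.1 h2)
    · intro h1
      ext
      show k * d * k⁻¹ * (d : G)⁻¹ = 1
      rw [t.kc _ h1, mul_inv_cancel]
  have hrange : δ.range.map D.subtype = t.E h := by
    ext x
    constructor
    · rintro ⟨_, ⟨d, rfl⟩, rfl⟩
      exact ⟨d, d.2, rfl⟩
    · rintro ⟨d, hd, rfl⟩
      exact ⟨_, ⟨⟨d, hd⟩, rfl⟩, rfl⟩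
  have h1 : Nat.card δ.ker * Nat.card δ.range = Nat.card D := by
    rw [← Subgroup.index_ker, Subgroup.card_mul_index]
  have h2 : Nat.card δ.ker = Nat.card C₁ := by
    rw [hker]
    exact Nat.card_congr (Subgroup.subgroupOfEquivOfLe t.C1D).toEquiv
  have h3 : Nat.card (t.E h) = Nat.card δ.range := by
    rw [← hrange]
    exact Nat.card_congr (Subgroup.equivMapOfInjective _ _ D.subtype_injective).toEquiv.symm
  have hpos : 0 < Nat.card C₁ := Nat.card_pos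
  rw [h3]
  rw [h2, t.cardD, mul_comm q] at h1
  exact Nat.eq_of_mul_eq_mul_left hpos h1

/-- `D = C₁ E`. -/
theorem split {d : G} (hd : d ∈ D) : ∃ c ∈ C₁, ∃ e ∈ t.E h, d = c * e := by
  have hle : C₁ ⊔ t.E h ≤ D := sup_le t.C1D (t.E_le h)
  have hn : C₁ ≤ normalizer (t.E h : Set G) := fun c hc => mem_normalizer_of (fun e he => by
    rw [D_comm h (t.C1D hc) (t.E_le h he), mul_inv_cancel_right]; exact he)
  have hset : ((C₁ : Set G) * (t.E h : Set G)) = ((C₁ ⊔ t.E h : Subgroup G) : Set G) :=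
    (Subgroup.coe_mul_of_left_le_normalizer_right C₁ (t.E h) hn).symm
  have hcard : Nat.card ((C₁ ⊔ t.E h : Subgroup G)) * Nat.card (C₁ ⊓ t.E h : Subgroup G) =
      Nat.card C₁ * Nat.card (t.E h) := by
    have h1 := Cfsg.Agent.Lib.ProductSet.card_mul_card_inf C₁ (t.E h)
    rw [hset] at h1
    exact h1
  rw [inf_comm, t.E_inf h, Subgroup.card_bot, mul_one, t.card_E h] at hcard
  have h2 : C₁ ⊔ t.E h = D := by
    apply Subgroup.eq_of_le_of_card_ge hle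
    rw [hcard, t.cardD, mul_comm]
  have h3 : d ∈ (C₁ : Set G) * (t.E h : Set G) := by
    rw [hset, h2]; exact hd
  obtain ⟨c, hc, e, he, rfl⟩ := Set.mem_mul.1 h3
  exact ⟨c, hc, e, he, rfl⟩

/-- `k` is transitive on `E#`. -/
theorem trE {e e' : G} (he : e ∈ t.E h) (he1 : e ≠ 1) (he' : e' ∈ t.E h) (he1' : e' ≠ 1) :
    ∃ n : ℕ, k ^ n * e * (k ^ n)⁻¹ = e' := by
  have key : ∀ x ∈ t.E h, x ∈ C₁ → x = 1 := by
    intro x hx hxC
    have h1 : x ∈ t.E h ⊓ C₁ := ⟨hx, hxC⟩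
    rwa [t.E_inf h, mem_bot] at h1
  obtain ⟨n, hn⟩ := t.trD h (t.E_le h he) (fun h1 => he1 (key e he h1)) (t.E_le h he')
    (fun h1 => he1' (key e' he' h1))
  refine ⟨n, ?_⟩
  have h1 := key _ ((t.E h).mul_mem ((t.E h).inv_mem (t.E_kn h n he)) he') hn
  exact inv_mul_eq_one.1 h1

end Tor

end Cfsg.Agent.Omega.SQ1.NodeA
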