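import Cfsg.Agent.Omega.SQ1.NodeA1

/-!
# SQ1, node (A), part 2: the types `L₃(q)` and `Sp₄(q)`

* `Tor.sp4`: if `[Q₁,Q₂] ∩ C₂ ≠ 1` then `|C₁| = q`, `C₂ = [D,k]`, `[Q₁,Q₂] = D`.
* `Tor.l3`: if `[Q₁,Q₂] ∩ C₂ = 1` then `C₁ = 1`.
* `Tor.types`.
-/

set_option autoImplicit false
set_option Elab.async false

namespace Cfsg.Agent.Omega.SQ1.NodeA

open Subgroup Cfsg Cfsg.Agent.Omega.SQ1.End
open scoped Pointwise

universe u

variable {G : Type u} [Group G]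

/-- `[Q₁, Q₂]`. -/
def PP (Q₁ Q₂ : Subgroup G) : Subgroup G := closure {x | ∃ a ∈ Q₁, ∃ b ∈ Q₂, x = br a b}

theorem br_PP {Q₁ Q₂ : Subgroup G} {a b : G} (ha : a ∈ Q₁) (hb : b ∈ Q₂) : br a b ∈ PP Q₁ Q₂ :=
  subset_closure ⟨a, ha, b, hb, rfl⟩

theorem PP_conj {Q₁ Q₂ : Subgroup G} {g : G} (h1 : ∀ x ∈ Q₁, g * x * g⁻¹ ∈ Q₁)
    (h2 : ∀ x ∈ Q₂, g * x * g⁻¹ ∈ Q₂) : ∀ p ∈ PP Q₁ Q₂, g * p * g⁻¹ ∈ PP Q₁ Q₂ := by
  intro p hp
  have hle : PP Q₁ Q₂ ≤ (PP Q₁ Q₂).comap (MulAut.conj g).toMonoidHom := by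
    apply (closure_le _).2
    rintro _ ⟨a, ha, b, hb, rfl⟩
    show g * br a b * g⁻¹ ∈ PP Q₁ Q₂
    rw [br_conj]
    exact br_PP (h1 a ha) (h2 b hb)
  exact hle hp

section

variable {S T B Q₁ Q₂ D C₁ C₂ : Subgroup G} {s : G} {q : ℕ}
variable (h : Base S T B Q₁ Q₂ D C₁ C₂ s q)

include h

theorem PP_le : PP Q₁ Q₂ ≤ D := by
  apply (closure_le _).2
  rintro _ ⟨a, ha, b, hb, rfl⟩
  exact br_mem h ha hb

theorem PP_s : ∀ p ∈ PP Q₁ Q₂, s * p * s⁻¹ ∈ PP Q₁ Q₂ := by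
  intro p hp
  have hle : PP Q₁ Q₂ ≤ (PP Q₁ Q₂).comap (MulAut.conj s).toMonoidHom := by
    apply (closure_le _).2
    rintro _ ⟨a, ha, b, hb, rfl⟩
    show s * br a b * s⁻¹ ∈ PP Q₁ Q₂
    rw [br_conj, ← br_inv]
    exact inv_mem (br_PP (h.s2 b hb) (h.s1 a ha))
  exact hle hp

theorem PP_cent {g : G} (hg : ∀ a ∈ Q₁, ∀ b ∈ Q₂, g * br a b * g⁻¹ = br a b) :
    ∀ p ∈ PP Q₁ Q₂, g * p * g⁻¹ = p := by
  intro p hp
  have hle : PP Q₁ Q₂ ≤ centralizer ({g} : Set G) := by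
    apply (closure_le _).2
    rintro _ ⟨a, ha, b, hb, rfl⟩
    rw [SetLike.mem_coe, mem_centralizer_singleton_iff]
    exact (mul_inv_eq_iff_eq_mul.1 (hg a ha b hb)).symm
  have h1 := mem_centralizer_singleton_iff.1 (hle hp)
  rw [← h1, mul_inv_cancel_right]

theorem PP_comm {g g' : G} (hg : ∀ a ∈ Q₁, ∀ b ∈ Q₂,
    g * (g' * br a b * g'⁻¹) * g⁻¹ = g' * (g * br a b * g⁻¹) * g'⁻¹) :
    ∀ p ∈ PP Q₁ Q₂, g * (g' * p * g'⁻¹) * g⁻¹ = g' * (g * p * g⁻¹) * g'⁻¹ := by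
  intro p hp
  have h1 := PP_cent h (g := (g' * g)⁻¹ * (g * g')) (fun a ha b hb => by
    have h2 := hg a ha b hb
    have h3 : (g' * g)⁻¹ * (g * g') * br a b * ((g' * g)⁻¹ * (g * g'))⁻¹ =
      (g' * g)⁻¹ * (g * (g' * br a b * g'⁻¹) * g⁻¹) * (g' * g) := by group
    rw [h3, h2]; group) p hp
  calc g * (g' * p * g'⁻¹) * g⁻¹ = g' * g * ((g' * g)⁻¹ * (g * g') * p *
        ((g' * g)⁻¹ * (g * g'))⁻¹) * (g' * g)⁻¹ := by group
    _ = _ := by rw [h1]; group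

/-- `D = Z(B)`. -/
theorem mem_D_of_central [Finite G] {x : G} (hx : x ∈ B) (hc : ∀ b ∈ B, x * b = b * x) : x ∈ D := by
  obtain ⟨a, ha, b, hb, rfl⟩ := h.prod x hx
  have haD : a ∈ D := by
    by_contra haD
    obtain ⟨b', hb', hbD'⟩ := h.exists_b
    apply br_ne_one h ha haD hb' hbD'
    have h1 := hc b' (h.Q2B hb')
    have h2 := h.c2 b hb b' hb'
    have h3 : a * b' = b' * a := by
      apply mul_right_cancel (b := b)
      calc a * b' * b = a * (b * b') := by rw [h2]; group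
        _ = a * b * b' := by group
        _ = b' * a * b := by rw [h1]; group
    simp only [br]
    rw [h3]; group
  have hbD : b ∈ D := by
    by_contra hbD
    obtain ⟨a', ha', haD'⟩ := h.exists_a
    apply br_ne_one h ha' haD' hb hbD
    have h1 := hc a' (h.Q1B ha')
    have h2 := h.centD haD (h.Q1B ha')
    have h3 : a' * b = b * a' := by
      apply mul_left_cancel (a := a)
      calc a * (a' * b) = a * a' * b := by group
        _ = a' * (a * b) := by rw [h2]; group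
        _ = a * (b * a') := by rw [← h1]; group
    simp only [br]
    rw [h3]; group
  exact D.mul_mem haD hbD

/-- `C_T(B/D) ≤ B`. -/
theorem mem_B_of_triv [Finite G] {t : G} (ht : t ∈ T) (hc : ∀ b ∈ B, t * b * t⁻¹ * b⁻¹ ∈ D) :
    t ∈ B := by
  classical
  by_contra htB
  -- the elements acting trivially on `B/D`
  have hT_B : ∀ x ∈ T, ∀ b ∈ B, x * b * x⁻¹ ∈ B := fun x hx b hb => h.S_B (h.TS hx) hb
  let W : Subgroup G :=
    { carrier := {x | x ∈ T ∧ ∀ b ∈ B, x * b * x⁻¹ * b⁻¹ ∈ D}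
      one_mem' := ⟨one_mem _, by simp⟩
      mul_mem' := by
        rintro x y ⟨hx, hx2⟩ ⟨hy, hy2⟩
        refine ⟨T.mul_mem hx hy, fun b hb => ?_⟩
        have h1 := D.mul_mem (hx2 _ (hT_B y hy b hb)) (hy2 b hb)
        have h2 : x * (y * b * y⁻¹) * x⁻¹ * (y * b * y⁻¹)⁻¹ * (y * b * y⁻¹ * b⁻¹) =
          x * y * b * (x * y)⁻¹ * b⁻¹ := by group
        rwa [h2] at h1
      inv_mem' := by
        rintro x ⟨hx, hx2⟩
        refine ⟨T.inv_mem hx, fun b hb => ?_⟩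
        have h0 : x⁻¹ * b * x⁻¹⁻¹ ∈ B := hT_B _ (T.inv_mem hx) b hb
        have h1 := D.inv_mem (hx2 _ h0)
        have h2 : (x * (x⁻¹ * b * x⁻¹⁻¹) * x⁻¹ * (x⁻¹ * b * x⁻¹⁻¹)⁻¹)⁻¹ = x⁻¹ * b * x⁻¹⁻¹ * b⁻¹ := by
          group
        rwa [h2] at h1 }
  obtain ⟨m, hm⟩ := h.two ⟨t, h.TS ht⟩
  have hm' : t ^ 2 ^ m ∈ B := by
    have : t ^ 2 ^ m = 1 := by simpa using congrArg Subtype.val hm
    rw [this]; exact one_mem _
  have hex : ∃ m : ℕ, t ^ 2 ^ m ∈ B := ⟨m, hm'⟩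
  obtain ⟨j, hj⟩ : ∃ j, Nat.find hex = j + 1 := by
    apply Nat.exists_eq_succ_of_ne_zero
    intro h0
    have h1 := Nat.find_spec hex
    rw [h0, pow_zero, pow_one] at h1
    exact htB h1
  have hj1 : t ^ 2 ^ j ∉ B := Nat.find_min hex (by omega)
  have hj2 : t ^ 2 ^ j * t ^ 2 ^ j ∈ B := by
    have h1 := Nat.find_spec hex
    rw [hj, pow_succ, pow_mul, pow_two] at h1
    exact h1
  have hW : t ^ 2 ^ j ∈ W := W.pow_mem (show t ∈ W from ⟨ht, hc⟩) _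
  set f := t ^ 2 ^ j with hf
  obtain ⟨hfT, hfc⟩ := hW
  obtain ⟨b, hb, hbD⟩ := h.exists_b
  have hbB := h.Q2B hb
  have hcong : ∀ u ∈ B, u⁻¹ * (f * u * f⁻¹) ∈ D := by
    intro u hu
    have h4 : u⁻¹ * (f * u * f⁻¹) = u⁻¹ * ((f * u * f⁻¹ * u⁻¹) * u) := by group
    rw [h4, h.centD (hfc u hu) hu, inv_mul_cancel_left]
    exact hfc u hu
  obtain ⟨u, hu, hu2⟩ := h.free1 f hfT hj1 hj2 b hbB (h.D1 (hcong b hbB))
  have h5 : u * (f * u * f⁻¹) ∈ D := by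
    have h6 : u * (f * u * f⁻¹) = (u * u) * (u⁻¹ * (f * u * f⁻¹)) := by group
    rw [h6]
    exact D.mul_mem (h.sqB hu) (hcong u hu)
  have h7 : b⁻¹ ∈ Q₁ := by
    have h8 := Q₁.mul_mem hu2 (Q₁.inv_mem (h.D1 h5))
    rwa [mul_inv_cancel_right] at h8
  exact hbD ((h.memD b).2 ⟨by simpa using Q₁.inv_mem h7, hb⟩)

end

namespace Tor

variable [Finite G] {S T B Q₁ Q₂ D C₁ C₂ : Subgroup G} {s k : G} {q : ℕ}
variable (t : Tor T Q₁ Q₂ D C₁ k q) (h : Base S T B Q₁ Q₂ D C₁ C₂ s q)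

include t h

omit t [Finite G] in
theorem sD {d : G} (hd : d ∈ D) : s * d * s⁻¹ ∈ D :=
  (h.memD _).2 ⟨h.s2 _ (h.D2 hd), h.s1 _ (h.D1 hd)⟩

omit t in
theorem sD' {d : G} (hd : d ∈ D) : s⁻¹ * d * s ∈ D := inv_conj_mem (fun _ hx => sD h hx) d hd

theorem C2D : C₂ ≤ D := by
  intro x hx
  have h1 := sD' h (t.C1D (h.sC2 x hx))
  have h2 : s⁻¹ * (s * x * s⁻¹) * s = x := by group
  rwa [h2] at h1

omit t in
theorem card_C : Nat.card C₁ = Nat.card C₂ := by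
  apply le_antisymm
  · have h1 : C₁.map (MulAut.conj s).toMonoidHom ≤ C₂ := by
      rintro _ ⟨x, hx, rfl⟩
      exact h.sC1 x hx
    have h2 := Subgroup.card_le_of_le h1
    rwa [Lib.GoldschmidtFusion.card_map_conj] at h2
  · have h1 : C₂.map (MulAut.conj s).toMonoidHom ≤ C₁ := by
      rintro _ ⟨x, hx, rfl⟩
      exact h.sC2 x hx
    have h2 := Subgroup.card_le_of_le h1
    rwa [Lib.GoldschmidtFusion.card_map_conj] at h2

/-- `|C₁| ≤ q`. -/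
theorem card_C_le : Nat.card C₁ ≤ q := by
  have h1 := Cfsg.Agent.Lib.ProductSet.card_mul_card_inf C₁ C₂
  rw [h.C12, Subgroup.card_bot, mul_one] at h1
  have h2 : ((C₁ : Set G) * (C₂ : Set G)) ⊆ (D : Set G) := by
    rintro _ ⟨a, ha, b, hb, rfl⟩
    exact D.mul_mem (t.C1D ha) (t.C2D h hb)
  have h3 : Nat.card ((C₁ : Set G) * (C₂ : Set G) : Set G) ≤ Nat.card D :=
    Nat.card_mono (Set.toFinite _) h2
  rw [h1, t.cardD, ← card_C h] at h3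
  exact Nat.le_of_mul_le_mul_right h3 Nat.card_pos

theorem E_le_PP : t.E h ≤ PP Q₁ Q₂ := by
  rintro _ ⟨d, hd, rfl⟩
  obtain ⟨a, ha, haD⟩ := h.exists_a
  obtain ⟨b, hb, hb2⟩ := t.surj1 h ha haD hd
  have h1 := t.kc _ hb2
  have h2 : k * d * k⁻¹ * d⁻¹ = k * br a b * k⁻¹ * (k * ((br a b)⁻¹ * d) * k⁻¹) * d⁻¹ := by group
  rw [h2, h1]
  have h3 : k * br a b * k⁻¹ * ((br a b)⁻¹ * d) * d⁻¹ = k * br a b * k⁻¹ * (br a b)⁻¹ := by group
  rw [h3]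
  exact (PP Q₁ Q₂).mul_mem (PP_conj t.k1 t.k2 _ (br_PP ha hb)) ((PP Q₁ Q₂).inv_mem (br_PP ha hb))

omit t in
/-- Counting: if `[a, b] ∈ X` for `b ∈ D` only, then `q |X| ≤ |D|`. -/
theorem card_le_of_inj {X : Subgroup G} (hXD : X ≤ D) {a : G}
    (ha : a ∈ Q₁) (hinj : ∀ b ∈ Q₂, br a b ∈ X → b ∈ D) : q * Nat.card X ≤ Nat.card D := by
  have hXn : (X.subgroupOf D).Normal := by
    refine ⟨fun n hn g => ?_⟩
    have : g * n * g⁻¹ = n := by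
      ext
      show (g : G) * n * (g : G)⁻¹ = n
      rw [D_comm h g.2 n.2]; group
    rwa [this]
  let φ : Q₂ →* D ⧸ X.subgroupOf D := (QuotientGroup.mk' _).comp (brR h ha)
  have hφ : ∀ b : Q₂, φ b = 1 ↔ br a b ∈ X := by
    intro b
    show ((brR h ha b : D) : D ⧸ X.subgroupOf D) = 1 ↔ _
    rw [QuotientGroup.eq_one_iff, mem_subgroupOf]
    rfl
  have hker : φ.ker = D.subgroupOf Q₂ := by
    ext b
    rw [MonoidHom.mem_ker, hφ, mem_subgroupOf]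
    refine ⟨fun h1 => hinj _ b.2 h1, fun h1 => ?_⟩
    rw [br_D_right h ha h1]; exact one_mem _
  have h1 : Nat.card φ.ker * Nat.card φ.range = Nat.card Q₂ := by
    rw [← Subgroup.index_ker, Subgroup.card_mul_index]
  have h2 : Nat.card φ.ker = Nat.card D := by
    rw [hker]
    exact Nat.card_congr (Subgroup.subgroupOfEquivOfLe h.D2).toEquiv
  have h3 : Nat.card (D ⧸ X.subgroupOf D) * Nat.card X = Nat.card D := by
    have h4 := Subgroup.card_eq_card_quotient_mul_card_subgroup (X.subgroupOf D)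
    rw [Nat.card_congr (Subgroup.subgroupOfEquivOfLe hXD).toEquiv] at h4
    exact h4.symm
  have hDpos : 0 < Nat.card D := Nat.card_pos
  have h4 : Nat.card φ.range = q := by
    rw [h2, h.card2, mul_comm q] at h1
    exact Nat.eq_of_mul_eq_mul_left hDpos h1
  have h5 : q ≤ Nat.card (D ⧸ X.subgroupOf D) := by
    rw [← h4]
    exact Subgroup.card_le_card_group _
  rw [← h3]
  exact Nat.mul_le_mul_right _ h5

theorem conj_notMem {a : G} (n : ℕ) (ha : a ∉ D) : k ^ n * a * (k ^ n)⁻¹ ∉ D := by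
  intro h1
  apply ha
  have h2 := inv_conj_mem (fun _ hx => t.knD h n hx) _ h1
  have h3 : (k ^ n)⁻¹ * (k ^ n * a * (k ^ n)⁻¹) * k ^ n = a := by group
  rwa [h3] at h2

/-- Type `Sp₄(q)`. -/
theorem sp4 {p : G} (hp : p ∈ PP Q₁ Q₂) (hpC : p ∈ C₂) (hp1 : p ≠ 1) :
    Nat.card C₁ = q ∧ C₂ = t.E h ∧ PP Q₁ Q₂ = D := by
  obtain ⟨a₀, ha₀, haD₀⟩ := h.exists_a
  have hEn : ∀ x ∈ t.E h, x ∈ C₁ → x = 1 := by
    intro x hx hxC
    have h1 : x ∈ t.E h ⊓ C₁ := ⟨hx, hxC⟩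
    rwa [t.E_inf h, mem_bot] at h1
  -- `k^n d k^{-n} d⁻¹ ∈ E`
  have hkE : ∀ n : ℕ, ∀ d ∈ D, k ^ n * d * (k ^ n)⁻¹ * d⁻¹ ∈ t.E h := by
    intro n d hd
    obtain ⟨c, hc, e, he, rfl⟩ := t.split h hd
    have h1 := t.knC n hc
    have h2 : k ^ n * (c * e) * (k ^ n)⁻¹ * (c * e)⁻¹ =
      (k ^ n * c * (k ^ n)⁻¹) * (k ^ n * e * (k ^ n)⁻¹) * e⁻¹ * c⁻¹ := by group
    rw [h2, h1]
    have h3 := (t.E h).mul_mem (t.E_kn h n he) ((t.E h).inv_mem he)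
    have h4 := D_comm h (t.C1D hc) (t.E_le h h3)
    have h5 : c * (k ^ n * e * (k ^ n)⁻¹) * e⁻¹ * c⁻¹ = c * (k ^ n * e * (k ^ n)⁻¹ * e⁻¹) * c⁻¹ := by
      group
    rw [h5, h4, mul_inv_cancel_right]
    exact h3
  -- claim 1
  have claim1 : ∀ x ∈ PP Q₁ Q₂, ∃ v ∈ Q₂, x * br a₀ v ∈ t.E h := by
    intro x hx
    refine closure_induction (p := fun x _ => ∃ v ∈ Q₂, x * br a₀ v ∈ t.E h) ?_ ?_ ?_ ?_ hx
    · rintro _ ⟨a, ha, b, hb, rfl⟩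
      by_cases haD : a ∈ D
      · refine ⟨1, one_mem _, ?_⟩
        rw [br_D_left h haD hb, br_one_right, mul_one]; exact one_mem _
      · obtain ⟨n, hn⟩ := t.tr a₀ ha₀ haD₀ a ha haD
        refine ⟨(k ^ n)⁻¹ * b * k ^ n, t.kn2' n b hb, ?_⟩
        have h1 : br a b = br (k ^ n * a₀ * (k ^ n)⁻¹) b :=
          br_congr_left h (t.kn1 n a₀ ha₀) hb hn
        have h2 : br (k ^ n * a₀ * (k ^ n)⁻¹) b =
            k ^ n * br a₀ ((k ^ n)⁻¹ * b * k ^ n) * (k ^ n)⁻¹ := by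
          rw [br_conj]
          congr 1
          group
        have h3 := hkE n _ (br_mem h ha₀ (t.kn2' n b hb))
        rw [h1, h2]
        have h4 := inv_eq_of_mul_eq_one_right (h.sqD (br_mem h ha₀ (t.kn2' n b hb)))
        rwa [h4] at h3
    · exact ⟨1, one_mem _, by rw [br_one_right, mul_one]; exact one_mem _⟩
    · rintro x y hx hy ⟨v, hv, hxv⟩ ⟨w, hw, hyw⟩
      refine ⟨v * w, Q₂.mul_mem hv hw, ?_⟩
      rw [br_mul_right h ha₀ hv hw]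
      have h1 := (t.E h).mul_mem hxv hyw
      have h2 := D_comm h (PP_le h hy) (br_mem h ha₀ hv)
      have h3 : x * br a₀ v * (y * br a₀ w) = x * y * (br a₀ v * br a₀ w) := by
        calc x * br a₀ v * (y * br a₀ w) = x * (br a₀ v * y) * br a₀ w := by group
          _ = x * (y * br a₀ v) * br a₀ w := by rw [h2]
          _ = _ := by group
      rwa [h3] at h1
    · rintro x hx ⟨v, hv, hxv⟩
      refine ⟨v, hv, ?_⟩
      rwa [inv_eq_of_mul_eq_one_right (h.sqD (PP_le h hx))]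
  -- claim 2
  have claim2 : ∀ p ∈ D, p ∈ C₂ → p ≠ 1 → ∀ v ∈ Q₂, p * br a₀ v ∈ t.E h → v ∈ D := by
    intro p hp hpC hp1 v hv hpv
    by_contra hvD
    have hgood := br_good h ha₀ haD₀ hv hvD
    obtain ⟨c, hc, e, he, hce⟩ := t.split h hgood.1
    obtain ⟨c', hc', e', he', hce'⟩ := t.split h hp
    have h1 : c' * c ∈ t.E h := by
      have h2 := D_comm h (t.E_le h he') (t.C1D hc)
      have h3 : p * br a₀ v = c' * c * (e' * e) := by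
        rw [hce, hce']
        calc c' * e' * (c * e) = c' * (e' * c) * e := by group
          _ = c' * (c * e') * e := by rw [h2]
          _ = _ := by group
      rw [h3] at hpv
      have h4 := (t.E h).mul_mem hpv ((t.E h).inv_mem ((t.E h).mul_mem he' he))
      rwa [mul_inv_cancel_right] at h4
    have h2 := hEn _ h1 (C₁.mul_mem hc' hc)
    have h3 : c' = c := by
      have h4 := h.sqD (t.C1D hc)
      rw [← h4] at h2
      exact mul_right_cancel h2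
    have he1 : e ≠ 1 := by
      rintro rfl
      rw [mul_one] at hce
      exact hgood.2.1 (hce ▸ hc)
    have he1' : e' ≠ 1 := by
      rintro rfl
      rw [mul_one] at hce'
      have h4 : p ∈ C₁ ⊓ C₂ := ⟨hce' ▸ hc', hpC⟩
      rw [h.C12, mem_bot] at h4
      exact hp1 h4
    obtain ⟨n, hn⟩ := t.trE h he he1 he' he1'
    have h4 : k ^ n * br a₀ v * (k ^ n)⁻¹ = p := by
      rw [hce, hce', h3, ← hn]
      have h5 := t.knC n hc
      calc k ^ n * (c * e) * (k ^ n)⁻¹ = k ^ n * c * (k ^ n)⁻¹ * (k ^ n * e * (k ^ n)⁻¹) := by group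
        _ = _ := by rw [h5]
    rw [br_conj] at h4
    have h5 := br_good h (t.kn1 n _ ha₀) (t.conj_notMem h n haD₀) (t.kn2 n _ hv)
      (t.conj_notMem h n hvD)
    rw [h4] at h5
    exact h5.2.2 hpC
  -- claim 3
  have claim3 : ∀ p ∈ PP Q₁ Q₂, p ∈ C₂ → p ∈ t.E h := by
    intro p hp hpC
    by_cases hp1 : p = 1
    · rw [hp1]; exact one_mem _
    · obtain ⟨v, hv, hpv⟩ := claim1 p hp
      have h1 := claim2 p (PP_le h hp) hpC hp1 v hv hpv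
      rwa [br_D_right h ha₀ h1, mul_one] at hpv
  have hpE := claim3 p hp hpC
  have claim4 : ∀ v ∈ Q₂, br a₀ v ∈ t.E h → v ∈ D := fun v hv hvE =>
    claim2 p (PP_le h hp) hpC hp1 v hv ((t.E h).mul_mem hpE hvE)
  have h5 := card_le_of_inj h (t.E_le h) ha₀ claim4
  rw [t.card_E h, t.cardD] at h5
  have h6 := t.card_C_le h
  have hq : 0 < q := by have := h.hq; omega
  have h7 : Nat.card C₁ = q := le_antisymm h6 (Nat.le_of_mul_le_mul_left h5 hq)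
  have h8 : PP Q₁ Q₂ = D := by
    apply le_antisymm (PP_le h)
    intro d hd
    obtain ⟨b, hb, hb2⟩ := surj_right h (t.E_le h) (by rw [t.card_E h, t.cardD, h7]) ha₀ claim4 hd
    have h9 := (PP Q₁ Q₂).mul_mem (br_PP ha₀ hb) (t.E_le_PP h hb2)
    rwa [mul_inv_cancel_left] at h9
  refine ⟨h7, ?_, h8⟩
  apply Subgroup.eq_of_le_of_card_ge
  · intro x hx
    exact claim3 x (h8.symm ▸ t.C2D h hx) hx
  · rw [t.card_E h, ← card_C h, h7]

/-- Type `L₃(q)`. -/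
theorem l3 (hP : ∀ p ∈ PP Q₁ Q₂, p ∈ C₂ → p = 1) : C₁ = ⊥ := by
  have hP1 : ∀ p ∈ PP Q₁ Q₂, p ∈ C₁ → p = 1 := by
    intro p hp hpC
    have h1 := hP _ (PP_s h p hp) (h.sC1 p hpC)
    have h2 : p = s⁻¹ * (s * p * s⁻¹) * s := by group
    rw [h2, h1]; group
  have hsinv : ∀ x, x ∈ Q₁ → s⁻¹ * x * s ∈ Q₂ := fun x hx => h.s2' hx
  have hsinv' : ∀ x, x ∈ Q₂ → s⁻¹ * x * s ∈ Q₁ := fun x hx => h.s1' hx
  set k' := s * k * s⁻¹ with hk'
  have k'1 : ∀ x ∈ Q₁, k' * x * k'⁻¹ ∈ Q₁ := by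
    intro x hx
    have h1 := h.s2 _ (t.k2 _ (hsinv x hx))
    have h2 : s * (k * (s⁻¹ * x * s) * k⁻¹) * s⁻¹ = k' * x * k'⁻¹ := by rw [hk']; group
    rwa [h2] at h1
  have k'2 : ∀ x ∈ Q₂, k' * x * k'⁻¹ ∈ Q₂ := by
    intro x hx
    have h1 := h.s1 _ (t.k1 _ (hsinv' x hx))
    have h2 : s * (k * (s⁻¹ * x * s) * k⁻¹) * s⁻¹ = k' * x * k'⁻¹ := by rw [hk']; group
    rwa [h2] at h1
  have k'1i := inv_conj_mem k'1
  have k'2i := inv_conj_mem k'2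
  have k1i := t.k1'
  have k2i := t.k2'
  -- the exact relations
  have relE : ∀ a ∈ Q₁, ∀ b ∈ Q₂, k * br a b * k⁻¹ = br (k⁻¹ * a * k) b := by
    intro a ha b hb
    have h1 := t.rel a ha b hb
    have h2 := (PP Q₁ Q₂).mul_mem ((PP Q₁ Q₂).inv_mem (br_PP (k1i a ha) hb))
      (PP_conj t.k1 t.k2 _ (br_PP ha hb))
    exact (inv_mul_eq_one.1 (hP1 _ h2 h1)).symm
  have relE' : ∀ a ∈ Q₁, ∀ b ∈ Q₂, k' * br a b * k'⁻¹ = br a (k'⁻¹ * b * k') := by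
    intro a ha b hb
    have h1 := relE _ (hsinv' b hb) _ (hsinv a ha)
    have h2 : k' * br b a * k'⁻¹ = s * (k * br (s⁻¹ * b * s) (s⁻¹ * a * s) * k⁻¹) * s⁻¹ := by
      rw [hk']; simp only [br]; group
    have h3 : s * br (k⁻¹ * (s⁻¹ * b * s) * k) (s⁻¹ * a * s) * s⁻¹ = br (k'⁻¹ * b * k') a := by
      rw [hk']; simp only [br]; group
    rw [h1, h3] at h2
    rw [br_symm h ha hb, br_symm h ha (k'2i b hb)] at h2
    exact h2
  have hcomm : ∀ p ∈ PP Q₁ Q₂, k * (k' * p * k'⁻¹) * k⁻¹ = k' * (k * p * k⁻¹) * k'⁻¹ := by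
    apply PP_comm h
    intro a ha b hb
    rw [relE' a ha b hb, relE a ha b hb, relE a ha _ (k'2i b hb), relE' _ (k1i a ha) b hb]
  set z := k * k' * k⁻¹ * k'⁻¹ with hz
  have hPk : ∀ p ∈ PP Q₁ Q₂, k⁻¹ * p * k ∈ PP Q₁ Q₂ := inv_conj_mem (PP_conj t.k1 t.k2)
  have hPk' : ∀ p ∈ PP Q₁ Q₂, k'⁻¹ * p * k' ∈ PP Q₁ Q₂ := inv_conj_mem (PP_conj k'1 k'2)
  have hzP : ∀ p ∈ PP Q₁ Q₂, z * p * z⁻¹ = p := by
    intro p hp
    have h1 := hPk' p hp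
    have h2 := hPk _ h1
    have h3 := hcomm _ h2
    calc z * p * z⁻¹ = k * (k' * (k⁻¹ * (k'⁻¹ * p * k') * k) * k'⁻¹) * k⁻¹ := by rw [hz]; group
      _ = k' * (k * (k⁻¹ * (k'⁻¹ * p * k') * k) * k⁻¹) * k'⁻¹ := h3
      _ = p := by group
  -- `z` on `Q₁/D`
  have hz1 : ∀ a ∈ Q₁, a⁻¹ * (z * a * z⁻¹) ∈ D := by
    intro a ha
    obtain ⟨b, hb, hbD⟩ := h.exists_b
    obtain ⟨x, hx⟩ : ∃ x, x = k' * k * k'⁻¹ := ⟨_, rfl⟩
    have hxr : x * br a b * x⁻¹ = br (x⁻¹ * a * x) b := by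
      have h1 : x * br a b * x⁻¹ = k' * (k * (k'⁻¹ * br a b * k') * k⁻¹) * k'⁻¹ := by
        rw [hx]; group
      have h2 : k'⁻¹ * br a b * k' = br (k'⁻¹ * a * k') (k'⁻¹ * b * k') := by
        have := br_conj k'⁻¹ a b
        simpa using this
      rw [h1, h2, relE _ (k'1i a ha) _ (k'2i b hb), br_conj]
      congr 1
      · rw [hx]; group
      · group
    have hzx : ∀ p ∈ PP Q₁ Q₂, x * p * x⁻¹ = k * p * k⁻¹ := by
      intro p hp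
      have h1 := hzP _ (PP_conj t.k1 t.k2 p hp)
      have h4 : x * p * x⁻¹ = z⁻¹ * (k * p * k⁻¹) * z := by rw [hz, hx]; group
      rw [h4]
      nth_rewrite 1 [← h1]
      group
    rw [hzx _ (br_PP ha hb), relE a ha b hb] at hxr
    have hxa : x⁻¹ * a * x ∈ Q₁ := by
      have h1 := k'1 _ (k1i _ (k'1i a ha))
      have h2 : k' * (k⁻¹ * (k'⁻¹ * a * k') * k) * k'⁻¹ = x⁻¹ * a * x := by rw [hx]; group
      rwa [h2] at h1
    have h1 := left_inj h (k1i a ha) hxa hb hbD hxr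
    have h2 := t.kD h h1
    have h3 : k * ((k⁻¹ * a * k)⁻¹ * (x⁻¹ * a * x)) * k⁻¹ = a⁻¹ * (z * a * z⁻¹) := by
      rw [hx, hz]; group
    rwa [h3] at h2
  -- `z` on `Q₂/D`
  have hz2' : ∀ b ∈ Q₂, b⁻¹ * (z⁻¹ * b * z) ∈ D := by
    intro b hb
    obtain ⟨a, ha, haD⟩ := h.exists_a
    obtain ⟨x, hx⟩ : ∃ x, x = k * k' * k⁻¹ := ⟨_, rfl⟩
    have hxr : x * br a b * x⁻¹ = br a (x⁻¹ * b * x) := by
      have h1 : x * br a b * x⁻¹ = k * (k' * (k⁻¹ * br a b * k) * k'⁻¹) * k⁻¹ := by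
        rw [hx]; group
      have h2 : k⁻¹ * br a b * k = br (k⁻¹ * a * k) (k⁻¹ * b * k) := by
        have := br_conj k⁻¹ a b
        simpa using this
      rw [h1, h2, relE' _ (k1i a ha) _ (k2i b hb), br_conj]
      congr 1
      · group
      · rw [hx]; group
    have hzx : x * br a b * x⁻¹ = k' * br a b * k'⁻¹ := by
      have h1 := hzP _ (PP_conj k'1 k'2 _ (br_PP ha hb))
      have h4 : x * br a b * x⁻¹ = z * (k' * br a b * k'⁻¹) * z⁻¹ := by rw [hz, hx]; group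
      rw [h4, h1]
    rw [hzx, relE' a ha b hb] at hxr
    have hxb : x⁻¹ * b * x ∈ Q₂ := by
      have h1 := t.k2 _ (k'2i _ (k2i b hb))
      have h2 : k * (k'⁻¹ * (k⁻¹ * b * k) * k') * k⁻¹ = x⁻¹ * b * x := by rw [hx]; group
      rwa [h2] at h1
    have h1 := right_inj h ha haD (k'2i b hb) hxb hxr
    have h2 : k' * ((k'⁻¹ * b * k')⁻¹ * (x⁻¹ * b * x)) * k'⁻¹ ∈ D := (h.memD _).2
      ⟨k'1 _ (h.D1 h1), k'2 _ (h.D2 h1)⟩
    have h3 : k' * ((k'⁻¹ * b * k')⁻¹ * (x⁻¹ * b * x)) * k'⁻¹ = b⁻¹ * (z⁻¹ * b * z) := by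
      rw [hx, hz]; group
    rwa [h3] at h2
  have hzQ2 : ∀ b ∈ Q₂, z * b * z⁻¹ ∈ Q₂ := by
    intro b hb
    have h1 := t.k2 _ (k'2 _ (k2i _ (k'2i b hb)))
    have h2 : k * (k' * (k⁻¹ * (k'⁻¹ * b * k') * k) * k'⁻¹) * k⁻¹ = z * b * z⁻¹ := by rw [hz]; group
    rwa [h2] at h1
  have hz2 : ∀ b ∈ Q₂, b⁻¹ * (z * b * z⁻¹) ∈ D := by
    intro b hb
    have h1 := hz2' _ (hzQ2 b hb)
    have h2 := D.inv_mem h1
    have h3 : ((z * b * z⁻¹)⁻¹ * (z⁻¹ * (z * b * z⁻¹) * z))⁻¹ = b⁻¹ * (z * b * z⁻¹) := by group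
    rwa [h3] at h2
  -- `k`, `k'` are trivial on `D/P`
  have hkDP : ∀ d ∈ D, k * d * k⁻¹ * d⁻¹ ∈ PP Q₁ Q₂ := fun d hd => t.E_le_PP h ⟨d, hd, rfl⟩
  have hk'DP : ∀ d ∈ D, k' * d * k'⁻¹ * d⁻¹ ∈ PP Q₁ Q₂ := by
    intro d hd
    have h1 := PP_s h _ (hkDP _ (sD' h hd))
    have h2 : s * (k * (s⁻¹ * d * s) * k⁻¹ * (s⁻¹ * d * s)⁻¹) * s⁻¹ = k' * d * k'⁻¹ * d⁻¹ := by
      rw [hk']; group
    rwa [h2] at h1
  let U : Subgroup G :=
    { carrier := {g | (∀ d ∈ D, g * d * g⁻¹ ∈ D) ∧ ∀ d ∈ D, g * d * g⁻¹ * d⁻¹ ∈ PP Q₁ Q₂}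
      one_mem' := ⟨by simp, by simp⟩
      mul_mem' := by
        rintro x y ⟨hx, hx2⟩ ⟨hy, hy2⟩
        refine ⟨fun d hd => ?_, fun d hd => ?_⟩
        · have h1 := hx _ (hy d hd)
          have h2 : x * (y * d * y⁻¹) * x⁻¹ = x * y * d * (x * y)⁻¹ := by group
          rwa [h2] at h1
        · have h1 := (PP Q₁ Q₂).mul_mem (hx2 _ (hy d hd)) (hy2 d hd)
          have h2 : x * (y * d * y⁻¹) * x⁻¹ * (y * d * y⁻¹)⁻¹ * (y * d * y⁻¹ * d⁻¹) =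
            x * y * d * (x * y)⁻¹ * d⁻¹ := by group
          rwa [h2] at h1
      inv_mem' := by
        rintro x ⟨hx, hx2⟩
        have hx' := inv_conj_mem hx
        refine ⟨fun d hd => by rw [inv_inv]; exact hx' d hd, fun d hd => ?_⟩
        have h1 := (PP Q₁ Q₂).inv_mem (hx2 _ (hx' d hd))
        have h2 : (x * (x⁻¹ * d * x) * x⁻¹ * (x⁻¹ * d * x)⁻¹)⁻¹ = x⁻¹ * d * x⁻¹⁻¹ * d⁻¹ := by group
        rwa [h2] at h1 }
  have hkU : k ∈ U := ⟨fun d hd => t.kD h hd, hkDP⟩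
  have hk'U : k' ∈ U := ⟨fun d hd => (h.memD _).2 ⟨k'1 _ (h.D1 hd), k'2 _ (h.D2 hd)⟩, hk'DP⟩
  have hzU : z ∈ U := U.mul_mem (U.mul_mem (U.mul_mem hkU hk'U) (U.inv_mem hkU)) (U.inv_mem hk'U)
  -- the group `W`
  have hBn : ∀ g : G, (∀ b ∈ B, g * b * g⁻¹ * b⁻¹ ∈ D) → ∀ b ∈ B, g * b * g⁻¹ ∈ B := by
    intro g hg b hb
    have h1 := B.mul_mem (h.DB (hg b hb)) hb
    rwa [inv_mul_cancel_right] at h1
  let W : Subgroup G :=
    { carrier := {g | (∀ b ∈ B, g * b * g⁻¹ * b⁻¹ ∈ D) ∧ (∀ d ∈ D, g * d * g⁻¹ * d⁻¹ ∈ PP Q₁ Q₂) ∧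
        ∀ p ∈ PP Q₁ Q₂, g * p * g⁻¹ = p}
      one_mem' := ⟨by simp, by simp, by simp⟩
      mul_mem' := by
        rintro x y ⟨hx, hx2, hx3⟩ ⟨hy, hy2, hy3⟩
        refine ⟨fun b hb => ?_, fun d hd => ?_, fun p hp => ?_⟩
        · have h1 := D.mul_mem (hx _ (hBn y hy b hb)) (hy b hb)
          have h2 : x * (y * b * y⁻¹) * x⁻¹ * (y * b * y⁻¹)⁻¹ * (y * b * y⁻¹ * b⁻¹) =
            x * y * b * (x * y)⁻¹ * b⁻¹ := by group
          rwa [h2] at h1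
        · have h0 : y * d * y⁻¹ ∈ D := by
            have h1 := D.mul_mem (PP_le h (hy2 d hd)) hd
            rwa [inv_mul_cancel_right] at h1
          have h1 := (PP Q₁ Q₂).mul_mem (hx2 _ h0) (hy2 d hd)
          have h2 : x * (y * d * y⁻¹) * x⁻¹ * (y * d * y⁻¹)⁻¹ * (y * d * y⁻¹ * d⁻¹) =
            x * y * d * (x * y)⁻¹ * d⁻¹ := by group
          rwa [h2] at h1
        · calc x * y * p * (x * y)⁻¹ = x * (y * p * y⁻¹) * x⁻¹ := by group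
            _ = p := by rw [hy3 p hp, hx3 p hp]
      inv_mem' := by
        rintro x ⟨hx, hx2, hx3⟩
        have hx' := inv_conj_mem (hBn x hx)
        have hxD : ∀ d ∈ D, x * d * x⁻¹ ∈ D := by
          intro d hd
          have h1 := D.mul_mem (PP_le h (hx2 d hd)) hd
          rwa [inv_mul_cancel_right] at h1
        have hxD' := inv_conj_mem hxD
        refine ⟨fun b hb => ?_, fun d hd => ?_, fun p hp => ?_⟩
        · have h1 := D.inv_mem (hx _ (hx' b hb))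
          have h2 : (x * (x⁻¹ * b * x) * x⁻¹ * (x⁻¹ * b * x)⁻¹)⁻¹ = x⁻¹ * b * x⁻¹⁻¹ * b⁻¹ := by group
          rwa [h2] at h1
        · have h1 := (PP Q₁ Q₂).inv_mem (hx2 _ (hxD' d hd))
          have h2 : (x * (x⁻¹ * d * x) * x⁻¹ * (x⁻¹ * d * x)⁻¹)⁻¹ = x⁻¹ * d * x⁻¹⁻¹ * d⁻¹ := by group
          rwa [h2] at h1
        · have h1 := hx3 p hp
          nth_rewrite 1 [← h1]; group }
  have hW2 : IsPGroup 2 W := by
    apply isPGroup_two_of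
    rintro w ⟨hw1, hw2, hw3⟩ n hn hwn
    have hpow : ∀ e ∈ D, ∃ m : ℕ, e ^ 2 ^ m = 1 := fun e he => ⟨1, by
      rw [pow_one, pow_two]; exact h.sqD he⟩
    have hwD : ∀ d ∈ D, w * d * w⁻¹ = d := by
      intro d hd
      obtain ⟨m, hm⟩ := hpow _ (PP_le h (hw2 d hd))
      have h1 := odd_fix (k := w) (e := w * d * w⁻¹ * d⁻¹) (r := d) hn hwn (by group)
        (mul_inv_eq_iff_eq_mul.1 (hw3 _ (hw2 d hd))) hm
      exact mul_inv_eq_one.1 h1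
    have hwB : ∀ b ∈ B, w * b * w⁻¹ = b := by
      intro b hb
      obtain ⟨m, hm⟩ := hpow _ (hw1 b hb)
      have h1 := odd_fix (k := w) (e := w * b * w⁻¹ * b⁻¹) (r := b) hn hwn (by group)
        (mul_inv_eq_iff_eq_mul.1 (hwD _ (hw1 b hb))) hm
      exact mul_inv_eq_one.1 h1
    have hwQ : w ∈ Q₁ := t.cQ (mem_centralizer_iff.2 fun a ha =>
      (mul_inv_eq_iff_eq_mul.1 (hwB a (h.Q1B ha))).symm)
    exact eq_one_of_odd_of_two (m := 1) hn hwn (by rw [pow_one, pow_two]; exact h.sq1 w hwQ)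
  have hBW : B ≤ W := by
    intro b hb
    exact ⟨fun b' hb' => h.commB hb hb', fun d hd => by
      rw [← h.centD hd hb, mul_inv_cancel_right, mul_inv_cancel]; exact one_mem _, fun p hp => by
      rw [← h.centD (PP_le h hp) hb, mul_inv_cancel_right]⟩
  have hWN : W ≤ normalizer (Q₁ : Set G) := by
    rintro w ⟨hw1, -, -⟩
    apply mem_normalizer_of
    intro a ha
    have h1 := Q₁.mul_mem (h.D1 (hw1 a (h.Q1B ha))) ha
    rwa [inv_mul_cancel_right] at h1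
  have hWB : W ≤ B := by
    intro w hw
    obtain ⟨g, -, hgT⟩ := t.syl W hW2 hWN
    have hgB : g ∈ normalizer (B : Set G) := h.conj_B (fun b hb => h.TS (hgT b (hBW hb)))
    have hgB1 : ∀ b ∈ B, g * b * g⁻¹ ∈ B := fun b hb => (mem_normalizer_iff.1 hgB b).1 hb
    have hgB2 := inv_conj_mem hgB1
    have hgD : ∀ d ∈ D, g * d * g⁻¹ ∈ D := by
      intro d hd
      apply mem_D_of_central h (hgB1 d (h.DB hd))
      intro b hb
      have h1 := h.centD hd (hgB2 b hb)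
      calc g * d * g⁻¹ * b = g * (d * (g⁻¹ * b * g)) * g⁻¹ := by group
        _ = g * (g⁻¹ * b * g * d) * g⁻¹ := by rw [h1]
        _ = b * (g * d * g⁻¹) := by group
    have h1 : g * w * g⁻¹ ∈ B := by
      apply mem_B_of_triv h (hgT w hw)
      intro b hb
      have h2 := hgD _ (hw.1 _ (hgB2 b hb))
      have h3 : g * (w * (g⁻¹ * b * g) * w⁻¹ * (g⁻¹ * b * g)⁻¹) * g⁻¹ =
        g * w * g⁻¹ * b * (g * w * g⁻¹)⁻¹ * b⁻¹ := by group
      rwa [h3] at h2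
    have h2 := hgB2 _ h1
    have h3 : g⁻¹ * (g * w * g⁻¹) * g = w := by group
    rwa [h3] at h2
  have hzW : z ∈ W := by
    refine ⟨fun x hx => ?_, hzU.2, hzP⟩
    obtain ⟨a, ha, b, hb, rfl⟩ := h.prod x hx
    have h1 := hz1 a ha
    have h2 := hz2 b hb
    -- `z a z⁻¹ = a d`, `z b z⁻¹ = b e`
    have h3 : z * (a * b) * z⁻¹ * (a * b)⁻¹ = a * ((a⁻¹ * (z * a * z⁻¹)) * (b * (b⁻¹ * (z * b * z⁻¹))) *
      b⁻¹) * a⁻¹ := by group
    have h4 := h.centD h1 (h.Q2B hb)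
    have h5 := h.centD h2 (h.Q2B hb)
    have h6 := h.centD (D.mul_mem h1 h2) (h.Q1B ha)
    rw [h3]
    have h7 : (a⁻¹ * (z * a * z⁻¹)) * (b * (b⁻¹ * (z * b * z⁻¹))) * b⁻¹ =
        (a⁻¹ * (z * a * z⁻¹)) * (b⁻¹ * (z * b * z⁻¹)) := by
      rw [← h5]; group
    rw [h7, ← h6, mul_inv_cancel_right]
    exact D.mul_mem h1 h2
  have hzB := hWB hzW
  -- the end
  rw [eq_bot_iff]
  intro c hc
  have hcD := t.C1D hc
  set d := k' * c * k'⁻¹ with hd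
  have hdD : d ∈ D := hk'U.1 c hcD
  have hkd : k * d * k⁻¹ = d := by
    have h1 := t.kc c hc
    have h2 := h.centD hdD hzB
    calc k * d * k⁻¹ = z * (k' * (k * c * k⁻¹) * k'⁻¹) * z⁻¹ := by rw [hd, hz]; group
      _ = z * d * z⁻¹ := by rw [h1]
      _ = d := by rw [← h2, mul_inv_cancel_right]
  have hdC : d ∈ C₁ := t.fix h hdD hkd
  have h1 : d * c⁻¹ = 1 := hP1 _ (hk'DP c hcD) (C₁.mul_mem hdC (C₁.inv_mem hc))
  have h2 : k' * c * k'⁻¹ = c := mul_inv_eq_one.1 h1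
  have h3 : k * (s⁻¹ * c * s) * k⁻¹ = s⁻¹ * c * s := by
    calc k * (s⁻¹ * c * s) * k⁻¹ = s⁻¹ * (k' * c * k'⁻¹) * s := by rw [hk']; group
      _ = s⁻¹ * c * s := by rw [h2]
  have h4 : s⁻¹ * c * s ∈ C₁ := t.fix h (sD' h hcD) h3
  have h5 := h.sC1 _ h4
  have h6 : s * (s⁻¹ * c * s) * s⁻¹ = c := by group
  rw [h6] at h5
  have h7 : c ∈ C₁ ⊓ C₂ := ⟨hc, h5⟩
  rwa [h.C12] at h7

/-- **(1)** The types. -/
theorem types : (C₁ = ⊥ ∧ C₂ = ⊥ ∧ PP Q₁ Q₂ = D) ∨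
    (Nat.card C₁ = q ∧ C₂ = t.E h ∧ PP Q₁ Q₂ = D) := by
  by_cases hP : ∀ p ∈ PP Q₁ Q₂, p ∈ C₂ → p = 1
  · left
    have h1 := t.l3 h hP
    have h2 : C₂ = ⊥ := by
      rw [← Subgroup.card_eq_one, ← card_C h, h1, Subgroup.card_bot]
    refine ⟨h1, h2, le_antisymm (PP_le h) ?_⟩
    intro d hd
    obtain ⟨c, hc, e, he, rfl⟩ := t.split h hd
    rw [h1, mem_bot] at hc
    rw [hc, one_mul]
    exact t.E_le_PP h he
  · right
    push Not at hP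
    obtain ⟨p, hp, hpC, hp1⟩ := hP
    exact t.sp4 h hp hpC hp1

end Tor

end Cfsg.Agent.Omega.SQ1.NodeA
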