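import Cfsg.Agent.GH.Rank

/-!
# SQT, SQ1.7, Node (A) (v): type `L₃(4)` has sectional 2-rank at most 4

`Dat B P Q D` (subgroups of a finite group `S`): `P`, `Q` elementary abelian of order 16, `D = P ⊓ Q` of order 4,
`[P, Q] ≤ D`, `ab ≠ ba` for `a ∈ P ∖ D`, `b ∈ Q ∖ D`, `B = P ⊔ Q`, every element of `S` normalises or swaps `P`, `Q`,
some element swaps them, the elements of `S ∖ B` normalising `P` act non-trivially on `P / D` and on `Q / D`, and
`|S : B|` divides 4. Then `SectionalPRankLE 2 4 S`.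
-/

set_option autoImplicit false

namespace Cfsg.Agent.Omega.SQ1.RankFour

open Subgroup Cfsg Cfsg.Agent.TwoFusion.SectionalRank

/-! ### counting -/

section Count

variable {G : Type*} [Group G]

theorem card_mul_relIndex {H K : Subgroup G} (h : H ≤ K) :
    Nat.card H * H.relIndex K = Nat.card K := by
  rw [Subgroup.relIndex, ← Nat.card_congr (Subgroup.subgroupOfEquivOfLe h).toEquiv]
  exact Subgroup.card_mul_index _

/-- `|K H| |K ∩ H| = |K| |H|` -/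
theorem card_sup_mul [Finite G] {K H : Subgroup G} (h : ∀ x ∈ H, ∀ k ∈ K, x * k * x⁻¹ ∈ K) :
    Nat.card (K ⊔ H : Subgroup G) * Nat.card (K ⊓ H : Subgroup G) = Nat.card K * Nat.card H := by
  have h' : H ≤ normalizer (K : Set G) := by
    intro x hx
    rw [mem_normalizer_iff]
    intro k
    refine ⟨fun hk => h x hx k hk, fun hk => ?_⟩
    have := h x⁻¹ (H.inv_mem hx) _ hk
    have e : x⁻¹ * (x * k * x⁻¹) * x⁻¹⁻¹ = k := by group
    rwa [e] at this
  have hKn : (K.subgroupOf (K ⊔ H)).Normal :=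
    normal_subgroupOf_of_le_normalizer (sup_le le_normalizer h')
  have h1 := relIndex_sup_left (H.subgroupOf (K ⊔ H)) (K.subgroupOf (K ⊔ H))
  rw [← Subgroup.subgroupOf_sup le_sup_left le_sup_right, Subgroup.subgroupOf_self,
    Subgroup.relIndex_subgroupOf le_sup_right, relIndex_top_right] at h1
  have h2 : Nat.card K * K.relIndex H = Nat.card (K ⊔ H : Subgroup G) := by
    rw [← h1]
    exact card_mul_relIndex le_sup_left
  have h3 : Nat.card (K ⊓ H : Subgroup G) * K.relIndex H = Nat.card H := by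
    rw [← inf_relIndex_right]
    exact card_mul_relIndex inf_le_right
  rw [← h2, ← h3]
  ring

theorem card_le_of_le [Finite G] {H K : Subgroup G} (h : H ≤ K) : Nat.card H ≤ Nat.card K :=
  Nat.card_le_card_of_injective _ (inclusion_injective h)

theorem eq_of_card [Finite G] {H K : Subgroup G} (h : H ≤ K) (hc : Nat.card K ≤ Nat.card H) : H = K :=
  Subgroup.eq_of_le_of_card_ge h hc

/-- a subgroup strictly contained in another one has at most half of its order -/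
theorem two_mul_le [Finite G] {H K : Subgroup G} (h : H ≤ K) (hne : ∃ k ∈ K, k ∉ H) :
    2 * Nat.card H ≤ Nat.card K := by
  have h1 := card_mul_relIndex h
  have h2 : H.relIndex K ≠ 1 := by
    intro h3
    obtain ⟨k, hk, hk2⟩ := hne
    exact hk2 (relIndex_eq_one.1 h3 hk)
  have h4 : H.relIndex K ≠ 0 := by
    intro h5
    rw [h5, mul_zero] at h1
    exact absurd h1.symm Nat.card_pos.ne'
  have h6 : 2 ≤ H.relIndex K := by omega
  calc 2 * Nat.card H = Nat.card H * 2 := mul_comm _ _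
    _ ≤ Nat.card H * H.relIndex K := Nat.mul_le_mul_left _ h6
    _ = _ := h1

/-- the image of a homomorphism-like map counted through its kernel -/
theorem card_le_of_hom [Finite G] {M : Type*} [Group M] [Finite M] (f : G →* M) (N : Subgroup M)
    (h : ∀ g, f g ∈ N) : Nat.card G ≤ Nat.card f.ker * Nat.card N := by
  have h1 : Nat.card f.ker * f.ker.index = Nat.card G := Subgroup.card_mul_index _
  rw [← h1, Subgroup.index_ker]
  refine Nat.mul_le_mul_left _ (card_le_of_le ?_)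
  rintro _ ⟨g, rfl⟩
  exact h g

end Count

variable {S : Type*} [Group S] {B P Q D : Subgroup S}

/-- The type `L₃(4)`. -/
structure Dat (B P Q D : Subgroup S) : Prop where
  inf : P ⊓ Q = D
  cD : Nat.card D = 4
  cP : Nat.card P = 16
  cQ : Nat.card Q = 16
  eP : ∀ x ∈ P, x * x = 1
  eQ : ∀ x ∈ Q, x * x = 1
  cc : ∀ a ∈ P, ∀ b ∈ Q, a * b * a⁻¹ * b⁻¹ ∈ D
  nc : ∀ a ∈ P, a ∉ D → ∀ b ∈ Q, b ∉ D → a * b ≠ b * a
  sup : P ⊔ Q = B
  perm : ∀ u : S, ((∀ a ∈ P, u * a * u⁻¹ ∈ P) ∧ ∀ b ∈ Q, u * b * u⁻¹ ∈ Q) ∨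
    ((∀ a ∈ P, u * a * u⁻¹ ∈ Q) ∧ ∀ b ∈ Q, u * b * u⁻¹ ∈ P)
  faith : ∀ u : S, u ∉ B → (∀ a ∈ P, u * a * u⁻¹ ∈ P) →
    (∃ a ∈ P, u * a * u⁻¹ * a⁻¹ ∉ D) ∧ ∃ b ∈ Q, u * b * u⁻¹ * b⁻¹ ∉ D
  swap : ∃ s : S, ∀ a ∈ P, s * a * s⁻¹ ∈ Q
  idx : B.index ∣ 4

namespace Dat

variable [Finite S]

section Basic

omit [Finite S]

theorem D_le_P (h : Dat B P Q D) : D ≤ P := by rw [← h.inf]; exact inf_le_left
theorem D_le_Q (h : Dat B P Q D) : D ≤ Q := by rw [← h.inf]; exact inf_le_right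
theorem P_le (h : Dat B P Q D) : P ≤ B := by rw [← h.sup]; exact le_sup_left
theorem Q_le (h : Dat B P Q D) : Q ≤ B := by rw [← h.sup]; exact le_sup_right
theorem mem_D (h : Dat B P Q D) {x : S} (h1 : x ∈ P) (h2 : x ∈ Q) : x ∈ D := by
  rw [← h.inf]; exact ⟨h1, h2⟩

theorem inv_P (h : Dat B P Q D) {x : S} (hx : x ∈ P) : x⁻¹ = x := inv_eq_of_mul_eq_one_right (h.eP x hx)
theorem inv_Q (h : Dat B P Q D) {x : S} (hx : x ∈ Q) : x⁻¹ = x := inv_eq_of_mul_eq_one_right (h.eQ x hx)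

theorem comm_P (h : Dat B P Q D) {x y : S} (hx : x ∈ P) (hy : y ∈ P) : x * y = y * x := by
  have h1 := h.inv_P (P.mul_mem hx hy)
  rw [mul_inv_rev, h.inv_P hx, h.inv_P hy] at h1
  exact h1.symm

theorem comm_Q (h : Dat B P Q D) {x y : S} (hx : x ∈ Q) (hy : y ∈ Q) : x * y = y * x := by
  have h1 := h.inv_Q (Q.mul_mem hx hy)
  rw [mul_inv_rev, h.inv_Q hx, h.inv_Q hy] at h1
  exact h1.symm

/-- `D` is central in `B` -/
theorem comm_D (h : Dat B P Q D) {b d : S} (hb : b ∈ B) (hd : d ∈ D) : b * d = d * b := by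
  have h1 : B ≤ centralizer ({d} : Set S) := by
    rw [← h.sup, sup_le_iff]
    constructor
    · intro x hx
      rw [mem_centralizer_singleton_iff]
      exact h.comm_P hx (h.D_le_P hd)
    · intro x hx
      rw [mem_centralizer_singleton_iff]
      exact h.comm_Q hx (h.D_le_Q hd)
  exact mem_centralizer_singleton_iff.1 (h1 hb)

/-- `u P u⁻¹ ≤ P` for `u ∈ Q` etc. -/
theorem conj_P (h : Dat B P Q D) {a b : S} (ha : a ∈ P) (hb : b ∈ Q) : b * a * b⁻¹ ∈ P := by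
  have h1 := h.D_le_P (D.inv_mem (h.cc a ha b hb))
  have h2 := P.mul_mem h1 ha
  have e : (a * b * a⁻¹ * b⁻¹)⁻¹ * a = b * a * b⁻¹ := by group
  rwa [e] at h2

theorem conj_Q (h : Dat B P Q D) {a b : S} (ha : a ∈ P) (hb : b ∈ Q) : a * b * a⁻¹ ∈ Q := by
  have h1 := h.D_le_Q (h.cc a ha b hb)
  have h2 := Q.mul_mem h1 hb
  rwa [inv_mul_cancel_right] at h2

theorem mem_B (h : Dat B P Q D) {x : S} (hx : x ∈ B) : ∃ a ∈ P, ∃ b ∈ Q, x = a * b := by
  rw [← h.sup, Subgroup.sup_eq_closure] at hx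
  induction hx using Subgroup.closure_induction with
  | mem x hx =>
    rcases hx with hx | hx
    · exact ⟨x, hx, 1, Q.one_mem, (mul_one x).symm⟩
    · exact ⟨1, P.one_mem, x, hx, (one_mul x).symm⟩
  | one => exact ⟨1, P.one_mem, 1, Q.one_mem, (mul_one 1).symm⟩
  | mul x y _ _ hx hy =>
    obtain ⟨a, ha, b, hb, rfl⟩ := hx
    obtain ⟨a', ha', b', hb', rfl⟩ := hy
    refine ⟨a * (b * a' * b⁻¹), P.mul_mem ha (h.conj_P ha' hb), b * b', Q.mul_mem hb hb', by group⟩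
  | inv x _ hx =>
    obtain ⟨a, ha, b, hb, rfl⟩ := hx
    refine ⟨b⁻¹ * a⁻¹ * b⁻¹⁻¹, h.conj_P (P.inv_mem ha) (Q.inv_mem hb), b⁻¹, Q.inv_mem hb, by group⟩

/-- `[B, B] ≤ D` -/
theorem comm_B (h : Dat B P Q D) (hn : D.Normal) {x y : S} (hx : x ∈ B) (hy : y ∈ B) : x * y * x⁻¹ * y⁻¹ ∈ D := by
  have key : ∀ x ∈ B, ∀ y ∈ B, (QuotientGroup.mk' D x) * (QuotientGroup.mk' D y) =
      (QuotientGroup.mk' D y) * (QuotientGroup.mk' D x) := by
    have hPQ : ∀ a ∈ P, ∀ b ∈ Q, (QuotientGroup.mk' D a) * (QuotientGroup.mk' D b) =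
        (QuotientGroup.mk' D b) * (QuotientGroup.mk' D a) := by
      intro a ha b hb
      have h1 : QuotientGroup.mk' D (a * b * a⁻¹ * b⁻¹) = 1 := by
        rw [← MonoidHom.mem_ker, QuotientGroup.ker_mk']; exact h.cc a ha b hb
      rw [map_mul, map_mul, map_mul, map_inv, map_inv] at h1
      rw [mul_inv_eq_one, mul_inv_eq_iff_eq_mul] at h1
      exact h1
    intro x hx y hy
    obtain ⟨a, ha, b, hb, rfl⟩ := h.mem_B hx
    obtain ⟨a', ha', b', hb', rfl⟩ := h.mem_B hy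
    have e1 : QuotientGroup.mk' D a * QuotientGroup.mk' D a' = QuotientGroup.mk' D a' * QuotientGroup.mk' D a := by
      rw [← map_mul, ← map_mul, h.comm_P ha ha']
    have e2 : QuotientGroup.mk' D b * QuotientGroup.mk' D b' = QuotientGroup.mk' D b' * QuotientGroup.mk' D b := by
      rw [← map_mul, ← map_mul, h.comm_Q hb hb']
    rw [map_mul, map_mul]
    have c1 : Commute (QuotientGroup.mk' D a) (QuotientGroup.mk' D a') := e1
    have c2 : Commute (QuotientGroup.mk' D b) (QuotientGroup.mk' D b') := e2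
    have c3 : Commute (QuotientGroup.mk' D a) (QuotientGroup.mk' D b') := hPQ a ha b' hb'
    have c4 : Commute (QuotientGroup.mk' D b) (QuotientGroup.mk' D a') := (hPQ a' ha' b hb).symm
    exact (c1.mul_right c3).mul_left (c4.mul_right c2)
  have h1 := key x hx y hy
  rw [← QuotientGroup.ker_mk' D, MonoidHom.mem_ker, map_mul, map_mul, map_mul, map_inv, map_inv, h1]
  group

theorem normal_D (h : Dat B P Q D) : D.Normal := by
  constructor
  intro d hd u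
  rcases h.perm u with h1 | h1
  · exact h.mem_D (h1.1 d (h.D_le_P hd)) (h1.2 d (h.D_le_Q hd))
  · exact h.mem_D (h1.2 d (h.D_le_Q hd)) (h1.1 d (h.D_le_P hd))

theorem normal_B (h : Dat B P Q D) : B.Normal := by
  constructor
  intro x hx u
  obtain ⟨a, ha, b, hb, rfl⟩ := h.mem_B hx
  have e : u * (a * b) * u⁻¹ = (u * a * u⁻¹) * (u * b * u⁻¹) := by group
  rw [e]
  rcases h.perm u with h1 | h1
  · exact B.mul_mem (h.P_le (h1.1 a ha)) (h.Q_le (h1.2 b hb))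
  · exact B.mul_mem (h.Q_le (h1.1 a ha)) (h.P_le (h1.2 b hb))

/-- a `2`-element of `B` of order at most `2` lies in `P` or in `Q` -/
theorem mem_or (h : Dat B P Q D) {x : S} (hx : x ∈ B) (hxx : x * x = 1) : x ∈ P ∨ x ∈ Q := by
  obtain ⟨a, ha, b, hb, rfl⟩ := h.mem_B hx
  by_cases h1 : a ∈ D
  · exact Or.inr (Q.mul_mem (h.D_le_Q h1) hb)
  by_cases h2 : b ∈ D
  · exact Or.inl (P.mul_mem ha (h.D_le_P h2))
  exfalso
  apply h.nc a ha h1 b hb h2
  have h3 : (a * b)⁻¹ = a * b := inv_eq_of_mul_eq_one_right hxx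
  rw [mul_inv_rev, h.inv_P ha, h.inv_Q hb] at h3
  exact h3.symm

end Basic

/-- the other numbering -/
theorem symm (h : Dat B P Q D) : Dat B Q P D where
  inf := by rw [inf_comm]; exact h.inf
  cD := h.cD
  cP := h.cQ
  cQ := h.cP
  eP := h.eQ
  eQ := h.eP
  cc := by
    intro a ha b hb
    have h1 := D.inv_mem (h.cc b hb a ha)
    have e : (b * a * b⁻¹ * a⁻¹)⁻¹ = a * b * a⁻¹ * b⁻¹ := by group
    rwa [e] at h1
  nc := fun a ha ha2 b hb hb2 h1 => h.nc b hb hb2 a ha ha2 h1.symm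
  sup := by rw [sup_comm]; exact h.sup
  perm := by
    intro u
    rcases h.perm u with h1 | h1
    · exact Or.inl ⟨h1.2, h1.1⟩
    · exact Or.inr ⟨h1.2, h1.1⟩
  faith := by
    intro u hu hQ
    rcases h.perm u with h1 | h1
    · obtain ⟨h2, h3⟩ := h.faith u hu h1.1
      exact ⟨h3, h2⟩
    · exfalso
      have h2 : ∀ b ∈ Q, b ∈ D := by
        intro b hb
        have h3 := h.mem_D (h1.2 b hb) (hQ b hb)
        have h4 := h.normal_D.conj_mem _ h3 u⁻¹
        have e : u⁻¹ * (u * b * u⁻¹) * u⁻¹⁻¹ = b := by group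
        rwa [e] at h4
      have h5 := card_le_of_le (show Q ≤ D from h2)
      rw [h.cQ, h.cD] at h5
      omega
  swap := by
    obtain ⟨s, hs⟩ := h.swap
    rcases h.perm s with h1 | h1
    · exfalso
      have h2 : ∀ a ∈ P, a ∈ D := by
        intro a ha
        have h3 := h.mem_D (h1.1 a ha) (hs a ha)
        have h4 := h.normal_D.conj_mem _ h3 s⁻¹
        have e : s⁻¹ * (s * a * s⁻¹) * s⁻¹⁻¹ = a := by group
        rwa [e] at h4
      have h5 := card_le_of_le (show P ≤ D from h2)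
      rw [h.cP, h.cD] at h5
      omega
    · exact ⟨s, h1.2⟩
  idx := h.idx

theorem card_B (h : Dat B P Q D) : Nat.card B = 64 := by
  have h1 := card_sup_mul (K := P) (H := Q) (fun x hx k hk => h.conj_P hk hx)
  rw [h.sup, h.inf, h.cD, h.cP, h.cQ] at h1
  omega

/-- `[a, Q] = D` for `a ∈ P ∖ D` -/
theorem onto_D (h : Dat B P Q D) {a : S} (ha : a ∈ P) (ha2 : a ∉ D) {d : S} (hd : d ∈ D) :
    ∃ b ∈ Q, a * b * a⁻¹ * b⁻¹ = d := by
  let f : Q →* D :=
    { toFun := fun b => ⟨a * b * a⁻¹ * (b : S)⁻¹, h.cc a ha b b.2⟩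
      map_one' := by
        apply Subtype.ext
        show a * 1 * a⁻¹ * 1⁻¹ = 1
        group
      map_mul' := by
        intro b c
        apply Subtype.ext
        show a * ((b : S) * c) * a⁻¹ * ((b : S) * c)⁻¹ = a * b * a⁻¹ * (b : S)⁻¹ * (a * c * a⁻¹ * (c : S)⁻¹)
        have h1 := h.comm_D (h.Q_le (Q.inv_mem b.2)) (h.cc a ha c c.2)
        calc a * ((b : S) * c) * a⁻¹ * ((b : S) * c)⁻¹
            = a * b * a⁻¹ * ((a * c * a⁻¹ * (c : S)⁻¹) * (b : S)⁻¹) := by group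
          _ = a * b * a⁻¹ * ((b : S)⁻¹ * (a * c * a⁻¹ * (c : S)⁻¹)) := by rw [h1]
          _ = _ := by group }
  have hk : Nat.card f.ker ≤ 4 := by
    rw [← h.cD]
    have h2 : ∀ b : f.ker, ((b : Q) : S) ∈ D := by
      intro b
      by_contra h3
      have h4 : f b = 1 := b.2
      have h5 : a * ((b : Q) : S) * a⁻¹ * ((b : Q) : S)⁻¹ = 1 := congrArg Subtype.val h4
      rw [mul_inv_eq_one, mul_inv_eq_iff_eq_mul] at h5
      exact h.nc a ha ha2 _ (b : Q).2 h3 h5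
    refine Nat.card_le_card_of_injective (fun b : f.ker => (⟨_, h2 b⟩ : D)) ?_
    intro b c hbc
    have h6 : ((b : Q) : S) = ((c : Q) : S) := Subtype.mk.inj hbc
    exact Subtype.ext (Subtype.ext h6)
  have h7 : Nat.card f.ker * f.ker.index = Nat.card Q := Subgroup.card_mul_index _
  rw [Subgroup.index_ker, h.cQ] at h7
  have h8 : 4 ≤ Nat.card f.range := by
    by_contra h9
    have : Nat.card f.ker * Nat.card f.range ≤ 4 * 3 := Nat.mul_le_mul hk (by omega)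
    omega
  have h10 : f.range = ⊤ := Subgroup.eq_top_of_le_card _ (by rw [h.cD]; exact h8)
  have h11 : (⟨d, hd⟩ : D) ∈ f.range := by rw [h10]; exact mem_top _
  obtain ⟨b, hb⟩ := h11
  exact ⟨b, b.2, congrArg Subtype.val hb⟩

/-! ### normal closure of `P` under `B` -/

omit [Finite S] in
theorem conj_B_P (h : Dat B P Q D) {x a : S} (hx : x ∈ B) (ha : a ∈ P) : x * a * x⁻¹ ∈ P := by
  obtain ⟨p, hp, q, hq, rfl⟩ := h.mem_B hx
  have e : p * q * a * (p * q)⁻¹ = p * (q * a * q⁻¹) * p⁻¹ := by group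
  rw [e]
  exact P.mul_mem (P.mul_mem hp (h.conj_P ha hq)) (P.inv_mem hp)

omit [Finite S] in
theorem mem_sup_of_conj {K H : Subgroup S} (hn : ∀ x ∈ H, ∀ k ∈ K, x * k * x⁻¹ ∈ K) {z : S} (hz : z ∈ K ⊔ H) :
    ∃ x ∈ H, ∃ k ∈ K, z = x * k := by
  have hn' : ∀ x ∈ H, ∀ k ∈ K, x⁻¹ * k * x ∈ K := by
    intro x hx k hk
    have := hn x⁻¹ (H.inv_mem hx) k hk
    rwa [inv_inv] at this
  rw [Subgroup.sup_eq_closure] at hz
  induction hz using Subgroup.closure_induction with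
  | mem x hx =>
    rcases hx with hx | hx
    · exact ⟨1, H.one_mem, x, hx, (one_mul x).symm⟩
    · exact ⟨x, hx, 1, K.one_mem, (mul_one x).symm⟩
  | one => exact ⟨1, H.one_mem, 1, K.one_mem, (mul_one 1).symm⟩
  | mul x y _ _ hx hy =>
    obtain ⟨a, ha, b, hb, rfl⟩ := hx
    obtain ⟨a', ha', b', hb', rfl⟩ := hy
    exact ⟨a * a', H.mul_mem ha ha', a'⁻¹ * b * a' * b', K.mul_mem (hn' a' ha' b hb) hb', by group⟩
  | inv x _ hx =>
    obtain ⟨a, ha, b, hb, rfl⟩ := hx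
    exact ⟨a⁻¹, H.inv_mem ha, a * b⁻¹ * a⁻¹, hn a ha _ (K.inv_mem hb), by group⟩

/-! ### (A) -/

theorem aux_A (h : Dat B P Q D) {U Y : Subgroup S} (hU : U ≤ B) (hc : 32 ≤ Nat.card U) (hs : P ⊔ U = B)
    (hY : ∀ x ∈ U, ∀ y ∈ U, x * y * x⁻¹ * y⁻¹ ∈ Y) : D ≤ Y := by
  have hn : ∀ x ∈ U, ∀ k ∈ P, x * k * x⁻¹ ∈ P := fun x hx k hk => h.conj_B_P (hU hx) hk
  have h1 := card_sup_mul hn
  rw [hs, h.card_B, h.cP] at h1
  obtain ⟨a, haU, haD⟩ : ∃ a ∈ P ⊓ U, a ∉ D := by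
    by_contra h2
    push Not at h2
    have h3 := card_le_of_le (show P ⊓ U ≤ D from h2)
    rw [h.cD] at h3
    omega
  intro d hd
  obtain ⟨b, hb, rfl⟩ := h.onto_D haU.1 haD hd
  have hb' : b ∈ P ⊔ U := by rw [hs]; exact h.Q_le hb
  obtain ⟨u, hu, p, hp, rfl⟩ := mem_sup_of_conj hn hb'
  have h4 := h.comm_P hp (P.inv_mem haU.1)
  have e : a * (u * p) * a⁻¹ * (u * p)⁻¹ = a * u * a⁻¹ * u⁻¹ := by
    calc a * (u * p) * a⁻¹ * (u * p)⁻¹ = a * u * (p * a⁻¹) * p⁻¹ * u⁻¹ := by group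
      _ = a * u * (a⁻¹ * p) * p⁻¹ * u⁻¹ := by rw [h4]
      _ = _ := by group
  rw [e]
  exact hY a haU.2 u hu

/-- (A) -/
theorem D_le_of_comm (h : Dat B P Q D) {U Y : Subgroup S} (hU : U ≤ B) (hc : 32 ≤ Nat.card U)
    (hY : ∀ x ∈ U, ∀ y ∈ U, x * y * x⁻¹ * y⁻¹ ∈ Y) : D ≤ Y := by
  by_cases hs : P ⊔ U = B
  · exact h.aux_A hU hc hs hY
  have h1 : P ⊔ U ≤ B := sup_le h.P_le hU
  have h2 : 2 * Nat.card (P ⊔ U : Subgroup S) ≤ Nat.card B := by
    refine two_mul_le h1 ?_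
    by_contra h3
    push Not at h3
    exact hs (le_antisymm h1 h3)
  rw [h.card_B] at h2
  have h3 : U = P ⊔ U := eq_of_card le_sup_right (by omega)
  have h4 : P ≤ U := by rw [h3]; exact le_sup_left
  refine h.symm.aux_A hU hc ?_ hY
  refine le_antisymm (sup_le h.Q_le hU) ?_
  rw [← h.sup]
  exact sup_le (h4.trans le_sup_right) le_sup_left

/-! ### centralisers modulo `D` -/

/-- `{b ∈ B : [x, b] ∈ D}` -/
def Cen (B D : Subgroup S) [D.Normal] (x : S) : Subgroup S :=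
  B ⊓ (centralizer ({QuotientGroup.mk' D x} : Set (S ⧸ D))).comap (QuotientGroup.mk' D)

omit [Finite S] in
theorem mem_Cen [D.Normal] {x b : S} : b ∈ Cen B D x ↔ b ∈ B ∧
    QuotientGroup.mk' D b * QuotientGroup.mk' D x = QuotientGroup.mk' D x * QuotientGroup.mk' D b := by
  unfold Cen
  rw [mem_inf, mem_comap, mem_centralizer_singleton_iff]

omit [Finite S] in
theorem mk_comm [D.Normal] {x b : S} :
    QuotientGroup.mk' D b * QuotientGroup.mk' D x = QuotientGroup.mk' D x * QuotientGroup.mk' D b ↔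
      x * b * x⁻¹ * b⁻¹ ∈ D := by
  have key : x * b * x⁻¹ * b⁻¹ ∈ D ↔ QuotientGroup.mk' D (x * b * x⁻¹ * b⁻¹) = 1 := by
    rw [← MonoidHom.mem_ker, QuotientGroup.ker_mk']
  rw [key, map_mul, map_mul, map_mul, map_inv, map_inv, mul_inv_eq_one, mul_inv_eq_iff_eq_mul]
  exact eq_comm

omit [Finite S] in
theorem mem_Cen' [D.Normal] {x b : S} : b ∈ Cen B D x ↔ b ∈ B ∧ x * b * x⁻¹ * b⁻¹ ∈ D := by
  rw [mem_Cen, mk_comm]

omit [Finite S] in
theorem Cen_le [D.Normal] {x : S} : Cen B D x ≤ B := inf_le_left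

omit [Finite S] in
theorem D_le_Cen (h : Dat B P Q D) [hn : D.Normal] (x : S) : D ≤ Cen B D x := by
  intro d hd
  rw [mem_Cen']
  exact ⟨h.P_le (h.D_le_P hd), D.mul_mem (hn.conj_mem d hd x) (D.inv_mem hd)⟩

omit [Finite S] in
/-- `P ∩ C_x = D` for a swap `x` -/
theorem inf_Cen_swap (h : Dat B P Q D) [D.Normal] {x : S} (hx : ∀ a ∈ P, x * a * x⁻¹ ∈ Q) :
    P ⊓ Cen B D x ≤ D := by
  intro a ha
  have h1 := (mem_Cen'.1 ha.2).2
  have h2 := Q.mul_mem (Q.inv_mem (hx a ha.1)) (h.D_le_Q h1)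
  have e : (x * a * x⁻¹)⁻¹ * (x * a * x⁻¹ * a⁻¹) = a⁻¹ := by group
  rw [e] at h2
  exact h.mem_D ha.1 ((Q.inv_mem_iff).1 h2)

omit [Finite S] in
/-- the components of an element of `C_x`, `x` not a swap -/
theorem sup_Cen (h : Dat B P Q D) [D.Normal] {x : S} (hx : ∀ a ∈ P, x * a * x⁻¹ ∈ P) (hx' : ∀ b ∈ Q, x * b * x⁻¹ ∈ Q) :
    P ⊔ Cen B D x ≤ P ⊔ (Q ⊓ Cen B D x) := by
  refine sup_le le_sup_left ?_
  intro c hc
  obtain ⟨hcB, hcD⟩ := mem_Cen'.1 hc
  obtain ⟨p, hp, q, hq, rfl⟩ := h.mem_B hcB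
  refine mul_mem (mem_sup_left hp) (mem_sup_right ⟨hq, mem_Cen'.2 ?_⟩)
  refine ⟨h.Q_le hq, h.mem_D ?_ (Q.mul_mem (hx' q hq) (Q.inv_mem hq))⟩
  have h2 := P.mul_mem (P.mul_mem (P.inv_mem (hx p hp)) (h.D_le_P hcD)) hp
  have e : (x * p * x⁻¹)⁻¹ * (x * (p * q) * x⁻¹ * (p * q)⁻¹) * p = x * q * x⁻¹ * q⁻¹ := by group
  rwa [e] at h2

theorem card_sup_Cen (h : Dat B P Q D) [D.Normal] {x : S} (hxB : x ∉ B) (hx : ∀ a ∈ P, x * a * x⁻¹ ∈ P)
    (hx' : ∀ b ∈ Q, x * b * x⁻¹ ∈ Q) : Nat.card (P ⊔ (Q ⊓ Cen B D x) : Subgroup S) ≤ 32 := by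
  have h1 := card_sup_mul (K := P) (H := Q ⊓ Cen B D x) (fun y hy k hk => h.conj_P hk hy.1)
  have h2 : 2 * Nat.card (Q ⊓ Cen B D x : Subgroup S) ≤ Nat.card Q := by
    refine two_mul_le inf_le_left ?_
    obtain ⟨b, hb, hb2⟩ := (h.faith x hxB hx).2
    exact ⟨b, hb, fun hb3 => hb2 (mem_Cen'.1 hb3.2).2⟩
  have h3 := card_le_of_le (show D ≤ P ⊓ (Q ⊓ Cen B D x) from
    fun d hd => ⟨h.D_le_P hd, h.D_le_Q hd, h.D_le_Cen x hd⟩)
  rw [h.cD] at h3
  rw [h.cQ] at h2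
  rw [h.cP] at h1
  by_contra h4
  have h5 : 33 * 4 ≤ Nat.card (P ⊔ (Q ⊓ Cen B D x) : Subgroup S) *
      Nat.card (P ⊓ (Q ⊓ Cen B D x) : Subgroup S) := Nat.mul_le_mul (by omega) h3
  omega

/-- (B) -/
theorem card_Cen_le (h : Dat B P Q D) [D.Normal] {x : S} (hxB : x ∉ B) : Nat.card (Cen B D x) ≤ 16 := by
  have hn : ∀ y ∈ Cen B D x, ∀ k ∈ P, y * k * y⁻¹ ∈ P := fun y hy k hk => h.conj_B_P (Cen_le hy) hk
  have h1 := card_sup_mul hn
  rw [h.cP] at h1
  rcases h.perm x with hx | hx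
  · have h2 := card_le_of_le (h.sup_Cen hx.1 hx.2)
    have h3 := h.card_sup_Cen hxB hx.1 hx.2
    have h4 : 2 * Nat.card (P ⊓ Cen B D x : Subgroup S) ≤ Nat.card P := by
      refine two_mul_le inf_le_left ?_
      obtain ⟨a, ha, ha2⟩ := (h.faith x hxB hx.1).1
      exact ⟨a, ha, fun ha3 => ha2 (mem_Cen'.1 ha3.2).2⟩
    rw [h.cP] at h4
    have h5 : Nat.card (P ⊔ Cen B D x : Subgroup S) * Nat.card (P ⊓ Cen B D x : Subgroup S) ≤ 32 * 8 :=
      Nat.mul_le_mul (by omega) (by omega)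
    omega
  · have h2 := card_le_of_le (h.inf_Cen_swap hx.1)
    rw [h.cD] at h2
    have h3 := card_le_of_le (show P ⊔ Cen B D x ≤ B from sup_le h.P_le Cen_le)
    rw [h.card_B] at h3
    have h5 : Nat.card (P ⊔ Cen B D x : Subgroup S) * Nat.card (P ⊓ Cen B D x : Subgroup S) ≤ 64 * 4 :=
      Nat.mul_le_mul h3 h2
    omega

/-- (C) -/
theorem card_fix_le (h : Dat B P Q D) [D.Normal] {s t : S} (hs : ∀ a ∈ P, s * a * s⁻¹ ∈ Q) (htB : t ∉ B)
    (ht : ∀ a ∈ P, t * a * t⁻¹ ∈ P) (ht' : ∀ b ∈ Q, t * b * t⁻¹ ∈ Q) :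
    Nat.card (Cen B D t ⊓ Cen B D s : Subgroup S) ≤ 8 := by
  have hn : ∀ y ∈ Cen B D t ⊓ Cen B D s, ∀ k ∈ P, y * k * y⁻¹ ∈ P := fun y hy k hk => h.conj_B_P (Cen_le hy.1) hk
  have h1 := card_sup_mul hn
  rw [h.cP] at h1
  have h2 := card_le_of_le (show P ⊓ (Cen B D t ⊓ Cen B D s) ≤ D from
    fun a ha => h.inf_Cen_swap hs ⟨ha.1, ha.2.2⟩)
  rw [h.cD] at h2
  have h3 := card_le_of_le (show P ⊔ (Cen B D t ⊓ Cen B D s) ≤ P ⊔ (Q ⊓ Cen B D t) from
    le_trans (sup_le_sup_left inf_le_left _) (h.sup_Cen ht ht'))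
  have h4 := h.card_sup_Cen htB ht ht'
  have h5 : Nat.card (P ⊔ (Cen B D t ⊓ Cen B D s) : Subgroup S) *
      Nat.card (P ⊓ (Cen B D t ⊓ Cen B D s) : Subgroup S) ≤ 32 * 4 := Nat.mul_le_mul (by omega) h2
  omega

omit [Finite S] in
theorem mk_comm_B (h : Dat B P Q D) [hn : D.Normal] {x b : S} (hx : x ∈ B) (hb : b ∈ B) :
    QuotientGroup.mk' D b * QuotientGroup.mk' D x = QuotientGroup.mk' D x * QuotientGroup.mk' D b :=
  mk_comm.2 (h.comm_B hn hx hb)

/-- (B') -/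
theorem card_le_of_comm (h : Dat B P Q D) [hn : D.Normal] {X Y : Subgroup S} {x : S} (hX : X ≤ B) (hDY : D ≤ Y)
    (hxY : ∀ b ∈ X, x * b * x⁻¹ * b⁻¹ ∈ Y) : 4 * Nat.card X ≤ Nat.card (X ⊓ Cen B D x : Subgroup S) * Nat.card Y := by
  have hBn := h.normal_B
  let f : X →* S ⧸ D :=
    { toFun := fun b => QuotientGroup.mk' D (x * b * x⁻¹ * (b : S)⁻¹)
      map_one' := by
        have e : x * ((1 : X) : S) * x⁻¹ * ((1 : X) : S)⁻¹ = 1 := by
          rw [OneMemClass.coe_one]; group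
        rw [e, map_one]
      map_mul' := by
        intro b c
        have h1 : (x * c * x⁻¹) * (c : S)⁻¹ ∈ B := B.mul_mem (hBn.conj_mem _ (hX c.2) x) (B.inv_mem (hX c.2))
        have h2 := h.mk_comm_B (hX b.2) h1
        have e : x * ((b * c : X) : S) * x⁻¹ * ((b * c : X) : S)⁻¹ =
            (x * b * x⁻¹ * (b : S)⁻¹) * ((b : S) * (x * c * x⁻¹ * (c : S)⁻¹) * (b : S)⁻¹) := by
          rw [Subgroup.coe_mul]; group
        rw [e, map_mul, map_mul (QuotientGroup.mk' D) ((b : S) * _), map_mul (QuotientGroup.mk' D) (b : S), ← h2,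
          map_inv, mul_inv_cancel_right] }
  have h1 := card_le_of_hom f (Y.map (QuotientGroup.mk' D)) (fun b => mem_map_of_mem _ (hxY b b.2))
  have h2 : Nat.card f.ker ≤ Nat.card (X ⊓ Cen B D x : Subgroup S) := by
    have h3 : ∀ b : f.ker, ((b : X) : S) ∈ X ⊓ Cen B D x := by
      intro b
      refine ⟨(b : X).2, mem_Cen'.2 ?_⟩
      refine ⟨hX (b : X).2, ?_⟩
      have h4 : f b = 1 := b.2
      have h5 : QuotientGroup.mk' D (x * ((b : X) : S) * x⁻¹ * ((b : X) : S)⁻¹) = 1 := h4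
      rwa [← MonoidHom.mem_ker, QuotientGroup.ker_mk'] at h5
    refine Nat.card_le_card_of_injective (fun b : f.ker => (⟨_, h3 b⟩ : (X ⊓ Cen B D x : Subgroup S))) ?_
    intro b c hbc
    have h6 : ((b : X) : S) = ((c : X) : S) := Subtype.mk.inj hbc
    exact Subtype.ext (Subtype.ext h6)
  have h3 : 4 * Nat.card (Y.map (QuotientGroup.mk' D)) = Nat.card Y := by
    have h4 := card_mul_relIndex hDY
    have h5 := Subgroup.relIndex_ker (QuotientGroup.mk' D) (K := Y)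
    rw [QuotientGroup.ker_mk'] at h5
    rw [← h5, ← h.cD]
    exact h4
  calc 4 * Nat.card X ≤ 4 * (Nat.card f.ker * Nat.card (Y.map (QuotientGroup.mk' D))) := Nat.mul_le_mul_left _ h1
    _ = Nat.card f.ker * (4 * Nat.card (Y.map (QuotientGroup.mk' D))) := by ring
    _ = Nat.card f.ker * Nat.card Y := by rw [h3]
    _ ≤ _ := Nat.mul_le_mul_right _ h2

/-! ### (D), (F) -/

omit [Finite S] in
/-- (D) -/
theorem moves_D (h : Dat B P Q D) [hn : D.Normal] {t : S} (htB : t ∉ B) (ht : ∀ a ∈ P, t * a * t⁻¹ ∈ P)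
    (ht' : ∀ b ∈ Q, t * b * t⁻¹ ∈ Q) (htt : t * t ∈ B) : ∃ d ∈ D, t * d * t⁻¹ ≠ d := by
  by_contra hcon
  push Not at hcon
  obtain ⟨⟨a0, ha0, ha0D⟩, ⟨b, hb, hbD⟩⟩ := h.faith t htB ht
  set a : S := a0 * (t * a0 * t⁻¹) with ha
  have haP : a ∈ P := P.mul_mem ha0 (ht a0 ha0)
  have haD : a ∉ D := by
    intro h1
    apply ha0D
    have h2 := h.comm_P ha0 (ht a0 ha0)
    rw [ha, h2] at h1
    rwa [h.inv_P ha0]
  -- `[t, a] ∈ D`
  have h1 : t * a * t⁻¹ * a⁻¹ ∈ D := by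
    have h3 : (t * t) * a0 * (t * t)⁻¹ * a0⁻¹ ∈ D := h.comm_B hn htt (h.P_le ha0)
    have h4 := h.comm_P (ht a0 ha0) (P.inv_mem ha0)
    have h5 : t * (t * a0 * t⁻¹) * t⁻¹ ∈ P := ht _ (ht a0 ha0)
    have h6 := h.comm_P (ht a0 ha0) h5
    have e : t * a * t⁻¹ * a⁻¹ = (t * t) * a0 * (t * t)⁻¹ * a0⁻¹ := by
      calc t * a * t⁻¹ * a⁻¹ = ((t * a0 * t⁻¹) * (t * (t * a0 * t⁻¹) * t⁻¹)) * (t * a0 * t⁻¹)⁻¹ * a0⁻¹ := by
            rw [ha]; group
        _ = ((t * (t * a0 * t⁻¹) * t⁻¹) * (t * a0 * t⁻¹)) * (t * a0 * t⁻¹)⁻¹ * a0⁻¹ := by rw [h6]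
        _ = _ := by group
    rwa [e]
  set c : S := t * a * t⁻¹ * a⁻¹ with hc
  have hta : t * a * t⁻¹ = c * a := by rw [hc]; group
  set b' : S := t * b * t⁻¹ with hb'
  have hb'Q : b' ∈ Q := ht' b hb
  have hcb : b' * c = c * b' := h.comm_D (h.Q_le hb'Q) h1
  have h3 : a * b' * a⁻¹ * b'⁻¹ = a * b * a⁻¹ * b⁻¹ := by
    have h4 := hcon _ (h.cc a haP b hb)
    have h5 : t * (a * b * a⁻¹ * b⁻¹) * t⁻¹ = (t * a * t⁻¹) * b' * (t * a * t⁻¹)⁻¹ * b'⁻¹ := by
      rw [hb']; group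
    rw [h5, hta] at h4
    have hac : a * c = c * a := h.comm_D (h.P_le haP) h1
    have hcb2 : c * (a * b' * a⁻¹ * b'⁻¹) = (a * b' * a⁻¹ * b'⁻¹) * c := by
      have := h.comm_D (h.P_le (h.D_le_P h1)) (h.cc a haP b' hb'Q)
      exact this
    have h6 : c * a * b' * (c * a)⁻¹ * b'⁻¹ = a * b' * a⁻¹ * b'⁻¹ := by
      calc c * a * b' * (c * a)⁻¹ * b'⁻¹ = c * (a * b' * a⁻¹) * (c⁻¹ * b'⁻¹) := by group
        _ = c * (a * b' * a⁻¹) * (b' * c)⁻¹ := by group
        _ = c * (a * b' * a⁻¹) * (c * b')⁻¹ := by rw [hcb]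
        _ = (c * (a * b' * a⁻¹ * b'⁻¹)) * c⁻¹ := by group
        _ = _ := by rw [hcb2]; group
    rw [h6] at h4
    exact h4
  -- so `b⁻¹ b'` commutes with `a`
  have h4 : a * (b⁻¹ * b') = (b⁻¹ * b') * a := by
    have h9 : b' * b⁻¹ = b⁻¹ * b' := h.comm_Q hb'Q (Q.inv_mem hb)
    set e : S := a * b * a⁻¹ * b⁻¹ with he
    have heD : e ∈ D := h.cc a haP b hb
    have h5 : a * b' * a⁻¹ = e * b' := by rw [← h3]; group
    have h6 : a * b * a⁻¹ = e * b := by rw [he]; group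
    have h7 := h.comm_D (h.Q_le (Q.mul_mem hb'Q (Q.inv_mem hb))) heD
    have h12 : a * (b' * b⁻¹) * a⁻¹ = b' * b⁻¹ := by
      calc a * (b' * b⁻¹) * a⁻¹ = (a * b' * a⁻¹) * (a * b * a⁻¹)⁻¹ := by group
        _ = (e * b') * (e * b)⁻¹ := by rw [h5, h6]
        _ = e * (b' * b⁻¹) * e⁻¹ := by group
        _ = (b' * b⁻¹) * e * e⁻¹ := by rw [h7]
        _ = _ := by group
    have h11 : a * (b' * b⁻¹) = (b' * b⁻¹) * a := by
      rw [mul_inv_eq_iff_eq_mul] at h12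
      exact h12
    rw [← h9]
    exact h11
  apply hbD
  have h5 : b⁻¹ * b' ∈ D := by
    by_contra h6
    exact h.nc a haP haD _ (Q.mul_mem (Q.inv_mem hb) hb'Q) h6 h4
  have h6 := h.comm_Q hb'Q (Q.inv_mem hb)
  rw [h6]
  exact h5

omit [Finite S] in
theorem not_both (h : Dat B P Q D) {u : S} (h1 : ∀ a ∈ P, u * a * u⁻¹ ∈ P) (h2 : ∀ a ∈ P, u * a * u⁻¹ ∈ Q) : False := by
  have hf : Finite P := Nat.finite_of_card_ne_zero (by rw [h.cP]; norm_num)
  have hf2 : Finite D := Nat.finite_of_card_ne_zero (by rw [h.cD]; norm_num)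
  have h3 : ∀ a : P, u * a * u⁻¹ ∈ D := fun a => h.mem_D (h1 a a.2) (h2 a a.2)
  have h4 := Nat.card_le_card_of_injective (fun a : P => (⟨_, h3 a⟩ : D)) (by
    intro a b hab
    have h5 : u * (a : S) * u⁻¹ = u * (b : S) * u⁻¹ := Subtype.mk.inj hab
    exact Subtype.ext (mul_left_cancel (mul_right_cancel h5)))
  rw [h.cP, h.cD] at h4
  omega

/-- the stabiliser of `P` -/
def Stab (h : Dat B P Q D) : Subgroup S where
  carrier := {u | ∀ a ∈ P, u * a * u⁻¹ ∈ P}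
  mul_mem' := by
    intro u v hu hv a ha
    have e : u * v * a * (u * v)⁻¹ = u * (v * a * v⁻¹) * u⁻¹ := by group
    rw [e]
    exact hu _ (hv a ha)
  one_mem' := by
    intro a ha
    have e : 1 * a * (1 : S)⁻¹ = a := by group
    rwa [e]
  inv_mem' := by
    intro u hu
    rcases h.perm u⁻¹ with h1 | h1
    · exact h1.1
    · exfalso
      refine h.not_both (u := 1) (fun a ha => ?_) (fun a ha => ?_)
      · have e : 1 * a * (1 : S)⁻¹ = a := by group
        rwa [e]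
      · have h2 := h1.1 _ (hu a ha)
        have e : u⁻¹ * (u * a * u⁻¹) * u⁻¹⁻¹ = 1 * a * (1 : S)⁻¹ := by group
        rwa [e] at h2

omit [Finite S] in
theorem mem_Stab (h : Dat B P Q D) {u : S} : u ∈ h.Stab ↔ ∀ a ∈ P, u * a * u⁻¹ ∈ P := Iff.rfl

omit [Finite S] in
theorem index_Stab (h : Dat B P Q D) : h.Stab.index = 2 := by
  rw [Subgroup.index_eq_two_iff]
  obtain ⟨s, hs⟩ := h.swap
  have hs' : ∀ b ∈ Q, s * b * s⁻¹ ∈ P := by
    rcases h.perm s with h1 | h1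
    · exact (h.not_both h1.1 hs).elim
    · exact h1.2
  refine ⟨s, fun b => ?_⟩
  rcases h.perm b with h1 | h1
  · refine Or.inr ⟨h1.1, fun h2 => ?_⟩
    refine h.not_both h2 (fun a ha => ?_)
    have e : b * s * a * (b * s)⁻¹ = b * (s * a * s⁻¹) * b⁻¹ := by group
    rw [e]
    exact h1.2 _ (hs a ha)
  · refine Or.inl ⟨fun a ha => ?_, fun h2 => h.not_both h2 h1.1⟩
    have e : b * s * a * (b * s)⁻¹ = b * (s * a * s⁻¹) * b⁻¹ := by group
    rw [e]
    exact h1.2 _ (hs a ha)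

omit [Finite S] in
theorem B_le_Stab (h : Dat B P Q D) : B ≤ h.Stab := fun _ hb _ ha => h.conj_B_P hb ha

omit [Finite S] in
/-- (F) -/
theorem exists_t (h : Dat B P Q D) (hi : B.index = 4) : ∃ t : S, t ∉ B ∧ (∀ a ∈ P, t * a * t⁻¹ ∈ P) ∧
    (∀ b ∈ Q, t * b * t⁻¹ ∈ Q) ∧ t * t ∈ B := by
  have h1 := Subgroup.relIndex_mul_index h.B_le_Stab
  rw [h.index_Stab, hi] at h1
  have h2 : B.relIndex h.Stab = 2 := by omega
  obtain ⟨t, ht, htB⟩ : ∃ t ∈ h.Stab, t ∉ B := by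
    by_contra h3
    push Not at h3
    rw [relIndex_eq_one.2 h3] at h2
    omega
  refine ⟨t, htB, ht, ?_, ?_⟩
  · rcases h.perm t with h3 | h3
    · exact h3.2
    · exact (h.not_both ht h3.1).elim
  · have h3 := Subgroup.mul_self_mem_of_index_two (H := B.subgroupOf h.Stab) h2 ⟨t, ht⟩
    exact h3

/-! ### the main case analysis -/

theorem main (h : Dat B P Q D) {X Y : Subgroup S} (hs : ElemSection 2 X Y) :
    Nat.card X ≤ 16 * Nat.card Y := by
  have hn := h.normal_D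
  have hBn := h.normal_B
  have hY1 : 1 ≤ Nat.card Y := Nat.card_pos
  set X0 : Subgroup S := X ⊓ B with hX0
  have hX0B : X0 ≤ B := inf_le_right
  have hX0X : X0 ≤ X := inf_le_left
  -- the index
  have hc1 : Nat.card X0 * B.relIndex X = Nat.card X := by
    have h1 := card_mul_relIndex hX0X
    rwa [hX0, Subgroup.inf_relIndex_left] at h1
  have hcd : B.relIndex X ∣ 4 := (Subgroup.relIndex_dvd_index_of_normal B X).trans h.idx
  have hcpos : B.relIndex X ≠ 0 := by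
    intro h1
    rw [h1, mul_zero] at hc1
    exact absurd hc1.symm Nat.card_pos.ne'
  -- `U = X0 D`
  set U : Subgroup S := X0 ⊔ D with hU
  have hUB : U ≤ B := sup_le hX0B (h.D_le_P.trans h.P_le)
  have hUc : Nat.card U * Nat.card (X0 ⊓ D : Subgroup S) = Nat.card X0 * 4 := by
    rw [← h.cD, hU]
    have h1 := card_sup_mul (K := D) (H := X0) (fun x _ k hk => hn.conj_mem k hk x)
    rw [sup_comm, inf_comm, h1, mul_comm]
  have hxd : Nat.card (X0 ⊓ D : Subgroup S) ≤ 4 := by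
    rw [← h.cD]; exact card_le_of_le inf_le_right
  have hUdvd : Nat.card U ∣ 64 := by
    rw [← h.card_B]; exact Subgroup.card_dvd_of_le hUB
  -- commutators of `U`
  have hUcomm : ∀ x ∈ U, ∀ y ∈ U, x * y * x⁻¹ * y⁻¹ ∈ Y := by
    have hdec : ∀ x ∈ U, ∃ a ∈ X0, ∃ d ∈ D, x = a * d := by
      intro x hx
      rw [hU, sup_comm] at hx
      exact mem_sup_of_conj (fun y _ k hk => hn.conj_mem k hk y) hx
    intro x hx y hy
    obtain ⟨a, ha, d, hd, rfl⟩ := hdec x hx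
    obtain ⟨b, hb, e, he, rfl⟩ := hdec y hy
    have h1 := h.comm_D (hX0B hb) hd
    have h2 := h.comm_D (B.inv_mem (hX0B ha)) he
    have h3 := h.comm_D (h.P_le (h.D_le_P he)) hd
    have e1 : a * d * (b * e) * (a * d)⁻¹ * (b * e)⁻¹ = a * b * a⁻¹ * b⁻¹ := by
      calc a * d * (b * e) * (a * d)⁻¹ * (b * e)⁻¹ = a * (d * b) * e * d⁻¹ * a⁻¹ * e⁻¹ * b⁻¹ := by group
        _ = a * (b * d) * e * d⁻¹ * a⁻¹ * e⁻¹ * b⁻¹ := by rw [h1]
        _ = a * b * (d * e) * d⁻¹ * a⁻¹ * e⁻¹ * b⁻¹ := by group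
        _ = a * b * (e * d) * d⁻¹ * a⁻¹ * e⁻¹ * b⁻¹ := by rw [h3]
        _ = a * b * (e * a⁻¹) * e⁻¹ * b⁻¹ := by group
        _ = a * b * (a⁻¹ * e) * e⁻¹ * b⁻¹ := by rw [h2]
        _ = _ := by group
    rw [e1]
    exact hs.comm a (hX0X ha) b (hX0X hb)
  by_cases hDY : D ≤ Y
  · -- `D ≤ Y`
    have h4 : 4 ≤ Nat.card Y := by rw [← h.cD]; exact card_le_of_le hDY
    by_cases hXB : X ≤ B
    · have h5 := card_le_of_le hXB
      rw [h.card_B] at h5
      omega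
    obtain ⟨x, hxX, hxB⟩ := SetLike.not_le_iff_exists.1 hXB
    have h6 := h.card_le_of_comm (x := x) hX0B hDY (fun b hb => hs.comm x hxX b (hX0X hb))
    have h7 : Nat.card (X0 ⊓ Cen B D x : Subgroup S) ≤ 16 :=
      (card_le_of_le inf_le_right).trans (h.card_Cen_le hxB)
    have h8 : B.relIndex X ≤ 4 := Nat.le_of_dvd (by norm_num) hcd
    calc Nat.card X = Nat.card X0 * B.relIndex X := hc1.symm
      _ ≤ Nat.card X0 * 4 := Nat.mul_le_mul_left _ h8
      _ = 4 * Nat.card X0 := mul_comm _ _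
      _ ≤ _ := h6
      _ ≤ 16 * Nat.card Y := Nat.mul_le_mul_right _ h7
  -- now `|U| ≤ 16`
  have hU16 : Nat.card U ≤ 16 := by
    by_contra h1
    have h2 : 32 ≤ Nat.card U := by
      obtain ⟨k, hk⟩ := hUdvd
      have hk0 : 1 ≤ k := by
        rcases Nat.eq_zero_or_pos k with h3 | h3
        · rw [h3, mul_zero] at hk; omega
        · exact h3
      by_contra h3
      have h4 : k ≤ 3 := by
        by_contra h5
        have : 17 * 4 ≤ Nat.card U * k := Nat.mul_le_mul (by omega) (by omega)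
        omega
      have h5 : k = 1 ∨ k = 2 ∨ k = 3 := by omega
      rcases h5 with rfl | rfl | rfl <;> omega
    exact hDY (h.D_le_of_comm hUB h2 hUcomm)
  have hX0le : Nat.card X0 ≤ 16 := by
    have h1 : Nat.card U * Nat.card (X0 ⊓ D : Subgroup S) ≤ 16 * 4 := Nat.mul_le_mul hU16 hxd
    omega
  -- `B.relIndex X ∈ {1, 2, 4}`
  have h124 : B.relIndex X = 1 ∨ B.relIndex X = 2 ∨ B.relIndex X = 4 := by
    have h1 : B.relIndex X ≤ 4 := Nat.le_of_dvd (by norm_num) hcd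
    have h2 : B.relIndex X = 1 ∨ B.relIndex X = 2 ∨ B.relIndex X = 3 ∨ B.relIndex X = 4 := by omega
    rcases h2 with h2 | h2 | h2 | h2
    · exact Or.inl h2
    · exact Or.inr (Or.inl h2)
    · rw [h2] at hcd; omega
    · exact Or.inr (Or.inr h2)
  rcases h124 with h1 | h2 | h3
  · rw [h1, mul_one] at hc1
    omega
  · -- index 2
    rw [h2] at hc1
    by_contra hcon
    have hY : Nat.card Y = 1 := by omega
    have hYb : Y = ⊥ := Subgroup.card_eq_one.1 hY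
    have h5 : 8 < Nat.card X0 := by omega
    have h6 : Nat.card X0 ∣ 64 := by rw [← h.card_B]; exact Subgroup.card_dvd_of_le hX0B
    have h7 : Nat.card X0 = 16 := by
      obtain ⟨k, hk⟩ := h6
      have hk1 : 4 ≤ k := by
        by_contra h8
        have : Nat.card X0 * k ≤ 16 * 3 := Nat.mul_le_mul hX0le (by omega)
        omega
      have hk2 : k ≤ 7 := by
        by_contra h8
        have : 9 * 8 ≤ Nat.card X0 * k := Nat.mul_le_mul (by omega) (by omega)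
        omega
      have h9 : k = 4 ∨ k = 5 ∨ k = 6 ∨ k = 7 := by omega
      rcases h9 with rfl | rfl | rfl | rfl <;> omega
    have hXB : ¬ X ≤ B := by
      intro h8
      rw [relIndex_eq_one.2 h8] at h2
      omega
    obtain ⟨x, hxX, hxB⟩ := SetLike.not_le_iff_exists.1 hXB
    have hsq : ∀ a ∈ X, a * a = 1 := by
      intro a ha
      have := hs.pow a ha
      rw [hYb, mem_bot, pow_two] at this
      exact this
    have hcx : ∀ a ∈ X, x * a * x⁻¹ = a := by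
      intro a ha
      have := hs.comm x hxX a ha
      rw [hYb, mem_bot] at this
      exact mul_inv_eq_one.1 this
    have key : ∀ {P Q : Subgroup S}, Dat B P Q D → X0 = P → False := by
      intro P Q h hXP
      have h8 : ∀ a ∈ P, x * a * x⁻¹ ∈ P := by
        intro a ha
        rw [hcx a (hX0X (by rw [hXP]; exact ha))]
        exact ha
      obtain ⟨a, ha, ha2⟩ := (h.faith x hxB h8).1
      apply ha2
      rw [hcx a (hX0X (by rw [hXP]; exact ha)), mul_inv_cancel]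
      exact D.one_mem
    by_cases hXP : X0 ≤ P
    · exact key h (eq_of_card hXP (by rw [h.cP, h7]))
    · obtain ⟨p, hpX, hpP⟩ := SetLike.not_le_iff_exists.1 hXP
      have hpQ : p ∈ Q := (h.mem_or (hX0B hpX) (hsq p (hX0X hpX))).resolve_left hpP
      have hXQ : X0 ≤ Q := by
        intro q hq
        rcases h.mem_or (hX0B hq) (hsq q (hX0X hq)) with h8 | h8
        · have h9 := X0.mul_mem hpX hq
          rcases h.mem_or (hX0B h9) (hsq _ (hX0X h9)) with h10 | h10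
          · exact absurd ((P.mul_mem_cancel_right h8).1 h10) hpP
          · exact (Q.mul_mem_cancel_left hpQ).1 h10
        · exact h8
      exact key h.symm (eq_of_card hXQ (by rw [h.cQ, h7]))
  · -- index 4
    have hi : B.index = 4 := by
      have h4 : B.relIndex X ∣ B.index := Subgroup.relIndex_dvd_index_of_normal B X
      rw [h3] at h4
      exact Nat.dvd_antisymm h.idx h4
    obtain ⟨t, htB, ht, ht', htt⟩ := h.exists_t hi
    obtain ⟨s, hsw⟩ := h.swap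
    have hcover : ∀ u : S, ∃ x ∈ X, ∃ b ∈ B, u = x * b := by
      intro u
      have h4 := Subgroup.relIndex_sup_right X B
      have h5 := Subgroup.relIndex_mul_index (le_sup_right : B ≤ X ⊔ B)
      rw [h4, h3, hi] at h5
      have h6 : X ⊔ B = ⊤ := Subgroup.index_eq_one.1 (by omega)
      have h7 : u ∈ B ⊔ X := by rw [sup_comm, h6]; exact mem_top u
      exact mem_sup_of_conj (fun y _ k hk => hBn.conj_mem k hk y) h7
    rw [h3] at hc1
    -- `[X0, X] ≤ D` ==> `|U| ≤ 8`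
    have hfix : Y ≤ D → Nat.card U ≤ 8 := by
      intro hYD
      have h4 : ∀ u : S, X0 ≤ Cen B D u := by
        intro u b hb
        obtain ⟨x, hx, b', hb', rfl⟩ := hcover u
        rw [mem_Cen]
        refine ⟨hX0B hb, ?_⟩
        have h5 := mk_comm.2 (hYD (hs.comm x hx b (hX0X hb)))
        have h6 := h.mk_comm_B hb' (hX0B hb)
        have c1 : Commute (QuotientGroup.mk' D b) (QuotientGroup.mk' D x) := h5
        have c2 : Commute (QuotientGroup.mk' D b) (QuotientGroup.mk' D b') := h6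
        rw [map_mul]
        exact c1.mul_right c2
      refine le_trans (card_le_of_le ?_) (h.card_fix_le hsw htB ht ht')
      exact sup_le (le_inf (h4 t) (h4 s)) (le_inf (h.D_le_Cen t) (h.D_le_Cen s))
    have hD2 : ¬ D ≤ X → Nat.card (X0 ⊓ D : Subgroup S) ≤ 2 := by
      intro h4
      have h5 : 2 * Nat.card (X0 ⊓ D : Subgroup S) ≤ Nat.card D := by
        refine two_mul_le inf_le_right ?_
        obtain ⟨d, hd, hdX⟩ := SetLike.not_le_iff_exists.1 h4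
        exact ⟨d, hd, fun h6 => hdX (hX0X h6.1)⟩
      rw [h.cD] at h5
      omega
    have hD1 : D ≤ X → ∃ y ∈ Y, y ∈ D ∧ y ≠ 1 := by
      intro h4
      obtain ⟨d, hd, hd2⟩ := h.moves_D htB ht ht' htt
      obtain ⟨x, hx, b, hb, rfl⟩ := hcover t
      have h5 := h.comm_D hb hd
      have e : x * b * d * (x * b)⁻¹ = x * d * x⁻¹ := by
        calc x * b * d * (x * b)⁻¹ = x * (b * d) * b⁻¹ * x⁻¹ := by group
          _ = x * (d * b) * b⁻¹ * x⁻¹ := by rw [h5]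
          _ = _ := by group
      rw [e] at hd2
      refine ⟨x * d * x⁻¹ * d⁻¹, hs.comm x hx d (h4 hd), D.mul_mem (hn.conj_mem d hd x) (D.inv_mem hd), ?_⟩
      intro h6
      exact hd2 (mul_inv_eq_one.1 h6)
    by_cases hYD : Y ≤ D
    · have h5 := hfix hYD
      by_cases hDX : D ≤ X
      · obtain ⟨y, hy, _, hy1⟩ := hD1 hDX
        have h6 : 2 ≤ Nat.card Y := by
          have h7 := two_mul_le (bot_le : (⊥ : Subgroup S) ≤ Y) ⟨y, hy, fun h8 => hy1 (mem_bot.1 h8)⟩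
          rw [Subgroup.card_bot] at h7
          omega
        have h8 : Nat.card U * Nat.card (X0 ⊓ D : Subgroup S) ≤ 8 * 4 := Nat.mul_le_mul h5 hxd
        omega
      · have h6 := hD2 hDX
        have h8 : Nat.card U * Nat.card (X0 ⊓ D : Subgroup S) ≤ 8 * 2 := Nat.mul_le_mul h5 h6
        omega
    · obtain ⟨y, hy, hyD⟩ := SetLike.not_le_iff_exists.1 hYD
      have h6 : 2 * Nat.card (Y ⊓ D : Subgroup S) ≤ Nat.card Y :=
        two_mul_le inf_le_left ⟨y, hy, fun h7 => hyD h7.2⟩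
      have h7 : 1 ≤ Nat.card (Y ⊓ D : Subgroup S) := Nat.card_pos
      by_cases hDX : D ≤ X
      · obtain ⟨w, hw, hwD, hw1⟩ := hD1 hDX
        have h8 := two_mul_le (bot_le : (⊥ : Subgroup S) ≤ Y ⊓ D) ⟨w, ⟨hw, hwD⟩, fun h8 => hw1 (mem_bot.1 h8)⟩
        rw [Subgroup.card_bot] at h8
        omega
      · have h8 := hD2 hDX
        have h9 : Nat.card U * Nat.card (X0 ⊓ D : Subgroup S) ≤ 16 * 2 := Nat.mul_le_mul hU16 h8
        omega

/-- **Type `L₃(4)`: sectional 2-rank at most 4.** -/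
theorem rank (h : Dat B P Q D) : SectionalPRankLE 2 4 S := by
  rw [sectionalPRankLE_iff]
  intro X Y hs
  exact h.main hs

end Dat

end Cfsg.Agent.Omega.SQ1.RankFour
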