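import Cfsg.Agent.Omega.SQ1.End0
import Cfsg.Agent.TwoFusion.SectionalRank

/-!
# `r(G) ≤ 4` in type `L₃(4)` (SQ1.7, `q = 4`, `|D| = 4`)

`S = T ∪ sT`, `B = Q₁ Q₂` of order 64, `Q₁ ∩ Q₂ = D` of order 4, `|Qᵢ| = 16`.

* `sq_mem`: `t² ∈ B` for `t ∈ T` (so `|T : B| ≤ 2`);
* `card_le_of_section`: `|X| ≤ 16 |Y|` for the elementary abelian sections `X/Y` of `S`;
* `rank_le_four`: a finite group with Sylow 2-subgroup `S` has sectional 2-rank `≤ 4`.
-/

set_option autoImplicit false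
set_option Elab.async false
set_option linter.unusedSectionVars false
set_option linter.unusedVariables false

namespace Cfsg.Agent.Omega.SQ1.RankL34

open Subgroup Cfsg Cfsg.Agent.Omega.SQ1.End Cfsg.Agent.TwoFusion.SectionalRank

universe u

variable {G : Type u} [Group G]

/-! ### Two counting lemmas -/

/-- `|E| |D| ≤ |A| |C|` if `E ⊆ AC` and `D ≤ A ∩ C`. -/
theorem card_mul_card_le [Finite G] {E A C D : Subgroup G} (hDA : D ≤ A) (hDC : D ≤ C)
    (h : ∀ e ∈ E, ∃ a ∈ A, ∃ b ∈ C, e = a * b) :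
    Nat.card E * Nat.card D ≤ Nat.card A * Nat.card C := by
  classical
  choose! a ha b hb hab using h
  let φ : E × D → A × C := fun p => (⟨a p.1 * p.2, A.mul_mem (ha _ p.1.2) (hDA p.2.2)⟩,
    ⟨(p.2 : G)⁻¹ * b p.1, C.mul_mem (C.inv_mem (hDC p.2.2)) (hb _ p.1.2)⟩)
  have hφ : Function.Injective φ := by
    rintro ⟨e, d⟩ ⟨e', d'⟩ hp
    have h1 : a e * (d : G) = a e' * d' := congrArg Subtype.val (congrArg Prod.fst hp)
    have h2 : (d : G)⁻¹ * b e = (d' : G)⁻¹ * b e' := congrArg Subtype.val (congrArg Prod.snd hp)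
    have h3 : (e : G) = e' := by
      rw [hab e e.2, hab e' e'.2]
      calc a e * b e = (a e * d) * ((d : G)⁻¹ * b e) := by group
        _ = (a e' * d') * ((d' : G)⁻¹ * b e') := by rw [h1, h2]
        _ = a e' * b e' := by group
    have h4 : e = e' := Subtype.ext h3
    subst h4
    have h5 : (d : G) = d' := mul_left_cancel h1
    rw [Subtype.ext h5]
  have h1 := Nat.card_le_card_of_injective φ hφ
  rwa [Nat.card_prod, Nat.card_prod] at h1

/-- `|E| |D| ≤ |K| |Y|` if `f : E → Y` and elements with the same image modulo `D` are congruent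
modulo `K`. -/
theorem card_mul_le_of [Finite G] {E K Y D : Subgroup G} (f : G → G) (hf : ∀ e ∈ E, f e ∈ Y)
    (hDY : D ≤ Y) (hK : ∀ e ∈ E, ∀ e' ∈ E, (f e)⁻¹ * f e' ∈ D → e⁻¹ * e' ∈ K) :
    Nat.card E * Nat.card D ≤ Nat.card K * Nat.card Y := by
  classical
  have hR : ∀ c : G ⧸ D, ∃ r : G, r ∈ E ∧ ((∃ e ∈ E, (f e : G ⧸ D) = c) → (f r : G ⧸ D) = c) := by
    intro c
    by_cases hc : ∃ e ∈ E, (f e : G ⧸ D) = c
    · obtain ⟨e, he, hec⟩ := hc
      exact ⟨e, he, fun _ => hec⟩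
    · exact ⟨1, one_mem _, fun h => absurd h hc⟩
  choose R hRE hR using hR
  have hR' : ∀ e : E, (f (R (f e : G ⧸ D)) : G ⧸ D) = (f e : G ⧸ D) := fun e =>
    hR _ ⟨e, e.2, rfl⟩
  let φ : E × D → K × Y := fun p =>
    (⟨(R (f p.1 : G ⧸ D))⁻¹ * p.1, hK _ (hRE _) _ p.1.2 (QuotientGroup.eq.1 (hR' p.1))⟩,
     ⟨f (R (f p.1 : G ⧸ D)) * p.2, Y.mul_mem (hf _ (hRE _)) (hDY p.2.2)⟩)
  have hφ : Function.Injective φ := by
    rintro ⟨e, d⟩ ⟨e', d'⟩ hp
    have h1 : (R (f e : G ⧸ D))⁻¹ * (e : G) = (R (f e' : G ⧸ D))⁻¹ * e' :=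
      congrArg Subtype.val (congrArg Prod.fst hp)
    have h2 : f (R (f e : G ⧸ D)) * (d : G) = f (R (f e' : G ⧸ D)) * d' :=
      congrArg Subtype.val (congrArg Prod.snd hp)
    have h3 : (f e : G ⧸ D) = (f e' : G ⧸ D) := by
      have h4 : (f (R (f e : G ⧸ D)))⁻¹ * f (R (f e' : G ⧸ D)) = d * (d' : G)⁻¹ := by
        calc _ = (f (R (f e : G ⧸ D)))⁻¹ * (f (R (f e' : G ⧸ D)) * d') * (d' : G)⁻¹ := by group
          _ = _ := by rw [← h2]; group
      have h5 : (f (R (f e : G ⧸ D)) : G ⧸ D) = (f (R (f e' : G ⧸ D)) : G ⧸ D) := by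
        rw [QuotientGroup.eq, h4]
        exact D.mul_mem d.2 (D.inv_mem d'.2)
      rw [hR' e, hR' e'] at h5
      exact h5
    rw [h3] at h1 h2
    have h5 : (e : G) = e' := mul_left_cancel h1
    have h6 : (d : G) = d' := mul_left_cancel h2
    rw [Subtype.ext h5, Subtype.ext h6]
  have h1 := Nat.card_le_card_of_injective φ hφ
  rwa [Nat.card_prod, Nat.card_prod] at h1

section

variable {S T B Q₁ Q₂ D C₁ C₂ : Subgroup G} {s : G}

/-- The elements `b ∈ B` with `[x, b] ∈ D`. -/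
def KX {q : ℕ} (h : Base S T B Q₁ Q₂ D C₁ C₂ s q) (x : G) : Subgroup G where
  carrier := {b | b ∈ B ∧ x * b * x⁻¹ * b⁻¹ ∈ D}
  one_mem' := ⟨one_mem _, by simp⟩
  mul_mem' := by
    rintro b c ⟨hb, hb2⟩ ⟨hc, hc2⟩
    refine ⟨B.mul_mem hb hc, ?_⟩
    have e1 := h.centD hc2 hb
    have e2 : x * (b * c) * x⁻¹ * (b * c)⁻¹ = (x * b * x⁻¹ * b⁻¹) * (x * c * x⁻¹ * c⁻¹) := by
      calc x * (b * c) * x⁻¹ * (b * c)⁻¹
          = (x * b * x⁻¹ * b⁻¹) * (b * (x * c * x⁻¹ * c⁻¹)) * b⁻¹ := by group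
        _ = _ := by rw [← e1]; group
    rw [e2]; exact D.mul_mem hb2 hc2
  inv_mem' := by
    rintro b ⟨hb, hb2⟩
    refine ⟨B.inv_mem hb, ?_⟩
    have e1 := h.centD (D.inv_mem hb2) (B.inv_mem hb)
    have e2 : x * b⁻¹ * x⁻¹ * b⁻¹⁻¹ = (x * b * x⁻¹ * b⁻¹)⁻¹ := by
      calc x * b⁻¹ * x⁻¹ * b⁻¹⁻¹ = (b⁻¹ * (x * b * x⁻¹ * b⁻¹)⁻¹) * b := by group
        _ = _ := by rw [← e1]; group
    rw [e2]; exact D.inv_mem hb2

variable [Finite G] (h : Base S T B Q₁ Q₂ D C₁ C₂ s 4) (hD : Nat.card D = 4)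

include h hD

theorem card_Q1 : Nat.card Q₁ = 16 := by rw [h.card1, hD]

theorem card_Q2 : Nat.card Q₂ = 16 := by rw [h.card2, hD]

theorem card_B_le : Nat.card B ≤ 64 := by
  have h1 := card_mul_card_le (E := B) h.D1 h.D2 h.prod
  rw [hD, card_Q1 h hD, card_Q2 h hD] at h1
  omega

omit hD in
theorem no_cent {t : G} (ht : t ∈ T) (htB : t ∉ B) (ht2 : t * t ∈ B) : ∃ d ∈ D, t * d * t⁻¹ ≠ d := by
  by_contra hcon
  push Not at hcon
  have h1 := h.card_cD ht htB ht2 le_rfl hcon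
  have h2 := h.one_lt_D
  have h3 := h.cardC1
  rw [h3, pow_two, mul_assoc] at h1
  rw [h3] at h2
  nlinarith

theorem D_cases {x y z : G} (hx : x ∈ D) (hy : y ∈ D) (hx1 : x ≠ 1) (hy1 : y ≠ 1) (hxy : x ≠ y)
    (hz : z ∈ D) : z = 1 ∨ z = x ∨ z = y ∨ z = x * y := by
  classical
  have hxx := h.sqD hx
  have h1 : ({1, x, y, x * y} : Finset G).card = 4 := by
    rw [Finset.card_insert_of_notMem, Finset.card_insert_of_notMem, Finset.card_insert_of_notMem,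
      Finset.card_singleton]
    · rw [Finset.mem_singleton]
      intro h2
      exact hx1 (mul_eq_right.1 h2.symm)
    · rw [Finset.mem_insert, Finset.mem_singleton]
      rintro (h2 | h2)
      · exact hxy h2
      · exact hy1 (mul_eq_left.1 h2.symm)
    · rw [Finset.mem_insert, Finset.mem_insert, Finset.mem_singleton]
      rintro (h2 | h2 | h2)
      · exact hx1 h2.symm
      · exact hy1 h2.symm
      · apply hxy
        rw [← hxx] at h2
        exact mul_left_cancel h2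
  have h2 : (({1, x, y, x * y} : Finset G) : Set G) = (D : Set G) := by
    refine Set.eq_of_subset_of_ncard_le ?_ ?_ (Set.toFinite _)
    · intro w hw
      rw [Finset.mem_coe, Finset.mem_insert, Finset.mem_insert, Finset.mem_insert,
        Finset.mem_singleton] at hw
      rcases hw with rfl | rfl | rfl | rfl
      · exact one_mem _
      · exact hx
      · exact hy
      · exact D.mul_mem hx hy
    · rw [Set.ncard_coe_finset, h1, ← Nat.card_coe_set_eq]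
      exact hD.le
  have h3 : z ∈ (D : Set G) := hz
  rw [← h2, Finset.mem_coe, Finset.mem_insert, Finset.mem_insert, Finset.mem_insert,
    Finset.mem_singleton] at h3
  exact h3

/-- `t²` centralises `D`. -/
theorem sq_cent {t : G} (ht : t ∈ T) {x : G} (hx : x ∈ D) : t * t * x * (t * t)⁻¹ = x := by
  by_contra hne
  obtain ⟨y, hy⟩ : ∃ y, y = t * x * t⁻¹ := ⟨_, rfl⟩
  obtain ⟨z, hz⟩ : ∃ z, z = t * y * t⁻¹ := ⟨_, rfl⟩
  have hzx : z ≠ x := by
    intro h1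
    apply hne
    calc t * t * x * (t * t)⁻¹ = t * (t * x * t⁻¹) * t⁻¹ := by group
      _ = x := by rw [← hy, ← hz, h1]
  have hyD : y ∈ D := hy ▸ h.T_D ht hx
  have hzD : z ∈ D := hz ▸ h.T_D ht hyD
  have hx1 : x ≠ 1 := by
    rintro rfl
    apply hzx
    rw [hz, hy]; group
  have hy1 : y ≠ 1 := by
    intro h1
    apply hx1
    have h2 : x = t⁻¹ * y * t := by rw [hy]; group
    rw [h2, h1]; group
  have hz1 : z ≠ 1 := by
    intro h1
    apply hy1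
    have h2 : y = t⁻¹ * z * t := by rw [hz]; group
    rw [h2, h1]; group
  have hxy : x ≠ y := by
    intro h1
    apply hzx
    rw [hz, ← h1, ← hy, ← h1]
  have hyz : z ≠ y := by
    intro h1
    apply hxy
    have h2 : y = t⁻¹ * z * t := by rw [hz]; group
    rw [h2, h1, hy]; group
  have hz2 : z = x * y := by
    rcases D_cases h hD hx hyD hx1 hy1 hxy hzD with h1 | h1 | h1 | h1
    · exact absurd h1 hz1
    · exact absurd h1 hzx
    · exact absurd h1 hyz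
    · exact h1
  have hw : t * z * t⁻¹ = x := by
    calc t * z * t⁻¹ = (t * x * t⁻¹) * (t * y * t⁻¹) := by rw [hz2]; group
      _ = y * (x * y) := by rw [← hy, ← hz, hz2]
      _ = x * (y * y) := by rw [h.c1 x (h.D1 hx) y (h.D1 hyD), h.c1 y (h.D1 hyD) (y * x)
            (Q₁.mul_mem (h.D1 hyD) (h.D1 hx)), ← h.c1 x (h.D1 hx) y (h.D1 hyD)]; group
      _ = x := by rw [h.sqD hyD, mul_one]
  have h3 : Commute (t ^ 3) x := by
    show t ^ 3 * x = x * t ^ 3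
    have h4 : t ^ 3 * x * (t ^ 3)⁻¹ = x := by
      calc t ^ 3 * x * (t ^ 3)⁻¹ = t * (t * (t * x * t⁻¹) * t⁻¹) * t⁻¹ := by
            rw [pow_succ, pow_two]; group
        _ = x := by rw [← hy, ← hz, hw]
    exact mul_inv_eq_iff_eq_mul.1 h4
  obtain ⟨k, hk⟩ := h.two ⟨t, h.TS ht⟩
  have hk' : t ^ 2 ^ k = 1 := by simpa using congrArg Subtype.val hk
  have hco : Nat.Coprime 3 (orderOf t) :=
    Nat.Coprime.coprime_dvd_right (orderOf_dvd_of_pow_eq_one hk')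
      (Nat.Coprime.pow_right _ (by norm_num))
  obtain ⟨m, hm⟩ := exists_pow_eq_self_of_coprime hco
  have h5 : Commute t x := by
    have := h3.pow_left m
    rwa [hm] at this
  apply hxy
  rw [hy, h5.eq]; group

omit hD in
theorem mem_B_of_cent (n : ℕ) : ∀ u ∈ T, (∀ d ∈ D, u * d * u⁻¹ = d) → u ^ 2 ^ n ∈ B → u ∈ B := by
  induction n with
  | zero => intro u _ _ h1; simpa using h1
  | succ n ih =>
    intro u hu hc h1
    by_contra huB
    have h2 : u * u ∈ B := by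
      apply ih _ (T.mul_mem hu hu)
      · intro d hd
        have h3 : u * u * d * (u * u)⁻¹ = u * (u * d * u⁻¹) * u⁻¹ := by group
        rw [h3, hc d hd, hc d hd]
      · rwa [← pow_two, ← pow_mul, ← pow_succ']
    obtain ⟨d, hd, hd2⟩ := no_cent h hu huB h2
    exact hd2 (hc d hd)

/-- `t² ∈ B`. -/
theorem sq_mem {t : G} (ht : t ∈ T) : t * t ∈ B := by
  obtain ⟨k, hk⟩ := h.two ⟨t, h.TS ht⟩
  have hk' : t ^ 2 ^ k = 1 := by simpa using congrArg Subtype.val hk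
  apply mem_B_of_cent h k _ (T.mul_mem ht ht) (fun d hd => sq_cent h hD ht hd)
  rw [← pow_two, ← pow_mul, mul_comm, pow_mul, hk', one_pow]
  exact one_mem _

theorem card_inf_T_le (X : Subgroup G) :
    Nat.card (X ⊓ T : Subgroup G) ≤ 2 * Nat.card (X ⊓ B : Subgroup G) := by
  by_cases h1 : (X ⊓ T : Subgroup G) ≤ B
  · have h2 : (X ⊓ T : Subgroup G) ≤ X ⊓ B := le_inf inf_le_left h1
    have h3 := Subgroup.card_le_of_le h2
    omega
  · obtain ⟨t, ht, htB⟩ := Set.not_subset.1 h1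
    apply card_le_two_mul ht
    intro e he
    by_cases heB : e ∈ B
    · exact Or.inl ⟨he.1, heB⟩
    · exact Or.inr ⟨X.mul_mem (X.inv_mem ht.1) he.1,
        h.uniq t ht.2 htB (sq_mem h hD ht.2) e he.2 heB (sq_mem h hD he.2)⟩

omit hD in
theorem card_le_inf_T {X : Subgroup G} (hX : X ≤ S) :
    Nat.card X ≤ 2 * Nat.card (X ⊓ T : Subgroup G) := by
  by_cases h1 : X ≤ T
  · rw [inf_eq_left.2 h1]; omega
  · obtain ⟨f, hf, hfT⟩ := Set.not_subset.1 h1
    have hfs : s⁻¹ * f ∈ T := (h.mem_S (hX hf)).resolve_left hfT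
    apply card_le_two_mul hf
    intro e he
    rcases h.mem_S (hX he) with h2 | h2
    · exact Or.inl ⟨he, h2⟩
    · right
      refine ⟨X.mul_mem (X.inv_mem hf) he, ?_⟩
      have h3 := T.mul_mem (T.inv_mem hfs) h2
      have h4 : (s⁻¹ * f)⁻¹ * (s⁻¹ * e) = f⁻¹ * e := by group
      rwa [h4] at h3

omit hD in
theorem S_D {x d : G} (hx : x ∈ S) (hd : d ∈ D) : x * d * x⁻¹ ∈ D := by
  rcases h.mem_S hx with h1 | h1
  · exact h.T_D h1 hd
  · exact (h.memD _).2 ⟨h.swap2 h1 (h.D2 hd), h.swap1 h1 (h.D1 hd)⟩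

/-- `x ∉ T` moves the elements of `Q₁ - D`. -/
theorem mem_D_of_Q1 {x a : G} (hx : x ∈ S) (hxT : x ∉ T) (ha : a ∈ Q₁)
    (h1 : x * a * x⁻¹ * a⁻¹ ∈ D) : a ∈ D := by
  have hxs : s⁻¹ * x ∈ T := (h.mem_S hx).resolve_left hxT
  have h2 : x * a * x⁻¹ ∈ D := by
    refine (h.memD _).2 ⟨?_, h.swap1 hxs ha⟩
    have h3 := Q₁.mul_mem (h.D1 h1) ha
    rwa [inv_mul_cancel_right] at h3
  have h3 := S_D h (S.inv_mem hx) h2
  have h4 : x⁻¹ * (x * a * x⁻¹) * x⁻¹⁻¹ = a := by group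
  rwa [h4] at h3

theorem mem_D_of_Q2 {x a : G} (hx : x ∈ S) (hxT : x ∉ T) (ha : a ∈ Q₂)
    (h1 : x * a * x⁻¹ * a⁻¹ ∈ D) : a ∈ D := mem_D_of_Q1 h.symm hD hx hxT ha h1

omit hD in
theorem split {t a c : G} (ht : t ∈ T) (ha : a ∈ Q₁) (hc : c ∈ Q₂) (hk : a * c ∈ KX h t) :
    a ∈ KX h t ∧ c ∈ KX h t := by
  have h1 : t * a * t⁻¹ * a⁻¹ ∈ Q₁ := Q₁.mul_mem (h.T1 t ht a ha) (Q₁.inv_mem ha)
  have h2 : t * c * t⁻¹ * c⁻¹ ∈ Q₂ := Q₂.mul_mem (h.T2 t ht c hc) (Q₂.inv_mem hc)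
  have h3 : a * (t * c * t⁻¹ * c⁻¹) * a⁻¹ ∈ Q₂ := h.conjQ2 (h.Q1B ha) h2
  have h4 : t * (a * c) * t⁻¹ * (a * c)⁻¹ ∈ D := hk.2
  have e1 : t * a * t⁻¹ * a⁻¹
      = (t * (a * c) * t⁻¹ * (a * c)⁻¹) * (a * (t * c * t⁻¹ * c⁻¹) * a⁻¹)⁻¹ := by group
  have h5 : t * a * t⁻¹ * a⁻¹ ∈ D := by
    refine (h.memD _).2 ⟨h1, ?_⟩
    rw [e1]
    exact Q₂.mul_mem (h.D2 h4) (Q₂.inv_mem h3)
  have h6 : a ∈ KX h t := ⟨h.Q1B ha, h5⟩
  refine ⟨h6, ?_⟩
  have h7 := (KX h t).mul_mem ((KX h t).inv_mem h6) hk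
  rwa [inv_mul_cancel_left] at h7

omit hD in
theorem D_le_KX {x : G} (hx : x ∈ S) : D ≤ KX h x := fun d hd =>
  ⟨h.DB hd, D.mul_mem (S_D h hx hd) (D.inv_mem hd)⟩

theorem card_KX_Q1 {t : G} (ht : t ∈ T) (htB : t ∉ B) : Nat.card (KX h t ⊓ Q₁ : Subgroup G) ≤ 8 := by
  have h1 := card_sq_le (y := t) (X := Q₁) (Y := D) (F := KX h t ⊓ Q₁) h.D1
    (le_inf (D_le_KX h (h.TS ht)) h.D1) inf_le_right h.c1 h.sq1 (h.T1 t ht)
    (h.free1D t ht htB (sq_mem h hD ht)) (by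
      rintro x ⟨hx, hx1⟩
      have h2 : t * x * t⁻¹ * x⁻¹ ∈ D := hx.2
      have h3 := h.c1 (t * x * t⁻¹) (h.T1 t ht x hx1) x⁻¹ (Q₁.inv_mem hx1)
      rwa [h3] at h2)
  rw [card_Q1 h hD, hD] at h1
  nlinarith

theorem card_KX_Q2 {t : G} (ht : t ∈ T) (htB : t ∉ B) : Nat.card (KX h t ⊓ Q₂ : Subgroup G) ≤ 8 :=
  card_KX_Q1 h.symm hD ht htB

/-- `|{b ∈ B : [x, b] ∈ D}| ≤ 16` for `x ∈ S - B`. -/
theorem card_KX {x : G} (hx : x ∈ S) (hxB : x ∉ B) : Nat.card (KX h x) ≤ 16 := by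
  by_cases hxT : x ∈ T
  · have h1 := card_mul_card_le (E := KX h x) (A := KX h x ⊓ Q₁) (C := KX h x ⊓ Q₂) (D := D)
      (le_inf (D_le_KX h hx) h.D1) (le_inf (D_le_KX h hx) h.D2) (by
        intro e he
        obtain ⟨a, ha, c, hc, rfl⟩ := h.prod e he.1
        obtain ⟨h2, h3⟩ := split h hxT ha hc he
        exact ⟨a, ⟨h2, ha⟩, c, ⟨h3, hc⟩, rfl⟩)
    have h2 := card_KX_Q1 h hD hxT hxB
    have h3 := card_KX_Q2 h hD hxT hxB
    have h4 := Nat.mul_le_mul h2 h3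
    rw [hD] at h1
    omega
  · have h1 := card_mul_le_of (E := KX h x) (K := D) (Y := B) (D := Q₁) id (fun e he => he.1) h.Q1B
      (by
        intro e he e' he' h2
        have h3 : e⁻¹ * e' ∈ KX h x := (KX h x).mul_mem ((KX h x).inv_mem he) he'
        exact mem_D_of_Q1 h hD hx hxT h2 h3.2)
    rw [card_Q1 h hD, hD] at h1
    have h2 := card_B_le h hD
    omega

theorem card_le_two_of {Y : Subgroup G} (hY : ¬ D ≤ Y) : Nat.card (Y ⊓ D : Subgroup G) ≤ 2 := by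
  have h1 : Nat.card (Y ⊓ D : Subgroup G) ∣ 4 := hD ▸ Subgroup.card_dvd_of_le inf_le_right
  have h2 : Nat.card (Y ⊓ D : Subgroup G) ≠ 4 := by
    intro h3
    apply hY
    have h4 : (Y ⊓ D : Subgroup G) = D :=
      Subgroup.eq_of_le_of_card_ge inf_le_right (by rw [h3, hD])
    rw [← h4]; exact inf_le_left
  have h3 : Nat.card (Y ⊓ D : Subgroup G) ≤ 4 := Nat.le_of_dvd (by norm_num) h1
  interval_cases hn : Nat.card (Y ⊓ D : Subgroup G) <;> omega

theorem D_le_of {X : Subgroup G} (hX : 2 < Nat.card (X ⊓ D : Subgroup G)) : D ≤ X := by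
  by_contra hcon
  have := card_le_two_of h hD hcon
  omega

omit hD in
theorem mem_Q2_of_comm {b p : G} (hb : b ∈ Q₂) (hbD : b ∉ D) (hp : p ∈ B) (hc : p * b = b * p) :
    p ∈ Q₂ := by
  obtain ⟨a, ha, c, hc2, rfl⟩ := h.prod p hp
  by_cases haD : a ∈ D
  · exact Q₂.mul_mem (h.D2 haD) hc2
  exfalso
  apply h.good_ne (h.good a ha haD b hb hbD)
  have h1 : a * b * c = b * a * c := by
    calc a * b * c = a * (b * c) := by group
      _ = a * (c * b) := by rw [h.c2 b hb c hc2]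
      _ = a * c * b := by group
      _ = b * (a * c) := hc
      _ = b * a * c := by group
  have h2 : a * b = b * a := mul_right_cancel h1
  rw [h2]; group

theorem card_inf_B_le {X Y : Subgroup G} (hsec : ElemSection 2 X Y) (hDY : ¬ D ≤ Y) :
    Nat.card (X ⊓ B : Subgroup G) ≤ 4 * Nat.card (X ⊓ D : Subgroup G) := by
  have hB := card_B_le h hD
  have hY := card_le_two_of h hD hDY
  have h4 : ∀ Q : Subgroup G, Q ≤ B → Nat.card Q = 16 → (X ⊓ Q : Subgroup G) ≤ D →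
      Nat.card (X ⊓ B : Subgroup G) ≤ 4 * Nat.card (X ⊓ D : Subgroup G) := by
    intro Q hQB hQ hXQ
    have h1 := card_mul_le_of (E := X ⊓ B) (K := X ⊓ D) (Y := B) (D := Q) id (fun e he => he.2) hQB
      (by
        intro e he e' he' h2
        have h3 : e⁻¹ * e' ∈ X := X.mul_mem (X.inv_mem he.1) he'.1
        exact ⟨h3, hXQ ⟨h3, h2⟩⟩)
    rw [hQ] at h1
    nlinarith
  by_cases h1 : (X ⊓ Q₁ : Subgroup G) ≤ D
  · exact h4 Q₁ h.Q1B (card_Q1 h hD) h1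
  by_cases h2 : (X ⊓ Q₂ : Subgroup G) ≤ D
  · exact h4 Q₂ h.Q2B (card_Q2 h hD) h2
  obtain ⟨a, ha, haD⟩ := Set.not_subset.1 h1
  obtain ⟨b, hb, hbD⟩ := Set.not_subset.1 h2
  have key : ∀ c : G, ∀ p p' : G, (p * c * p⁻¹ * c⁻¹)⁻¹ * (p' * c * p'⁻¹ * c⁻¹) ∈ (⊥ : Subgroup G) →
      p⁻¹ * p' * c = c * (p⁻¹ * p') := by
    intro c p p' hp
    rw [mem_bot, inv_mul_eq_one] at hp
    have h5 : p * c * p⁻¹ = p' * c * p'⁻¹ := mul_right_cancel hp
    calc p⁻¹ * p' * c = p⁻¹ * (p' * c * p'⁻¹) * p' := by group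
      _ = c * (p⁻¹ * p') := by rw [← h5]; group
  have h5 := card_mul_le_of (E := X ⊓ B) (K := X ⊓ Q₂) (Y := Y ⊓ D) (D := ⊥)
    (fun p => p * b * p⁻¹ * b⁻¹)
    (fun p hp => ⟨hsec.comm p hp.1 b hb.1, h.commB hp.2 (h.Q2B hb.2)⟩) bot_le (by
      intro p hp p' hp' h6
      exact ⟨X.mul_mem (X.inv_mem hp.1) hp'.1, mem_Q2_of_comm h hb.2 hbD
        (B.mul_mem (B.inv_mem hp.2) hp'.2) (key b p p' h6)⟩)
  have h6 := card_mul_le_of (E := X ⊓ Q₂) (K := X ⊓ D) (Y := Y ⊓ D) (D := ⊥)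
    (fun p => p * a * p⁻¹ * a⁻¹)
    (fun p hp => ⟨hsec.comm p hp.1 a ha.1, h.commB (h.Q2B hp.2) (h.Q1B ha.2)⟩) bot_le (by
      intro p hp p' hp' h6
      refine ⟨X.mul_mem (X.inv_mem hp.1) hp'.1, (h.memD _).2 ⟨?_, ?_⟩⟩
      · exact mem_Q2_of_comm h.symm ha.2 haD (B.mul_mem (B.inv_mem (h.Q2B hp.2)) (h.Q2B hp'.2))
          (key a p p' h6)
      · exact Q₂.mul_mem (Q₂.inv_mem hp.2) hp'.2)
  rw [Subgroup.card_bot, mul_one] at h5 h6
  nlinarith

theorem card_inf_D_le (X : Subgroup G) : Nat.card (X ⊓ D : Subgroup G) ≤ 4 := by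
  rw [← hD]
  exact Subgroup.card_le_of_le inf_le_right

omit hD in
theorem comm_of_card_one {X Y : Subgroup G} (hsec : ElemSection 2 X Y) (hY : Nat.card Y = 1)
    {x y : G} (hx : x ∈ X) (hy : y ∈ X) : x * y * x⁻¹ = y := by
  have h1 := hsec.comm x hx y hy
  rw [Subgroup.card_eq_one.1 hY, mem_bot] at h1
  exact mul_inv_eq_one.1 h1

/-- No element of `T - B` in `X` if `D ≤ X` and `Y = 1`. -/
theorem not_D_le {X Y : Subgroup G} (hsec : ElemSection 2 X Y) (hY : Nat.card Y = 1)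
    (hDX : D ≤ X) {t : G} (ht : t ∈ T) (htB : t ∉ B) (htX : t ∈ X) : False := by
  obtain ⟨d, hd, hd2⟩ := no_cent h ht htB (sq_mem h hD ht)
  exact hd2 (comm_of_card_one h hsec hY htX (hDX hd))

/-- The elementary abelian sections of `S` have order at most 16. -/
theorem card_le_of_section {X Y : Subgroup G} (hX : X ≤ S) (hsec : ElemSection 2 X Y) :
    Nat.card X ≤ 16 * Nat.card Y := by
  have hXT := card_le_inf_T h hX
  have hTB := card_inf_T_le h hD X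
  have hYpos : 0 < Nat.card Y := Nat.card_pos
  by_cases hDY : D ≤ Y
  · -- Case A
    have h4 : 4 ≤ Nat.card Y := hD ▸ Subgroup.card_le_of_le hDY
    by_cases hXB : X ≤ B
    · have h1 := Subgroup.card_le_of_le hXB
      have h2 := card_B_le h hD
      omega
    · obtain ⟨x, hx, hxB⟩ := Set.not_subset.1 hXB
      have h1 := card_mul_le_of (E := X ⊓ B) (K := KX h x) (Y := Y) (D := D)
        (fun b => x * b * x⁻¹ * b⁻¹) (fun b hb => hsec.comm x hx b hb.1) hDY (by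
          intro e he e' he' h2
          refine ⟨B.mul_mem (B.inv_mem he.2) he'.2, ?_⟩
          have h3 : x * (e⁻¹ * e') * x⁻¹ * (e⁻¹ * e')⁻¹
              = e⁻¹ * ((x * e * x⁻¹ * e⁻¹)⁻¹ * (x * e' * x⁻¹ * e'⁻¹)) * e := by group
          have h4 := h.centD h2 (B.inv_mem he.2)
          rw [h3, ← h4, inv_mul_cancel_right]
          exact h2)
      have h2 := card_KX h hD (hX hx) hxB
      rw [hD] at h1
      have h3 : Nat.card (KX h x) * Nat.card Y ≤ 16 * Nat.card Y := Nat.mul_le_mul_right _ h2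
      omega
  -- Case B
  have hP := card_inf_B_le h hD hsec hDY
  have hPD := card_inf_D_le h hD X
  by_contra hcon
  push Not at hcon
  by_cases hXT' : X ≤ T
  · -- B1
    rw [inf_eq_left.2 hXT'] at hTB
    have hY1 : Nat.card Y = 1 := by omega
    have hDX : D ≤ X := D_le_of h hD (by omega)
    have hXB : ¬ X ≤ B := by
      intro h1
      rw [inf_eq_left.2 h1] at hP
      omega
    obtain ⟨t, htX, htB⟩ := Set.not_subset.1 hXB
    exact not_D_le h hD hsec hY1 hDX (hXT' htX) htB htX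
  obtain ⟨g, hg, hgT⟩ := Set.not_subset.1 hXT'
  by_cases hXTB : (X ⊓ T : Subgroup G) ≤ B
  · -- B2
    have h1 : Nat.card (X ⊓ T : Subgroup G) ≤ Nat.card (X ⊓ B : Subgroup G) :=
      Subgroup.card_le_of_le (le_inf inf_le_left hXTB)
    have hY1 : Nat.card Y = 1 := by omega
    have h2 : (X ⊓ B : Subgroup G) ≤ D := by
      intro y hy
      have h3 : y * y = 1 := by
        have h4 := hsec.pow y hy.1
        rw [Subgroup.card_eq_one.1 hY1, mem_bot, pow_two] at h4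
        exact h4
      have h4 : g * y * g⁻¹ * y⁻¹ ∈ D := by
        rw [comm_of_card_one h hsec hY1 hg hy.1, mul_inv_cancel]
        exact one_mem _
      rcases h.inv_mem_or hy.2 h3 with h5 | h5
      · exact mem_D_of_Q1 h hD (hX hg) hgT h5 h4
      · exact mem_D_of_Q2 h hD (hX hg) hgT h5 h4
    have h3 := Subgroup.card_le_of_le h2
    omega
  -- B3
  obtain ⟨t, ht, htB⟩ := Set.not_subset.1 hXTB
  by_cases hYD : (Y ⊓ B : Subgroup G) ≤ D
  · have h1 : ∀ x ∈ X, ∀ p ∈ (X ⊓ B : Subgroup G), x * p * x⁻¹ * p⁻¹ ∈ D := fun x hx p hp =>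
      hYD ⟨hsec.comm x hx p hp.1, B.mul_mem (h.S_B (hX hx) hp.2) (B.inv_mem hp.2)⟩
    have key : ∀ p ∈ (X ⊓ B : Subgroup G), p ∉ D → ∃ a ∈ Q₁, ∃ c ∈ Q₂, p = a * c ∧
        a ∈ KX h t ∧ c ∈ KX h t ∧ a ∉ D ∧ c ∉ D := by
      intro p hp hpD
      obtain ⟨a, ha, c, hc, rfl⟩ := h.prod p hp.2
      obtain ⟨h2, h3⟩ := split h ht.2 ha hc ⟨hp.2, h1 t ht.1 _ hp⟩
      refine ⟨a, ha, c, hc, rfl, h2, h3, ?_, ?_⟩
      · intro haD
        exact hpD (mem_D_of_Q2 h hD (hX hg) hgT (Q₂.mul_mem (h.D2 haD) hc) (h1 g hg _ hp))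
      · intro hcD
        exact hpD (mem_D_of_Q1 h hD (hX hg) hgT (Q₁.mul_mem ha (h.D1 hcD)) (h1 g hg _ hp))
    have hcong : ∀ Q : Subgroup G, D ≤ Q → Nat.card (KX h t ⊓ Q : Subgroup G) ≤ 8 →
        ∀ a ∈ Q, a ∈ KX h t → a ∉ D → ∀ a' ∈ Q, a' ∈ KX h t → a' ∉ D → a⁻¹ * a' ∈ D := by
      intro Q hDQ hQ8 a ha haK haD a' ha' haK' haD'
      have hDF : D ≤ KX h t ⊓ Q := le_inf (D_le_KX h (h.TS ht.2)) hDQ
      have e1 := card_eq_relIndex_mul (KX h t ⊓ Q) D hDF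
      rw [hD] at e1
      have e2 : D.relIndex (KX h t ⊓ Q) ≠ 1 := by
        intro e3
        rw [Subgroup.relIndex_eq_one] at e3
        exact haD (e3 ⟨haK, ha⟩)
      have e3 : D.relIndex (KX h t ⊓ Q) ≠ 0 := Subgroup.FiniteIndex.index_ne_zero
      have e4 : (D.subgroupOf (KX h t ⊓ Q)).index = 2 := by
        show D.relIndex (KX h t ⊓ Q) = 2
        omega
      have e5 := (Subgroup.mul_mem_iff_of_index_two e4
        (a := ⟨a⁻¹, (KX h t ⊓ Q).inv_mem ⟨haK, ha⟩⟩) (b := ⟨a', haK', ha'⟩)).2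
        ⟨fun h6 => absurd (D.inv_mem (mem_subgroupOf.1 h6)) (by rw [inv_inv]; exact haD),
          fun h6 => absurd (mem_subgroupOf.1 h6) haD'⟩
      exact mem_subgroupOf.1 e5
    by_cases hPD' : (X ⊓ B : Subgroup G) ≤ D
    · have h3 := Subgroup.card_le_of_le hPD'
      have hY1 : Nat.card Y = 1 ∨ 2 ≤ Nat.card Y := by omega
      rw [hD] at h3
      omega
    obtain ⟨p, hp, hpD⟩ := Set.not_subset.1 hPD'
    have h2 : Nat.card (X ⊓ B : Subgroup G) ≤ 2 * Nat.card (X ⊓ D : Subgroup G) := by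
      apply card_le_two_mul hp
      intro e he
      by_cases heD : e ∈ D
      · exact Or.inl ⟨he.1, heD⟩
      · right
        refine ⟨X.mul_mem (X.inv_mem hp.1) he.1, ?_⟩
        obtain ⟨a, ha, c, hc, rfl, ha2, hc2, ha3, hc3⟩ := key p hp hpD
        obtain ⟨a', ha', c', hc', rfl, ha2', hc2', ha3', hc3'⟩ := key e he heD
        have h3 := hcong Q₁ h.D1 (card_KX_Q1 h hD ht.2 htB) a ha ha2 ha3 a' ha' ha2' ha3'
        have h4 := hcong Q₂ h.D2 (card_KX_Q2 h hD ht.2 htB) c hc hc2 hc3 c' hc' hc2' hc3'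
        have h5 : (a * c)⁻¹ * (a' * c') = c⁻¹ * ((a⁻¹ * a') * c) * (c⁻¹ * c') := by group
        rw [h5, h.centD h3 (h.Q2B hc), inv_mul_cancel_left]
        exact D.mul_mem h3 h4
    have hY1 : Nat.card Y = 1 := by omega
    have hDX : D ≤ X := D_le_of h hD (by omega)
    exact not_D_le h hD hsec hY1 hDX ht.2 htB ht.1
  · obtain ⟨y, hy, hyD⟩ := Set.not_subset.1 hYD
    have hY2 : Nat.card Y ≠ 1 := by
      intro h1
      apply hyD
      have h2 : y ∈ Y := hy.1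
      rw [Subgroup.card_eq_one.1 h1, mem_bot] at h2
      rw [h2]; exact one_mem _
    have hDX : D ≤ X := D_le_of h hD (by omega)
    obtain ⟨d, hd, hd2⟩ := no_cent h ht.2 htB (sq_mem h hD ht.2)
    have h1 : t * d * t⁻¹ * d⁻¹ ∈ Y ⊓ D :=
      ⟨hsec.comm t ht.1 d (hDX hd), D.mul_mem (h.T_D ht.2 hd) (D.inv_mem hd)⟩
    have h2 : t * d * t⁻¹ * d⁻¹ ≠ 1 := fun h3 => hd2 (mul_inv_eq_one.1 h3)
    have h3 : 1 < Nat.card (Y ⊓ D : Subgroup G) := by
      rw [Subgroup.one_lt_card_iff_ne_bot]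
      intro h4
      rw [h4, mem_bot] at h1
      exact h2 h1
    have h4 : Nat.card (Y ⊓ D : Subgroup G) ∣ Nat.card Y := Subgroup.card_dvd_of_le inf_le_left
    have h5 : Nat.card (Y ⊓ D : Subgroup G) ≠ Nat.card Y := by
      intro h6
      apply hyD
      have h7 : (Y ⊓ D : Subgroup G) = Y := Subgroup.eq_of_le_of_card_ge inf_le_left h6.ge
      have h8 := hy.1
      rw [← h7] at h8
      exact h8.2
    obtain ⟨m, hm⟩ := h4
    have h6 : 2 ≤ m := by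
      rcases m with _ | _ | m
      · omega
      · omega
      · omega
    have h7 : 4 ≤ Nat.card Y := by rw [hm]; nlinarith
    omega

end

/-- A finite group with Sylow 2-subgroup `S` in the situation `Base` with `q = |D| = 4` has sectional
2-rank at most 4. -/
theorem rank_le_four [Finite G] {T B Q₁ Q₂ D C₁ C₂ : Subgroup G} {s : G} (P : Sylow 2 G)
    (h : Base (P : Subgroup G) T B Q₁ Q₂ D C₁ C₂ s 4) (hD : Nat.card D = 4) :
    SectionalPRankLE 2 4 G := by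
  apply sectionalPRankLE_of_sylow P
  rw [sectionalPRankLE_iff]
  intro X Y hXY
  have h1 := card_le_of_section h hD (X := X.map (P : Subgroup G).subtype)
    (Y := Y.map (P : Subgroup G).subtype) (Subgroup.map_subtype_le _) (hXY.map _)
  rw [Subgroup.card_map_of_injective (P : Subgroup G).subtype_injective,
    Subgroup.card_map_of_injective (P : Subgroup G).subtype_injective] at h1
  have h2 : (2 : ℕ) ^ 4 = 16 := by norm_num
  rw [h2]; exact h1

end Cfsg.Agent.Omega.SQ1.RankL34
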