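import Mathlib

/-!
# SQ1 (4.5): elementary facts on `SL(2, F)` for the torus of a block
-/

set_option autoImplicit false

namespace Cfsg.Agent.Omega.SQ1.SLTwo

open Subgroup Matrix MulAction

variable {F : Type*} [Field F]

local notation "SL" => Matrix.SpecialLinearGroup (Fin 2) F

/-- Upper unitriangular. -/
def IsUp (g : Matrix.SpecialLinearGroup (Fin 2) F) : Prop := g 0 0 = 1 ∧ g 1 0 = 0 ∧ g 1 1 = 1

/-- Upper triangular. -/
def IsBor (g : Matrix.SpecialLinearGroup (Fin 2) F) : Prop := g 1 0 = 0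

/-- Diagonal. -/
def IsDg (g : Matrix.SpecialLinearGroup (Fin 2) F) : Prop := g 1 0 = 0 ∧ g 0 1 = 0

def up (x : F) : SL := ⟨!![1, x; 0, 1], by simp [det_fin_two]⟩
def lo (x : F) : SL := ⟨!![1, 0; x, 1], by simp [det_fin_two]⟩
def dg (a : Fˣ) : SL := ⟨!![(a : F), 0; 0, ((a⁻¹ : Fˣ) : F)], by simp [det_fin_two]⟩
def ww : SL := ⟨!![0, 1; -1, 0], by simp [det_fin_two]⟩

@[simp] theorem up00 (x : F) : (up x : SL) 0 0 = 1 := rfl
@[simp] theorem up01 (x : F) : (up x : SL) 0 1 = x := rfl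
@[simp] theorem up10 (x : F) : (up x : SL) 1 0 = 0 := rfl
@[simp] theorem up11 (x : F) : (up x : SL) 1 1 = 1 := rfl
@[simp] theorem lo00 (x : F) : (lo x : SL) 0 0 = 1 := rfl
@[simp] theorem lo01 (x : F) : (lo x : SL) 0 1 = 0 := rfl
@[simp] theorem lo10 (x : F) : (lo x : SL) 1 0 = x := rfl
@[simp] theorem lo11 (x : F) : (lo x : SL) 1 1 = 1 := rfl
@[simp] theorem dg00 (a : Fˣ) : (dg a : SL) 0 0 = a := rfl
@[simp] theorem dg01 (a : Fˣ) : (dg a : SL) 0 1 = 0 := rfl
@[simp] theorem dg10 (a : Fˣ) : (dg a : SL) 1 0 = 0 := rfl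
@[simp] theorem dg11 (a : Fˣ) : (dg a : SL) 1 1 = ((a⁻¹ : Fˣ) : F) := rfl
@[simp] theorem ww00 : (ww : SL) 0 0 = 0 := rfl
@[simp] theorem ww01 : (ww : SL) 0 1 = 1 := rfl
@[simp] theorem ww10 : (ww : SL) 1 0 = -1 := rfl
@[simp] theorem ww11 : (ww : SL) 1 1 = 0 := rfl

theorem det_eq (g : SL) : g 0 0 * g 1 1 - g 0 1 * g 1 0 = 1 := by
  have := g.det_coe
  rw [det_fin_two] at this
  exact this

theorem mul00 (g h : SL) : (g * h) 0 0 = g 0 0 * h 0 0 + g 0 1 * h 1 0 := by
  simp [Matrix.SpecialLinearGroup.coe_mul, Matrix.mul_apply, Fin.sum_univ_two]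

theorem mul01 (g h : SL) : (g * h) 0 1 = g 0 0 * h 0 1 + g 0 1 * h 1 1 := by
  simp [Matrix.SpecialLinearGroup.coe_mul, Matrix.mul_apply, Fin.sum_univ_two]

theorem mul10 (g h : SL) : (g * h) 1 0 = g 1 0 * h 0 0 + g 1 1 * h 1 0 := by
  simp [Matrix.SpecialLinearGroup.coe_mul, Matrix.mul_apply, Fin.sum_univ_two]

theorem mul11 (g h : SL) : (g * h) 1 1 = g 1 0 * h 0 1 + g 1 1 * h 1 1 := by
  simp [Matrix.SpecialLinearGroup.coe_mul, Matrix.mul_apply, Fin.sum_univ_two]

theorem inv00 (g : SL) : (g⁻¹) 0 0 = g 1 1 := by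
  rw [Matrix.SpecialLinearGroup.coe_inv, adjugate_fin_two]; simp

theorem inv01 (g : SL) : (g⁻¹) 0 1 = - g 0 1 := by
  rw [Matrix.SpecialLinearGroup.coe_inv, adjugate_fin_two]; simp

theorem inv10 (g : SL) : (g⁻¹) 1 0 = - g 1 0 := by
  rw [Matrix.SpecialLinearGroup.coe_inv, adjugate_fin_two]; simp

theorem inv11 (g : SL) : (g⁻¹) 1 1 = g 0 0 := by
  rw [Matrix.SpecialLinearGroup.coe_inv, adjugate_fin_two]; simp

theorem ext2 {g h : SL} (h00 : g 0 0 = h 0 0) (h01 : g 0 1 = h 0 1) (h10 : g 1 0 = h 1 0)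
    (h11 : g 1 1 = h 1 1) : g = h := by
  ext i j
  fin_cases i <;> fin_cases j <;> assumption

theorem one00 : (1 : SL) 0 0 = 1 := rfl
theorem one01 : (1 : SL) 0 1 = 0 := rfl
theorem one10 : (1 : SL) 1 0 = 0 := rfl
theorem one11 : (1 : SL) 1 1 = 1 := rfl

theorem up_mul (x y : F) : (up x : SL) * up y = up (x + y) :=
  ext2 (by simp [mul00]) (by simp [mul01, add_comm]) (by simp [mul10]) (by simp [mul11])

theorem up_zero : (up 0 : SL) = 1 := ext2 rfl rfl rfl rfl

theorem eq_up {g : SL} (h : IsUp g) : g = up (g 0 1) := ext2 h.1 rfl h.2.1 h.2.2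

theorem isUp_up (x : F) : IsUp (up x : SL) := ⟨rfl, rfl, rfl⟩

theorem up_inj {x y : F} (h : (up x : SL) = up y) : x = y := by
  have := congrArg (fun g : SL => g 0 1) h
  simpa using this

theorem isUp_of {g : SL} (h0 : g 0 0 = 1) (h1 : g 1 0 = 0) : IsUp g := by
  refine ⟨h0, h1, ?_⟩
  have := det_eq g
  rw [h0, h1] at this
  simpa using this

theorem IsUp.mul {g h : SL} (hg : IsUp g) (hh : IsUp h) : IsUp (g * h) := by
  refine isUp_of ?_ ?_
  · rw [mul00, hg.1, hh.1, hh.2.1]; simp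
  · rw [mul10, hg.2.1, hg.2.2, hh.2.1]; simp

theorem IsUp.mul01 {g h : SL} (hg : IsUp g) (hh : IsUp h) : (g * h) 0 1 = g 0 1 + h 0 1 := by
  rw [SLTwo.mul01, hg.1, hh.2.2]; ring

theorem dg_mul (a b : Fˣ) : (dg a : SL) * dg b = dg (a * b) :=
  ext2 (by simp [mul00]) (by simp [mul01]) (by simp [mul10]) (by simp [mul11, mul_comm])

theorem dg_one : (dg 1 : SL) = 1 := ext2 (by simp [one00]) rfl rfl (by simp [one11])

def dgHom : Fˣ →* SL where
  toFun := dg
  map_one' := dg_one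
  map_mul' a b := (dg_mul a b).symm

theorem dg_inj {a b : Fˣ} (h : (dg a : SL) = dg b) : a = b := by
  have := congrArg (fun g : SL => g 0 0) h
  exact Units.ext (by simpa using this)

theorem eq_dg {g : SL} (h : IsDg g) : ∃ a : Fˣ, g = dg a := by
  have h1 := det_eq g
  rw [h.1, mul_zero, sub_zero] at h1
  refine ⟨⟨g 0 0, g 1 1, h1, by rw [mul_comm]; exact h1⟩, ext2 rfl h.2 h.1 rfl⟩

/-- The torus on the root group. -/
theorem dg_up (a : Fˣ) (x : F) : (dg a : SL) * up x * (dg a)⁻¹ = up ((a : F) ^ 2 * x) := by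
  have hi : (dg a : SL)⁻¹ = dg a⁻¹ := (map_inv dgHom a).symm
  rw [hi]
  refine ext2 ?_ ?_ ?_ ?_
  · simp [mul00, mul01]
  · simp only [mul01, mul00, dg00, dg01, up01, up00, up11, dg11, inv_inv, mul_zero, add_zero]
    ring
  · simp [mul10, mul11]
  · simp [mul11, mul10]

theorem ww_dg (a : Fˣ) : (ww : SL) * dg a * ww⁻¹ = dg a⁻¹ := by
  refine ext2 ?_ ?_ ?_ ?_
  · simp [mul00, mul01, inv00, inv10]
  · simp [mul01, mul00, inv01, inv11]
  · simp [mul10, mul11, inv00, inv10]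
  · simp [mul11, mul10, inv01, inv11]

theorem ww_sq : (ww : SL) * ww = -1 := by
  refine ext2 ?_ ?_ ?_ ?_ <;> simp [mul00, mul01, mul10, mul11]

/-- Two different conjugates of the root group generate. -/
theorem gen {W : Subgroup SL} (h1 : ∀ x : F, up x ∈ W) {g : SL} (hg : g 1 0 ≠ 0)
    (h2 : ∀ x : F, g * up x * g⁻¹ ∈ W) : W = ⊤ := by
  set c := g 1 0 with hc
  have hlo : ∀ y : F, lo y ∈ W := by
    intro y
    have e : (up (g 0 0 / c) : SL)⁻¹ * (g * up (- y / c ^ 2) * g⁻¹) * up (g 0 0 / c) = lo y := by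
      have hd := det_eq g
      rw [← hc] at hd
      refine ext2 ?_ ?_ ?_ ?_
      · simp only [mul00, mul01, mul10, mul11, inv00, inv01, inv10, inv11, up00, up01, up10, up11,
          lo00, lo01, lo10, lo11, ← hc]
        field_simp
        linear_combination c ^ 2 * hd
      · simp only [mul00, mul01, mul10, mul11, inv00, inv01, inv10, inv11, up00, up01, up10, up11,
          lo00, lo01, lo10, lo11, ← hc]
        field_simp
        ring
      · simp only [mul00, mul01, mul10, mul11, inv00, inv01, inv10, inv11, up00, up01, up10, up11,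
          lo00, lo01, lo10, lo11, ← hc]
        field_simp
        ring
      · simp only [mul00, mul01, mul10, mul11, inv00, inv01, inv10, inv11, up00, up01, up10, up11,
          lo00, lo01, lo10, lo11, ← hc]
        field_simp
        linear_combination c ^ 2 * hd
    rw [← e]
    exact W.mul_mem (W.mul_mem (W.inv_mem (h1 _)) (h2 _)) (h1 _)
  have hbig : ∀ h : SL, h 1 0 ≠ 0 → h ∈ W := by
    intro h hh
    have e : (up ((h 0 0 - 1) / h 1 0) : SL) * lo (h 1 0) * up ((h 1 1 - 1) / h 1 0) = h := by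
      have hd := det_eq h
      refine ext2 ?_ ?_ ?_ ?_
      · simp only [mul00, mul01, mul10, mul11, up00, up01, up10, up11, lo00, lo01, lo10, lo11]
        field_simp
        ring
      · simp only [mul00, mul01, mul10, mul11, up00, up01, up10, up11, lo00, lo01, lo10, lo11]
        field_simp
        linear_combination hd
      · simp only [mul00, mul01, mul10, mul11, up00, up01, up10, up11, lo00, lo01, lo10, lo11]
        ring
      · simp only [mul00, mul01, mul10, mul11, up00, up01, up10, up11, lo00, lo01, lo10, lo11]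
        field_simp
        ring
    rw [← e]
    exact W.mul_mem (W.mul_mem (h1 _) (hlo _)) (h1 _)
  rw [eq_top_iff]
  intro h _
  by_cases hh : h 1 0 = 0
  · have h3 : (lo 1 : SL) * h ∈ W := by
      apply hbig
      rw [mul10, lo10, lo11, hh]
      intro h0
      have hd := det_eq h
      rw [hh] at hd
      simp at h0 hd
      rw [h0] at hd
      simp at hd
    have h4 := W.mul_mem (W.inv_mem (hlo 1)) h3
    rwa [inv_mul_cancel_left] at h4
  · exact hbig h hh

/-- A 2-subgroup in characteristic 2 is conjugate into the root group. -/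
theorem exists_conj_up [Finite F] (h2 : (2 : F) = 0) {P : Subgroup SL} (hP : IsPGroup 2 P) :
    ∃ g : SL, ∀ p ∈ P, IsUp (g * p * g⁻¹) := by
  letI : MulAction P (Fin 2 → F) :=
    { smul := fun p v => (((p : SL) : Matrix (Fin 2) (Fin 2) F)).mulVec v
      one_smul := fun v => by
        show (((1 : SL) : Matrix (Fin 2) (Fin 2) F)).mulVec v = v
        simp
      mul_smul := fun p p' v => by
        show (((p * p' : P) : SL) : Matrix (Fin 2) (Fin 2) F).mulVec v =
          ((p : SL) : Matrix (Fin 2) (Fin 2) F).mulVec (((p' : SL) : Matrix (Fin 2) (Fin 2) F).mulVec v)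
        rw [mulVec_mulVec]
        rfl }
  have hsm : ∀ (p : P) (v : Fin 2 → F), p • v = (((p : SL) : Matrix (Fin 2) (Fin 2) F)).mulVec v :=
    fun _ _ => rfl
  haveI : CharP F 2 := CharTwo.of_one_ne_zero_of_two_eq_zero one_ne_zero h2
  haveI := Fintype.ofFinite F
  have hdvd : 2 ∣ Nat.card (Fin 2 → F) := by
    obtain ⟨n, hn1, hn2⟩ := FiniteField.card F 2
    rw [Nat.card_fun, Nat.card_eq_fintype_card (α := Fin 2), Fintype.card_fin,
      Nat.card_eq_fintype_card, hn2]
    exact Dvd.dvd.pow (dvd_pow_self 2 n.pos.ne') (by norm_num)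
  have h0 : (0 : Fin 2 → F) ∈ fixedPoints P (Fin 2 → F) := fun p => by
    rw [hsm, mulVec_zero]
  obtain ⟨v, hv, hne⟩ := hP.exists_fixed_point_of_prime_dvd_card_of_fixed_point _ hdvd h0
  have hv' : ∀ p ∈ P, ((p : SL) 0 0 * v 0 + (p : SL) 0 1 * v 1 = v 0) ∧
      ((p : SL) 1 0 * v 0 + (p : SL) 1 1 * v 1 = v 1) := by
    intro p hp
    have h3 := hv ⟨p, hp⟩
    rw [hsm] at h3
    have h4 := congrFun h3 0
    have h5 := congrFun h3 1
    simp only [mulVec, dotProduct, Fin.sum_univ_two] at h4 h5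
    exact ⟨h4, h5⟩
  have hex : ∃ h : SL, h 0 0 = v 0 ∧ h 1 0 = v 1 := by
    by_cases h0 : v 0 = 0
    · have h1 : v 1 ≠ 0 := by
        intro h1
        apply hne
        ext i
        fin_cases i
        · exact h0.symm
        · exact h1.symm
      refine ⟨⟨!![0, -(v 1)⁻¹; v 1, 0], ?_⟩, h0.symm, rfl⟩
      rw [det_fin_two_of]
      field_simp
      ring
    · refine ⟨⟨!![v 0, 0; v 1, (v 0)⁻¹], ?_⟩, rfl, rfl⟩
      rw [det_fin_two_of]
      field_simp
      ring
  obtain ⟨h, hh0, hh1⟩ := hex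
  refine ⟨h⁻¹, fun p hp => ?_⟩
  obtain ⟨e1, e2⟩ := hv' p hp
  rw [← hh0, ← hh1] at e1 e2
  have hd := det_eq h
  refine isUp_of ?_ ?_
  · rw [inv_inv, mul00, mul00, mul01, inv00, inv01]
    linear_combination h 1 1 * e1 - h 0 1 * e2 + hd
  · rw [inv_inv, mul10, mul10, mul11, inv10, inv11]
    linear_combination (- h 1 0) * e1 + h 0 0 * e2

end Cfsg.Agent.Omega.SQ1.SLTwo
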