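import Mathlib

/-!
# Transvections and intrinsic blocks (project OMEGA, SQ1, L7; step (e) of #11855)

`V` is an elementary abelian 2-group, `X` a subgroup of `MulAut V`, `t l` (`l ∈ ι`, `ι` finite) are pairwise
commuting, different transvections; every 2-subgroup of `X` has a conjugate in which the `X`-conjugates of the
`t l` are among the `t l`.  Then a subgroup of order 3 of `X` which is inverted by `t l` and centralised by the other
`t k` is unique (`unique_block`).
-/

set_option autoImplicit false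

namespace Cfsg.Agent.Omega.SQ1.Transv

open Subgroup

universe u v

/-- A group generated by commuting involutions is a 2-group. -/
theorem isPGroup_closure {M : Type u} [Group M] {S : Set M} (h2 : ∀ s ∈ S, s * s = 1)
    (hc : ∀ s ∈ S, ∀ t ∈ S, s * t = t * s) : IsPGroup 2 (closure S) := by
  have h1 : closure S ≤ centralizer (closure S : Set M) := by
    have h3 : S ⊆ centralizer S := fun s hs => mem_centralizer_iff.mpr fun t ht => hc t ht s hs
    have h4 : closure S ≤ centralizer S := (closure_le _).mpr h3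
    have h5 : S ⊆ centralizer (closure S : Set M) := fun s hs =>
      mem_centralizer_iff.mpr fun t ht => (mem_centralizer_iff.mp (h4 ht) s hs).symm
    exact (closure_le _).mpr h5
  have h3 : ∀ a ∈ closure S, a * a = 1 := by
    intro a ha
    induction ha using closure_induction with
    | mem x hx => exact h2 x hx
    | one => simp
    | mul x y hx hy ihx ihy =>
      have h6 : x * y = y * x := (mem_centralizer_iff.mp (h1 hy) x hx)
      calc x * y * (x * y) = x * (y * x) * y := by group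
        _ = x * (x * y) * y := by rw [h6]
        _ = (x * x) * (y * y) := by group
        _ = 1 := by rw [ihx, ihy, one_mul]
    | inv x hx ih => rw [← mul_inv_rev, ih, inv_one]
  rintro ⟨a, ha⟩
  refine ⟨1, Subtype.ext ?_⟩
  rw [pow_one, pow_two]
  exact h3 a ha

variable {V : Type u} [Group V]

/-- `σ` is a transvection with centre `c`. -/
structure IsTv (σ : MulAut V) (c : V) : Prop where
  ne : c ≠ 1
  act : ∀ v, σ v = v ∨ σ v = v * c
  mov : ∃ v, σ v ≠ v

theorem comm_of_sq (hV : ∀ v : V, v * v = 1) (v w : V) : v * w = w * v := by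
  have h : (v * w)⁻¹ = v * w := inv_eq_of_mul_eq_one_right (hV _)
  rw [← h, mul_inv_rev, inv_eq_of_mul_eq_one_right (hV v), inv_eq_of_mul_eq_one_right (hV w)]

section

variable {σ τ : MulAut V} {c b : V}

theorem IsTv.fix (hV : ∀ v : V, v * v = 1) (h : IsTv σ c) : σ c = c := by
  rcases h.act c with h1 | h1
  · exact h1
  · rw [hV c] at h1
    exact absurd ((map_eq_one_iff σ σ.injective).mp h1) h.ne

theorem IsTv.apply_apply (hV : ∀ v : V, v * v = 1) (h : IsTv σ c) (v : V) : σ (σ v) = v := by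
  rcases h.act v with h1 | h1
  · rw [h1, h1]
  · rw [h1, map_mul, h1, h.fix hV, mul_assoc, hV c, mul_one]

theorem IsTv.sq (hV : ∀ v : V, v * v = 1) (h : IsTv σ c) : σ * σ = 1 := by
  ext v
  exact h.apply_apply hV v

theorem IsTv.inv (hV : ∀ v : V, v * v = 1) (h : IsTv σ c) : σ⁻¹ = σ :=
  inv_eq_of_mul_eq_one_right (h.sq hV)

theorem IsTv.conj (h : IsTv σ c) (g : MulAut V) : IsTv (g * σ * g⁻¹) (g c) := by
  refine ⟨fun h1 => h.ne ((map_eq_one_iff g g.injective).mp h1), fun v => ?_, ?_⟩
  · have e : (g * σ * g⁻¹) v = g (σ (g⁻¹ v)) := rfl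
    have e2 : g (g⁻¹ v) = v := by
      have : (g * g⁻¹) v = v := by rw [mul_inv_cancel]; rfl
      exact this
    rcases h.act (g⁻¹ v) with h1 | h1
    · left; rw [e, h1, e2]
    · right; rw [e, h1, map_mul, e2]
  · obtain ⟨v, hv⟩ := h.mov
    refine ⟨g v, fun h1 => hv ?_⟩
    have e : (g * σ * g⁻¹) (g v) = g (σ v) := by
      have : (g⁻¹ * g) v = v := by rw [inv_mul_cancel]; rfl
      change g (σ (g⁻¹ (g v))) = _
      change g (σ ((g⁻¹ * g) v)) = _
      rw [this]
    rw [e] at h1
    exact g.injective h1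

theorem IsTv.comm_of_fix (hV : ∀ v : V, v * v = 1) (h : IsTv σ c) (h' : IsTv τ b)
    (h1 : σ b = b) (h2 : τ c = c) : σ * τ = τ * σ := by
  ext v
  change σ (τ v) = τ (σ v)
  rcases h.act v with h3 | h3 <;> rcases h'.act v with h4 | h4
  · rw [h3, h4, h3]
  · rw [h3, h4, map_mul, h3, h1]
  · rw [h3, h4, map_mul, h4, h2, h3]
  · rw [h3, h4, map_mul, h3, h1, map_mul, h4, h2, mul_assoc, mul_assoc, comm_of_sq hV c b]

theorem isPGroup_closure_pair_of_fix (hV : ∀ v : V, v * v = 1) (h : IsTv σ c) (h' : IsTv τ b)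
    (h2 : τ c = c) : IsPGroup 2 (closure ({σ, τ} : Set (MulAut V))) := by
  have : Fact (Nat.Prime 2) := ⟨Nat.prime_two⟩
  have hτ := h'.inv hV
  have hs : IsTv (τ * σ * τ⁻¹) c := by
    have := h.conj τ
    rwa [h2] at this
  have hcomm : σ * (τ * σ * τ⁻¹) = (τ * σ * τ⁻¹) * σ :=
    h.comm_of_fix hV hs (h.fix hV) (hs.fix hV)
  have h3 : IsPGroup 2 (closure ({σ, τ * σ * τ⁻¹} : Set (MulAut V))) := by
    refine isPGroup_closure ?_ ?_
    · rintro s (rfl | rfl)
      · exact h.sq hV
      · exact hs.sq hV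
    · rintro s (rfl | rfl) t (rfl | rfl)
      · rfl
      · exact hcomm
      · exact hcomm.symm
      · rfl
  have h4 : IsPGroup 2 (closure ({τ} : Set (MulAut V))) :=
    isPGroup_closure (by
        intro s hs
        rw [Set.mem_singleton_iff] at hs
        rw [hs]
        exact h'.sq hV)
      (by
        intro s hs t ht
        rw [Set.mem_singleton_iff] at hs ht
        rw [hs, ht])
  have hττ := h'.sq hV
  have h5 : closure ({τ} : Set (MulAut V)) ≤
      normalizer (closure ({σ, τ * σ * τ⁻¹} : Set (MulAut V)) : Set (MulAut V)) := by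
    rw [closure_le]
    intro s hs
    rw [Set.mem_singleton_iff] at hs
    rw [hs]
    have key : ∀ x ∈ closure ({σ, τ * σ * τ⁻¹} : Set (MulAut V)),
        τ * x * τ⁻¹ ∈ closure ({σ, τ * σ * τ⁻¹} : Set (MulAut V)) := by
      intro x hx
      have h6 : closure ({σ, τ * σ * τ⁻¹} : Set (MulAut V)) ≤
          (closure ({σ, τ * σ * τ⁻¹} : Set (MulAut V))).comap (MulAut.conj τ).toMonoidHom := by
        rw [closure_le]
        rintro s (rfl | rfl)
        · exact subset_closure (by simp)
        · change τ * (τ * σ * τ⁻¹) * τ⁻¹ ∈ Subgroup.closure ({σ, τ * σ * τ⁻¹} : Set (MulAut V))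
          have e : τ * (τ * σ * τ⁻¹) * τ⁻¹ = σ := by
            calc τ * (τ * σ * τ⁻¹) * τ⁻¹ = (τ * τ) * σ * (τ * τ)⁻¹ := by group
              _ = σ := by rw [hττ]; group
          rw [e]
          exact subset_closure (by simp)
      exact h6 hx
    rw [SetLike.mem_coe, mem_normalizer_iff]
    intro x
    refine ⟨key x, fun hx => ?_⟩
    have h7 := key _ hx
    have e : τ * (τ * x * τ⁻¹) * τ⁻¹ = x := by
      calc τ * (τ * x * τ⁻¹) * τ⁻¹ = (τ * τ) * x * (τ * τ)⁻¹ := by group
        _ = x := by rw [hττ]; group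
    rwa [e] at h7
  have h6 := IsPGroup.to_sup_of_normal_left' h3 h4 h5
  refine h6.to_le ((closure_le _).mpr ?_)
  intro s hs
  rcases hs with hs | hs
  · rw [hs]
    have h7 : σ ∈ Subgroup.closure ({σ, τ * σ * τ⁻¹} : Set (MulAut V)) := subset_closure (by simp)
    exact (le_sup_left : _ ≤ Subgroup.closure ({σ, τ * σ * τ⁻¹} : Set (MulAut V)) ⊔
      Subgroup.closure ({τ} : Set (MulAut V))) h7
  · rw [Set.mem_singleton_iff] at hs
    rw [hs]
    have h7 : τ ∈ Subgroup.closure ({τ} : Set (MulAut V)) := subset_closure (by simp)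
    exact (le_sup_right : _ ≤ Subgroup.closure ({σ, τ * σ * τ⁻¹} : Set (MulAut V)) ⊔
      Subgroup.closure ({τ} : Set (MulAut V))) h7

end

/-! ### The setting -/

/-- the `X`-conjugates of the `t l` -/
def Tc {ι : Type v} (X : Subgroup (MulAut V)) (t : ι → MulAut V) (σ : MulAut V) : Prop :=
  ∃ h ∈ X, ∃ l, σ = h * t l * h⁻¹

/-- `X` acts on `V`; every 2-subgroup of `X` has an `X`-conjugate in which the conjugates of the
different commuting transvections `t l` are among the `t l`. -/
structure Sit {ι : Type v} (X : Subgroup (MulAut V)) (t : ι → MulAut V) (c : ι → V) : Prop where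
  sq : ∀ v : V, v * v = 1
  tX : ∀ l, t l ∈ X
  tv : ∀ l, IsTv (t l) (c l)
  comm : ∀ k l, t k * t l = t l * t k
  inj : Function.Injective t
  syl : ∀ P : Subgroup (MulAut V), IsPGroup 2 P → P ≤ X →
    ∃ g ∈ X, ∀ σ ∈ P, Tc X t σ → ∃ l, g * σ * g⁻¹ = t l

variable {ι : Type v} {X : Subgroup (MulAut V)} {t : ι → MulAut V} {c : ι → V}

theorem Sit.exists_tv (S : Sit X t c) {σ : MulAut V} (hσ : Tc X t σ) : ∃ b, IsTv σ b := by
  obtain ⟨h, -, l, rfl⟩ := hσ
  exact ⟨_, (S.tv l).conj h⟩

theorem Sit.mem_X (S : Sit X t c) {σ : MulAut V} (hσ : Tc X t σ) : σ ∈ X := by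
  obtain ⟨h, hh, l, rfl⟩ := hσ
  exact X.mul_mem (X.mul_mem hh (S.tX l)) (X.inv_mem hh)

theorem Tc.conj {σ g : MulAut V} (hg : g ∈ X) (hσ : Tc X t σ) : Tc X t (g * σ * g⁻¹) := by
  obtain ⟨h, hh, l, rfl⟩ := hσ
  exact ⟨g * h, X.mul_mem hg hh, l, by group⟩

theorem Tc.self (l : ι) : Tc X t (t l) := ⟨1, X.one_mem, l, by group⟩

theorem Sit.comm_of_isPGroup (S : Sit X t c) {σ τ : MulAut V} (hσ : Tc X t σ) (hτ : Tc X t τ)
    (hP : IsPGroup 2 (closure ({σ, τ} : Set (MulAut V)))) :
    σ * τ = τ * σ := by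
  obtain ⟨g, -, hg⟩ := S.syl _ hP (by
    rw [closure_le]
    rintro s (rfl | rfl)
    · exact S.mem_X hσ
    · exact S.mem_X hτ)
  obtain ⟨l, hl⟩ := hg σ (subset_closure (by simp)) hσ
  obtain ⟨m, hm⟩ := hg τ (subset_closure (by simp)) hτ
  have h1 : g * (σ * τ) * g⁻¹ = g * (τ * σ) * g⁻¹ := by
    calc g * (σ * τ) * g⁻¹ = (g * σ * g⁻¹) * (g * τ * g⁻¹) := by group
      _ = (g * τ * g⁻¹) * (g * σ * g⁻¹) := by rw [hl, hm, S.comm]
      _ = g * (τ * σ) * g⁻¹ := by group
  exact mul_left_cancel (mul_right_cancel h1)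

/-- Noncommuting transvections move each other's centre. -/
theorem Sit.moves (S : Sit X t c) {σ τ : MulAut V} {a b : V} (hσ : Tc X t σ) (hτ : Tc X t τ)
    (h : IsTv σ a) (h' : IsTv τ b) (hne : σ * τ ≠ τ * σ) : σ b = b * a ∧ τ a = a * b := by
  have hV := S.sq
  have h1 : ¬ σ b = b := by
    intro h1
    refine hne (S.comm_of_isPGroup hτ hσ ?_).symm
    exact isPGroup_closure_pair_of_fix hV h' h h1
  have h2 : ¬ τ a = a := by
    intro h2
    refine hne (S.comm_of_isPGroup hσ hτ ?_)
    exact isPGroup_closure_pair_of_fix hV h h' h2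
  exact ⟨(h.act b).resolve_left h1, (h'.act a).resolve_left h2⟩

theorem Sit.mem_family (S : Sit X t c) [Finite ι] {s : ι → MulAut V} (hs : ∀ k, Tc X t (s k))
    (hsc : ∀ k l, s k * s l = s l * s k)
    (hinj : Function.Injective s) {τ : MulAut V} (hτ : Tc X t τ)
    (hc : ∀ k, τ * s k = s k * τ) : ∃ k, τ = s k := by
  have hP : IsPGroup 2 (closure (Set.insert τ (Set.range s))) := by
    refine isPGroup_closure ?_ ?_
    · rintro x (rfl | ⟨k, rfl⟩)
      · obtain ⟨b, hb⟩ := S.exists_tv hτ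
        exact hb.sq S.sq
      · obtain ⟨b, hb⟩ := S.exists_tv (hs k)
        exact hb.sq S.sq
    · rintro x (rfl | ⟨k, rfl⟩) y (rfl | ⟨l, rfl⟩)
      · rfl
      · exact hc l
      · exact (hc k).symm
      · exact hsc k l
  obtain ⟨g, -, hg⟩ := S.syl _ hP (by
    rw [closure_le]
    rintro x (rfl | ⟨k, rfl⟩)
    · exact S.mem_X hτ
    · exact S.mem_X (hs k))
  have h1 : ∀ k, ∃ l, g * s k * g⁻¹ = t l := by
    intro k
    exact hg _ (subset_closure (Or.inr ⟨k, rfl⟩)) (hs k)
  choose p hp using h1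
  have hpinj : Function.Injective p := by
    intro k l hkl
    refine hinj ?_
    have h2 : g * s k * g⁻¹ = g * s l * g⁻¹ := by rw [hp, hp, hkl]
    exact mul_left_cancel (mul_right_cancel h2)
  have hpsurj := Finite.surjective_of_injective hpinj
  obtain ⟨m, hm⟩ := hg τ (subset_closure (Or.inl rfl)) hτ
  obtain ⟨k, hk⟩ := hpsurj m
  refine ⟨k, ?_⟩
  have h2 : g * τ * g⁻¹ = g * s k * g⁻¹ := by rw [hm, hp, hk]
  exact mul_left_cancel (mul_right_cancel h2)

/-- The block of order 3 inverted by `t l` and centralised by the other `t k` is unique. -/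
theorem Sit.unique_block (S : Sit X t c) [Finite ι] {r y : MulAut V} (l : ι) (hr : r ∈ X)
    (hy : y ∈ X) (hr3 : r * r * r = 1) (hr1 : r ≠ 1) (hy3 : y * y * y = 1) (hy1 : y ≠ 1)
    (hrl : t l * r * (t l)⁻¹ = r⁻¹) (hyl : t l * y * (t l)⁻¹ = y⁻¹)
    (hrk : ∀ k, k ≠ l → t k * r = r * t k) (hyk : ∀ k, k ≠ l → t k * y = y * t k) :
    y = r ∨ y = r⁻¹ := by
  classical
  have hV := S.sq
  have htt : t l * t l = 1 := (S.tv l).sq hV
  have hti : (t l)⁻¹ = t l := (S.tv l).inv hV
  -- general facts on the transvection `z t z⁻¹` for `z = r, y`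
  have gen : ∀ z : MulAut V, z ∈ X → z * z * z = 1 → z ≠ 1 → t l * z * (t l)⁻¹ = z⁻¹ →
      (∀ k, k ≠ l → t k * z = z * t k) →
      t l * (z * t l * z⁻¹) = z ∧ Tc X t (z * t l * z⁻¹) ∧ IsTv (z * t l * z⁻¹) (z (c l)) ∧
      (∀ k, k ≠ l → t k * (z * t l * z⁻¹) = (z * t l * z⁻¹) * t k) ∧
      (∀ k, k ≠ l → z * t l * z⁻¹ ≠ t k) ∧ t l * (z * t l * z⁻¹) ≠ (z * t l * z⁻¹) * t l := by
    intro z hz h3 h1 hl hk
    have hz2 : z⁻¹ * z⁻¹ = z := by
      have : z * z * z * (z⁻¹ * z⁻¹) = z⁻¹ * z⁻¹ := by rw [h3, one_mul]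
      rw [← this]; group
    have e1 : t l * (z * t l * z⁻¹) = z := by
      have : t l * z * t l = z⁻¹ := by rw [← hl, hti]
      calc t l * (z * t l * z⁻¹) = (t l * z * t l) * z⁻¹ := by group
        _ = z := by rw [this, hz2]
    refine ⟨e1, ⟨z, hz, l, rfl⟩, (S.tv l).conj z, ?_, ?_, ?_⟩
    · intro k hkl
      have h4 := hk k hkl
      have h5 : t k * z⁻¹ = z⁻¹ * t k := by
        rw [eq_inv_mul_iff_mul_eq, ← mul_assoc, ← h4, mul_assoc, mul_inv_cancel, mul_one]
      calc t k * (z * t l * z⁻¹) = (t k * z) * t l * z⁻¹ := by group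
        _ = z * (t k * t l) * z⁻¹ := by rw [h4]; group
        _ = z * t l * (t k * z⁻¹) := by rw [S.comm]; group
        _ = z * t l * z⁻¹ * t k := by rw [h5]; group
    · intro k hkl h4
      have h5 : z * t l = t k * z := by rw [← h4]; group
      rw [hk k hkl] at h5
      exact hkl (S.inj (mul_left_cancel h5)).symm
    · intro h4
      have h6 : z⁻¹ = z := by
        conv_lhs => rw [← e1, mul_inv_rev, ((S.tv l).conj z).inv hV, hti, ← h4]
        exact e1
      have h5 : z * z = 1 := by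
        nth_rw 1 [← h6]
        rw [inv_mul_cancel]
      exact h1 (by rw [h5, one_mul] at h3; exact h3)
  obtain ⟨ar, Xr, tvr, kr, ner, ncr⟩ := gen r hr hr3 hr1 hrl hrk
  obtain ⟨ay, Xy, tvy, ky, ney, ncy⟩ := gen y hy hy3 hy1 hyl hyk
  set τ : MulAut V := r * t l * r⁻¹ with hτ
  set τ' : MulAut V := y * t l * y⁻¹ with hτ'
  -- the family with `t l` replaced by `τ`
  have fam : ∀ ρ : MulAut V, Tc X t ρ → (∀ k, k ≠ l → t k * ρ = ρ * t k) →
      (∀ k, k ≠ l → ρ ≠ t k) → ρ * τ = τ * ρ → ρ = τ := by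
    intro ρ hρ hρk hρne hρτ
    obtain ⟨k, hk⟩ := S.mem_family (s := fun k => if k = l then τ else t k)
      (by intro k; split_ifs; exacts [Xr, Tc.self k])
      (by
        intro k m
        try dsimp only
        split_ifs with h1 h2 h2
        · rfl
        · exact (kr m h2).symm
        · exact kr k h1
        · exact S.comm k m)
      (by
        intro k m hkm
        try dsimp only at hkm
        split_ifs at hkm with h1 h2 h2
        · rw [h1, h2]
        · exact absurd hkm (ner m h2)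
        · exact absurd hkm.symm (ner k h1)
        · exact S.inj hkm) hρ
      (by
        intro k
        try dsimp only
        split_ifs with h1
        · exact hρτ
        · exact (hρk k h1).symm)
    try dsimp only at hk
    split_ifs at hk with h1
    · exact hk
    · exact absurd hk (hρne k h1)
  by_cases hc : τ' * τ = τ * τ'
  · left
    have h1 := fam τ' Xy ky ney hc
    rw [← ay, h1, ar]
  · right
    have m1 := S.moves (Tc.self l) Xr (S.tv l) tvr ncr
    have m2 := S.moves (Tc.self l) Xy (S.tv l) tvy ncy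
    have m3 := S.moves Xy Xr tvy tvr hc
    set c0 := c l
    set a := r c0
    set b := y c0
    -- `t l τ' t l`
    have hXρ : Tc X t (t l * τ' * (t l)⁻¹) := Xy.conj (S.tX l)
    have htvρ : IsTv (t l * τ' * (t l)⁻¹) (t l b) := tvy.conj (t l)
    have h1 : t l * τ' * (t l)⁻¹ = τ := by
      refine fam _ hXρ ?_ ?_ ?_
      · intro k hk
        rw [hti]
        calc t k * (t l * τ' * t l) = (t k * t l) * τ' * t l := by group
          _ = t l * (t k * τ') * t l := by rw [S.comm k l]; group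
          _ = t l * τ' * (t k * t l) := by rw [ky k hk]; group
          _ = t l * τ' * t l * t k := by rw [S.comm k l]; group
      · intro k hk h2
        refine ney k hk ?_
        have h3 : t l * τ' = t k * t l := by rw [← h2]; group
        rw [S.comm k l] at h3
        exact mul_left_cancel h3
      · refine htvρ.comm_of_fix hV tvr ?_ ?_
        · -- `t τ' t` fixes `a`
          change t l (τ' ((t l)⁻¹ a)) = a
          rw [hti, m1.1, map_mul, m3.1, m2.2, map_mul, map_mul, m1.1, m2.1, map_mul,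
            (S.tv l).fix hV, m2.1]
          have hcm := comm_of_sq hV
          calc a * c0 * (b * c0) * (c0 * (b * c0)) = a * (c0 * b) * (c0 * c0) * (b * c0) := by group
            _ = a * (b * c0) * (b * c0) := by rw [hV c0, hcm c0 b]; group
            _ = a := by rw [mul_assoc, hV, mul_one]
        · -- `τ` fixes `t b`
          rw [m2.1, map_mul, m3.2, m1.2]
          have hcm := comm_of_sq hV
          calc b * a * (c0 * a) = b * (a * c0) * a := by group
            _ = b * c0 * (a * a) := by rw [hcm a c0]; group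
            _ = b * c0 := by rw [hV a, mul_one]
    rw [← ay]
    have h2 : τ' = (t l)⁻¹ * τ * t l := by rw [← h1]; group
    rw [h2, ← ar, hti, mul_inv_rev, tvr.inv hV, hti]
    calc t l * (t l * τ * t l) = (t l * t l) * τ * t l := by group
      _ = τ * t l := by rw [htt, one_mul]

end Cfsg.Agent.Omega.SQ1.Transv
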