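import Mathlib

/-!
# Blocks of type `A₄` over a 2-group (project OMEGA, SQ1, L7; step (a) of #11855)

`Blk B d e r` : `V = {1, d, e, d e}` is a four-group, `r` permutes `d → e → d e → d`, `d` is central in
`B`, and `B` normalises `⟨V, r⟩`: an element of `B` centralising `e` centralises `r` modulo `V`, the other
elements invert `r` modulo `V`.
-/

set_option autoImplicit false

namespace Cfsg.Agent.Omega.SQ1.TwistBase

open Subgroup

universe u v

variable {G : Type u} [Group G]

/-- conjugation -/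
def cj (x y : G) : G := x * y * x⁻¹

theorem cj_mul (x y z : G) : cj x (y * z) = cj x y * cj x z := by unfold cj; group
theorem cj_inv (x y : G) : cj x y⁻¹ = (cj x y)⁻¹ := by unfold cj; group
theorem mul_cj (x y z : G) : cj (x * y) z = cj x (cj y z) := by unfold cj; group
theorem cj_one (x : G) : cj x 1 = 1 := by unfold cj; group
theorem cj_inv_cj (x y : G) : cj x⁻¹ (cj x y) = y := by unfold cj; group
theorem cj_cj_inv (x y : G) : cj x (cj x⁻¹ y) = y := by unfold cj; group
theorem cj_inj {x y z : G} (h : cj x y = cj x z) : y = z := by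
  rw [← cj_inv_cj x y, h, cj_inv_cj]
theorem cj_eq_iff {x y : G} : cj x y = y ↔ x * y = y * x := by
  unfold cj; rw [mul_inv_eq_iff_eq_mul]

theorem cj_comm_iff {x y z : G} : cj x y * cj x z = cj x z * cj x y ↔ y * z = z * y := by
  rw [← cj_mul, ← cj_mul]
  exact ⟨fun h => cj_inj h, fun h => by rw [h]⟩

/-- `v ∈ {1, d, e, d e}` -/
def InV (d e v : G) : Prop := v = 1 ∨ v = d ∨ v = e ∨ v = d * e

/-- A block of type `A₄`. -/
structure Blk (B : Subgroup G) (d e r : G) : Prop where
  dB : d ∈ B
  eB : e ∈ B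
  dc : ∀ b ∈ B, d * b = b * d
  dd : d * d = 1
  ee : e * e = 1
  dne : d ≠ 1
  rd : cj r d = e
  re : cj r e = d * e
  r3 : r * r * r = 1
  inner : ∀ b ∈ B, b * e = e * b → ∃ v, InV d e v ∧ cj b r = r * v
  outer : ∀ b ∈ B, b * e ≠ e * b → ∃ v, InV d e v ∧ cj b r = r⁻¹ * v

variable {B : Subgroup G} {d e r : G}

theorem InV.mem (h : Blk B d e r) {v : G} (hv : InV d e v) : v ∈ B := by
  rcases hv with rfl | rfl | rfl | rfl
  · exact B.one_mem
  · exact h.dB
  · exact h.eB
  · exact B.mul_mem h.dB h.eB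

theorem InV.sq (h : Blk B d e r) {v : G} (hv : InV d e v) : v * v = 1 := by
  rcases hv with rfl | rfl | rfl | rfl
  · rw [one_mul]
  · exact h.dd
  · exact h.ee
  · calc d * e * (d * e) = d * (e * d) * e := by group
      _ = (d * d) * (e * e) := by rw [← h.dc e h.eB]; group
      _ = 1 := by rw [h.dd, h.ee, one_mul]

theorem InV.comm (h : Blk B d e r) {v b : G} (hv : InV d e v) (hb : b ∈ B) (hbe : b * e = e * b) :
    b * v = v * b := by
  rcases hv with rfl | rfl | rfl | rfl
  · rw [one_mul, mul_one]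
  · exact (h.dc b hb).symm
  · exact hbe
  · rw [← mul_assoc, ← h.dc b hb, mul_assoc, hbe, mul_assoc]

namespace Blk

theorem de (h : Blk B d e r) : d * e = e * d := h.dc e h.eB

theorem ene (h : Blk B d e r) : e ≠ 1 := by
  intro h1
  have := h.rd
  rw [h1, ← cj_one r] at this
  exact h.dne (cj_inj this)

theorem ri_e (h : Blk B d e r) : cj r⁻¹ e = d := by rw [← h.rd, cj_inv_cj]

theorem ri_d (h : Blk B d e r) : cj r⁻¹ d = d * e := by
  have h1 : cj r⁻¹ (d * e) = e := by rw [← h.re, cj_inv_cj]
  rw [cj_mul, h.ri_e] at h1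
  have h2 : cj r⁻¹ d = e * d⁻¹ := by rw [← h1]; group
  rw [h2, inv_eq_of_mul_eq_one_right h.dd, h.de]

/-- `d` acts on `r` as `r ↦ r e`. -/
theorem cj_d_r (h : Blk B d e r) : cj d r = r * e := by
  have h1 := h.ri_d
  have h2 : cj d r = r * (cj r⁻¹ d * d⁻¹) := by unfold cj; group
  rw [h2, h1, h.de, mul_assoc, mul_inv_cancel, mul_one]

theorem not_comm_d (h : Blk B d e r) : d * r ≠ r * d := by
  intro h1
  have h2 := cj_eq_iff.mpr h1
  rw [h.cj_d_r] at h2
  exact h.ene (by simpa using h2)

theorem r_de (h : Blk B d e r) : cj r (d * e) = d := by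
  rw [cj_mul, h.rd, h.re, ← mul_assoc, ← h.de, mul_assoc, h.ee, mul_one]

theorem ri_de (h : Blk B d e r) : cj r⁻¹ (d * e) = e := by
  rw [← h.re, cj_inv_cj]

theorem cj_inv_r (h : Blk B d e r) {v : G} (hv : InV d e v) : InV d e (cj r v) := by
  rcases hv with rfl | rfl | rfl | rfl
  · left; exact cj_one r
  · right; right; left; exact h.rd
  · right; right; right; exact h.re
  · right; left; exact h.r_de

theorem cj_inv_ri (h : Blk B d e r) {v : G} (hv : InV d e v) : InV d e (cj r⁻¹ v) := by
  rcases hv with rfl | rfl | rfl | rfl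
  · left; exact cj_one _
  · right; right; right; exact h.ri_d
  · right; left; exact h.ri_e
  · right; right; left; exact h.ri_de

/-- Dichotomy: an element of `B` commuting with `e` and with an outer element `k` acts on `r`
trivially or like `d`. -/
theorem dich (h : Blk B d e r) {k b : G} (hk : k ∈ B) (hke : k * e = d * (e * k)) (hb : b ∈ B)
    (hbe : b * e = e * b) (hbk : b * k = k * b) : b * r = r * b ∨ cj b r = r * e := by
  obtain ⟨v, hv, h1⟩ := h.inner b hb hbe
  have hke' : k * e ≠ e * k := by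
    intro h2
    rw [h2] at hke
    exact h.dne (by simpa using hke.symm)
  have hedne : e ≠ d := by
    intro h2
    apply hke'
    rw [h2]
    exact (h.dc k hk).symm
  obtain ⟨w, hw, h2⟩ := h.outer k hk hke'
  have hkd : cj k d = d := cj_eq_iff.mpr (h.dc k hk).symm
  have hkee : cj k e = d * e := by
    unfold cj
    rw [hke]; group
  have hkde : cj k (d * e) = e := by
    rw [cj_mul, hkd, hkee, ← mul_assoc, h.dd, one_mul]
  have hkv : InV d e (cj k v) := by
    rcases hv with rfl | rfl | rfl | rfl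
    · left; exact cj_one _
    · right; left; exact hkd
    · right; right; right; exact hkee
    · right; right; left; exact hkde
  have hwe : w * e = e * w := by
    rcases hw with rfl | rfl | rfl | rfl
    · rw [one_mul, mul_one]
    · exact h.de
    · rfl
    · rw [mul_assoc, ← mul_assoc e, ← h.de, mul_assoc]
  have h3 : cj b (cj k r) = cj k (cj b r) := by rw [← mul_cj, ← mul_cj, hbk]
  have hbw : cj b w = w := cj_eq_iff.mpr (hw.comm h hb hbe)
  rw [h2, h1, cj_mul, cj_inv, hbw, h1, cj_mul, h2] at h3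
  -- `(r v)⁻¹ w = r⁻¹ w (cj k v)`
  have h4 : w * cj k v = cj k v * w := hkv.comm h (hw.mem h) hwe
  have h5 : v⁻¹ = cj r⁻¹ (cj k v) := by
    rw [mul_assoc r⁻¹ w, h4, ← mul_assoc] at h3
    have h6 := mul_right_cancel h3
    unfold cj at h6 ⊢
    calc v⁻¹ = (r * v)⁻¹ * r := by group
      _ = _ := by rw [h6]; group
  have hvv : v⁻¹ = v := inv_eq_of_mul_eq_one_right (hv.sq h)
  rw [hvv] at h5
  have key : cj r v = cj k v := by rw [h5, cj_cj_inv]; rw [← h5]
  rcases hv with rfl | rfl | rfl | rfl
  · left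
    rw [mul_one] at h1
    exact cj_eq_iff.mp h1
  · rw [h.rd, hkd] at key
    exact absurd key hedne
  · right; exact h1
  · rw [h.r_de, hkde] at key
    exact absurd key.symm hedne

theorem iff_mul (h : Blk B d e r) {k b b' : G} (hk : k ∈ B) (hke : k * e = d * (e * k))
    (hb : b ∈ B) (hbe : b * e = e * b) (hbk : b * k = k * b)
    (hb' : b' ∈ B) (hbe' : b' * e = e * b') (hbk' : b' * k = k * b') :
    (b * b' * r = r * (b * b')) ↔ (b * r = r * b ↔ b' * r = r * b') := by
  have hee : e * e = 1 := h.ee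
  by_cases h1 : b * r = r * b
  · have h3 : (b * b' * r = r * (b * b')) ↔ b' * r = r * b' := by
      rw [mul_assoc, ← mul_assoc r b b', ← h1, mul_assoc b r b']
      exact mul_right_inj b
    rw [h3]
    tauto
  · have h1' := (h.dich hk hke hb hbe hbk).resolve_left h1
    by_cases h2 : b' * r = r * b'
    · have h3 : ¬ (b * b' * r = r * (b * b')) := by
        intro h4
        apply h1
        have h5 : b * r * b' = r * b * b' := by
          rw [mul_assoc, ← h2, ← mul_assoc, h4, mul_assoc]
        exact mul_right_cancel h5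
      tauto
    · have h2' := (h.dich hk hke hb' hbe' hbk').resolve_left h2
      have h3 : b * b' * r = r * (b * b') := by
        apply cj_eq_iff.mp
        rw [mul_cj, h2', cj_mul, h1', cj_eq_iff.mpr hbe, mul_assoc, hee, mul_one]
      tauto

/-- Elements of `B` commuting with `e` are centralised by `r` modulo `V`. -/
theorem cj_r (h : Blk B d e r) {b : G} (hb : b ∈ B) (hbe : b * e = e * b) :
    ∃ w, InV d e w ∧ cj r b = w * b := by
  obtain ⟨v, hv, h1⟩ := h.inner b hb hbe
  refine ⟨cj r v⁻¹, ?_, ?_⟩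
  · rw [inv_eq_of_mul_eq_one_right (hv.sq h)]
    exact h.cj_inv_r hv
  · have h2 : b * r = r * v * b := by rw [← h1]; unfold cj; group
    unfold cj
    calc r * b * r⁻¹ = r * v⁻¹ * r⁻¹ * (r * v * b) * r⁻¹ := by group
      _ = r * v⁻¹ * r⁻¹ * b := by rw [← h2]; group

theorem cj_ri (h : Blk B d e r) {b : G} (hb : b ∈ B) (hbe : b * e = e * b) :
    ∃ w, InV d e w ∧ cj r⁻¹ b = w * b := by
  obtain ⟨v, hv, h1⟩ := h.inner b hb hbe
  refine ⟨v, hv, ?_⟩
  have h2 : b * r = r * v * b := by rw [← h1]; unfold cj; group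
  unfold cj
  calc r⁻¹ * b * r⁻¹⁻¹ = r⁻¹ * (b * r) := by group
    _ = v * b := by rw [h2]; group

end Blk

end Cfsg.Agent.Omega.SQ1.TwistBase
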