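import Cfsg.Agent.Omega.SQ1.Transv
import Cfsg.Agent.Omega.SQ1.TwistBase

/-!
# The twisted Killing Lemma for `q = 2` (project OMEGA, SQ1, L7; #11855 (a)-(f)): algebra in `B`

`Tw B Q₁ Q₂ D e f d r r'` : `B = Q₁ Q₂`, `Q₁ = ⟨e k⟩ D`, `Q₂ = ⟨f k⟩ D` elementary abelian, `D = Z(B)`,
`[e k, f l] = (d k)^{δ_kl}`; the blocks `⟨d k, e k, r k⟩`, `⟨d k, f k, r' k⟩` are isomorphic to `A₄` and
normalised by `B`.
-/

set_option autoImplicit false

namespace Cfsg.Agent.Omega.SQ1.TwistAlg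

open Subgroup Cfsg.Agent.Omega.SQ1.TwistBase

universe u v

variable {G : Type u} [Group G] {ι : Type v}

/-- The group `B = Q₁ Q₂` with its blocks. -/
structure Tw (B Q₁ Q₂ D : Subgroup G) (e f d r r' : ι → G) : Prop where
  Q1B : Q₁ ≤ B
  Q2B : Q₂ ≤ B
  DQ1 : D ≤ Q₁
  DQ2 : D ≤ Q₂
  eQ : ∀ k, e k ∈ Q₁
  fQ : ∀ k, f k ∈ Q₂
  dD : ∀ k, d k ∈ D
  gen : ∀ P : Subgroup G, Q₁ ≤ P → Q₂ ≤ P → B ≤ P
  gen1 : ∀ P : Subgroup G, (∀ k, e k ∈ P) → D ≤ P → Q₁ ≤ P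
  gen2 : ∀ P : Subgroup G, (∀ k, f k ∈ P) → D ≤ P → Q₂ ≤ P
  Dc : ∀ z ∈ D, ∀ b ∈ B, z * b = b * z
  cent : ∀ b ∈ B, (∀ k, b * e k = e k * b) → (∀ k, b * f k = f k * b) → b ∈ D
  sq1 : ∀ a ∈ Q₁, a * a = 1
  sq2 : ∀ a ∈ Q₂, a * a = 1
  dinj : Function.Injective d
  fe : ∀ k, f k * e k = d k * (e k * f k)
  fec : ∀ k l, k ≠ l → f l * e k = e k * f l
  blk : ∀ k, Blk B (d k) (e k) (r k)
  blk' : ∀ k, Blk B (d k) (f k) (r' k)

variable {B Q₁ Q₂ D : Subgroup G} {e f d r r' : ι → G}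

/-- centraliser of `e i`, `f i` in `B` -/
def InC (B : Subgroup G) (a a' b : G) : Prop := b ∈ B ∧ b * a = a * b ∧ b * a' = a' * b

/-- the elements which act on the blocks in the same way -/
def Lm (r r' b : G) : Prop := (b * r = r * b ↔ b * r' = r' * b)

theorem inC_mul {a a' b b' : G} (hb : InC B a a' b) (hb' : InC B a a' b') :
    InC B a a' (b * b') :=
  ⟨B.mul_mem hb.1 hb'.1, by rw [mul_assoc, hb'.2.1, ← mul_assoc, hb.2.1, mul_assoc],
    by rw [mul_assoc, hb'.2.2, ← mul_assoc, hb.2.2, mul_assoc]⟩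

namespace Tw

theorem eB (h : Tw B Q₁ Q₂ D e f d r r') (k : ι) : e k ∈ B := h.Q1B (h.eQ k)
theorem fB (h : Tw B Q₁ Q₂ D e f d r r') (k : ι) : f k ∈ B := h.Q2B (h.fQ k)
theorem DB (h : Tw B Q₁ Q₂ D e f d r r') : D ≤ B := h.DQ1.trans h.Q1B
theorem dB (h : Tw B Q₁ Q₂ D e f d r r') (k : ι) : d k ∈ B := h.DB (h.dD k)
theorem dd (h : Tw B Q₁ Q₂ D e f d r r') (k : ι) : d k * d k = 1 := h.sq1 _ (h.DQ1 (h.dD k))
theorem ee (h : Tw B Q₁ Q₂ D e f d r r') (k : ι) : e k * e k = 1 := h.sq1 _ (h.eQ k)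
theorem ff (h : Tw B Q₁ Q₂ D e f d r r') (k : ι) : f k * f k = 1 := h.sq2 _ (h.fQ k)
theorem dc (h : Tw B Q₁ Q₂ D e f d r r') (k : ι) {b : G} (hb : b ∈ B) : d k * b = b * d k :=
  h.Dc _ (h.dD k) b hb
theorem dne (h : Tw B Q₁ Q₂ D e f d r r') (k : ι) : d k ≠ 1 := (h.blk k).dne
theorem di (h : Tw B Q₁ Q₂ D e f d r r') (k : ι) : (d k)⁻¹ = d k :=
  inv_eq_of_mul_eq_one_right (h.dd k)

theorem comm1 (h : Tw B Q₁ Q₂ D e f d r r') {a b : G} (ha : a ∈ Q₁) (hb : b ∈ Q₁) :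
    a * b = b * a := by
  have h1 : (a * b)⁻¹ = a * b := inv_eq_of_mul_eq_one_right (h.sq1 _ (Q₁.mul_mem ha hb))
  rw [← h1, mul_inv_rev, inv_eq_of_mul_eq_one_right (h.sq1 a ha),
    inv_eq_of_mul_eq_one_right (h.sq1 b hb)]

theorem comm2 (h : Tw B Q₁ Q₂ D e f d r r') {a b : G} (ha : a ∈ Q₂) (hb : b ∈ Q₂) :
    a * b = b * a := by
  have h1 : (a * b)⁻¹ = a * b := inv_eq_of_mul_eq_one_right (h.sq2 _ (Q₂.mul_mem ha hb))
  rw [← h1, mul_inv_rev, inv_eq_of_mul_eq_one_right (h.sq2 a ha),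
    inv_eq_of_mul_eq_one_right (h.sq2 b hb)]

theorem ef (h : Tw B Q₁ Q₂ D e f d r r') (k : ι) : e k * f k = d k * (f k * e k) := by
  rw [h.fe, ← mul_assoc, h.dd, one_mul]

/-- The two sides can be exchanged. -/
theorem symm (h : Tw B Q₁ Q₂ D e f d r r') : Tw B Q₂ Q₁ D f e d r' r where
  Q1B := h.Q2B
  Q2B := h.Q1B
  DQ1 := h.DQ2
  DQ2 := h.DQ1
  eQ := h.fQ
  fQ := h.eQ
  dD := h.dD
  gen := fun P h1 h2 => h.gen P h2 h1
  gen1 := h.gen2
  gen2 := h.gen1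
  Dc := h.Dc
  cent := fun b hb h1 h2 => h.cent b hb h2 h1
  sq1 := h.sq2
  sq2 := h.sq1
  dinj := h.dinj
  fe := h.ef
  fec := fun k l hkl => (h.fec l k hkl.symm).symm
  blk := h.blk'
  blk' := h.blk

/-- induction over `B` -/
theorem gen3 (h : Tw B Q₁ Q₂ D e f d r r') (P : Subgroup G) (h1 : ∀ k, e k ∈ P)
    (h2 : ∀ k, f k ∈ P) (h3 : D ≤ P) : B ≤ P := h.gen P (h.gen1 P h1 h3) (h.gen2 P h2 h3)

/-- `B / D` is abelian -/
theorem ab (h : Tw B Q₁ Q₂ D e f d r r') {a b : G} (ha : a ∈ B) (hb : b ∈ B) :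
    cj b a * a⁻¹ ∈ D := by
  -- first for `b` arbitrary and `a` a generator
  have hee : ∀ k l, cj (e l) (e k) = e k := fun k l => cj_eq_iff.mpr (h.comm1 (h.eQ l) (h.eQ k))
  have hff : ∀ k l, cj (f l) (f k) = f k := fun k l => cj_eq_iff.mpr (h.comm2 (h.fQ l) (h.fQ k))
  have gena : ∀ a ∈ B, (∀ l, cj (e l) a * a⁻¹ ∈ D) → (∀ l, cj (f l) a * a⁻¹ ∈ D) →
      ∀ b ∈ B, cj b a * a⁻¹ ∈ D := by
    intro a ha h1 h2
    let P : Subgroup G :=
      { carrier := {b | b ∈ B ∧ cj b a * a⁻¹ ∈ D}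
        mul_mem' := by
          rintro x y ⟨hx, hx'⟩ ⟨hy, hy'⟩
          refine ⟨B.mul_mem hx hy, ?_⟩
          have e1 : cj (x * y) a * a⁻¹ = (cj y a * a⁻¹) * (cj x a * a⁻¹) := by
            have h3 : cj x (cj y a * a⁻¹) = cj y a * a⁻¹ := cj_eq_iff.mpr (h.Dc _ hy' x hx).symm
            have h4 : cj y a = (cj y a * a⁻¹) * a := by group
            rw [mul_cj]
            nth_rw 1 [h4]
            rw [cj_mul, h3, mul_assoc]
          rw [e1]
          exact D.mul_mem hy' hx'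
        one_mem' := ⟨B.one_mem, by
          have : cj (1 : G) a * a⁻¹ = 1 := by unfold cj; group
          rw [this]; exact D.one_mem⟩
        inv_mem' := by
          rintro x ⟨hx, hx'⟩
          refine ⟨B.inv_mem hx, ?_⟩
          have h3 : cj x⁻¹ (cj x a * a⁻¹) = cj x a * a⁻¹ :=
            cj_eq_iff.mpr (h.Dc _ hx' x⁻¹ (B.inv_mem hx)).symm
          rw [cj_mul, cj_inv_cj, cj_inv] at h3
          have h4 : cj x⁻¹ a * a⁻¹ = (cj x a * a⁻¹)⁻¹ := by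
            rw [← h3, mul_inv_rev, inv_inv]
          rw [h4]
          exact D.inv_mem hx' }
    have hle : B ≤ P := by
      refine h.gen3 P (fun k => ⟨h.eB k, h1 k⟩) (fun k => ⟨h.fB k, h2 k⟩) fun z hz => ⟨h.DB hz, ?_⟩
      have : cj z a * a⁻¹ = 1 := by
        rw [cj_eq_iff.mpr (h.Dc z hz a ha), mul_inv_cancel]
      rw [this]
      exact D.one_mem
    exact fun b hb => (hle hb).2
  have he : ∀ k, ∀ b ∈ B, cj b (e k) * (e k)⁻¹ ∈ D := by
    intro k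
    refine gena _ (h.eB k) (fun l => ?_) fun l => ?_
    · rw [hee, mul_inv_cancel]; exact D.one_mem
    · by_cases hkl : k = l
      · subst hkl
        have : cj (f k) (e k) * (e k)⁻¹ = d k := by
          unfold cj; rw [h.fe]; group
        rw [this]; exact h.dD k
      · rw [cj_eq_iff.mpr (h.fec k l hkl), mul_inv_cancel]; exact D.one_mem
  have hf : ∀ k, ∀ b ∈ B, cj b (f k) * (f k)⁻¹ ∈ D := by
    intro k
    refine gena _ (h.fB k) (fun l => ?_) fun l => ?_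
    · by_cases hkl : k = l
      · subst hkl
        have : cj (e k) (f k) * (f k)⁻¹ = d k := by
          unfold cj; rw [h.ef]; group
        rw [this]; exact h.dD k
      · rw [cj_eq_iff.mpr (h.fec l k (Ne.symm hkl)).symm, mul_inv_cancel]; exact D.one_mem
    · rw [hff, mul_inv_cancel]; exact D.one_mem
  let P : Subgroup G :=
    { carrier := {a | a ∈ B ∧ ∀ b ∈ B, cj b a * a⁻¹ ∈ D}
      mul_mem' := by
        rintro x y ⟨hx, hx'⟩ ⟨hy, hy'⟩
        refine ⟨B.mul_mem hx hy, fun b hb => ?_⟩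
        have e1 : cj b (x * y) * (x * y)⁻¹ = cj b x * (cj b y * y⁻¹) * x⁻¹ := by
          rw [cj_mul]; group
        have e2 : cj b x * (cj b y * y⁻¹) * x⁻¹ = (cj b y * y⁻¹) * (cj b x * x⁻¹) := by
          rw [← h.Dc _ (hy' b hb) (cj b x) (B.mul_mem (B.mul_mem hb hx) (B.inv_mem hb)), mul_assoc]
        rw [e1, e2]
        exact D.mul_mem (hy' b hb) (hx' b hb)
      one_mem' := ⟨B.one_mem, fun b _ => by rw [cj_one]; simp⟩
      inv_mem' := by
        rintro x ⟨hx, hx'⟩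
        refine ⟨B.inv_mem hx, fun b hb => ?_⟩
        have e1 : cj b x⁻¹ * x⁻¹⁻¹ = x⁻¹ * (x * (cj b x)⁻¹) * x := by
          rw [cj_inv]; group
        have e2 : x * (cj b x)⁻¹ = (cj b x * x⁻¹)⁻¹ := by group
        rw [e1, e2]
        have h3 := h.Dc _ (D.inv_mem (hx' b hb)) x hx
        rw [mul_assoc, h3]
        have : x⁻¹ * (x * (cj b x * x⁻¹)⁻¹) = (cj b x * x⁻¹)⁻¹ := by group
        rw [this]
        exact D.inv_mem (hx' b hb) }
  have hle : B ≤ P := by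
    refine h.gen3 P (fun k => ⟨h.eB k, he k⟩) (fun k => ⟨h.fB k, hf k⟩) fun z hz => ⟨h.DB hz, ?_⟩
    intro b hb
    rw [cj_eq_iff.mpr (h.Dc z hz b hb).symm, mul_inv_cancel]
    exact D.one_mem
  exact (hle ha).2 b hb

/-- `B` acts on `e k` by `d k`. -/
theorem diche (h : Tw B Q₁ Q₂ D e f d r r') (k : ι) {b : G} (hb : b ∈ B) :
    cj b (e k) = e k ∨ cj b (e k) = d k * e k := by
  let P : Subgroup G :=
    { carrier := {b | b ∈ B ∧ (cj b (e k) = e k ∨ cj b (e k) = d k * e k)}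
      mul_mem' := by
        rintro x y ⟨hx, hx'⟩ ⟨hy, hy'⟩
        refine ⟨B.mul_mem hx hy, ?_⟩
        have h3 : cj x (d k) = d k := cj_eq_iff.mpr (h.dc k hx).symm
        rcases hx' with h1 | h1 <;> rcases hy' with h2 | h2
        · left; rw [mul_cj, h2, h1]
        · right; rw [mul_cj, h2, cj_mul, h3, h1]
        · right; rw [mul_cj, h2, h1]
        · left; rw [mul_cj, h2, cj_mul, h3, h1, ← mul_assoc, h.dd, one_mul]
      one_mem' := ⟨B.one_mem, Or.inl (by unfold cj; group)⟩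
      inv_mem' := by
        rintro x ⟨hx, hx'⟩
        refine ⟨B.inv_mem hx, ?_⟩
        have h3 : cj x⁻¹ (d k) = d k := cj_eq_iff.mpr (h.dc k (B.inv_mem hx)).symm
        rcases hx' with h1 | h1
        · left; nth_rw 1 [← h1]; rw [cj_inv_cj]
        · right
          have h2 : e k = d k * cj x⁻¹ (e k) := by
            nth_rw 1 [← cj_inv_cj x (e k)]
            rw [h1, cj_mul, h3]
          nth_rw 2 [h2]
          rw [← mul_assoc, h.dd, one_mul] }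
  have hle : B ≤ P := by
    refine h.gen3 P (fun l => ⟨h.eB l, Or.inl (cj_eq_iff.mpr (h.comm1 (h.eQ l) (h.eQ k)))⟩)
      (fun l => ⟨h.fB l, ?_⟩) fun z hz => ⟨h.DB hz, Or.inl (cj_eq_iff.mpr (h.Dc z hz _ (h.eB k)))⟩
    by_cases hkl : k = l
    · subst hkl; right; unfold cj; rw [h.fe]; group
    · left; exact cj_eq_iff.mpr (h.fec k l hkl)
  exact (hle hb).2

theorem dichf (h : Tw B Q₁ Q₂ D e f d r r') (k : ι) {b : G} (hb : b ∈ B) :
    cj b (f k) = f k ∨ cj b (f k) = d k * f k := h.symm.diche k hb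

theorem mulR (h : Tw B Q₁ Q₂ D e f d r r') {i : ι} {b b' : G} (hb : InC B (e i) (f i) b)
    (hb' : InC B (e i) (f i) b') :
    (b * b' * r i = r i * (b * b')) ↔ (b * r i = r i * b ↔ b' * r i = r i * b') :=
  (h.blk i).iff_mul (h.fB i) (h.fe i) hb.1 hb.2.1 hb.2.2 hb'.1 hb'.2.1 hb'.2.2

theorem mulR' (h : Tw B Q₁ Q₂ D e f d r r') {i : ι} {b b' : G} (hb : InC B (e i) (f i) b)
    (hb' : InC B (e i) (f i) b') :
    (b * b' * r' i = r' i * (b * b')) ↔ (b * r' i = r' i * b ↔ b' * r' i = r' i * b') :=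
  (h.blk' i).iff_mul (h.eB i) (h.ef i) hb.1 hb.2.2 hb.2.1 hb'.1 hb'.2.2 hb'.2.1

theorem mulLm (h : Tw B Q₁ Q₂ D e f d r r') {i : ι} {b b' : G} (hb : InC B (e i) (f i) b)
    (hb' : InC B (e i) (f i) b') : Lm (r i) (r' i) (b * b') ↔
      (Lm (r i) (r' i) b ↔ Lm (r i) (r' i) b') := by
  unfold Lm
  rw [h.mulR hb hb', h.mulR' hb hb']
  tauto

theorem inC_of_D (h : Tw B Q₁ Q₂ D e f d r r') {z : G} (hz : z ∈ D) (i : ι) :
    InC B (e i) (f i) z := ⟨h.DB hz, h.Dc z hz _ (h.eB i), h.Dc z hz _ (h.fB i)⟩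

theorem inC_e (h : Tw B Q₁ Q₂ D e f d r r') {i k : ι} (hik : k ≠ i) :
    InC B (e i) (f i) (e k) := ⟨h.eB k, h.comm1 (h.eQ k) (h.eQ i), (h.fec k i hik).symm⟩

theorem inC_f (h : Tw B Q₁ Q₂ D e f d r r') {i k : ι} (hik : k ≠ i) :
    InC B (e i) (f i) (f k) := ⟨h.fB k, h.fec i k hik.symm, h.comm2 (h.fQ k) (h.fQ i)⟩

/-- an element with trivial `λ_i` is in `B^` up to `d i` -/
theorem exists_bh (h : Tw B Q₁ Q₂ D e f d r r') {i : ι} {b : G} (hb : InC B (e i) (f i) b)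
    (hL : Lm (r i) (r' i) b) :
    ∃ z ∈ D, b * z * r i = r i * (b * z) ∧ b * z * r' i = r' i * (b * z) := by
  by_cases h1 : b * r i = r i * b
  · refine ⟨1, D.one_mem, ?_⟩
    rw [mul_one]
    exact ⟨h1, hL.mp h1⟩
  · have h2 : ¬ b * r' i = r' i * b := fun h3 => h1 (hL.mpr h3)
    have hd := h.inC_of_D (h.dD i) i
    refine ⟨d i, h.dD i, ?_, ?_⟩
    · rw [h.mulR hb hd]
      have := (h.blk i).not_comm_d
      tauto
    · rw [h.mulR' hb hd]
      have := (h.blk' i).not_comm_d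
      tauto

/-- an element of `B` which commutes with `r i`, `r' i` is in `InC`. -/
theorem inC_of_comm (h : Tw B Q₁ Q₂ D e f d r r') {i : ι} {b : G} (hb : b ∈ B)
    (h1 : b * r i = r i * b) (h2 : b * r' i = r' i * b) : InC B (e i) (f i) b := by
  have key : ∀ s c : G, b * s = s * b → cj s (d i) = c → b * c = c * b := by
    intro s c h3 h4
    have h5 := h.dc i hb
    rw [← h4]
    unfold cj
    have h6 : b * s⁻¹ = s⁻¹ * b := by
      rw [eq_inv_mul_iff_mul_eq, ← mul_assoc, ← h3, mul_assoc, mul_inv_cancel, mul_one]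
    calc b * (s * d i * s⁻¹) = (b * s) * d i * s⁻¹ := by group
      _ = s * (b * d i) * s⁻¹ := by rw [h3]; group
      _ = s * d i * (b * s⁻¹) := by rw [← h5]; group
      _ = s * d i * s⁻¹ * b := by rw [h6]; group
  exact ⟨hb, key _ _ h1 (h.blk i).rd, key _ _ h2 (h.blk' i).rd⟩

/-- the elements of `B^` are determined modulo `D`; `g ∈ Z(B^)` commutes with the elements with `Lm` -/
theorem comm_of_Lm (h : Tw B Q₁ Q₂ D e f d r r') {i : ι} {g : G} (hg : g ∈ B)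
    (hc : ∀ c ∈ B, c * r i = r i * c → c * r' i = r' i * c → g * c = c * g) {b : G}
    (hb : InC B (e i) (f i) b) (hL : Lm (r i) (r' i) b) : g * b = b * g := by
  obtain ⟨z, hz, h1, h2⟩ := h.exists_bh hb hL
  have h3 := hc (b * z) (B.mul_mem hb.1 (h.DB hz)) h1 h2
  have h4 : g * b * z = b * g * z := by
    rw [mul_assoc, h3, mul_assoc, h.Dc z hz g hg, mul_assoc]
  exact mul_right_cancel h4

end Tw

end Cfsg.Agent.Omega.SQ1.TwistAlg
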