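import Cfsg.Agent.Omega.SQ1.LocTwo
import Cfsg.Agent.Omega.SQ1.TwistBase

/-!
# SQ1, `q = 2`: the blocks of `MIn` contain subgroups `A₄` normalised by `B` (L7)

If `|V i : Z| = 2` (field `h2`), then there are `d ∈ D i`, `e ∈ V i`, `r ∈ O²(L i)` of order 3 with
`Blk B d e r`, and `C_B(r) = C_B(O²(L i))`.
-/

set_option autoImplicit false

namespace Cfsg.Agent.Omega.SQ1.TwistBlk

open Cfsg.Agent.MinSimple.PushUp Cfsg.Agent.Omega.PushUp Cfsg.Agent.Omega.SQ1.Match
open Cfsg.Agent.Omega.SQ1.BlockO Cfsg.Agent.Omega.SQ1.Block Subgroup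
open Cfsg.Agent.Omega.SQ1.TwistBase (Blk InV)

variable {G : Type*} [Group G] {ι : Type*}

/-- the elements of `V` outside `Z` form one coset -/
def Small (Z V : Subgroup G) : Prop := ∀ v ∈ V, ∀ w ∈ V, v ∉ Z → w ∉ Z → v * w ∈ Z

section dat

variable {A T L B Q V Z D : Subgroup G}

theorem index_two (h : Dat A T L B Q V Z D) [Finite G] (h2 : Small Z V) : Q.relIndex B = 2 := by
  rw [← idx_eq h, Subgroup.relIndex, Subgroup.index_eq_two_iff]
  obtain ⟨l, hl, d, hd, hdZ⟩ := h.moves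
  have he : cj l d ∈ V := h.cjV hl (h.DV hd)
  refine ⟨⟨cj l d, he⟩, fun b => ?_⟩
  rw [mem_subgroupOf, mem_subgroupOf]
  change Xor ((b : G) * cj l d ∈ Z) ((b : G) ∈ Z)
  by_cases hb : (b : G) ∈ Z
  · right
    refine ⟨hb, fun h3 => hdZ ?_⟩
    have : cj l d = (b : G)⁻¹ * (b * cj l d) := by group
    rw [this]
    exact Z.mul_mem (Z.inv_mem hb) h3
  · left
    exact ⟨h2 _ b.2 _ he hb hdZ, hb⟩

theorem coset_Q (h : Dat A T L B Q V Z D) [Finite G] (h2 : Small Z V) {b b' : G} (hb : b ∈ B)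
    (hb' : b' ∈ B) (hbQ : b ∉ Q) (hbQ' : b' ∉ Q) : b⁻¹ * b' ∈ Q := by
  have h1 : (Q.subgroupOf B).index = 2 := index_two h h2
  have h3 := Subgroup.mul_mem_iff_of_index_two h1 (a := (⟨b, hb⟩ : B)⁻¹) (b := ⟨b', hb'⟩)
  rw [inv_mem_iff, mem_subgroupOf, mem_subgroupOf, mem_subgroupOf] at h3
  exact h3.2 (iff_of_false hbQ hbQ')

theorem exists_f (h : Dat A T L B Q V Z D) [Finite G] (h2 : Small Z V) : ∃ f ∈ B, f ∉ Q := by
  by_contra hno
  push Not at hno
  have h1 : Q.relIndex B = 1 := relIndex_eq_one.2 fun b hb => hno b hb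
  rw [index_two h h2] at h1
  omega

/-- the action of `B \ Q` on `V \ Z` -/
theorem exists_d (h : Dat A T L B Q V Z D) [Finite G] (h2 : Small Z V) :
    ∃ d ∈ D, d ≠ 1 ∧ (∀ x ∈ D, x = 1 ∨ x = d) ∧
      ∀ v ∈ V, v ∉ Z → ∀ b ∈ B, b ∉ Q → cj b v = d * v := by
  obtain ⟨l, hl, d₀, hd₀, hdZ⟩ := h.moves
  obtain ⟨f, hf, hfQ⟩ := exists_f h h2
  set e := cj l d₀ with he
  have heV : e ∈ V := h.cjV hl (h.DV hd₀)
  obtain ⟨d, hd, hde⟩ := h.commB heV hf
  have hdd : d * d = 1 := h.Vsq d (h.DV hd)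
  have hd1 : d ≠ 1 := by
    rintro rfl
    rw [one_mul, cj_eq_self] at hde
    exact h.ncomm e heV hdZ f hf hfQ hde.symm
  have key : ∀ v ∈ V, v ∉ Z → ∀ b ∈ B, b ∉ Q → cj b v = d * v := by
    intro v hv hvZ b hb hbQ
    have hz : e * v ∈ Z := h2 e heV v hv hdZ hvZ
    have hee : e * e = 1 := h.Vsq e heV
    have hve : v = e * (e * v) := by rw [← mul_assoc, hee, one_mul]
    have hq := coset_Q h h2 hf hb hfQ hbQ
    have h1 : cj b v = cj f (cj (f⁻¹ * b) v) := by rw [← cj_mul]; congr 1; group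
    have h3 : cj (f⁻¹ * b) v = v := cj_eq_self.2 (h.VcQ _ hq v hv)
    rw [h1, h3]
    conv_lhs => rw [hve, cj_prod, hde, cj_eq_self.2 (h.BcZ f hf _ hz)]
    rw [mul_assoc, ← hve]
  refine ⟨d, hd, hd1, ?_, key⟩
  let W : Subgroup G :=
    { carrier := {x | x = 1 ∨ x = d}
      one_mem' := Or.inl rfl
      mul_mem' := by
        rintro a b (rfl | rfl) (rfl | rfl)
        · left; simp
        · right; simp
        · right; simp
        · left; exact hdd
      inv_mem' := by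
        rintro a (rfl | rfl)
        · left; simp
        · right; exact inv_eq_of_mul_eq_one_left hdd }
  have hDW : D ≤ W := by
    refine h.Dgen.trans ((closure_le _).2 ?_)
    rintro _ ⟨v, hv, b, hb, rfl⟩
    have e1 : v * b * v⁻¹ * b⁻¹ = v * (cj b v)⁻¹ := by simp [cj, mul_assoc]
    rw [e1]
    by_cases hvZ : v ∈ Z
    · left
      rw [cj_eq_self.2 (h.BcZ b hb v hvZ), mul_inv_cancel]
    · by_cases hbQ : b ∈ Q
      · left
        rw [cj_eq_self.2 (h.VcQ b hbQ v hv), mul_inv_cancel]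
      · right
        rw [key v hv hvZ b hb hbQ, mul_inv_rev, ← mul_assoc, mul_inv_cancel, one_mul]
        exact inv_eq_of_mul_eq_one_left hdd
  exact fun x hx => hDW hx

/-- elements of `Z` modulo `C_Z(L)` -/
theorem Z_split (h : Dat A T L B Q V Z D) [Finite G] (h2 : Small Z V) {l d : G} (hl : l ∈ L)
    (hmv : Mv D Z l) (hd : d ∈ D) (hdl : cj l⁻¹ d ∉ Z) {z : G} (hz : z ∈ Z) :
    ∃ c ∈ Z, (∀ y ∈ L, y * c = c * y) ∧ (z = c ∨ z = d * c) := by
  by_cases h1 : cj l⁻¹ z ∈ Z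
  · exact ⟨z, hz, fun y hy => cent_inter h hl hmv hz h1 hy, Or.inl rfl⟩
  · have hdZ := h.DZ hd
    have hdd : d * d = 1 := h.Vsq d (h.DV hd)
    refine ⟨d * z, Z.mul_mem hdZ hz, ?_, Or.inr ?_⟩
    · have h3 : cj l⁻¹ (d * z) ∈ Z := by
        rw [cj_prod]
        exact h2 _ (h.cjV (L.inv_mem hl) (h.ZV hdZ)) _ (h.cjV (L.inv_mem hl) (h.ZV hz)) hdl h1
      exact fun y hy => cent_inter h hl hmv (Z.mul_mem hdZ hz) h3 hy
    · rw [← mul_assoc, hdd, one_mul]

end dat

theorem odd_pow_four (n : ℕ) (hn : 0 < n) : ∃ k m : ℕ, Odd (n / Nat.gcd n (4 ^ k)) ∧ 4 ^ k = 1 + 3 * m := by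
  obtain ⟨k, m, hm, he⟩ := Nat.exists_eq_two_pow_mul_odd (n := n) hn.ne'
  have h4 : ∀ k : ℕ, ∃ m, 4 ^ k = 1 + 3 * m := by
    intro k
    induction k with
    | zero => exact ⟨0, by norm_num⟩
    | succ k ih =>
      obtain ⟨m, hm⟩ := ih
      exact ⟨4 * m + 1, by rw [pow_succ, hm]; ring⟩
  obtain ⟨m', hm'⟩ := h4 k
  refine ⟨k, m', ?_, hm'⟩
  have h5 : Nat.gcd n (4 ^ k) = 2 ^ k := by
    have e : (4 : ℕ) ^ k = 2 ^ k * 2 ^ k := by rw [← mul_pow]; norm_num
    rw [he, e, Nat.gcd_mul_left]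
    have : Nat.gcd m (2 ^ k) = 1 := Nat.Coprime.pow_right _ (Nat.coprime_two_right.2 hm)
    rw [this, mul_one]
  rw [h5, he, Nat.mul_div_cancel_left _ (by positivity)]
  exact hm

variable {A T B Z P : Subgroup G} {s : G} {L Q V D : ι → Subgroup G}

/-- an element of `O²(L i)` which centralises `V i` lies in `P` -/
theorem mem_P (h : MIn A T B Z P s L Q V D) [Finite G] (hB2 : IsPGroup 2 B)
    (hself : centralizer (P : Set G) ≤ P) {i j : ι} (hp : Par s V i j) {u : G}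
    (hu : u ∈ O2 (L i)) (huV : ∀ v ∈ V i, u * v = v * u) : u ∈ P ∧ ∀ x ∈ Q i, u * x = x * u := by
  obtain ⟨l, hl, hmv⟩ := (h.dat i).moves
  have hQ : ∀ x ∈ Q i, u * x = x * u := by
    intro x hx
    obtain ⟨v, hv, c, hc, rfl⟩ := dec h hp hl hmv hx
    have h1 : Commute u v := huV v hv
    have h2 : Commute u c := O2_cent h hp hB2 hl hmv hu hc
    exact (h1.mul_right h2).eq
  refine ⟨hself ?_, hQ⟩
  rw [mem_centralizer_iff]
  intro x hx
  exact (hQ x (((h.Pmem x).1 hx).2 i)).symm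

theorem eq_one_of_odd {B : Subgroup G} (hB2 : IsPGroup 2 B) {u : G} (hu : u ∈ B)
    (hodd : Odd (orderOf u)) : u = 1 := by
  obtain ⟨k, hk⟩ := hB2 ⟨u, hu⟩
  have h4 : orderOf u ∣ 2 ^ k := by
    apply orderOf_dvd_of_pow_eq_one
    simpa using congrArg Subtype.val hk
  have h5 : Nat.Coprime (2 ^ k) (orderOf u) := Nat.Coprime.pow_left _ (Nat.coprime_two_left.2 hodd)
  exact orderOf_eq_one_iff.1 (Nat.eq_one_of_dvd_coprimes h5 h4 dvd_rfl)

/-- The block data of `MIn` for `q = 2`. -/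
structure BlkD (B Z V D L : Subgroup G) (d e r : G) : Prop where
  blk : Blk B d e r
  dD : d ∈ D
  Deq : ∀ x ∈ D, x = 1 ∨ x = d
  eV : e ∈ V
  eZ : e ∉ Z
  rO : r ∈ O2 L
  rB : ∀ b ∈ B, b * r = r * b → ∀ y ∈ O2 L, y * b = b * y

/-- **The block `A₄`** for `q = 2`. -/
theorem exists_blk (h : MIn A T B Z P s L Q V D) [Finite ι] [Finite G] (hB2 : IsPGroup 2 B)
    (hself : centralizer (P : Set G) ≤ P) {i j : ι} (hp : Par s V i j) (h2 : Small Z (V i)) :
    ∃ d e r, BlkD B Z (V i) (D i) (L i) d e r := by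
  have hd := h.dat i
  obtain ⟨f, hf, hfQ⟩ := exists_f hd h2
  obtain ⟨d, hdD, hd1, hDeq, hact⟩ := exists_d hd h2
  obtain ⟨l, hl, hmv⟩ := hd.moves
  have hlinv := (L i).inv_mem hl
  -- the element `e`
  have hdl : cj l d ∉ Z := by
    obtain ⟨x, hx, hxZ⟩ := hmv
    rcases hDeq x hx with rfl | rfl
    · exfalso; apply hxZ; simp [cj]
    · exact hxZ
  have hdl' : cj l⁻¹ d ∉ Z := by
    obtain ⟨x, hx, hxZ⟩ := hd.mvinv l hl hmv
    rcases hDeq x hx with rfl | rfl
    · exfalso; apply hxZ; simp [cj]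
    · exact hxZ
  set e := cj l d with he
  have hdZ : d ∈ Z := hd.DZ hdD
  have hdV : d ∈ V i := hd.ZV hdZ
  have hdB : d ∈ B := hd.VB hdV
  have heV : e ∈ V i := hd.cjV hl hdV
  have heB : e ∈ B := hd.VB heV
  have hdd : d * d = 1 := hd.Vsq d hdV
  have hee : e * e = 1 := hd.Vsq e heV
  have hde : d * e = e * d := (hd.BcZ e heB d hdZ).symm
  have hdB' : ∀ b ∈ B, d * b = b * d := fun b hb => (hd.BcZ b hb d hdZ).symm
  -- `V i = ⟨d, e⟩ C_Z(L i)`
  have hsplit : ∀ v ∈ V i, ∃ w c, InV d e w ∧ c ∈ Z ∧ (∀ y ∈ L i, y * c = c * y) ∧ v = w * c := by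
    intro v hv
    by_cases hvZ : v ∈ Z
    · obtain ⟨c, hc, hcL, h1 | h1⟩ := Z_split hd h2 hl hmv hdD hdl' hvZ
      · exact ⟨1, c, Or.inl rfl, hc, hcL, by rw [h1, one_mul]⟩
      · exact ⟨d, c, Or.inr (Or.inl rfl), hc, hcL, h1⟩
    · have hz : e * v ∈ Z := h2 e heV v hv hdl hvZ
      have hve : v = e * (e * v) := by rw [← mul_assoc, hee, one_mul]
      obtain ⟨c, hc, hcL, h1 | h1⟩ := Z_split hd h2 hl hmv hdD hdl' hz
      · exact ⟨e, c, Or.inr (Or.inr (Or.inl rfl)), hc, hcL, by rw [hve, h1]⟩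
      · exact ⟨d * e, c, Or.inr (Or.inr (Or.inr rfl)), hc, hcL, by
          rw [hve, h1, hde, mul_assoc]⟩
  -- the actions
  have fd : cj f d = d := cj_eq_self.2 (hd.BcZ f hf d hdZ)
  have fe : cj f e = d * e := hact e heV hdl f hf hfQ
  set g := cj l f with hg
  have ge : cj g e = e := by
    have e1 : cj g e = cj l (cj f (cj l⁻¹ e)) := by rw [hg, cj_cj]
    rw [e1, he, cj_inv_cj, fd]
  have gd : cj g d = e * d := by
    have e1 : cj g d = cj l (cj f (cj l⁻¹ d)) := by rw [hg, cj_cj]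
    rw [e1, hact _ (hd.cjV hlinv hdV) hdl' f hf hfQ, cj_prod, cj_cj_inv]
  set r₀ := f * g with hr₀
  have hfL : f ∈ L i := hd.BL hf
  have hgL : g ∈ L i := (L i).mul_mem ((L i).mul_mem hl hfL) hlinv
  have hr₀L : r₀ ∈ L i := (L i).mul_mem hfL hgL
  have rd₀ : cj r₀ d = e := by
    rw [hr₀, cj_mul, gd, cj_prod, fe, fd, mul_assoc, ← hde, ← mul_assoc, hdd, one_mul]
  have re₀ : cj r₀ e = d * e := by rw [hr₀, cj_mul, ge, fe]
  have rde₀ : cj r₀ (d * e) = d := by
    rw [cj_prod, rd₀, re₀, ← mul_assoc, ← hde, mul_assoc, hee, mul_one]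
  -- `r₀³` centralises `V i`
  have cL : ∀ {c y : G}, (∀ y ∈ L i, y * c = c * y) → y ∈ L i → cj y c = c := fun hc hy =>
    cj_eq_self.2 (hc _ hy)
  have tri : ∀ {y : G}, y ∈ L i → cj y d = d → cj y e = e → ∀ v ∈ V i, y * v = v * y := by
    intro y hy h1 h3 v hv
    obtain ⟨w, c, hw, -, hcL, rfl⟩ := hsplit v hv
    apply cj_eq_self.1
    rw [cj_prod, cL hcL hy]
    congr 1
    rcases hw with rfl | rfl | rfl | rfl
    · simp [cj]
    · exact h1
    · exact h3
    · rw [cj_prod, h1, h3]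
  have r3₀ : ∀ v ∈ V i, (r₀ * r₀ * r₀) * v = v * (r₀ * r₀ * r₀) := by
    apply tri ((L i).mul_mem ((L i).mul_mem hr₀L hr₀L) hr₀L)
    · rw [cj_mul, cj_mul, rd₀, re₀, rde₀]
    · rw [cj_mul, cj_mul, re₀, rde₀, rd₀]
  -- the element `r`
  obtain ⟨k, m, hodd, h4⟩ := odd_pow_four (orderOf r₀) (orderOf_pos r₀)
  set r := r₀ ^ 4 ^ k with hr
  have hrL : r ∈ L i := (L i).pow_mem hr₀L _
  have hrodd : Odd (orderOf r) := by
    rw [hr, orderOf_pow]
    exact hodd
  have hr0 : ∀ v ∈ V i, cj r v = cj r₀ v := by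
    intro v hv
    have e1 : r = r₀ * (r₀ * r₀ * r₀) ^ m := by
      have e2 : r₀ * r₀ * r₀ = r₀ ^ 3 := by rw [pow_succ, pow_two]
      rw [hr, h4, pow_add, pow_one, pow_mul, e2]
    have h5 : Commute ((r₀ * r₀ * r₀) ^ m) v := (show Commute _ v from r3₀ v hv).pow_left m
    rw [e1, cj_mul, cj_eq_self.2 h5.eq]
  have rd : cj r d = e := by rw [hr0 d hdV, rd₀]
  have re : cj r e = d * e := by rw [hr0 e heV, re₀]
  have rde : cj r (d * e) = d := by rw [hr0 _ ((V i).mul_mem hdV heV), rde₀]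
  have hrO : r ∈ O2 (L i) := mem_O2 hrL hrodd
  have r3 : r * r * r = 1 := by
    have h5 : r * r * r = r ^ 3 := by rw [pow_succ, pow_two]
    have h6 : ∀ v ∈ V i, (r * r * r) * v = v * (r * r * r) := by
      apply tri ((L i).mul_mem ((L i).mul_mem hrL hrL) hrL)
      · rw [cj_mul, cj_mul, rd, re, rde]
      · rw [cj_mul, cj_mul, re, rde, rd]
    have h7 := mem_P h hB2 hself hp (mul_mem (mul_mem hrO hrO) hrO) h6
    refine eq_one_of_odd hB2 ((h.Pmem _).1 h7.1).1 ?_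
    rw [h5, orderOf_pow]
    exact Odd.of_dvd_nat hrodd (Nat.div_dvd_of_dvd (Nat.gcd_dvd_left _ _))
  -- elements of `Q i` act on `r` like elements of `⟨d, e⟩`
  have vr : ∀ w, InV d e w → ∃ w', InV d e w' ∧ cj w r = r * w' := by
    have ri : ∀ {x y : G}, cj r x = y → r⁻¹ * y = x * r⁻¹ := by
      intro x y hxy
      rw [← hxy]; simp [cj, mul_assoc]
    have key : ∀ {x y : G}, cj r x = y → cj y r = r * (x * y⁻¹) := by
      intro x y hxy
      have : y = r * x * r⁻¹ := hxy.symm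
      have e1 : cj y r = y * r * y⁻¹ := rfl
      rw [e1]
      nth_rw 1 [this]
      group
    rintro w (rfl | rfl | rfl | rfl)
    · exact ⟨1, Or.inl rfl, by simp [cj]⟩
    · refine ⟨e, Or.inr (Or.inr (Or.inl rfl)), ?_⟩
      rw [key rde, inv_eq_of_mul_eq_one_left hdd, hde, mul_assoc, hdd, mul_one]
    · refine ⟨d * e, Or.inr (Or.inr (Or.inr rfl)), ?_⟩
      rw [key rd, inv_eq_of_mul_eq_one_left hee]
    · refine ⟨d, Or.inr (Or.inl rfl), ?_⟩
      have h5 : (d * e)⁻¹ = d * e := inv_eq_of_mul_eq_one_left (hd.Vsq _ ((V i).mul_mem hdV heV))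
      have h6 : e * (d * e) = d := by rw [hde, ← mul_assoc, hee, one_mul]
      rw [key re, h5, h6]
  have inQ : ∀ b ∈ B, b * e = e * b → b ∈ Q i := by
    intro b hb hbe
    by_contra hbQ
    exact hd.ncomm e heV hdl b hb hbQ hbe.symm
  have decQ : ∀ b ∈ Q i, ∃ w c, InV d e w ∧ (∀ y ∈ O2 (L i), y * c = c * y) ∧ b = w * c := by
    intro b hb
    obtain ⟨v, hv, c, hc, rfl⟩ := dec h hp hl hmv hb
    obtain ⟨w, c', hw, -, hc'L, rfl⟩ := hsplit v hv
    refine ⟨w, c' * c, hw, fun y hy => ?_, by rw [mul_assoc]⟩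
    have h5 : Commute y c' := hc'L y (O2_le _ hy)
    have h6 : Commute y c := O2_cent h hp hB2 hl hmv hy hc
    exact (h5.mul_right h6).eq
  have inner : ∀ b ∈ B, b * e = e * b → ∃ v, InV d e v ∧ cj b r = r * v := by
    intro b hb hbe
    obtain ⟨w, c, hw, hc, rfl⟩ := decQ b (inQ b hb hbe)
    have h5 : cj c r = r := cj_eq_self.2 (hc r hrO).symm
    rw [cj_mul, h5]
    exact vr w hw
  have fV : ∀ v, InV d e v → InV d e (cj f v) := by
    rintro v (rfl | rfl | rfl | rfl)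
    · left; simp [cj]
    · right; left; exact fd
    · right; right; right; exact fe
    · right; right; left; rw [cj_prod, fd, fe, ← mul_assoc, hdd, one_mul]
  have mulV : ∀ v w, InV d e v → InV d e w → InV d e (v * w) := by
    intro v w hv hw
    rcases hv with rfl | rfl | rfl | rfl <;> rcases hw with rfl | rfl | rfl | rfl
    · left; rw [one_mul]
    · right; left; rw [one_mul]
    · right; right; left; rw [one_mul]
    · right; right; right; rw [one_mul]
    · right; left; rw [mul_one]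
    · left; exact hdd
    · right; right; right; rfl
    · right; right; left; rw [← mul_assoc, hdd, one_mul]
    · right; right; left; rw [mul_one]
    · right; right; right; exact hde.symm
    · left; exact hee
    · right; left; rw [hde, ← mul_assoc, hee, one_mul]
    · right; right; right; rw [mul_one]
    · right; right; left; rw [hde, mul_assoc, hdd, mul_one]
    · right; left; rw [mul_assoc, hee, mul_one]
    · left; exact hd.Vsq _ ((V i).mul_mem hdV heV)
  have rV : ∀ v, InV d e v → InV d e (cj r v) := by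
    rintro v (rfl | rfl | rfl | rfl)
    · left; simp [cj]
    · right; right; left; exact rd
    · right; right; right; exact re
    · right; left; exact rde
  have memVi : ∀ v, InV d e v → v ∈ V i := by
    rintro v (rfl | rfl | rfl | rfl)
    · exact (V i).one_mem
    · exact hdV
    · exact heV
    · exact (V i).mul_mem hdV heV
  -- `f` inverts `r` modulo `⟨d, e⟩`
  have finv : ∃ w, InV d e w ∧ cj f r = w * r⁻¹ := by
    set u := cj f r * r with hu
    have huO : u ∈ O2 (L i) := mul_mem (O2_norm hfL hrO) hrO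
    have huL : u ∈ L i := O2_le _ huO
    have fi : ∀ {x y : G}, cj f x = y → cj f⁻¹ y = x := by
      intro x y hxy; rw [← hxy, cj_inv_cj]
    have fde : cj f (d * e) = e := by rw [cj_prod, fd, fe, ← mul_assoc, hdd, one_mul]
    have hud : cj u d = d := by
      rw [hu, cj_mul, rd, cj_cj, fi fde, rde, fd]
    have hue : cj u e = e := by
      rw [hu, cj_mul, re, cj_cj, fi fe, re, fde]
    obtain ⟨huP, huQ⟩ := mem_P h hB2 hself hp huO (tri huL hud hue)
    refine ⟨u, ?_, by rw [hu, mul_assoc, mul_inv_cancel, mul_one]⟩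
    -- `u = w c`
    obtain ⟨w, c, hw, hc, huw⟩ := decQ u (((h.Pmem u).1 huP).2 i)
    have hwV := memVi w hw
    have hcu : c = w⁻¹ * u := by rw [huw]; group
    have huw' : u * w = w * u := huQ w (hd.VQ hwV)
    -- `(cj f r)³ = 1`
    have h5 : cj f r * cj f r * cj f r = 1 := by
      rw [← cj_prod, ← cj_prod, r3]; simp [cj]
    have h6 : cj f r = u * r⁻¹ := by rw [hu, mul_assoc, mul_inv_cancel, mul_one]
    rw [h6] at h5
    -- powers
    have hcr : r⁻¹ * c = c * r⁻¹ := hc _ (inv_mem hrO)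
    have e1 : u * r⁻¹ * (u * r⁻¹) * (u * r⁻¹) =
        (w * cj r⁻¹ w * cj (r⁻¹ * r⁻¹) w) * (c * c * c) * (r⁻¹ * r⁻¹ * r⁻¹) := by
      have c1 : Commute c r⁻¹ := (show Commute r⁻¹ c from hcr).symm
      -- `c` commutes with conjugates of `w`
      have c2 : ∀ y : G, y ∈ L i → Commute c (cj y w) := by
        intro y hy
        have h7 : cj y w ∈ V i := hd.cjV hy hwV
        have h8 : Commute u (cj y w) := huQ _ (hd.VQ h7)
        have h9 : Commute w (cj y w) := hd.VcQ w (hd.VQ hwV) _ h7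
        rw [hcu]
        exact h9.inv_left.mul_left h8
      have hri : r⁻¹ ∈ L i := (L i).inv_mem hrL
      have hrii : r⁻¹ * r⁻¹ ∈ L i := (L i).mul_mem hri hri
      have s1 : r⁻¹ * w = cj r⁻¹ w * r⁻¹ := by simp [cj, mul_assoc]
      have s2 : r⁻¹ * cj r⁻¹ w = cj (r⁻¹ * r⁻¹) w * r⁻¹ := by simp [cj, mul_assoc]
      have c3 := (c2 _ hri).eq
      have c4 := (c2 _ hrii).eq
      rw [huw]
      calc w * c * r⁻¹ * (w * c * r⁻¹) * (w * c * r⁻¹)
          = w * c * (r⁻¹ * w) * c * r⁻¹ * w * c * r⁻¹ := by simp only [mul_assoc]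
        _ = w * c * (cj r⁻¹ w * r⁻¹) * c * r⁻¹ * w * c * r⁻¹ := by rw [s1]
        _ = w * (c * cj r⁻¹ w) * (r⁻¹ * c) * (r⁻¹ * w) * c * r⁻¹ := by simp only [mul_assoc]
        _ = w * (cj r⁻¹ w * c) * (c * r⁻¹) * (cj r⁻¹ w * r⁻¹) * c * r⁻¹ := by
          rw [c3, hcr, s1]
        _ = w * cj r⁻¹ w * c * c * (r⁻¹ * cj r⁻¹ w) * (r⁻¹ * c) * r⁻¹ := by
          simp only [mul_assoc]
        _ = w * cj r⁻¹ w * c * c * (cj (r⁻¹ * r⁻¹) w * r⁻¹) * (c * r⁻¹) * r⁻¹ := by
          rw [s2, hcr]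
        _ = w * cj r⁻¹ w * c * (c * cj (r⁻¹ * r⁻¹) w) * (r⁻¹ * c) * r⁻¹ * r⁻¹ := by
          simp only [mul_assoc]
        _ = w * cj r⁻¹ w * c * (cj (r⁻¹ * r⁻¹) w * c) * (c * r⁻¹) * r⁻¹ * r⁻¹ := by
          rw [c4, hcr]
        _ = w * cj r⁻¹ w * (c * cj (r⁻¹ * r⁻¹) w) * c * c * r⁻¹ * r⁻¹ * r⁻¹ := by
          simp only [mul_assoc]
        _ = w * cj r⁻¹ w * (cj (r⁻¹ * r⁻¹) w * c) * c * c * r⁻¹ * r⁻¹ * r⁻¹ := by rw [c4]
        _ = _ := by simp only [mul_assoc]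
    have hri3 : r⁻¹ * r⁻¹ * r⁻¹ = 1 := by
      calc r⁻¹ * r⁻¹ * r⁻¹ = (r * r * r)⁻¹ := by group
        _ = 1 := by rw [r3, inv_one]
    have hrr : r⁻¹ * r⁻¹ = r := by
      rw [← mul_inv_rev, inv_eq_iff_mul_eq_one]; exact r3
    -- the norm of `w`
    have ri_d : cj r⁻¹ d = d * e := by
      have h7 := congrArg (cj r⁻¹) rde
      rw [cj_inv_cj] at h7
      exact h7.symm
    have ri_e : cj r⁻¹ e = d := by
      have h7 := congrArg (cj r⁻¹) rd
      rw [cj_inv_cj] at h7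
      exact h7.symm
    have hnorm : w * cj r⁻¹ w * cj (r⁻¹ * r⁻¹) w = 1 := by
      rw [hrr]
      rcases hw with rfl | rfl | rfl | rfl
      · simp [cj]
      · rw [ri_d, rd, ← mul_assoc, hdd, one_mul, hee]
      · rw [ri_e, re, ← hde, hd.Vsq _ ((V i).mul_mem hdV heV)]
      · have ri_de : cj r⁻¹ (d * e) = e := by
          have h7 := congrArg (cj r⁻¹) re
          rw [cj_inv_cj] at h7
          exact h7.symm
        rw [ri_de, rde, mul_assoc d e e, hee, mul_one, hdd]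
    rw [e1, hnorm, hri3, one_mul, mul_one] at h5
    -- `c² = 1`
    have hcc : c * c = 1 := by
      have huu : u * u = 1 := h.Psq i huP
      have hww : w * w = 1 := hd.Vsq w hwV
      rw [hcu, inv_eq_of_mul_eq_one_left hww]
      calc w * u * (w * u) = w * (u * w) * u := by group
        _ = (w * w) * (u * u) := by rw [huw']; group
        _ = 1 := by rw [hww, huu, one_mul]
    rw [hcc, one_mul] at h5
    rw [huw, h5, mul_one]
    exact hw
  have outer : ∀ b ∈ B, b * e ≠ e * b → ∃ v, InV d e v ∧ cj b r = r⁻¹ * v := by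
    intro b hb hbe
    have hbQ : b ∉ Q i := fun hq => hbe (hd.VcQ b hq e heV)
    have hq := coset_Q hd h2 hf hb hfQ hbQ
    obtain ⟨v, hv, h5⟩ := inner _ (hd.QB hq) (hd.VcQ _ hq e heV)
    obtain ⟨w, hw, h6⟩ := finv
    refine ⟨cj r w * cj f v, mulV _ _ (rV w hw) (fV v hv), ?_⟩
    have e1 : cj b r = cj f (cj (f⁻¹ * b) r) := by rw [← cj_mul]; congr 1; group
    rw [e1, h5, cj_prod, h6]
    simp [cj, mul_assoc]
  refine ⟨d, e, r, ⟨hdB, heB, hdB', hdd, hee, hd1, rd, re, r3, inner, outer⟩, hdD, hDeq, heV, hdl,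
    hrO, ?_⟩
  intro b hb hbr y hy
  -- `b` commutes with `e`
  have hbe : b * e = e * b := by
    have h5 : Commute b r := hbr
    have h6 : Commute b d := (hdB' b hb).symm
    rw [← rd]
    exact ((h5.mul_right h6).mul_right h5.inv_right).eq
  obtain ⟨w, c, hw, hc, rfl⟩ := decQ b (inQ b hb hbe)
  -- `w` commutes with `r`
  have hwr : w * r = r * w := by
    have h5 : Commute (w * c) r := hbr
    have h6 : Commute c r := (hc r hrO).symm
    have h7 : w = (w * c) * c⁻¹ := by group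
    have h8 : Commute ((w * c) * c⁻¹) r := h5.mul_left h6.inv_left
    rw [← h7] at h8
    exact h8.eq
  have hw1 : w = 1 := by
    have h5 : cj r w = w := cj_eq_self.2 hwr.symm
    have hne1 : e ≠ d := by
      intro h6
      rw [h6] at re
      rw [h6] at rd
      rw [rd] at re
      exact hd1 (by simpa using re.symm)
    rcases hw with rfl | rfl | rfl | rfl
    · rfl
    · rw [rd] at h5; exact absurd h5 hne1
    · rw [re] at h5
      exact absurd (by simpa using h5) hd1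
    · rw [rde] at h5
      exfalso
      apply hdl
      have : e = 1 := by simpa using h5.symm
      rw [this]; exact Z.one_mem
  rw [hw1, one_mul]
  exact hc y hy

end Cfsg.Agent.Omega.SQ1.TwistBlk
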