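import Cfsg.Agent.Omega.SQ1.TwistSym

/-!
# The twisted Killing Lemma for `q = 2` (project OMEGA, SQ1, L7; #11855 (a)-(f)): intrinsic blocks

The block `r l` is determined modulo `Q₁` by `N_G(Q₁)`, `Q₁` and the elements `f k` (`unique`).
-/

set_option autoImplicit false

namespace Cfsg.Agent.Omega.SQ1.TwistLoc

open Subgroup Cfsg.Agent.Omega.SQ1.TwistBase Cfsg.Agent.Omega.SQ1.TwistAlg
open Cfsg.Agent.Omega.SQ1.TwistSym Cfsg.Agent.Omega.SQ1.Transv

universe u v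

variable {G : Type u} [Group G] {ι : Type v}

/-- The local structure of `N_G(Q₁)`: every 2-subgroup has a conjugate in `T`, and the involutions of `T`
acting as transvections on `Q₁` act like the `f l`. -/
structure Loc (Q₁ T : Subgroup G) (f : ι → G) : Prop where
  CQ : ∀ g : G, (∀ a ∈ Q₁, g * a = a * g) → g ∈ Q₁
  syl : ∀ P : Subgroup G, IsPGroup 2 P → P ≤ normalizer (Q₁ : Set G) →
    ∃ g ∈ normalizer (Q₁ : Set G), ∀ a ∈ P, g * a * g⁻¹ ∈ T
  trv : ∀ t ∈ T, t * t = 1 → t ∈ normalizer (Q₁ : Set G) → ∀ c ∈ Q₁, c ≠ 1 →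
    (∀ a ∈ Q₁, cj t a = a ∨ cj t a = a * c) → (∃ a ∈ Q₁, cj t a ≠ a) →
    ∃ l, ∀ a ∈ Q₁, cj t a = cj (f l) a

variable {B Q₁ Q₂ D T : Subgroup G} {e f d r r' : ι → G}

theorem mem_norm {A : Subgroup G} {x : G} (h1 : ∀ a ∈ A, cj x a ∈ A)
    (h2 : ∀ a ∈ A, cj x⁻¹ a ∈ A) : x ∈ normalizer (A : Set G) := by
  rw [mem_normalizer_iff]
  intro a
  refine ⟨h1 a, fun h => ?_⟩
  have h3 := h2 _ h
  have e : cj x⁻¹ (x * a * x⁻¹) = a := by unfold cj; group
  rwa [e] at h3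

/-- `B` normalises `Q₁`. -/
theorem B_norm (h : Tw B Q₁ Q₂ D e f d r r') : B ≤ normalizer (Q₁ : Set G) := by
  have key : ∀ b ∈ B, ∀ a ∈ Q₁, cj b a ∈ Q₁ := by
    intro b hb a ha
    have h1 := h.ab (h.Q1B ha) hb
    have h2 : cj b a = (cj b a * a⁻¹) * a := by group
    rw [h2]
    exact Q₁.mul_mem (h.DQ1 h1) ha
  exact fun b hb => mem_norm (key b hb) (key b⁻¹ (B.inv_mem hb))

theorem phi_apply {n : normalizer (Q₁ : Set G)} (a : Q₁) :
    ((Q₁.normalizerMonoidHom n a : Q₁) : G) = cj (n : G) (a : G) := rfl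

theorem phi_eq_iff {n m : normalizer (Q₁ : Set G)} :
    Q₁.normalizerMonoidHom n = Q₁.normalizerMonoidHom m ↔
      ∀ a ∈ Q₁, cj (n : G) a = cj (m : G) a := by
  constructor
  · intro h1 a ha
    have h2 := congrArg (fun σ : MulAut Q₁ => ((σ ⟨a, ha⟩ : Q₁) : G)) h1
    exact h2
  · intro h1
    ext a
    exact h1 a a.2

/-- `f l` acts on `Q₁` as a transvection with centre `d l`. -/
theorem tvf (h : Tw B Q₁ Q₂ D e f d r r') (l : ι) :
    IsTv (V := Q₁) (Q₁.normalizerMonoidHom ⟨f l, B_norm h (h.fB l)⟩) ⟨d l, h.DQ1 (h.dD l)⟩ := by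
  have hcomm : ∀ v ∈ Q₁, cj (f l) v = v ∨ cj (f l) v = v * d l := by
    intro v hv
    let P : Subgroup G :=
      { carrier := {v | v ∈ Q₁ ∧ (cj (f l) v = v ∨ cj (f l) v = v * d l)}
        mul_mem' := by
          rintro a b ⟨ha, ha'⟩ ⟨hb, hb'⟩
          refine ⟨Q₁.mul_mem ha hb, ?_⟩
          have hdb := h.comm1 (h.DQ1 (h.dD l)) hb
          rcases ha' with h1 | h1 <;> rcases hb' with h2 | h2
          · left; rw [cj_mul, h1, h2]
          · right; rw [cj_mul, h1, h2, mul_assoc]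
          · right; rw [cj_mul, h1, h2, mul_assoc, hdb, mul_assoc]
          · left
            rw [cj_mul, h1, h2]
            calc a * d l * (b * d l) = a * (d l * b) * d l := by group
              _ = a * b * (d l * d l) := by rw [hdb]; group
              _ = a * b := by rw [h.dd, mul_one]
        one_mem' := ⟨Q₁.one_mem, Or.inl (cj_one _)⟩
        inv_mem' := by
          rintro a ⟨ha, ha'⟩
          have h3 : a⁻¹ = a := inv_eq_of_mul_eq_one_right (h.sq1 a ha)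
          rw [h3]
          exact ⟨ha, ha'⟩ }
    have hle : Q₁ ≤ P := by
      refine h.gen1 P (fun k => ⟨h.eQ k, ?_⟩) fun z hz => ⟨h.DQ1 hz, Or.inl
        (cj_eq_iff.mpr (h.Dc z hz _ (h.fB l)).symm)⟩
      by_cases hkl : k = l
      · subst hkl
        right
        rw [← h.dc k (h.eB k)]
        unfold cj; rw [h.fe]; group
      · left; exact cj_eq_iff.mpr (h.fec k l hkl)
    exact (hle hv).2
  refine ⟨fun h1 => h.dne l (congrArg Subtype.val h1), fun v => ?_, ?_⟩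
  · rcases hcomm v v.2 with h1 | h1
    · left; exact Subtype.ext h1
    · right; exact Subtype.ext h1
  · refine ⟨⟨e l, h.eQ l⟩, fun h1 => ?_⟩
    have h2 : cj (f l) (e l) = e l := congrArg Subtype.val h1
    have h3 := cj_eq_iff.mp h2
    rw [h.fe] at h3
    exact h.dne l (by simpa using h3)

/-- The transvection setting on `Q₁`. -/
theorem sit (h : Tw B Q₁ Q₂ D e f d r r') (hL : Loc Q₁ T f) :
    Sit (V := Q₁) (Q₁.normalizerMonoidHom).range
      (fun l => Q₁.normalizerMonoidHom ⟨f l, B_norm h (h.fB l)⟩)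
      (fun l => ⟨d l, h.DQ1 (h.dD l)⟩) where
  sq := fun v => Subtype.ext (h.sq1 v v.2)
  tX := fun l => ⟨_, rfl⟩
  tv := tvf h
  comm := fun k l => by
    rw [← map_mul, ← map_mul]
    congr 1
    exact Subtype.ext (h.comm2 (h.fQ k) (h.fQ l))
  inj := fun k l hkl => by
    by_contra hne
    have h1 := (phi_eq_iff.mp hkl) (e k) (h.eQ k)
    have h2 : cj (f l) (e k) = e k := cj_eq_iff.mpr (h.fec k l hne)
    have h3 : cj (f k) (e k) = d k * e k := by unfold cj; rw [h.fe]; group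
    change cj (f k) (e k) = cj (f l) (e k) at h1
    rw [h2, h3] at h1
    exact h.dne k (by simpa using h1)
  syl := fun P hP hPX => by
    have : Fact (Nat.Prime 2) := ⟨Nat.prime_two⟩
    have hQ : IsPGroup 2 Q₁ := by
      intro a
      refine ⟨1, ?_⟩
      rw [pow_one, pow_two]
      exact Subtype.ext (h.sq1 a a.2)
    have hker : IsPGroup 2 (Q₁.normalizerMonoidHom).ker := by
      rintro ⟨n, hn⟩
      have h1 : (n : G) ∈ Q₁ := by
        apply hL.CQ
        intro a ha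
        have h2 : Q₁.normalizerMonoidHom n = Q₁.normalizerMonoidHom 1 := by
          rw [map_one]; exact hn
        have h3 := phi_eq_iff.mp h2 a ha
        have h4 : cj ((1 : normalizer (Q₁ : Set G)) : G) a = a := by
          rw [OneMemClass.coe_one]; unfold cj; group
        rw [h4] at h3
        exact cj_eq_iff.mp h3
      obtain ⟨k, hk⟩ := hQ ⟨n, h1⟩
      have h5 : (n : G) ^ 2 ^ k = 1 := by simpa using congrArg Subtype.val hk
      refine ⟨k, ?_⟩
      apply Subtype.ext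
      apply Subtype.ext
      simpa using h5
    have h1 : IsPGroup 2 (P.comap Q₁.normalizerMonoidHom) := hP.comap_of_ker_isPGroup _ hker
    have h2 : IsPGroup 2 ((P.comap Q₁.normalizerMonoidHom).map (normalizer (Q₁ : Set G)).subtype) :=
      h1.map _
    obtain ⟨g, hg, h3⟩ := hL.syl _ h2 (by
      rintro _ ⟨n, -, rfl⟩
      exact n.2)
    refine ⟨Q₁.normalizerMonoidHom ⟨g, hg⟩, ⟨_, rfl⟩, ?_⟩
    rintro σ hσ ⟨_, ⟨m, rfl⟩, k, rfl⟩
    -- the representative `m (f k) m⁻¹`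
    set fk : normalizer (Q₁ : Set G) := ⟨f k, B_norm h (h.fB k)⟩ with hfk
    have e0 : Q₁.normalizerMonoidHom m * Q₁.normalizerMonoidHom fk * (Q₁.normalizerMonoidHom m)⁻¹ =
        Q₁.normalizerMonoidHom (m * fk * m⁻¹) := by
      rw [map_mul, map_mul, map_inv]
    set n : normalizer (Q₁ : Set G) := m * fk * m⁻¹ with hn
    have hnn : (n : G) * n = 1 := by
      have h6 : (fk : G) * fk = 1 := h.ff k
      have h7 : (n : G) = m * fk * (m : G)⁻¹ := by rw [hn]; rfl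
      rw [h7]
      calc (m : G) * fk * (m : G)⁻¹ * (m * fk * (m : G)⁻¹) = m * (fk * fk) * (m : G)⁻¹ := by group
        _ = 1 := by rw [h6]; group
    change Q₁.normalizerMonoidHom m * Q₁.normalizerMonoidHom fk * (Q₁.normalizerMonoidHom m)⁻¹ ∈ P
      at hσ
    rw [e0] at hσ
    have h4 : g * (n : G) * g⁻¹ ∈ T := h3 _ ⟨n, hσ, rfl⟩
    have h4' : (g * (n : G) * g⁻¹) * (g * (n : G) * g⁻¹) = 1 := by
      calc (g * (n : G) * g⁻¹) * (g * (n : G) * g⁻¹) = g * (n * n) * g⁻¹ := by group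
        _ = 1 := by rw [hnn]; group
    have hgn : g * (n : G) * g⁻¹ ∈ normalizer (Q₁ : Set G) :=
      mul_mem (mul_mem hg n.2) (inv_mem hg)
    have e1 : Q₁.normalizerMonoidHom ⟨g, hg⟩ * Q₁.normalizerMonoidHom n *
        (Q₁.normalizerMonoidHom ⟨g, hg⟩)⁻¹ = Q₁.normalizerMonoidHom ⟨_, hgn⟩ := by
      rw [← map_inv, ← map_mul, ← map_mul]
      rfl
    have hb : IsTv (Q₁.normalizerMonoidHom n)
        (Q₁.normalizerMonoidHom m ⟨d k, h.DQ1 (h.dD k)⟩) := by
      rw [← e0]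
      exact (tvf h k).conj _
    have h5 := hb.conj (Q₁.normalizerMonoidHom ⟨g, hg⟩)
    rw [e1] at h5
    set c : Q₁ := Q₁.normalizerMonoidHom ⟨g, hg⟩ (Q₁.normalizerMonoidHom m ⟨d k, h.DQ1 (h.dD k)⟩)
    obtain ⟨l, hl⟩ := hL.trv _ h4 h4' hgn c c.2 (fun h6 => h5.ne (Subtype.ext h6)) (by
        intro a ha
        rcases h5.act ⟨a, ha⟩ with h6 | h6
        · left; exact congrArg Subtype.val h6
        · right; exact congrArg Subtype.val h6) (by
        obtain ⟨v, hv⟩ := h5.mov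
        exact ⟨v, v.2, fun h6 => hv (Subtype.ext h6)⟩)
    refine ⟨l, ?_⟩
    change Q₁.normalizerMonoidHom ⟨g, hg⟩ * (Q₁.normalizerMonoidHom m * Q₁.normalizerMonoidHom fk *
      (Q₁.normalizerMonoidHom m)⁻¹) * (Q₁.normalizerMonoidHom ⟨g, hg⟩)⁻¹ = _
    rw [e0, e1]
    exact phi_eq_iff.mpr hl

/-- a block on `Q₁` -/
structure Bl (Q₁ : Subgroup G) (e f d : ι → G) (l : ι) (y : G) : Prop where
  yN : y ∈ normalizer (Q₁ : Set G)
  y3 : y * y * y = 1
  yd : cj y (d l) ≠ d l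
  yl : ∃ a ∈ Q₁, cj (f l) y = y⁻¹ * a
  yk : ∀ k, k ≠ l → ∃ a ∈ Q₁, cj (f k) y = y * a

theorem Blk.edne {d e r : G} (h : Blk B d e r) : e ≠ d := by
  intro h1
  have h2 := h.re
  rw [h1, h.dd] at h2
  have h3 : cj r d = cj r 1 := by rw [h2, cj_one]
  exact h.dne (cj_inj h3)

theorem Bl.of (h : Tw B Q₁ Q₂ D e f d r r') {x E ρ z δ : G} {l : ι}
    (hx : x ∈ normalizer (B : Set G))
    (hxD : x ∈ normalizer (D : Set G)) (hB : Blk B δ E ρ) (hz : z ∈ D)
    (he : cj x (e l) = E * z) (hd : cj x (d l) = δ) : Bl Q₁ e f d l (cj x⁻¹ ρ) := by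
  have hdi : cj x⁻¹ δ = d l := by rw [← hd, cj_inv_cj]
  have hEi : cj x⁻¹ E ∈ Q₁ := by
    have h1 : E = cj x (e l) * z⁻¹ := by rw [he]; group
    rw [h1, cj_mul, cj_inv_cj]
    exact Q₁.mul_mem (h.eQ l) (h.DQ1 (norm_mem (inv_mem hxD) (D.inv_mem hz)))
  have hV : ∀ v, InV δ E v → cj x⁻¹ v ∈ Q₁ := by
    rintro v (rfl | rfl | rfl | rfl)
    · rw [cj_one]; exact Q₁.one_mem
    · rw [hdi]; exact h.DQ1 (h.dD l)
    · exact hEi
    · rw [cj_mul, hdi]; exact Q₁.mul_mem (h.DQ1 (h.dD l)) hEi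
  -- an element of `B` commutes with `E` if its preimage commutes with `e l`
  have hcE : ∀ b ∈ B, (cj x b * E = E * cj x b ↔ b * e l = e l * b) := by
    intro b hb
    have hcB : cj x b ∈ B := norm_mem hx hb
    have h0 : (cj x b * (E * z) = (E * z) * cj x b) ↔ b * e l = e l * b := by
      rw [← he]; exact cj_comm_iff
    rw [← h0]
    have h3 := h.Dc z hz _ hcB
    constructor
    · intro h4
      rw [← mul_assoc, h4, mul_assoc, ← h3, mul_assoc]
    · intro h4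
      have h5 : cj x b * E * z = E * cj x b * z := by
        rw [mul_assoc, h4, mul_assoc, h3, mul_assoc]
      exact mul_right_cancel h5
  have hyi : (cj x⁻¹ ρ)⁻¹ = cj x⁻¹ ρ⁻¹ := (cj_inv _ _).symm
  have hact : ∀ s a : G, cj (cj x⁻¹ s) a = cj x⁻¹ (cj s (cj x a)) := by
    intro s a; unfold cj; group
  refine ⟨?_, ?_, ?_, ?_, ?_⟩
  · refine mem_norm (fun a ha => ?_) fun a ha => ?_
    · have haB := h.Q1B ha
      have h1 := (hcE a haB).mpr (h.comm1 ha (h.eQ l))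
      obtain ⟨w, hw, h2⟩ := hB.cj_r (norm_mem hx haB) h1
      rw [hact, h2, cj_mul, cj_inv_cj]
      exact Q₁.mul_mem (hV w hw) ha
    · have haB := h.Q1B ha
      have h1 := (hcE a haB).mpr (h.comm1 ha (h.eQ l))
      obtain ⟨w, hw, h2⟩ := hB.cj_ri (norm_mem hx haB) h1
      rw [hyi, hact, h2, cj_mul, cj_inv_cj]
      exact Q₁.mul_mem (hV w hw) ha
  · rw [← cj_mul, ← cj_mul, hB.r3, cj_one]
  · rw [hact, hd, hB.rd]
    intro h1
    rw [← hdi] at h1
    exact Blk.edne hB (cj_inj h1)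
  · have hfB := h.fB l
    have h1 : cj x (f l) * E ≠ E * cj x (f l) := by
      intro h2
      have h3 := (hcE _ hfB).mp h2
      rw [h.fe] at h3
      exact h.dne l (by simpa using h3)
    obtain ⟨v, hv, h2⟩ := hB.outer _ (norm_mem hx hfB) h1
    refine ⟨cj x⁻¹ v, hV v hv, ?_⟩
    have e1 : cj (f l) (cj x⁻¹ ρ) = cj x⁻¹ (cj (cj x (f l)) ρ) := by unfold cj; group
    rw [e1, h2, cj_mul, hyi]
  · intro k hk
    have hfB := h.fB k
    have h1 := (hcE _ hfB).mpr (h.fec l k hk.symm)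
    obtain ⟨v, hv, h2⟩ := hB.inner _ (norm_mem hx hfB) h1
    refine ⟨cj x⁻¹ v, hV v hv, ?_⟩
    have e1 : cj (f k) (cj x⁻¹ ρ) = cj x⁻¹ (cj (cj x (f k)) ρ) := by unfold cj; group
    rw [e1, h2, cj_mul]

/-- Two blocks with the same index agree modulo `Q₁`. -/
theorem unique [Finite ι] (h : Tw B Q₁ Q₂ D e f d r r') (hL : Loc Q₁ T f) {l : ι} {y s : G}
    (hy : Bl Q₁ e f d l y) (hs : Bl Q₁ e f d l s) :
    (∀ a ∈ Q₁, cj y a = cj s a) ∨ (∀ a ∈ Q₁, cj y a = cj s⁻¹ a) := by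
  have S := sit h hL
  -- elements of `Q₁` act trivially
  have hQ : ∀ a (ha : a ∈ Q₁), Q₁.normalizerMonoidHom ⟨a, le_normalizer ha⟩ = 1 := by
    intro a ha
    rw [← map_one Q₁.normalizerMonoidHom]
    rw [phi_eq_iff]
    intro b hb
    have h4 : cj ((1 : normalizer (Q₁ : Set G)) : G) b = b := by
      rw [OneMemClass.coe_one]; unfold cj; group
    rw [h4]
    exact cj_eq_iff.mpr (h.comm1 ha hb)
  have key : ∀ {y : G} (hy : Bl Q₁ e f d l y),
      Q₁.normalizerMonoidHom ⟨y, hy.yN⟩ * Q₁.normalizerMonoidHom ⟨y, hy.yN⟩ *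
        Q₁.normalizerMonoidHom ⟨y, hy.yN⟩ = 1 ∧
      Q₁.normalizerMonoidHom ⟨y, hy.yN⟩ ≠ 1 ∧
      Q₁.normalizerMonoidHom ⟨f l, B_norm h (h.fB l)⟩ * Q₁.normalizerMonoidHom ⟨y, hy.yN⟩ *
        (Q₁.normalizerMonoidHom ⟨f l, B_norm h (h.fB l)⟩)⁻¹ =
          (Q₁.normalizerMonoidHom ⟨y, hy.yN⟩)⁻¹ ∧
      ∀ k, k ≠ l → Q₁.normalizerMonoidHom ⟨f k, B_norm h (h.fB k)⟩ *
        Q₁.normalizerMonoidHom ⟨y, hy.yN⟩ =
          Q₁.normalizerMonoidHom ⟨y, hy.yN⟩ * Q₁.normalizerMonoidHom ⟨f k, B_norm h (h.fB k)⟩ := by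
    intro y hy
    refine ⟨?_, ?_, ?_, ?_⟩
    · rw [← map_mul, ← map_mul, ← map_one Q₁.normalizerMonoidHom]
      congr 1
      exact Subtype.ext hy.y3
    · intro h1
      rw [← map_one Q₁.normalizerMonoidHom, phi_eq_iff] at h1
      have h2 := h1 (d l) (h.DQ1 (h.dD l))
      have h4 : cj ((1 : normalizer (Q₁ : Set G)) : G) (d l) = d l := by
        rw [OneMemClass.coe_one]; unfold cj; group
      rw [h4] at h2
      exact hy.yd h2
    · obtain ⟨a, ha, h1⟩ := hy.yl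
      have h2 : (⟨f l, B_norm h (h.fB l)⟩ : normalizer (Q₁ : Set G)) * ⟨y, hy.yN⟩ *
          (⟨f l, B_norm h (h.fB l)⟩)⁻¹ = (⟨y, hy.yN⟩)⁻¹ * ⟨a, le_normalizer ha⟩ :=
        Subtype.ext h1
      rw [← map_inv, ← map_mul, ← map_mul, h2, map_mul, hQ a ha, mul_one, map_inv]
    · intro k hk
      obtain ⟨a, ha, h1⟩ := hy.yk k hk
      have h2 : (⟨f k, B_norm h (h.fB k)⟩ : normalizer (Q₁ : Set G)) * ⟨y, hy.yN⟩ =
          ⟨y, hy.yN⟩ * ⟨a, le_normalizer ha⟩ * ⟨f k, B_norm h (h.fB k)⟩ := by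
        apply Subtype.ext
        change f k * y = y * a * f k
        rw [← h1]; unfold cj; group
      rw [← map_mul, h2, map_mul, map_mul, hQ a ha, mul_one]
  obtain ⟨y3, y1, yl, yk⟩ := key hy
  obtain ⟨s3, s1, sl, sk⟩ := key hs
  rcases S.unique_block l ⟨_, rfl⟩ ⟨_, rfl⟩ s3 s1 y3 y1 sl yl sk yk with h1 | h1
  · left
    exact phi_eq_iff.mp h1
  · right
    rw [← map_inv] at h1
    exact phi_eq_iff.mp h1

/-- the block `r l` itself -/
theorem own (h : Tw B Q₁ Q₂ D e f d r r') (k : ι) : Bl Q₁ e f d k (r k) := by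
  have h3 := Bl.of (x := 1) (E := e k) (ρ := r k) (z := 1) (l := k) (δ := d k) h (one_mem _)
    (one_mem _) (h.blk k) D.one_mem (by unfold cj; group) (by unfold cj; group)
  have e1 : cj (1 : G)⁻¹ (r k) = r k := by unfold cj; group
  rwa [e1] at h3

theorem InV_mul {δ E ρ v w : G} (h : Blk B δ E ρ) (hv : InV δ E v) (hw : InV δ E w) :
    InV δ E (v * w) := by
  have h1 := h.dd
  have h2 := h.ee
  have h3 := h.de
  rcases hv with rfl | rfl | rfl | rfl <;> rcases hw with rfl | rfl | rfl | rfl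
  · left; rw [one_mul]
  · right; left; rw [one_mul]
  · right; right; left; rw [one_mul]
  · right; right; right; rw [one_mul]
  · right; left; rw [mul_one]
  · left; exact h1
  · right; right; right; rfl
  · right; right; left; rw [← mul_assoc, h1, one_mul]
  · right; right; left; rw [mul_one]
  · right; right; right; exact h3.symm
  · left; exact h2
  · right; left; rw [h3, ← mul_assoc, h2, one_mul]
  · right; right; right; rw [mul_one]
  · right; right; left; rw [h3, mul_assoc, h1, mul_one]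
  · right; left; rw [mul_assoc, h2, mul_one]
  · left
    calc δ * E * (δ * E) = δ * (E * δ) * E := by group
      _ = (δ * δ) * (E * E) := by rw [← h3]; group
      _ = 1 := by rw [h1, h2, one_mul]

/-- `(s a)³ = 1` with `s = r^{±1}` implies `a ∈ ⟨d, e⟩`. -/
theorem mem_V {δ E ρ a : G} (h : Blk B δ E ρ) (ha : a ∈ B) (haE : a * E = E * a)
    (haa : a * a = 1) {s : G} (hs : s = ρ ∨ s = ρ⁻¹) (h3 : s * a * (s * a) * (s * a) = 1) :
    InV δ E a := by
  obtain ⟨w, hw, h1⟩ := h.cj_r ha haE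
  obtain ⟨w', hw', h2⟩ := h.cj_ri ha haE
  have hr3 := h.r3
  have key : ∀ {u u' : G}, InV δ E u → InV δ E u' → cj s a = u * a → cj (s * s) a = u' * a →
      s * s * s = 1 → InV δ E a := by
    intro u u' hu hu' h4 h5 h6
    have e1 : s * a * (s * a) * (s * a) = cj s a * cj (s * s) a * (s * s * s) * a := by
      unfold cj; group
    rw [e1, h4, h5, h6] at h3
    have e2 : u * a * (u' * a) * 1 * a = u * (a * u') * (a * a) := by group
    rw [e2, haa, mul_one, hu'.comm h ha haE, ← mul_assoc] at h3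
    have h7 : a = (u * u')⁻¹ := (inv_eq_of_mul_eq_one_right h3).symm
    have h8 := InV_mul h hu hu'
    rw [h7, inv_eq_of_mul_eq_one_right (h8.sq h)]
    exact h8
  rcases hs with rfl | rfl
  · refine key hw hw' h1 ?_ hr3
    have e1 : s * s = s⁻¹ := by rw [eq_inv_iff_mul_eq_one]; exact hr3
    rw [e1]; exact h2
  · refine key hw' hw h2 ?_ ?_
    · have e1 : ρ⁻¹ * ρ⁻¹ = ρ := by
        rw [← mul_inv_rev, inv_eq_iff_mul_eq_one]; exact hr3
      rw [e1]; exact h1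
    · calc ρ⁻¹ * ρ⁻¹ * ρ⁻¹ = (ρ * ρ * ρ)⁻¹ := by group
        _ = 1 := by rw [hr3, inv_one]

/-- A block with index `l` on `Q₁` is conjugate to `⟨r l⟩` under `⟨d l, e l⟩`. -/
theorem xr_of [Finite ι] (h : Tw B Q₁ Q₂ D e f d r r') (hL : Loc Q₁ T f) {l : ι} {y : G}
    (hy : Bl Q₁ e f d l y) :
    ∃ v, InV (d l) (e l) v ∧ (y = r l * v ∨ y = (r l)⁻¹ * v) := by
  have key : ∀ s : G, (s = r l ∨ s = (r l)⁻¹) → (∀ a ∈ Q₁, cj y a = cj s a) →
      ∃ v, InV (d l) (e l) v ∧ y = s * v := by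
    intro s hs h1
    have h2 : s⁻¹ * y ∈ Q₁ := by
      apply hL.CQ
      intro a ha
      apply cj_eq_iff.mp
      rw [mul_cj, h1 a ha, cj_inv_cj]
    refine ⟨s⁻¹ * y, ?_, by group⟩
    refine mem_V (h.blk l) (h.Q1B h2) (h.comm1 h2 (h.eQ l)) (h.sq1 _ h2) hs ?_
    have e1 : s * (s⁻¹ * y) = y := by group
    rw [e1]
    exact hy.y3
  rcases unique h hL hy (own h l) with h1 | h1
  · obtain ⟨v, hv, h2⟩ := key _ (Or.inl rfl) h1
    exact ⟨v, hv, Or.inl h2⟩
  · obtain ⟨v, hv, h2⟩ := key _ (Or.inr rfl) h1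
    exact ⟨v, hv, Or.inr h2⟩

end Cfsg.Agent.Omega.SQ1.TwistLoc
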