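import Cfsg.Agent.Omega.SQ1.TwistAlg

/-!
# The twisted Killing Lemma for `q = 2` (project OMEGA, SQ1, L7; #11855 (a)-(f)): the twist `λ_i`

If `λ_i` vanishes on `D` and there is an element `g ∈ Z(B^)` outside `D`, then `λ_i` is supported on one index
`j`, and by symmetry `λ_i(e j) = λ_i(f j) = 1`, `g ∈ e j f j D`.
-/

set_option autoImplicit false

namespace Cfsg.Agent.Omega.SQ1.TwistSym

open Subgroup Cfsg.Agent.Omega.SQ1.TwistBase Cfsg.Agent.Omega.SQ1.TwistAlg

universe u v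

variable {G : Type u} [Group G] {ι : Type v}

/-- `x` maps the blocks `(e, r)` to the blocks `(e', r')`, with the permutation `p` of the indices. -/
structure Half (D : Subgroup G) (d e r e' r' : ι → G) (x : G) (p : ι → ι) : Prop where
  xe : ∀ k, ∃ z ∈ D, cj x (e k) = e' (p k) * z
  xr : ∀ k, ∃ v, InV (d (p k)) (e' (p k)) v ∧
    (cj x (r k) = r' (p k) * v ∨ cj x (r k) = (r' (p k))⁻¹ * v)

/-- a symmetry of the configuration preserving the sides -/
structure Sym (B D : Subgroup G) (e f d r r' : ι → G) (x : G) (p : ι → ι) : Prop where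
  xB : x ∈ normalizer (B : Set G)
  xD : x ∈ normalizer (D : Set G)
  h1 : Half D d e r e r x p
  h2 : Half D d f r' f r' x p

/-- a symmetry of the configuration which exchanges the sides -/
structure Anti (B D : Subgroup G) (e f d r r' : ι → G) (x : G) (p : ι → ι) : Prop where
  xB : x ∈ normalizer (B : Set G)
  xD : x ∈ normalizer (D : Set G)
  h1 : Half D d e r f r' x p
  h2 : Half D d f r' e r x p

variable {B Q₁ Q₂ D : Subgroup G} {e f d r r' : ι → G}

theorem norm_mem {A : Subgroup G} {x a : G} (hx : x ∈ normalizer (A : Set G)) (ha : a ∈ A) :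
    cj x a ∈ A := (mem_normalizer_iff.1 hx a).1 ha

theorem norm_mem_iff {A : Subgroup G} {x a : G} (hx : x ∈ normalizer (A : Set G)) :
    cj x a ∈ A ↔ a ∈ A := ((mem_normalizer_iff.1 hx a)).symm

/-- `cj x b` commutes with `r' (p k)` iff `b` commutes with `r k`. -/
theorem Half.comm_iff {e₁ r₁ e₂ r₂ : ι → G} {x : G} {p : ι → ι}
    (H : Half D d e₁ r₁ e₂ r₂ x p) (hblk : ∀ k, Blk B (d k) (e₂ k) (r₂ k))
    (hD : ∀ z ∈ D, ∀ b ∈ B, z * b = b * z)
    (hx : x ∈ normalizer (B : Set G)) (k : ι) {b : G} (hb : b ∈ B)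
    (hbe : b * e₁ k = e₁ k * b) :
    (cj x b * r₂ (p k) = r₂ (p k) * cj x b) ↔ b * r₁ k = r₁ k * b := by
  obtain ⟨z, hz, hxe⟩ := H.xe k
  obtain ⟨v, hv, hxr⟩ := H.xr k
  have hcB : cj x b ∈ B := norm_mem hx hb
  -- `cj x b` commutes with `e₂ (p k)`
  have h1 : cj x b * e₂ (p k) = e₂ (p k) * cj x b := by
    have h2 : cj x b * cj x (e₁ k) = cj x (e₁ k) * cj x b := cj_comm_iff.mpr hbe
    rw [hxe] at h2
    have h3 := hD z hz _ hcB
    have h4 : cj x b * e₂ (p k) * z = e₂ (p k) * cj x b * z := by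
      rw [mul_assoc, h2, mul_assoc, h3, mul_assoc]
    exact mul_right_cancel h4
  have h2 : cj x b * v = v * cj x b := hv.comm (hblk (p k)) hcB h1
  have h3 : (b * r₁ k = r₁ k * b) ↔ cj x b * cj x (r₁ k) = cj x (r₁ k) * cj x b :=
    cj_comm_iff.symm
  rw [h3]
  have key : ∀ s : G, (cj x b * (s * v) = (s * v) * cj x b) ↔ cj x b * s = s * cj x b := by
    intro s
    constructor
    · intro h4
      have h5 : cj x b * s * v = s * cj x b * v := by
        rw [mul_assoc, h4, mul_assoc, ← h2, mul_assoc]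
      exact mul_right_cancel h5
    · intro h4
      rw [← mul_assoc, h4, mul_assoc, h2, mul_assoc]
  have kinv : ∀ s : G, (cj x b * s⁻¹ = s⁻¹ * cj x b) ↔ cj x b * s = s * cj x b := by
    intro s
    constructor
    · intro h4
      have h5 : Commute (cj x b) s⁻¹ := h4
      exact (Commute.inv_right_iff.mp h5).eq
    · intro h4
      have h5 : Commute (cj x b) s := h4
      exact h5.inv_right.eq
  rcases hxr with h4 | h4
  · rw [h4, key]
  · rw [h4, key, kinv]

theorem conj_d (hDB : D ≤ B) (hD : ∀ z ∈ D, ∀ b ∈ B, z * b = b * z) {x F E F' E' δ δ' z z' : G}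
    (hF : F * E = δ * (E * F)) (hF' : F' * E' = δ' * (E' * F')) (hE'B : E' ∈ B) (hF'B : F' ∈ B)
    (hz : z ∈ D) (hz' : z' ∈ D) (hE : cj x E = E' * z) (hFx : cj x F = F' * z') :
    cj x δ = δ' := by
  have h1 := congrArg (cj x) hF
  rw [cj_mul, cj_mul, cj_mul, hFx, hE] at h1
  have c1 := hD z' hz' _ hE'B
  have c2 := hD z hz _ hF'B
  have c3 := hD z hz _ (hDB hz')
  have e1 : F' * z' * (E' * z) = F' * E' * (z' * z) := by
    calc F' * z' * (E' * z) = F' * (z' * E') * z := by group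
      _ = F' * E' * (z' * z) := by rw [c1]; group
  have e2 : E' * z * (F' * z') = E' * F' * (z' * z) := by
    calc E' * z * (F' * z') = E' * (z * F') * z' := by group
      _ = E' * F' * (z * z') := by rw [c2]; group
      _ = E' * F' * (z' * z) := by rw [c3]
  rw [e1, e2, ← mul_assoc (cj x δ)] at h1
  have h2 := mul_right_cancel h1
  rw [hF'] at h2
  exact (mul_right_cancel h2).symm

namespace Sym

variable {x : G} {p : ι → ι}

theorem xd (S : Sym B D e f d r r' x p) (h : Tw B Q₁ Q₂ D e f d r r') (k : ι) :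
    cj x (d k) = d (p k) := by
  obtain ⟨z, hz, h1⟩ := S.h1.xe k
  obtain ⟨z', hz', h2⟩ := S.h2.xe k
  exact conj_d h.DB h.Dc (h.fe k) (h.fe (p k)) (h.eB _) (h.fB _) hz hz' h1 h2

theorem inj (S : Sym B D e f d r r' x p) (h : Tw B Q₁ Q₂ D e f d r r') : Function.Injective p := by
  intro k l hkl
  apply h.dinj
  have h1 := S.xd h k
  rw [hkl, ← S.xd h l] at h1
  exact cj_inj h1

/-- transfer of `InC` -/
theorem inC (S : Sym B D e f d r r' x p) (h : Tw B Q₁ Q₂ D e f d r r') {k : ι} {b : G}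
    (hb : InC B (e k) (f k) b) : InC B (e (p k)) (f (p k)) (cj x b) := by
  have hcB : cj x b ∈ B := norm_mem S.xB hb.1
  refine ⟨hcB, ?_, ?_⟩
  · obtain ⟨z, hz, h1⟩ := S.h1.xe k
    have h2 : cj x b * cj x (e k) = cj x (e k) * cj x b := cj_comm_iff.mpr hb.2.1
    rw [h1] at h2
    have h3 := h.Dc z hz _ hcB
    have h4 : cj x b * e (p k) * z = e (p k) * cj x b * z := by
      rw [mul_assoc, h2, mul_assoc, h3, mul_assoc]
    exact mul_right_cancel h4
  · obtain ⟨z, hz, h1⟩ := S.h2.xe k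
    have h2 : cj x b * cj x (f k) = cj x (f k) * cj x b := cj_comm_iff.mpr hb.2.2
    rw [h1] at h2
    have h3 := h.Dc z hz _ hcB
    have h4 : cj x b * f (p k) * z = f (p k) * cj x b * z := by
      rw [mul_assoc, h2, mul_assoc, h3, mul_assoc]
    exact mul_right_cancel h4

/-- transfer of `Lm` -/
theorem lm (S : Sym B D e f d r r' x p) (h : Tw B Q₁ Q₂ D e f d r r') {k : ι} {b : G}
    (hb : InC B (e k) (f k) b) :
    Lm (r (p k)) (r' (p k)) (cj x b) ↔ Lm (r k) (r' k) b := by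
  unfold Lm
  rw [S.h1.comm_iff h.blk h.Dc S.xB k hb.1 hb.2.1, S.h2.comm_iff h.blk' h.Dc S.xB k hb.1 hb.2.2]

theorem lmD (S : Sym B D e f d r r' x p) (h : Tw B Q₁ Q₂ D e f d r r') {k : ι}
    (hk : ∀ z ∈ D, Lm (r k) (r' k) z) : ∀ z ∈ D, Lm (r (p k)) (r' (p k)) z := by
  intro z hz
  have h1 : cj x⁻¹ z ∈ D := norm_mem (inv_mem S.xD) hz
  have h2 := (S.lm h (h.inC_of_D h1 k)).mpr (hk _ h1)
  rwa [cj_cj_inv] at h2

theorem lme (S : Sym B D e f d r r' x p) (h : Tw B Q₁ Q₂ D e f d r r') {k l : ι} (hkl : l ≠ k)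
    (hk : ∀ z ∈ D, Lm (r (p k)) (r' (p k)) z) :
    Lm (r (p k)) (r' (p k)) (e (p l)) ↔ Lm (r k) (r' k) (e l) := by
  obtain ⟨z, hz, h1⟩ := S.h1.xe l
  rw [← S.lm h (h.inC_e hkl), h1,
    h.mulLm (h.inC_e (fun h2 => hkl (S.inj h h2))) (h.inC_of_D hz _)]
  have := hk z hz
  tauto

theorem lmf (S : Sym B D e f d r r' x p) (h : Tw B Q₁ Q₂ D e f d r r') {k l : ι} (hkl : l ≠ k)
    (hk : ∀ z ∈ D, Lm (r (p k)) (r' (p k)) z) :
    Lm (r (p k)) (r' (p k)) (f (p l)) ↔ Lm (r k) (r' k) (f l) := by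
  obtain ⟨z, hz, h1⟩ := S.h2.xe l
  rw [← S.lm h (h.inC_f hkl), h1,
    h.mulLm (h.inC_f (fun h2 => hkl (S.inj h h2))) (h.inC_of_D hz _)]
  have := hk z hz
  tauto

end Sym

namespace Anti

variable {x : G} {p : ι → ι}

theorem xd (S : Anti B D e f d r r' x p) (h : Tw B Q₁ Q₂ D e f d r r') (k : ι) :
    cj x (d k) = d (p k) := by
  obtain ⟨z, hz, h1⟩ := S.h1.xe k
  obtain ⟨z', hz', h2⟩ := S.h2.xe k
  exact conj_d h.DB h.Dc (h.fe k) (h.ef (p k)) (h.fB _) (h.eB _) hz hz' h1 h2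

theorem inj (S : Anti B D e f d r r' x p) (h : Tw B Q₁ Q₂ D e f d r r') : Function.Injective p := by
  intro k l hkl
  apply h.dinj
  have h1 := S.xd h k
  rw [hkl, ← S.xd h l] at h1
  exact cj_inj h1

theorem lm (S : Anti B D e f d r r' x p) (h : Tw B Q₁ Q₂ D e f d r r') {k : ι} {b : G}
    (hb : InC B (e k) (f k) b) :
    Lm (r (p k)) (r' (p k)) (cj x b) ↔ Lm (r k) (r' k) b := by
  unfold Lm
  rw [S.h1.comm_iff h.blk' h.Dc S.xB k hb.1 hb.2.1, S.h2.comm_iff h.blk h.Dc S.xB k hb.1 hb.2.2]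
  tauto

theorem lme (S : Anti B D e f d r r' x p) (h : Tw B Q₁ Q₂ D e f d r r') {k l : ι} (hkl : l ≠ k)
    (hk : ∀ z ∈ D, Lm (r (p k)) (r' (p k)) z) :
    Lm (r (p k)) (r' (p k)) (f (p l)) ↔ Lm (r k) (r' k) (e l) := by
  obtain ⟨z, hz, h1⟩ := S.h1.xe l
  rw [← S.lm h (h.inC_e hkl), h1,
    h.mulLm (h.inC_f (fun h2 => hkl (S.inj h h2))) (h.inC_of_D hz _)]
  have := hk z hz
  tauto

theorem lmf (S : Anti B D e f d r r' x p) (h : Tw B Q₁ Q₂ D e f d r r') {k l : ι} (hkl : l ≠ k)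
    (hk : ∀ z ∈ D, Lm (r (p k)) (r' (p k)) z) :
    Lm (r (p k)) (r' (p k)) (e (p l)) ↔ Lm (r k) (r' k) (f l) := by
  obtain ⟨z, hz, h1⟩ := S.h2.xe l
  rw [← S.lm h (h.inC_f hkl), h1,
    h.mulLm (h.inC_e (fun h2 => hkl (S.inj h h2))) (h.inC_of_D hz _)]
  have := hk z hz
  tauto

end Anti

/-- The symmetric situation: `λ_i` vanishes on `D` for all `i`. -/
structure Hom (B Q₁ Q₂ D : Subgroup G) (e f d r r' : ι → G) : Prop
    extends Tw B Q₁ Q₂ D e f d r r' where
  sym : ∀ i i', ∃ x p, Sym B D e f d r r' x p ∧ p i = i'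
  anti : ∃ x p, Anti B D e f d r r' x p

namespace Hom

/-- `λ_i` vanishes on `D` for one `i`, hence for all `i`. -/
theorem lmD (h : Hom B Q₁ Q₂ D e f d r r') {i : ι} (hi : ∀ z ∈ D, Lm (r i) (r' i) z) (k : ι) :
    ∀ z ∈ D, Lm (r k) (r' k) z := by
  obtain ⟨x, p, S, rfl⟩ := h.sym i k
  exact S.lmD h.toTw hi

variable [Finite ι]

/-- If `λ_i` is supported on `j`, then `λ_i(e j) = λ_i(f j) = 1`. -/
theorem both (h : Hom B Q₁ Q₂ D e f d r r') {i j : ι} (hi : ∀ z ∈ D, Lm (r i) (r' i) z)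
    (hij : j ≠ i) (hs : ∀ k, k ≠ i → k ≠ j → Lm (r i) (r' i) (e k) ∧ Lm (r i) (r' i) (f k))
    (hj : ¬ Lm (r i) (r' i) (e j) ∨ ¬ Lm (r i) (r' i) (f j)) :
    ¬ Lm (r i) (r' i) (e j) ∧ ¬ Lm (r i) (r' i) (f j) := by
  obtain ⟨x, p, A⟩ := h.anti
  obtain ⟨y, q, S, hqp⟩ := h.sym i (p i)
  have hD := h.lmD hi (p i)
  have hD' := h.lmD hi (q i)
  have a1 := A.lme h.toTw hij hD
  have a2 := A.lmf h.toTw hij hD
  have s1 := S.lme h.toTw hij hD'
  have s2 := S.lmf h.toTw hij hD'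
  have hpq : q j = p j := by
    obtain ⟨m, hm⟩ := (Finite.surjective_of_injective (A.inj h.toTw)) (q j)
    by_cases hmj : m = j
    · rw [← hm, hmj]
    · exfalso
      have hmi : m ≠ i := by
        intro hmi
        rw [hmi, ← hqp] at hm
        exact hij (S.inj h.toTw hm).symm
      have b1 := A.lme h.toTw hmi hD
      have b2 := A.lmf h.toTw hmi hD
      have b3 := hs m hmi hmj
      rw [hm, ← hqp] at b1 b2
      rw [hqp] at s1 s2
      rw [hqp] at b1 b2
      tauto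
  rw [hqp, hpq] at s1 s2
  tauto

/-- Analysis of an element `g ∈ Z(B^)`, `g ∉ D`. -/
theorem support (h : Hom B Q₁ Q₂ D e f d r r') {i : ι} (hi : ∀ z ∈ D, Lm (r i) (r' i) z)
    {g : G} (hg : g ∈ B) (hgD : g ∉ D) (hgr : g * r i = r i * g) (hgr' : g * r' i = r' i * g)
    (hc : ∀ c ∈ B, c * r i = r i * c → c * r' i = r' i * c → g * c = c * g) :
    ∃ j, j ≠ i ∧ ¬ Lm (r i) (r' i) (e j) ∧ ¬ Lm (r i) (r' i) (f j) ∧
      (∀ k, k ≠ i → k ≠ j → Lm (r i) (r' i) (e k) ∧ Lm (r i) (r' i) (f k)) ∧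
      ∃ z ∈ D, g = e j * f j * z := by
  classical
  have hT := h.toTw
  have hgi := hT.inC_of_comm hg hgr hgr'
  -- a generator moved by `g`
  have hex : ∃ j, j ≠ i ∧ (g * e j ≠ e j * g ∨ g * f j ≠ f j * g) := by
    by_contra hno
    push Not at hno
    refine hgD (hT.cent g hg (fun k => ?_) fun k => ?_)
    · by_cases hk : k = i
      · rw [hk]; exact hgi.2.1
      · exact (hno k hk).1
    · by_cases hk : k = i
      · rw [hk]; exact hgi.2.2
      · exact (hno k hk).2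
  obtain ⟨j, hji, hj⟩ := hex
  -- the two generators with index `j`
  have cL : ∀ b, InC B (e i) (f i) b → Lm (r i) (r' i) b → g * b = b * g := fun b hb hL =>
    hT.comm_of_Lm hg hc hb hL
  have cLL : ∀ b b', InC B (e i) (f i) b → InC B (e i) (f i) b' → ¬ Lm (r i) (r' i) b →
      ¬ Lm (r i) (r' i) b' → g * (b * b') = b * b' * g := by
    intro b b' hb hb' hL hL'
    refine cL _ (inC_mul hb hb') ?_
    rw [hT.mulLm hb hb']
    tauto
  have hej := hT.inC_e hji
  have hfj := hT.inC_f hji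
  have hj' : ¬ Lm (r i) (r' i) (e j) ∨ ¬ Lm (r i) (r' i) (f j) := by
    rcases hj with h1 | h1
    · left; exact fun h2 => h1 (cL _ hej h2)
    · right; exact fun h2 => h1 (cL _ hfj h2)
  -- a generator moved by `g`, as `u`
  obtain ⟨u, hu, huL, hug, huD⟩ : ∃ u, InC B (e i) (f i) u ∧ ¬ Lm (r i) (r' i) u ∧
      g * u ≠ u * g ∧ cj g u = d j * u := by
    rcases hj with h1 | h1
    · exact ⟨e j, hej, fun h2 => h1 (cL _ hej h2), h1,
        (hT.diche j hg).resolve_left fun h2 => h1 (cj_eq_iff.mp h2)⟩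
    · exact ⟨f j, hfj, fun h2 => h1 (cL _ hfj h2), h1,
        (hT.dichf j hg).resolve_left fun h2 => h1 (cj_eq_iff.mp h2)⟩
  -- the other indices
  have hs : ∀ k, k ≠ i → k ≠ j → Lm (r i) (r' i) (e k) ∧ Lm (r i) (r' i) (f k) := by
    intro k hki hkj
    have key : ∀ w, InC B (e i) (f i) w → (cj g w = w ∨ cj g w = d k * w) →
        Lm (r i) (r' i) w := by
      intro w hw hwd
      by_contra hL
      have h1 := cj_eq_iff.mpr (cLL u w hu hw huL hL)
      rw [cj_mul, huD] at h1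
      rcases hwd with h2 | h2
      · rw [h2, mul_assoc] at h1
        exact hT.dne j (by simpa using h1)
      · rw [h2] at h1
        have h3 : d j * u * (d k * w) = (d j * d k) * (u * w) := by
          calc d j * u * (d k * w) = d j * (u * d k) * w := by group
            _ = (d j * d k) * (u * w) := by rw [← hT.dc k hu.1]; group
        rw [h3] at h1
        have h4 : d j * d k = 1 := by simpa using h1
        have h5 : d j = d k := by
          rw [mul_eq_one_iff_eq_inv.mp h4, hT.di]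
        exact hkj (hT.dinj h5).symm
    exact ⟨key _ (hT.inC_e hki) (hT.diche k hg), key _ (hT.inC_f hki) (hT.dichf k hg)⟩
  obtain ⟨be, bf⟩ := h.both hi hji hs hj'
  refine ⟨j, hji, be, bf, hs, ?_⟩
  -- `g` moves `e j` and `f j`
  have hmv : ∀ w, InC B (e i) (f i) w → ¬ Lm (r i) (r' i) w → g * w ≠ w * g := by
    intro w hw hL h1
    have h2 := cLL u w hu hw huL hL
    refine hug (mul_right_cancel (b := w) ?_)
    rw [mul_assoc, h2, mul_assoc, ← h1, mul_assoc]
  have ge : cj g (e j) = d j * e j :=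
    (hT.diche j hg).resolve_left fun h2 => hmv _ hej be (cj_eq_iff.mp h2)
  have gf : cj g (f j) = d j * f j :=
    (hT.dichf j hg).resolve_left fun h2 => hmv _ hfj bf (cj_eq_iff.mp h2)
  -- the action of `e j * f j`
  have hB : e j * f j ∈ B := B.mul_mem (hT.eB j) (hT.fB j)
  have we : cj (e j * f j) (e j) = d j * e j := by
    have h1 : cj (f j) (e j) = d j * e j := by unfold cj; rw [hT.fe]; group
    rw [mul_cj, h1, cj_mul, cj_eq_iff.mpr (hT.dc j (hT.eB j)).symm, cj_eq_iff.mpr rfl]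
  have wf : cj (e j * f j) (f j) = d j * f j := by
    have h1 : cj (e j) (f j) = d j * f j := by unfold cj; rw [hT.ef]; group
    have h2 : cj (f j) (f j) = f j := cj_eq_iff.mpr rfl
    rw [mul_cj, h2, h1]
  refine ⟨(e j * f j)⁻¹ * g, ?_, by group⟩
  have key : ∀ w, cj g w = cj (e j * f j) w → ((e j * f j)⁻¹ * g) * w = w * ((e j * f j)⁻¹ * g) := by
    intro w hw
    apply cj_eq_iff.mp
    rw [mul_cj, hw, cj_inv_cj]
  refine hT.cent _ (B.mul_mem (B.inv_mem hB) hg) (fun k => key _ ?_) fun k => key _ ?_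
  · by_cases hkj : k = j
    · rw [hkj, ge, we]
    · have h1 : cj (e j * f j) (e k) = e k := by
        rw [mul_cj, cj_eq_iff.mpr (hT.fec k j hkj), cj_eq_iff.mpr (hT.comm1 (hT.eQ j) (hT.eQ k))]
      rw [h1]
      apply cj_eq_iff.mpr
      by_cases hki : k = i
      · rw [hki]; exact hgi.2.1
      · exact cL _ (hT.inC_e hki) (hs k hki hkj).1
  · by_cases hkj : k = j
    · rw [hkj, gf, wf]
    · have h1 : cj (e j * f j) (f k) = f k := by
        rw [mul_cj, cj_eq_iff.mpr (hT.comm2 (hT.fQ j) (hT.fQ k)),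
          cj_eq_iff.mpr (hT.fec j k (Ne.symm hkj)).symm]
      rw [h1]
      apply cj_eq_iff.mpr
      by_cases hki : k = i
      · rw [hki]; exact hgi.2.2
      · exact cL _ (hT.inC_f hki) (hs k hki hkj).2

end Hom

end Cfsg.Agent.Omega.SQ1.TwistSym
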