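import Cfsg.Agent.MinSimple.Choice97
import Cfsg.Agent.MinSimple.CaseOneAP
import Cfsg.Agent.S1442

/-!
# The unique maximal 2-local case, one block, `q = 2` (SQ1, #6862 (6))

`Hyp T Q s`: `T` is a 2-group, `Q ≤ T` is elementary abelian and normal in `T`, `C_T(Q) = Q`, `T` is a Sylow
2-subgroup of `N_G(Q)`, `s` normalises `T`, `s ^ 2 ∈ T`, `|Q : Q ∩ Q ^ s| = 2`, and the elementary abelian
subgroups of `T` of order `≥ |Q|` lie in `B = Q Q ^ s`.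

This file: elementary consequences, the weak closure of `B`, the transvections induced on `Q` by the
conjugates of `B` in `N_G(Q)`.
-/

set_option autoImplicit false

namespace Cfsg.Agent.Omega.SQ1.Two

open Subgroup Cfsg Cfsg.Agent.ZN Cfsg.Agent.ZN.ChoiceBase Cfsg.Agent.ZN.ChoiceSit
open Cfsg.Agent.MinSimple.CaseOneAP (mul_mem_of_relIndex comm_of_sq)

universe u

variable {G : Type u} [Group G]

/-- The hypotheses without the one on the elementary abelian subgroups. -/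
structure Hyp0 (T Q : Subgroup G) (s : G) : Prop where
  syl : Syl T (normalizer (Q : Set G))
  QT : Q ≤ T
  sq : ∀ q ∈ Q, q * q = 1
  cent : ∀ t ∈ T, (∀ q ∈ Q, t * q = q * t) → t ∈ Q
  sT : s ∈ normalizer (T : Set G)
  ss : s * s ∈ T
  idx : (Q ⊓ cj s Q).relIndex Q = 2

/-- See the module documentation. -/
structure Hyp (T Q : Subgroup G) (s : G) : Prop extends Hyp0 T Q s where
  jt : ∀ A : Subgroup G, A ≤ T → (∀ a ∈ A, a * a = 1) → Nat.card Q ≤ Nat.card A → A ≤ Q ⊔ cj s Q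

namespace Hyp0

variable {T Q : Subgroup G} {s : G}

theorem two (h : Hyp0 T Q s) : IsPGroup 2 T := h.syl.2.1

theorem TN (h : Hyp0 T Q s) : T ≤ normalizer (Q : Set G) := h.syl.1

theorem conj (_h : Hyp0 T Q s) {g q : G} (hg : g ∈ normalizer (Q : Set G)) (hq : q ∈ Q) :
    g * q * g⁻¹ ∈ Q := (mem_normalizer_iff.1 hg q).1 hq

theorem conj' (_h : Hyp0 T Q s) {g q : G} (hg : g ∈ normalizer (Q : Set G)) (hq : q ∈ Q) :
    g⁻¹ * q * g ∈ Q := by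
  have := (mem_normalizer_iff.1 (inv_mem hg) q).1 hq
  rwa [inv_inv] at this

theorem comm (h : Hyp0 T Q s) {a b : G} (ha : a ∈ Q) (hb : b ∈ Q) : a * b = b * a :=
  comm_of_sq h.sq ha hb

theorem inv_eq (h : Hyp0 T Q s) {a : G} (ha : a ∈ Q) : a⁻¹ = a := inv_eq_of_mul_eq_one_left (h.sq a ha)

theorem sTc (h : Hyp0 T Q s) {x : G} (hx : x ∈ T) : s * x * s⁻¹ ∈ T := (mem_normalizer_iff.1 h.sT x).1 hx

theorem sTc' (h : Hyp0 T Q s) {x : G} (hx : x ∈ T) : s⁻¹ * x * s ∈ T := by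
  have := (mem_normalizer_iff.1 (inv_mem h.sT) x).1 hx
  rwa [inv_inv] at this

/-- `Q ^ s ≤ T`. -/
theorem Q'T (h : Hyp0 T Q s) : cj s Q ≤ T := by
  intro x hx
  rw [mem_cj] at hx
  have := h.sTc (h.QT hx)
  have e : s * (s⁻¹ * x * s) * s⁻¹ = x := by group
  rwa [e] at this

theorem mem' (_h : Hyp0 T Q s) {q : G} (hq : q ∈ Q) : s * q * s⁻¹ ∈ cj s Q := by
  rw [mem_cj]
  have e : s⁻¹ * (s * q * s⁻¹) * s = q := by group
  rwa [e]

theorem ssc (h : Hyp0 T Q s) {q : G} (hq : q ∈ Q) : (s * s) * q * (s * s)⁻¹ ∈ Q := h.conj (h.TN h.ss) hq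

theorem ssc' (h : Hyp0 T Q s) {q : G} (hq : q ∈ Q) : (s * s)⁻¹ * q * (s * s) ∈ Q := h.conj' (h.TN h.ss) hq

/-- `s` maps `Q ^ s` to `Q`. -/
theorem swap' (h : Hyp0 T Q s) {q : G} (hq : q ∈ cj s Q) : s * q * s⁻¹ ∈ Q := by
  rw [mem_cj] at hq
  have := h.ssc hq
  have e : s * s * (s⁻¹ * q * s) * (s * s)⁻¹ = s * q * s⁻¹ := by group
  rwa [e] at this

/-- `s⁻¹` maps `Q` to `Q ^ s`. -/
theorem swap'' (h : Hyp0 T Q s) {q : G} (hq : q ∈ Q) : s⁻¹ * q * s ∈ cj s Q := by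
  rw [mem_cj]
  have := h.ssc' hq
  have e : (s * s)⁻¹ * q * (s * s) = s⁻¹ * (s⁻¹ * q * s) * s := by group
  rwa [e] at this

/-- `T` normalises `Q ^ s`. -/
theorem TN' (h : Hyp0 T Q s) : T ≤ normalizer ((cj s Q : Subgroup G) : Set G) := by
  intro t ht
  rw [mem_normalizer_iff]
  intro x
  have h1 := h.TN (h.sTc' ht)
  rw [mem_cj, mem_cj, (mem_normalizer_iff.1 h1 (s⁻¹ * x * s))]
  have e : s⁻¹ * t * s * (s⁻¹ * x * s) * (s⁻¹ * t * s)⁻¹ = s⁻¹ * (t * x * t⁻¹) * s := by group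
  rw [e]

theorem sq' (h : Hyp0 T Q s) {q : G} (hq : q ∈ cj s Q) : q * q = 1 := by
  rw [mem_cj] at hq
  have := h.sq _ hq
  calc q * q = s * ((s⁻¹ * q * s) * (s⁻¹ * q * s)) * s⁻¹ := by group
    _ = 1 := by rw [this]; group

theorem comm' (h : Hyp0 T Q s) {a b : G} (ha : a ∈ cj s Q) (hb : b ∈ cj s Q) : a * b = b * a :=
  comm_of_sq (fun _ hq => h.sq' hq) ha hb

/-- `D = Q ∩ Q ^ s`. -/
abbrev D (_h : Hyp0 T Q s) : Subgroup G := Q ⊓ cj s Q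

/-- `B = Q Q ^ s`. -/
abbrev B (_h : Hyp0 T Q s) : Subgroup G := Q ⊔ cj s Q

theorem sD (h : Hyp0 T Q s) {x : G} (hx : x ∈ Q ⊓ cj s Q) : s * x * s⁻¹ ∈ Q ⊓ cj s Q :=
  ⟨h.swap' hx.2, h.mem' hx.1⟩

theorem sD' (h : Hyp0 T Q s) {x : G} (hx : x ∈ Q ⊓ cj s Q) : s⁻¹ * x * s ∈ Q ⊓ cj s Q :=
  ⟨mem_cj.1 hx.2, h.swap'' hx.1⟩

theorem s_notMem (h : Hyp0 T Q s) {x : G} (hx : x ∉ Q ⊓ cj s Q) : s * x * s⁻¹ ∉ Q ⊓ cj s Q := by
  intro hh
  apply hx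
  have := h.sD' hh
  have e : s⁻¹ * (s * x * s⁻¹) * s = x := by group
  rwa [e] at this

theorem s_notMem' (h : Hyp0 T Q s) {x : G} (hx : x ∉ Q ⊓ cj s Q) : s⁻¹ * x * s ∉ Q ⊓ cj s Q := by
  intro hh
  apply hx
  have := h.sD hh
  have e : s * (s⁻¹ * x * s) * s⁻¹ = x := by group
  rwa [e] at this

theorem mulD (h : Hyp0 T Q s) {a b : G} (ha : a ∈ Q) (hb : b ∈ Q) (ha' : a ∉ Q ⊓ cj s Q)
    (hb' : b ∉ Q ⊓ cj s Q) : a * b ∈ Q ⊓ cj s Q := mul_mem_of_relIndex h.idx ha hb ha' hb'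

theorem mulD' (h : Hyp0 T Q s) {a b : G} (ha : a ∈ cj s Q) (hb : b ∈ cj s Q) (ha' : a ∉ Q ⊓ cj s Q)
    (hb' : b ∉ Q ⊓ cj s Q) : a * b ∈ Q ⊓ cj s Q := by
  have h1 := h.mulD (mem_cj.1 ha) (mem_cj.1 hb) (h.s_notMem' ha') (h.s_notMem' hb')
  have h2 := h.sD h1
  have e : s * (s⁻¹ * a * s * (s⁻¹ * b * s)) * s⁻¹ = a * b := by group
  rwa [e] at h2

theorem exists_a (h : Hyp0 T Q s) : ∃ a ∈ Q, a ∉ Q ⊓ cj s Q := by
  obtain ⟨c, hc, h1, -⟩ := relIndex_eq_two_iff_exists_notMem_and.1 h.idx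
  exact ⟨c, hc, h1⟩

/-- Elements of `T` commuting with `D` and an element of `Q \ D` lie in `Q`. -/
theorem cent_of (h : Hyp0 T Q s) {t a : G} (ht : t ∈ T) (ha : a ∈ Q) (ha' : a ∉ Q ⊓ cj s Q)
    (hD : ∀ d ∈ Q ⊓ cj s Q, t * d = d * t) (hta : t * a = a * t) : t ∈ Q := by
  refine h.cent t ht fun q hq => ?_
  by_cases hqD : q ∈ Q ⊓ cj s Q
  · exact hD q hqD
  · have h1 := hD _ (h.mulD ha hq ha' hqD)
    have h2 : t * (a * q) = a * (t * q) := by rw [← mul_assoc, hta, mul_assoc]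
    have h3 : a * (t * q) = a * (q * t) := by rw [← h2, h1, mul_assoc]
    exact mul_left_cancel h3

/-- An element of `Q ^ s \ D` and an element of `Q \ D` do not commute. -/
theorem ncomm (h : Hyp0 T Q s) {a b : G} (ha : a ∈ Q) (ha' : a ∉ Q ⊓ cj s Q) (hb : b ∈ cj s Q)
    (hb' : b ∉ Q ⊓ cj s Q) : b * a ≠ a * b := by
  intro hh
  exact hb' ⟨h.cent_of (h.Q'T hb) ha ha' (fun d hd => h.comm' hb hd.2) hh, hb⟩

/-- The commutator of `a` and `b` lies in `D`. -/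
theorem z_mem (h : Hyp0 T Q s) {a b : G} (ha : a ∈ Q) (hb : b ∈ cj s Q) :
    a * b * a * b ∈ Q ⊓ cj s Q := by
  have h1 : a * b * a⁻¹ ∈ cj s Q := (mem_normalizer_iff.1 (h.TN' (h.QT ha)) b).1 hb
  have h2 : b * a * b⁻¹ ∈ Q := h.conj (h.TN (h.Q'T hb)) ha
  have ea : a⁻¹ = a := h.inv_eq ha
  have eb : b⁻¹ = b := inv_eq_of_mul_eq_one_left (h.sq' hb)
  rw [ea] at h1
  rw [eb] at h2
  refine ⟨?_, mul_mem h1 hb⟩
  have e : a * b * a * b = a * (b * a * b) := by group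
  rw [e]
  exact mul_mem ha h2

/-- The commutator of an element of `Q \ D` and one of `Q ^ s \ D` does not depend on the elements. -/
theorem z_eq (h : Hyp0 T Q s) {a b a' b' : G} (ha : a ∈ Q) (ha1 : a ∉ Q ⊓ cj s Q) (hb : b ∈ cj s Q)
    (hb1 : b ∉ Q ⊓ cj s Q) (ha' : a' ∈ Q) (ha1' : a' ∉ Q ⊓ cj s Q) (hb' : b' ∈ cj s Q)
    (hb1' : b' ∉ Q ⊓ cj s Q) : a' * b' * a' * b' = a * b * a * b := by
  obtain ⟨d, hd, rfl⟩ : ∃ d ∈ Q ⊓ cj s Q, a' = a * d := by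
    refine ⟨a * a', h.mulD ha ha' ha1 ha1', ?_⟩
    rw [← mul_assoc, h.sq a ha, one_mul]
  obtain ⟨e, he, rfl⟩ : ∃ e ∈ Q ⊓ cj s Q, b' = b * e := by
    refine ⟨b * b', h.mulD' hb hb' hb1 hb1', ?_⟩
    rw [← mul_assoc, h.sq' hb, one_mul]
  have c1 : d * b = b * d := h.comm' hd.2 hb
  have c2 : e * a = a * e := h.comm he.1 ha
  have c3 : d * e = e * d := h.comm hd.1 he.1
  have c4 : d * a = a * d := h.comm hd.1 ha
  have c5 : e * b = b * e := h.comm' he.2 hb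
  have hdd := h.sq d hd.1
  have hee := h.sq e he.1
  calc a * d * (b * e) * (a * d) * (b * e) = a * (d * b) * (e * a) * (d * b) * e := by group
    _ = a * b * (d * a) * (e * b) * (d * e) := by rw [c1, c2]; group
    _ = a * b * a * d * b * e * (d * e) := by rw [c4, c5]; group
    _ = a * b * a * (d * b) * e * (d * e) := by group
    _ = a * b * a * b * (d * (e * e) * d) := by rw [c1, c3]; group
    _ = a * b * a * b := by rw [hee, mul_one, hdd, mul_one]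

end Hyp0

end Cfsg.Agent.Omega.SQ1.Two
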