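import Cfsg.Agent.Omega.SQ1.TwoTrans

/-!
# The unique maximal 2-local case, one block, `q = 2`: the block

`Blk T Q s a b z g x`: `g ∈ N_G(Q)` does not normalise `B`.  Then `V = ⟨z, z ^ g⟩` and `R = C_Q(L)` are normal in
`N_G(Q)` and there is an element `x` of order `3` in `N_G(Q)` with `z → z ^ g → z z ^ g → z`, centralising `R`.
-/

set_option autoImplicit false

namespace Cfsg.Agent.Omega.SQ1.Two

open Subgroup Cfsg Cfsg.Agent.ZN Cfsg.Agent.ZN.ChoiceBase Cfsg.Agent.ZN.ChoiceSit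
open Cfsg.Agent.MinSimple.CaseOneAP (mul_mem_of_relIndex comm_of_sq)

universe u

variable {G : Type u} [Group G] {T Q : Subgroup G} {s a b z : G}

namespace Frame

theorem cj_trans {g k : G} (h1 : cj (g⁻¹ * k) (Q ⊔ cj s Q) = Q ⊔ cj s Q) :
    cj k (Q ⊔ cj s Q) = cj g (Q ⊔ cj s Q) := by
  have h2 := congrArg (cj g) h1
  rw [cj_cj] at h2
  have e : g * (g⁻¹ * k) = k := by group
  rwa [e] at h2

theorem cj_trans' {g k : G} (h1 : cj k (Q ⊔ cj s Q) = cj g (Q ⊔ cj s Q)) :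
    cj (g⁻¹ * k) (Q ⊔ cj s Q) = Q ⊔ cj s Q := by
  have h2 := congrArg (cj g⁻¹) h1
  rwa [cj_cj, cj_inv_cj] at h2

/-- Equal conjugates of `B` have the same `z` and the same `D`. -/
theorem data_eq [Finite G] (h : Frame T Q s a b z) {g k : G} (hg : g ∈ normalizer (Q : Set G))
    (hk : k ∈ normalizer (Q : Set G)) (he : cj k (Q ⊔ cj s Q) = cj g (Q ⊔ cj s Q)) :
    k * z * k⁻¹ = g * z * g⁻¹ ∧ ∀ y, k⁻¹ * y * k ∈ Q ⊓ cj s Q ↔ g⁻¹ * y * g ∈ Q ⊓ cj s Q := by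
  have h1 := cj_trans' he
  have hgk := mul_mem (inv_mem hg) hk
  constructor
  · have h2 := h.fix_z hgk h1
    calc k * z * k⁻¹ = g * (g⁻¹ * k * z * (g⁻¹ * k)⁻¹) * g⁻¹ := by group
      _ = g * z * g⁻¹ := by rw [h2]
  · intro y
    rw [← h.norm_D hgk h1 (k⁻¹ * y * k)]
    have e : g⁻¹ * k * (k⁻¹ * y * k) * (g⁻¹ * k)⁻¹ = g⁻¹ * y * g := by group
    rw [e]

/-- The conjugates of `z` and `D` under `N_G(Q)`. -/
theorem trich [Finite G] (hc : IsCharacteristicTwoType G) (h : Frame T Q s a b z) {g k : G}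
    (hg : g ∈ normalizer (Q : Set G)) (hgB : cj g (Q ⊔ cj s Q) ≠ Q ⊔ cj s Q)
    (hk : k ∈ normalizer (Q : Set G)) :
    (k * z * k⁻¹ = z ∨ k * z * k⁻¹ = g * z * g⁻¹ ∨ k * z * k⁻¹ = g * z * g⁻¹ * z) ∧
      ∀ y ∈ Q ⊓ cj s Q, g⁻¹ * y * g ∈ Q ⊓ cj s Q → k⁻¹ * y * k ∈ Q ⊓ cj s Q := by
  have hbN : b ∈ normalizer (Q : Set G) := h.TN (h.BT h.bB)
  have hz1D : g * z * g⁻¹ ∉ Q ⊓ cj s Q := fun hh => hgB (h.cj_eq_of_mem hc hg hh)
  have hzD1 : g⁻¹ * z * g ∉ Q ⊓ cj s Q := fun hh => hgB (h.cj_eq_of_mem' hc hg hh)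
  have hz1Q : g * z * g⁻¹ ∈ Q := h.conj hg h.zQ
  by_cases hkB : cj k (Q ⊔ cj s Q) = Q ⊔ cj s Q
  · refine ⟨Or.inl (h.fix_z hk hkB), fun y hy _ => ?_⟩
    have h1 := (h.data_eq (one_mem _) hk (by rw [hkB, cj_one])).2 y
    rw [h1]
    simpa using hy
  · have hzkD : k * z * k⁻¹ ∉ Q ⊓ cj s Q := fun hh => hkB (h.cj_eq_of_mem hc hk hh)
    have hzkQ : k * z * k⁻¹ ∈ Q := h.conj hk h.zQ
    by_cases hkg : cj k (Q ⊔ cj s Q) = cj g (Q ⊔ cj s Q)
    · obtain ⟨h1, h2⟩ := h.data_eq hg hk hkg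
      exact ⟨Or.inr (Or.inl h1), fun y _ hy => (h2 y).2 hy⟩
    · -- `k` must be equivalent to `b * g`
      have hbg : b * g ∈ normalizer (Q : Set G) := mul_mem hbN hg
      have hz1b : b * g * z * (b * g)⁻¹ = g * z * g⁻¹ * z := by
        have := h.actb hz1Q hz1D
        rw [← this]; group
      have hkbg : cj k (Q ⊔ cj s Q) = cj (b * g) (Q ⊔ cj s Q) := by
        by_contra hne
        -- `z_k ∉ D_g`
        have n1 : g⁻¹ * (k * z * k⁻¹) * g ∉ Q ⊓ cj s Q := by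
          intro hh
          apply hkg
          refine cj_trans (h.cj_eq_of_mem hc (mul_mem (inv_mem hg) hk) ?_)
          have e : g⁻¹ * k * z * (g⁻¹ * k)⁻¹ = g⁻¹ * (k * z * k⁻¹) * g := by group
          rwa [e]
        have n2 : (b * g)⁻¹ * (k * z * k⁻¹) * (b * g) ∉ Q ⊓ cj s Q := by
          intro hh
          apply hne
          refine cj_trans (h.cj_eq_of_mem hc (mul_mem (inv_mem hbg) hk) ?_)
          have e : (b * g)⁻¹ * k * z * ((b * g)⁻¹ * k)⁻¹ = (b * g)⁻¹ * (k * z * k⁻¹) * (b * g) := by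
            group
          rwa [e]
        apply n2
        have e1 : b⁻¹ * (k * z * k⁻¹) * b = k * z * k⁻¹ * z := by
          have hb' : b⁻¹ = b := inv_eq_of_mul_eq_one_left h.bb
          have := h.actb hzkQ hzkD
          calc b⁻¹ * (k * z * k⁻¹) * b = b * (k * z * k⁻¹) * b⁻¹ := by rw [hb']
            _ = k * z * k⁻¹ * z := this
        have e : (b * g)⁻¹ * (k * z * k⁻¹) * (b * g) =
            (g⁻¹ * (k * z * k⁻¹) * g) * (g⁻¹ * z * g) := by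
          calc (b * g)⁻¹ * (k * z * k⁻¹) * (b * g) = g⁻¹ * (b⁻¹ * (k * z * k⁻¹) * b) * g := by group
            _ = g⁻¹ * (k * z * k⁻¹ * z) * g := by rw [e1]
            _ = _ := by group
        rw [e]
        exact h.mulD (h.conj' hg hzkQ) (h.conj' hg h.zQ) n1 hzD1
      obtain ⟨h1, h2⟩ := h.data_eq hbg hk hkbg
      refine ⟨Or.inr (Or.inr (by rw [h1, hz1b])), fun y hyD hy => ?_⟩
      rw [h2 y]
      have e1 : b⁻¹ * y * b = y := by
        have := h.D_comm h.bB hyD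
        calc b⁻¹ * y * b = b⁻¹ * (y * b) := by group
          _ = b⁻¹ * (b * y) := by rw [this]
          _ = y := by group
      have e : (b * g)⁻¹ * y * (b * g) = g⁻¹ * (b⁻¹ * y * b) * g := by group
      rw [e, e1]
      exact hy

end Frame

/-- The block. -/
structure Blk (T Q : Subgroup G) (s a b z z₁ x : G) (R : Subgroup G) : Prop
    extends Frame T Q s a b z where
  z1Q : z₁ ∈ Q
  z1D : z₁ ∉ Q ⊓ cj s Q
  RD : R ≤ Q ⊓ cj s Q
  zR : z ∉ R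
  dec : ∀ q ∈ Q, q ∈ R ∨ q * z ∈ R ∨ q * z₁ ∈ R ∨ q * (z₁ * z) ∈ R
  conjz : ∀ k ∈ normalizer (Q : Set G), k * z * k⁻¹ = z ∨ k * z * k⁻¹ = z₁ ∨ k * z * k⁻¹ = z₁ * z
  conjz1 : ∀ k ∈ normalizer (Q : Set G), k * z₁ * k⁻¹ = z ∨ k * z₁ * k⁻¹ = z₁ ∨ k * z₁ * k⁻¹ = z₁ * z
  conjR : ∀ k ∈ normalizer (Q : Set G), ∀ r ∈ R, k * r * k⁻¹ ∈ R
  xN : x ∈ normalizer (Q : Set G)
  x3 : x ^ 3 = 1
  xz : x * z * x⁻¹ = z₁
  xz1 : x * z₁ * x⁻¹ = z₁ * z
  xR : ∀ r ∈ R, x * r = r * x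

theorem Frame.exists_blk [Finite G] (hc : IsCharacteristicTwoType G) (h : Frame T Q s a b z) {g : G}
    (hg : g ∈ normalizer (Q : Set G)) (hgB : cj g (Q ⊔ cj s Q) ≠ Q ⊔ cj s Q) :
    ∃ (z₁ x : G) (R : Subgroup G), Blk T Q s a b z z₁ x R := by
  have hbN : b ∈ normalizer (Q : Set G) := h.TN (h.BT h.bB)
  have hb' : b⁻¹ = b := inv_eq_of_mul_eq_one_left h.bb
  have hz1D : g * z * g⁻¹ ∉ Q ⊓ cj s Q := fun hh => hgB (h.cj_eq_of_mem hc hg hh)
  have hzD1 : g⁻¹ * z * g ∉ Q ⊓ cj s Q := fun hh => hgB (h.cj_eq_of_mem' hc hg hh)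
  have hz1Q : g * z * g⁻¹ ∈ Q := h.conj hg h.zQ
  have htri := fun {k : G} (hk : k ∈ normalizer (Q : Set G)) => h.trich hc hg hgB hk
  set z₁ := g * z * g⁻¹ with hz1
  have hz1z1 : z₁ * z₁ = 1 := h.sq _ hz1Q
  have hzz1 : z * z₁ = z₁ * z := h.comm h.zQ hz1Q
  set b₁ := g * b * g⁻¹ with hb1
  have hb1N : b₁ ∈ normalizer (Q : Set G) := mul_mem (mul_mem hg hbN) (inv_mem hg)
  -- action of `b₁`
  have hb1z1 : b₁ * z₁ * b₁⁻¹ = z₁ := by
    have := h.act_D h.bB h.zD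
    calc b₁ * z₁ * b₁⁻¹ = g * (b * z * b⁻¹) * g⁻¹ := by rw [hb1, hz1]; group
      _ = z₁ := by rw [this]
  have hb1z : b₁ * z * b₁⁻¹ = z₁ * z := by
    have := h.actb (h.conj' hg h.zQ) hzD1
    calc b₁ * z * b₁⁻¹ = g * (b * (g⁻¹ * z * g) * b⁻¹) * g⁻¹ := by rw [hb1]; group
      _ = g * (g⁻¹ * z * g * z) * g⁻¹ := by rw [this]
      _ = z * z₁ := by rw [hz1]; group
      _ = z₁ * z := hzz1
  have hbz : b * z * b⁻¹ = z := h.act_D h.bB h.zD
  have hbz1 : b * z₁ * b⁻¹ = z₁ * z := h.actb hz1Q hz1D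
  set R : Subgroup G := (Q ⊓ cj s Q) ⊓ cj g (Q ⊓ cj s Q) with hR
  have memR : ∀ {y : G}, y ∈ R ↔ y ∈ Q ⊓ cj s Q ∧ g⁻¹ * y * g ∈ Q ⊓ cj s Q := by
    intro y
    rw [hR, mem_inf (p := Q ⊓ cj s Q), mem_cj]
  set u := b * b₁ with hu
  have huN : u ∈ normalizer (Q : Set G) := mul_mem hbN hb1N
  have huz : u * z * u⁻¹ = z₁ := by
    calc u * z * u⁻¹ = b * (b₁ * z * b₁⁻¹) * b⁻¹ := by rw [hu]; group
      _ = (b * z₁ * b⁻¹) * (b * z * b⁻¹) := by rw [hb1z]; group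
      _ = z₁ := by rw [hbz1, hbz, mul_assoc, h.zz, mul_one]
  have huz1 : u * z₁ * u⁻¹ = z₁ * z := by
    calc u * z₁ * u⁻¹ = b * (b₁ * z₁ * b₁⁻¹) * b⁻¹ := by rw [hu]; group
      _ = z₁ * z := by rw [hb1z1, hbz1]
  have huR : ∀ r ∈ R, u * r = r * u := by
    intro r hr
    obtain ⟨h1, h2⟩ := memR.1 hr
    have e1 := h.D_comm h.bB h1
    have e2 := h.D_comm h.bB h2
    have e3 : b₁ * r = r * b₁ := by
      calc b₁ * r = g * (b * (g⁻¹ * r * g)) * g⁻¹ := by rw [hb1]; group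
        _ = g * (g⁻¹ * r * g * b) * g⁻¹ := by rw [e2]
        _ = r * b₁ := by rw [hb1]; group
    rw [hu, mul_assoc, e3, ← mul_assoc, e1, mul_assoc]
  have hdec : ∀ q ∈ Q, q ∈ R ∨ q * z ∈ R ∨ q * z₁ ∈ R ∨ q * (z₁ * z) ∈ R := by
    intro q hq
    have hgq := h.conj' hg hq
    have hzg : g⁻¹ * z₁ * g = z := by rw [hz1]; group
    by_cases h1 : q ∈ Q ⊓ cj s Q
    · by_cases h2 : g⁻¹ * q * g ∈ Q ⊓ cj s Q
      · exact Or.inl (memR.2 ⟨h1, h2⟩)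
      · refine Or.inr (Or.inl (memR.2 ⟨mul_mem h1 h.zD, ?_⟩))
        have := h.mulD hgq (h.conj' hg h.zQ) h2 hzD1
        have e : g⁻¹ * (q * z) * g = g⁻¹ * q * g * (g⁻¹ * z * g) := by group
        rw [e]; exact this
    · by_cases h2 : g⁻¹ * q * g ∈ Q ⊓ cj s Q
      · refine Or.inr (Or.inr (Or.inl (memR.2 ⟨h.mulD hq hz1Q h1 hz1D, ?_⟩)))
        have e : g⁻¹ * (q * z₁) * g = g⁻¹ * q * g * (g⁻¹ * z₁ * g) := by group
        rw [e, hzg]
        exact mul_mem h2 h.zD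
      · refine Or.inr (Or.inr (Or.inr (memR.2 ⟨?_, ?_⟩)))
        · have := mul_mem (h.mulD hq hz1Q h1 hz1D) h.zD
          rwa [mul_assoc] at this
        · have e : g⁻¹ * (q * (z₁ * z)) * g =
              (g⁻¹ * q * g * (g⁻¹ * z * g)) * (g⁻¹ * z₁ * g) := by
            rw [← hzz1]; group
          rw [e, hzg]
          exact mul_mem (h.mulD hgq (h.conj' hg h.zQ) h2 hzD1) h.zD
  -- `c = u ^ 3` centralises `Q`
  obtain ⟨c, hcdef⟩ : ∃ c : G, c = u * u * u := ⟨_, rfl⟩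
  have hu3z : c * z * c⁻¹ = z := by
    calc c * z * c⁻¹ = u * (u * (u * z * u⁻¹) * u⁻¹) * u⁻¹ := by rw [hcdef]; group
      _ = u * (z₁ * z) * u⁻¹ := by rw [huz, huz1]
      _ = (u * z₁ * u⁻¹) * (u * z * u⁻¹) := by group
      _ = z₁ * z * z₁ := by rw [huz1, huz]
      _ = z := by rw [mul_assoc, hzz1, ← mul_assoc, hz1z1, one_mul]
  have hcu : c * u = u * c := by rw [hcdef]; group
  have hcu' : c * u * c⁻¹ = u := by rw [hcu, mul_inv_cancel_right]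
  have hu3z1 : c * z₁ * c⁻¹ = z₁ := by
    calc c * z₁ * c⁻¹ = (c * u * c⁻¹) * (c * z * c⁻¹) * (c * u * c⁻¹)⁻¹ := by rw [← huz]; group
      _ = z₁ := by rw [hcu', hu3z, huz]
  have hu3R : ∀ r ∈ R, c * r = r * c := fun r hr => by
    have h1 : Commute u r := huR r hr
    rw [hcdef]
    exact ((h1.mul_left h1).mul_left h1).eq
  have hu3 : ∀ q ∈ Q, c * q = q * c := by
    have c1 : c * z = z * c := mul_inv_eq_iff_eq_mul.1 hu3z
    have c2 : c * z₁ = z₁ * c := mul_inv_eq_iff_eq_mul.1 hu3z1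
    have key : ∀ v ∈ Q, c * v = v * c → ∀ q ∈ Q, q * v ∈ R → c * q = q * c := by
      intro v hv hcv q hq hqv
      have h1 := hu3R _ hqv
      have e : q = (q * v) * v := by rw [mul_assoc, h.sq v hv, mul_one]
      calc c * q = (c * (q * v)) * v := by rw [mul_assoc, ← e]
        _ = (q * v) * (c * v) := by rw [h1]; group
        _ = ((q * v) * v) * c := by rw [hcv]; group
        _ = q * c := by rw [← e]
    intro q hq
    rcases hdec q hq with h1 | h1 | h1 | h1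
    · exact hu3R q h1
    · exact key z h.zQ c1 q hq h1
    · exact key z₁ hz1Q c2 q hq h1
    · exact key (z₁ * z) (mul_mem hz1Q h.zQ)
        ((show Commute c z₁ from c2).mul_right (show Commute c z from c1)).eq q hq h1
  have hu3Q : c ∈ Q := h.centQ hc hu3
  have hu6 : c * c = 1 := h.sq _ hu3Q
  have hcN : c ∈ normalizer (Q : Set G) := le_normalizer hu3Q
  have hxa : ∀ q ∈ Q, (u * c) * q * (u * c)⁻¹ = u * q * u⁻¹ := by
    intro q hq
    have e : (u * c) * q * (u * c)⁻¹ = u * (c * q * c⁻¹) * u⁻¹ := by group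
    rw [e, hu3 q hq, mul_inv_cancel_right]
  refine ⟨z₁, u * c, R, ⟨h, hz1Q, hz1D, inf_le_left, fun hh => hzD1 (memR.1 hh).2, hdec,
    fun k hk => (htri hk).1, ?_, ?_, mul_mem huN hcN, ?_, ?_, ?_, ?_⟩⟩
  · intro k hk
    have h1 := (htri (mul_mem hk hg)).1
    have e : k * g * z * (k * g)⁻¹ = k * z₁ * k⁻¹ := by rw [hz1]; group
    rwa [e] at h1
  · intro k hk r hr
    -- `r` lies in all `D_m`
    have hall : ∀ m ∈ normalizer (Q : Set G), m⁻¹ * r * m ∈ Q ⊓ cj s Q := fun m hm =>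
      (htri hm).2 r (memR.1 hr).1 (memR.1 hr).2
    refine memR.2 ⟨?_, ?_⟩
    · have := hall k⁻¹ (inv_mem hk)
      rwa [inv_inv] at this
    · have := hall (k⁻¹ * g) (mul_mem (inv_mem hk) hg)
      have e : (k⁻¹ * g)⁻¹ * r * (k⁻¹ * g) = g⁻¹ * (k * r * k⁻¹) * g := by group
      rwa [e] at this
  · have h1 : Commute u c := hcu.symm
    have e3 : u ^ 3 = c := by rw [hcdef, pow_succ, pow_two]
    rw [h1.mul_pow, e3]
    calc c * c ^ 3 = (c * c) * (c * c) := by rw [pow_succ, pow_two]; group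
      _ = 1 := by rw [hu6, mul_one]
  · rw [hxa z h.zQ, huz]
  · rw [hxa z₁ hz1Q, huz1]
  · intro r hr
    have h1 : Commute u r := huR r hr
    have h2 : Commute c r := hu3R r hr
    exact (h1.mul_left h2).eq

end Cfsg.Agent.Omega.SQ1.Two
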