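import Cfsg.Agent.Omega.SQ1.TwoKill
import Cfsg.Agent.MinSimple.PushOne
import Cfsg.Agent.MinSimple.SelfCentFour

/-!
# The unique maximal 2-local case, one block, `q = 2`: the end (SQ1, #6862 (6))

`main`: in a group `G` of characteristic 2 type with a configuration `Hyp T Q s` such that `N_G(Q)` does not
normalise `B = Q Q ^ s`, either `G` has 2-rank at most 2 (Sylow 2-subgroups of maximal class) or `G` has a normal
subgroup of index 2.
-/

set_option autoImplicit false

namespace Cfsg.Agent.Omega.SQ1.Two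

open Subgroup Cfsg Cfsg.Agent.ZN Cfsg.Agent.ZN.ChoiceBase Cfsg.Agent.ZN.ChoiceSit
open Cfsg.Agent.MinSimple.CaseOneAP (mul_mem_of_relIndex comm_of_sq)

universe u

variable {G : Type u} [Group G] {T Q : Subgroup G} {s a b z z₁ x : G} {R : Subgroup G}

namespace Blk

variable [Finite G]

/-- elements of `D` outside `R`, `R ^ s` -/
theorem mul_mem_R (h : Blk T Q s a b z z₁ x R) {c d : G} (hc : c ∈ Q ⊓ cj s Q)
    (hd : d ∈ Q ⊓ cj s Q) (hcR : c ∉ R) (hdR : d ∉ R) : c * d ∈ R := by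
  -- every element of `D` is in `R` or `R z`
  have key : ∀ y ∈ Q ⊓ cj s Q, y ∉ R → y * z ∈ R := by
    intro y hy hyR
    rcases h.dec y hy.1 with h1 | h1 | h1 | h1
    · exact absurd h1 hyR
    · exact h1
    · exfalso
      apply h.z1D
      have := mul_mem (inv_mem hy) (h.RD h1)
      rwa [inv_mul_cancel_left] at this
    · exfalso
      apply h.z1D
      have h2 := mul_mem (inv_mem hy) (h.RD h1)
      rw [inv_mul_cancel_left] at h2
      have h3 := mul_mem h2 h.zD
      rwa [mul_assoc, h.zz, mul_one] at h3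
  have h1 := mul_mem (key c hc hcR) (key d hd hdR)
  have h2 : z * d = d * z := h.comm h.zQ hd.1
  have e : c * z * (d * z) = c * d := by
    calc c * z * (d * z) = c * (z * d) * z := by group
      _ = c * d * (z * z) := by rw [h2]; group
      _ = c * d := by rw [h.zz, mul_one]
  rwa [e] at h1

theorem sR (h : Blk T Q s a b z z₁ x R) (hc : IsCharacteristicTwoType G) {r : G} (hr : r ∈ R)
    (hsr : s⁻¹ * r * s ∈ R) : r = 1 := by
  have h1 : r ∈ R ⊓ cj s R := ⟨hr, mem_cj.2 hsr⟩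
  rw [h.killing hc, mem_bot] at h1
  exact h1

/-- `|R| ≤ 2`. -/
theorem R_unique (h : Blk T Q s a b z z₁ x R) (hc : IsCharacteristicTwoType G) {c d : G}
    (hcR : c ∈ R) (hdR : d ∈ R) (hc1 : c ≠ 1) (hd1 : d ≠ 1) : c = d := by
  have h1 : s⁻¹ * c * s ∉ R := fun hh => hc1 (h.sR hc hcR hh)
  have h2 : s⁻¹ * d * s ∉ R := fun hh => hd1 (h.sR hc hdR hh)
  have h3 := h.mul_mem_R (h.sD' (h.RD hcR)) (h.sD' (h.RD hdR)) h1 h2
  have e : s⁻¹ * c * s * (s⁻¹ * d * s) = s⁻¹ * (c * d) * s := by group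
  rw [e] at h3
  have h4 := h.sR hc (mul_mem hcR hdR) h3
  have h5 := h.sq d (h.RQ hdR)
  calc c = c * (d * d) := by rw [h5, mul_one]
    _ = (c * d) * d := by group
    _ = d := by rw [h4, one_mul]

/-- `T` centralises `R`. -/
theorem TR (h : Blk T Q s a b z z₁ x R) (hc : IsCharacteristicTwoType G) {t r : G} (ht : t ∈ T)
    (hr : r ∈ R) : t * r = r * t := by
  by_cases hr1 : r = 1
  · rw [hr1, mul_one, one_mul]
  · have h1 := h.conjR t (h.TN ht) r hr
    have h2 : t * r * t⁻¹ ≠ 1 := by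
      intro hh
      apply hr1
      have : r = t⁻¹ * (t * r * t⁻¹) * t := by group
      rw [this, hh]; group
    exact mul_inv_eq_iff_eq_mul.1 (h.R_unique hc h1 hr h2 hr1)

/-- `T = B`. -/
theorem T_eq (h : Blk T Q s a b z z₁ x R) (hc : IsCharacteristicTwoType G) : T = Q ⊔ cj s Q := by
  refine le_antisymm (fun t ht => ?_) h.BT
  -- elements of `T` centralising `z₁` lie in `Q`
  have key : ∀ t ∈ T, t * z₁ * t⁻¹ = z₁ → t ∈ Q := by
    intro t ht h1
    have hz1 : t * z₁ = z₁ * t := mul_inv_eq_iff_eq_mul.1 h1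
    have hz : t * z = z * t := mul_inv_eq_iff_eq_mul.1 (h.Tz ht)
    refine h.cent t ht fun q hq => ?_
    have key : ∀ v ∈ Q, t * v = v * t → q * v ∈ R → t * q = q * t := by
      intro v hv hcv hqv
      have h1 := h.TR hc ht hqv
      have e : q = (q * v) * v := by rw [mul_assoc, h.sq v hv, mul_one]
      calc t * q = (t * (q * v)) * v := by rw [mul_assoc, ← e]
        _ = (q * v) * (t * v) := by rw [h1]; group
        _ = ((q * v) * v) * t := by rw [hcv]; group
        _ = q * t := by rw [← e]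
    rcases h.dec q hq with h1 | h1 | h1 | h1
    · exact h.TR hc ht h1
    · exact key z h.zQ hz h1
    · exact key z₁ h.z1Q hz1 h1
    · exact key (z₁ * z) (mul_mem h.z1Q h.zQ)
        ((show Commute t z₁ from hz1).mul_right (show Commute t z from hz)).eq h1
  rcases h.conjz1 t (h.TN ht) with h1 | h1 | h1
  · exfalso
    apply h.z1_ne
    have h2 := h.Tz ht
    rw [← h2] at h1
    exact mul_left_cancel (mul_right_cancel h1)
  · exact (le_sup_left : Q ≤ _) (key t ht h1)
  · have hbT : b ∈ T := h.BT h.bB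
    have h2 : b * t ∈ Q := by
      refine key _ (mul_mem hbT ht) ?_
      have h3 : b * z₁ * b⁻¹ = z₁ * z := h.actb h.z1Q h.z1D
      calc b * t * z₁ * (b * t)⁻¹ = b * (t * z₁ * t⁻¹) * b⁻¹ := by group
        _ = (b * z₁ * b⁻¹) * (b * z * b⁻¹) := by rw [h1]; group
        _ = z₁ := by rw [h3, h.Tz hbT, mul_assoc, h.zz, mul_one]
    have e : t = b⁻¹ * (b * t) := by group
    rw [e]
    exact mul_mem (inv_mem h.bB) ((le_sup_left : Q ≤ _) h2)

/-- `Q = V × R`. -/
theorem Q_le (h : Blk T Q s a b z z₁ x R) {K : Subgroup G} (hz : z ∈ K) (hz1 : z₁ ∈ K)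
    (hR : R ≤ K) : Q ≤ K := by
  intro q hq
  have key : ∀ v ∈ K, q * v ∈ R → q ∈ K := by
    intro v hv h1
    have := mul_mem (hR h1) (inv_mem hv)
    rwa [mul_inv_cancel_right] at this
  rcases h.dec q hq with h1 | h1 | h1 | h1
  · exact hR h1
  · exact key z hz h1
  · exact key z₁ hz1 h1
  · exact key _ (mul_mem hz1 hz) h1

/-- The case `R = 1`. -/
theorem pRankLE (h : Blk T Q s a b z z₁ x R) (S : Sylow 2 G)
    (hTS : T ≤ S) (hR : R = ⊥) : PRankLE 2 2 G := by
  have hQ : ∀ q ∈ Q, q = 1 ∨ q = z ∨ q = z₁ ∨ q = z₁ * z := by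
    intro q hq
    have hi : ∀ v ∈ Q, q * v = 1 → q = v := by
      intro v hv h1
      calc q = (q * v) * v := by rw [mul_assoc, h.sq v hv, mul_one]
        _ = v := by rw [h1, one_mul]
    rcases h.dec q hq with h1 | h1 | h1 | h1
    · left; rwa [hR, mem_bot] at h1
    · right; left
      rw [hR, mem_bot] at h1
      exact hi z h.zQ h1
    · right; right; left
      rw [hR, mem_bot] at h1
      exact hi z₁ h.z1Q h1
    · right; right; right
      rw [hR, mem_bot] at h1
      exact hi _ (mul_mem h.z1Q h.zQ) h1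
  have hz1ne : z₁ ≠ 1 := fun h1 => h.z1D (h1 ▸ one_mem _)
  have hzz1ne : z₁ * z ≠ 1 := by
    intro h1
    apply h.z1_ne
    calc z₁ = z₁ * z * z := by rw [mul_assoc, h.zz, mul_one]
      _ = z := by rw [h1, one_mul]
  have hcard : Nat.card Q = 4 := by
    classical
    have hset : (Q : Set G) = (({1, z, z₁, z₁ * z} : Finset G) : Set G) := by
      ext q
      simp only [SetLike.mem_coe, Finset.coe_insert, Finset.coe_singleton, Set.mem_insert_iff,
        Set.mem_singleton_iff]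
      constructor
      · exact hQ q
      · rintro (rfl | rfl | rfl | rfl)
        · exact one_mem _
        · exact h.zQ
        · exact h.z1Q
        · exact mul_mem h.z1Q h.zQ
    have h1 : Nat.card Q = Nat.card ((Q : Set G)) := rfl
    rw [h1, hset, Nat.card_eq_card_finite_toFinset (Finset.finite_toSet _),
      Finset.finite_toSet_toFinset]
    have hz1' := h.z1
    have n1 : z ≠ z₁ * z := by
      intro h1
      apply hz1ne
      exact (mul_right_cancel (show 1 * z = z₁ * z by rw [one_mul]; exact h1)).symm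
    have n2 : z₁ ≠ z₁ * z := by
      intro h1
      apply h.z1
      exact (mul_left_cancel (show z₁ * 1 = z₁ * z by rw [mul_one]; exact h1)).symm
    rw [Finset.card_insert_of_notMem, Finset.card_insert_of_notMem, Finset.card_insert_of_notMem,
      Finset.card_singleton]
    · simp only [Finset.mem_singleton]
      exact n2
    · simp only [Finset.mem_insert, Finset.mem_singleton, not_or]
      exact ⟨h.z1_ne.symm, n1⟩
    · simp only [Finset.mem_insert, Finset.mem_singleton, not_or]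
      exact ⟨hz1'.symm, hz1ne.symm, hzz1ne.symm⟩
  refine MinSimple.SelfCentFour.pRankLE S (h.QT.trans hTS) hcard (fun v hv => h.sq v hv) ?_
  rintro y ⟨hyS, hyc⟩
  have hyN : y ∈ normalizer (Q : Set G) := centralizer_le_normalizer _ hyc
  have h1 := h.syl.2.2 (T ⊔ zpowers y) (sup_le h.TN (zpowers_le.2 hyN))
    (S.isPGroup'.to_le (sup_le hTS (zpowers_le.2 hyS))) le_sup_left
  have hyT : y ∈ T := by
    rw [← h1]
    exact (le_sup_right : zpowers y ≤ T ⊔ zpowers y) (mem_zpowers y)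
  exact h.cent y hyT fun q hq => (mem_centralizer_iff.1 hyc q hq).symm

/-- `T` is a Sylow 2-subgroup of `C_G(c)`, `1 ≠ c ∈ R`. -/
theorem syl_c (h : Blk T Q s a b z z₁ x R) (hc : IsCharacteristicTwoType G) {c : G} (hcR : c ∈ R)
    (hc1 : c ≠ 1) : Syl T (centralizer ({c} : Set G)) := by
  refine ⟨fun t ht => mem_centralizer_singleton_iff.2 (h.TR hc ht hcR), h.two, fun P hP hP2 hTP => ?_⟩
  by_contra hne
  obtain ⟨p, hpP, hpN, hpT, -⟩ := Cfsg.Agent.MinSimple.Choice97.exists_normalizing hP2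
    (lt_of_le_of_ne hTP (Ne.symm hne))
  have hpc : p * c = c * p := mem_centralizer_singleton_iff.1 (hP hpP)
  -- `p` does not normalise `Q`
  have hpQ : p ∉ normalizer (Q : Set G) := by
    intro hh
    apply hpT
    have h1 := h.syl.2.2 (T ⊔ zpowers p) (sup_le h.TN (zpowers_le.2 hh))
      (hP2.to_le (sup_le hTP (zpowers_le.2 hpP))) le_sup_left
    rw [← h1]
    exact (le_sup_right : zpowers p ≤ T ⊔ zpowers p) (mem_zpowers p)
  have h1 : cj p Q ≤ T := by
    have := cj_mono p h.QT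
    rwa [cj_eq_of_mem_normalizer hpN] at this
  have h2 : cj p Q = cj s Q := by
    rcases h.cj_Q h1 with h2 | h2
    · exact absurd (mem_normalizer_iff_cj.2 h2) hpQ
    · exact h2
  have h3 : s⁻¹ * p ∈ normalizer (Q : Set G) := by
    rw [mem_normalizer_iff_cj, ← cj_cj, h2, cj_inv_cj]
  have h4 := h.conjR _ h3 c hcR
  apply hc1
  refine h.sR hc hcR ?_
  have e : s⁻¹ * p * c * (s⁻¹ * p)⁻¹ = s⁻¹ * c * s := by
    calc s⁻¹ * p * c * (s⁻¹ * p)⁻¹ = s⁻¹ * (p * c) * p⁻¹ * s := by group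
      _ = s⁻¹ * c * s := by rw [hpc]; group
  rwa [e] at h4

theorem card_T (h : Blk T Q s a b z z₁ x R) (hc : IsCharacteristicTwoType G) {c : G} (hcR : c ∈ R)
    (hc1 : c ≠ 1) : Nat.card T ≤ 16 := by
  have hR : R ≤ zpowers c := by
    intro r hr
    by_cases hr1 : r = 1
    · rw [hr1]; exact one_mem _
    · rw [h.R_unique hc hr hcR hr1 hc1]; exact mem_zpowers c
  have hcc : c * c = 1 := h.sq c (h.RQ hcR)
  have card2 : ∀ y : G, y * y = 1 → Nat.card (zpowers y) ≤ 2 := by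
    intro y hy
    rw [Nat.card_zpowers]
    exact Nat.le_of_dvd two_pos (orderOf_dvd_of_pow_eq_one (by rw [pow_two]; exact hy))
  have cardsup : ∀ (H : Subgroup G) (y : G), y ∈ normalizer (H : Set G) → y * y = 1 →
      Nat.card (zpowers y ⊔ H : Subgroup G) ≤ 2 * Nat.card H := by
    intro H y hyn hyy
    have hs : Function.Surjective (fun p : zpowers y × H =>
        (⟨p.1 * p.2, mul_mem ((le_sup_left : zpowers y ≤ _) p.1.2)
          ((le_sup_right : H ≤ _) p.2.2)⟩ : (zpowers y ⊔ H : Subgroup G))) := by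
      rintro ⟨w, hw⟩
      obtain ⟨u, hu, v, hv, rfl⟩ := Cfsg.Agent.OddOrderLocal.RankBasics.exists_mul_of_mem_sup
        (zpowers_le.2 hyn) hw
      exact ⟨(⟨u, hu⟩, ⟨v, hv⟩), rfl⟩
    have h1 := Nat.card_le_card_of_surjective _ hs
    rw [Nat.card_prod] at h1
    exact h1.trans (Nat.mul_le_mul_right _ (card2 y hyy))
  have hcomm : ∀ {H : Subgroup G} {y : G}, (∀ w ∈ H, y * w = w * y) → y ∈ normalizer (H : Set G) := by
    intro H y hy
    exact centralizer_le_normalizer _ (mem_centralizer_iff.2 fun w hw => (hy w hw).symm)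
  have hQle : Q ≤ zpowers z₁ ⊔ (zpowers z ⊔ zpowers c) :=
    h.Q_le ((le_sup_left.trans le_sup_right : zpowers z ≤ _) (mem_zpowers z))
      ((le_sup_left : zpowers z₁ ≤ _) (mem_zpowers z₁))
      ((hR.trans le_sup_right).trans le_sup_right)
  have hzc : (zpowers z ⊔ zpowers c : Subgroup G) ≤ Q :=
    sup_le (zpowers_le.2 h.zQ) (zpowers_le.2 (h.RQ hcR))
  have c1 := card2 c hcc
  have c2 := cardsup (zpowers c) z (hcomm fun w hw => h.comm h.zQ (zpowers_le.2 (h.RQ hcR) hw)) h.zz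
  have c3 := cardsup (zpowers z ⊔ zpowers c) z₁ (hcomm fun w hw => h.comm h.z1Q (hzc hw)) h.z1z1
  have c4 : Nat.card Q ≤ 8 := (card_le_of_le hQle).trans (by omega)
  have hbQ : b ∈ normalizer (Q : Set G) := h.TN (h.BT h.bB)
  have c5 := cardsup Q b hbQ h.bb
  have hTle : T ≤ zpowers b ⊔ Q := by
    rw [h.T_eq hc]
    refine sup_le le_sup_right fun r hr => ?_
    by_cases hrD : r ∈ Q ⊓ cj s Q
    · exact (le_sup_right : Q ≤ _) hrD.1
    · have h1 := (h.mulD' h.bQ hr h.bD hrD).1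
      have e : r = b⁻¹ * (b * r) := by group
      rw [e]
      exact mul_mem (inv_mem ((le_sup_left : zpowers b ≤ _) (mem_zpowers b)))
        ((le_sup_right : Q ≤ _) h1)
  exact (card_le_of_le hTle).trans (by omega)

/-- The case `R ≠ 1`. -/
theorem exists_index_two (h : Blk T Q s a b z z₁ x R) (hc : IsCharacteristicTwoType G) (S : Sylow 2 G)
    (hTS : T ≤ S) (hsS : s ∈ S) {c : G} (hcR : c ∈ R) (hc1 : c ≠ 1) :
    ∃ N : Subgroup G, N.Normal ∧ N.index = 2 := by
  have hR : ∀ r ∈ R, r = 1 ∨ r = c := by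
    intro r hr
    by_cases hr1 : r = 1
    · exact Or.inl hr1
    · exact Or.inr (h.R_unique hc hr hcR hr1 hc1)
  have hb' : s⁻¹ * z₁ * s ∈ cj s Q := h.swap'' h.z1Q
  have hb'D : s⁻¹ * z₁ * s ∉ Q ⊓ cj s Q := h.s_notMem' h.z1D
  have hbB : s⁻¹ * z₁ * s ∈ Q ⊔ cj s Q := (le_sup_right : cj s Q ≤ _) hb'
  have hsz : s⁻¹ * z * s = z := by
    calc s⁻¹ * z * s = s⁻¹ * (s * z * s⁻¹) * s := by rw [h.sz]
      _ = z := by group
  have hcs : s⁻¹ * c * s = c * z := by
    have h1 := h.sD' (h.RD hcR)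
    have h2 : s⁻¹ * c * s ∉ R := fun hh => hc1 (h.sR hc hcR hh)
    have h3 := h.mul_mem_R h1 h.zD h2 h.zR
    rcases hR _ h3 with h4 | h4
    · exfalso
      have h5 : s⁻¹ * c * s = z := by
        calc s⁻¹ * c * s = s⁻¹ * c * s * z * z := by rw [mul_assoc _ z z, h.zz, mul_one]
          _ = z := by rw [h4, one_mul]
      rw [← hsz] at h5
      have h6 : c = z := mul_left_cancel (mul_right_cancel h5)
      exact h.zR (h6 ▸ hcR)
    · calc s⁻¹ * c * s = s⁻¹ * c * s * z * z := by rw [mul_assoc _ z z, h.zz, mul_one]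
        _ = c * z := by rw [h4]
  refine MinSimple.PushOne.exists_index_two S (a := z₁) (c := c) (s := s) (v := z)
    (hTS (h.QT h.z1Q)) (hTS (h.QT (h.RQ hcR))) hsS h.z1z1 (h.sq c (h.RQ hcR))
    (h.comm h.z1Q (h.RQ hcR)) (h.D_comm hbB (h.RD hcR)) (h.zeq h.z1Q h.z1D hb' hb'D ▸ by group)
    h.zz1 h.z1 hcs ?_ ⟨x⁻¹, by rw [inv_inv]; exact h.xiz1⟩ ?_
  · -- `s * s ∈ T = ⟨z₁, z₁ ^ s, c⟩`
    have m1 : z₁ ∈ closure {z₁, s⁻¹ * z₁ * s, c} := subset_closure (by simp)
    have m2 : s⁻¹ * z₁ * s ∈ closure {z₁, s⁻¹ * z₁ * s, c} := subset_closure (by simp)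
    have m3 : c ∈ closure {z₁, s⁻¹ * z₁ * s, c} := subset_closure (by simp)
    have m4 : z ∈ closure {z₁, s⁻¹ * z₁ * s, c} := by
      rw [← h.zeq h.z1Q h.z1D hb' hb'D]
      exact mul_mem (mul_mem (mul_mem m1 m2) m1) m2
    have hQ : Q ≤ closure {z₁, s⁻¹ * z₁ * s, c} := by
      refine h.Q_le m4 m1 fun r hr => ?_
      rcases hR r hr with h1 | h1
      · rw [h1]; exact one_mem _
      · rw [h1]; exact m3
    have hQ' : cj s Q ≤ closure {z₁, s⁻¹ * z₁ * s, c} := by
      intro r hr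
      by_cases hrD : r ∈ Q ⊓ cj s Q
      · exact hQ hrD.1
      · have h1 := (h.mulD' hb' hr hb'D hrD).1
        have e : r = (s⁻¹ * z₁ * s)⁻¹ * (s⁻¹ * z₁ * s * r) := by group
        rw [e]
        exact mul_mem (inv_mem m2) (hQ h1)
    have hTB := h.T_eq hc
    have := h.ss
    rw [hTB] at this
    exact (sup_le hQ hQ') this
  · intro P hP hPc
    have hPX : P ≤ centralizer ({c} : Set G) := fun y hy =>
      mem_centralizer_singleton_iff.2 (hPc y hy)
    obtain ⟨S', hS', hPS'⟩ := exists_syl hP hPX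
    obtain ⟨g, -, hg⟩ := syl_conj (h.syl_c hc hcR hc1) hS'
    calc Nat.card P ≤ Nat.card S' := card_le_of_le hPS'
      _ = Nat.card T := by rw [← hg, card_cj]
      _ ≤ 16 := h.card_T hc hcR hc1

end Blk

/-- **SQ1, one block, `q = 2`.** -/
theorem main [Finite G] (hc : IsCharacteristicTwoType G) (S : Sylow 2 G) (h : Hyp T Q s) (hTS : T ≤ S)
    (hsS : s ∈ S) (hmove : ¬ normalizer (Q : Set G) ≤ normalizer ((Q ⊔ cj s Q : Subgroup G) : Set G)) :
    PRankLE 2 2 G ∨ ∃ N : Subgroup G, N.Normal ∧ N.index = 2 := by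
  obtain ⟨a, b, z, hf⟩ := h.exists_frame
  obtain ⟨g, hg, hgB⟩ := SetLike.not_le_iff_exists.1 hmove
  rw [mem_normalizer_iff_cj] at hgB
  obtain ⟨z₁, x, R, hB⟩ := hf.exists_blk hc hg hgB
  by_cases hR : R = ⊥
  · exact Or.inl (hB.pRankLE S hTS hR)
  · obtain ⟨⟨c, hcR⟩, hc1⟩ := (Subgroup.ne_bot_iff_exists_ne_one).1 hR
    exact Or.inr (hB.exists_index_two hc S hTS hsS hcR fun h1 => hc1 (Subtype.ext h1))

end Cfsg.Agent.Omega.SQ1.Two
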