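import Cfsg.Agent.Omega.SQ1.TwoCore

/-!
# The unique maximal 2-local case, one block, `q = 2`: the killing lemma

`R ∩ R ^ s = 1` in a group of characteristic 2 type.
-/

set_option autoImplicit false

namespace Cfsg.Agent.Omega.SQ1.Two

open Subgroup Cfsg Cfsg.Agent.ZN Cfsg.Agent.ZN.ChoiceBase Cfsg.Agent.ZN.ChoiceSit
open Cfsg.Agent.MinSimple.CaseOneAP (mul_mem_of_relIndex comm_of_sq)

universe u

variable {G : Type u} [Group G] {T Q : Subgroup G} {s a b z z₁ x : G} {R : Subgroup G}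

theorem mem_norm_of_forall [Finite G] {H : Subgroup G} {g : G} (h : ∀ y ∈ H, g * y * g⁻¹ ∈ H) :
    g ∈ normalizer (H : Set G) := by
  refine mem_normalizer_of_cj_le ?_
  rintro _ ⟨y, hy, rfl⟩
  exact h y hy

namespace Blk

theorem z1z1 (h : Blk T Q s a b z z₁ x R) : z₁ * z₁ = 1 := h.sq _ h.z1Q

theorem zz1 (h : Blk T Q s a b z z₁ x R) : z * z₁ = z₁ * z := h.comm h.zQ h.z1Q

theorem z1_ne (h : Blk T Q s a b z z₁ x R) : z₁ ≠ z := fun he => h.z1D (he ▸ h.zD)

theorem xzz1 (h : Blk T Q s a b z z₁ x R) : x * (z₁ * z) * x⁻¹ = z := by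
  calc x * (z₁ * z) * x⁻¹ = (x * z₁ * x⁻¹) * (x * z * x⁻¹) := by group
    _ = z₁ * z * z₁ := by rw [h.xz1, h.xz]
    _ = z := by rw [mul_assoc, h.zz1, ← mul_assoc, h.z1z1, one_mul]

theorem xiz (h : Blk T Q s a b z z₁ x R) : x⁻¹ * z * x = z₁ * z := by
  calc x⁻¹ * z * x = x⁻¹ * (x * (z₁ * z) * x⁻¹) * x := by rw [h.xzz1]
    _ = z₁ * z := by group

theorem xiz1 (h : Blk T Q s a b z z₁ x R) : x⁻¹ * z₁ * x = z := by
  calc x⁻¹ * z₁ * x = x⁻¹ * (x * z * x⁻¹) * x := by rw [h.xz]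
    _ = z := by group

theorem RQ (h : Blk T Q s a b z z₁ x R) : R ≤ Q := h.RD.trans inf_le_left

/-- `C_Q(x) ≤ R`. -/
theorem mem_R (h : Blk T Q s a b z z₁ x R) {q : G} (hq : q ∈ Q) (hc : x * q = q * x) : q ∈ R := by
  have key : ∀ v ∈ Q, q * v ∈ R → x * v * x⁻¹ = v := by
    intro v hv hqv
    have h1 := h.xR _ hqv
    have h2 : x * (q * v) * x⁻¹ = q * v := by rw [h1, mul_inv_cancel_right]
    have h3 : x * q * x⁻¹ = q := by rw [hc, mul_inv_cancel_right]
    have h4 : x * (q * v) * x⁻¹ = (x * q * x⁻¹) * (x * v * x⁻¹) := by group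
    rw [h4, h3] at h2
    exact mul_left_cancel h2
  rcases h.dec q hq with h1 | h1 | h1 | h1
  · exact h1
  · exfalso
    have := key z h.zQ h1
    rw [h.xz] at this
    exact h.z1_ne this
  · exfalso
    have := key z₁ h.z1Q h1
    rw [h.xz1] at this
    exact h.z1 (mul_left_cancel (this.trans (mul_one z₁).symm))
  · exfalso
    have := key _ (mul_mem h.z1Q h.zQ) h1
    rw [h.xzz1] at this
    have h2 : z₁ * z * z = 1 * z * z := by
      rw [← this, h.zz, one_mul]
      rw [this] 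
      have := mul_right_cancel (show (1 : G) * z = z₁ * z by rw [one_mul]; exact this)
      rw [← this, one_mul, h.zz]
    have h3 := mul_right_cancel (mul_right_cancel h2)
    exact h.z1D (h3 ▸ one_mem _)

variable [Finite G]

/-- The killing lemma. -/
theorem killing (hc : IsCharacteristicTwoType G) (h : Blk T Q s a b z z₁ x R) : R ⊓ cj s R = ⊥ := by
  have hp : Fact (Nat.Prime 2) := ⟨Nat.prime_two⟩
  by_contra hne
  set E : Subgroup G := R ⊓ cj s R with hE
  have hEQ : E ≤ Q := inf_le_left.trans h.RQ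
  have hE2 : IsPGroup 2 E := h.isPGroup_Q.to_le hEQ
  set N : Subgroup G := normalizer (E : Set G) with hN
  have hloc : IsTwoLocal N := ⟨E, hE2, hne, rfl⟩
  set W : Subgroup G := o2 N with hW
  have hW2 : IsPGroup 2 W := isPGroup_o2 N
  have hNW : N ≤ normalizer (W : Set G) := le_normalizer_o2 N
  have hEW : E ≤ W := le_o2 hE2 le_normalizer le_rfl
  have hself := self_cent hc hloc
  have hWN : W ≤ N := o2_le N
  have conjW : ∀ {n w : G}, n ∈ N → w ∈ W → n * w * n⁻¹ ∈ W := fun hn hw =>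
    (mem_normalizer_iff.1 (hNW hn) _).1 hw
  -- `B ≤ N`
  have hcentN : ∀ y : G, (∀ e ∈ E, y * e = e * y) → y ∈ N := by
    intro y hy
    refine centralizer_le_normalizer _ (mem_centralizer_iff.2 fun e he => (hy e he).symm)
  have hBN : Q ⊔ cj s Q ≤ N := fun y hy => hcentN y fun e he => h.D_comm hy (h.RD he.1)
  have hxN : x ∈ N := hcentN x fun e he => h.xR e he.1
  -- `s` normalises `E`, `N`, `W`
  have hRs2 : cj (s * s) R = R := by
    refine le_antisymm ?_ ?_
    · rintro _ ⟨r, hr, rfl⟩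
      exact h.conjR _ (h.TN h.ss) r hr
    · intro r hr
      rw [mem_cj]
      have := h.conjR _ (inv_mem (h.TN h.ss)) r hr
      rwa [inv_inv] at this
  have hEs : cj s E = E := by
    rw [hE, cj_inf, cj_cj, hRs2, inf_comm]
  have hNs : cj s N = N := by rw [hN, cj_normalizer, hEs]
  have hWs : cj s W = W := by rw [hW, ← o2_cj, hNs]
  have sN : ∀ {y : G}, y ∈ N → s * y * s⁻¹ ∈ N := by
    intro y hy
    rw [← hNs, mem_cj]
    have e : s⁻¹ * (s * y * s⁻¹) * s = y := by group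
    rwa [e]
  have sW : ∀ {y : G}, y ∈ W → s⁻¹ * y * s ∈ W := by
    intro y hy
    rw [← hWs] at hy
    exact mem_cj.1 hy
  -- (i) `z ∉ W`
  have hzW : z ∉ W := by
    intro hz
    have hx' : s * x * s⁻¹ ∈ N := sN hxN
    set v := s * z₁ * s⁻¹ with hv
    have hvW : v ∈ W := by
      have h1 := conjW hx' hz
      have e : s * x * s⁻¹ * z * (s * x * s⁻¹)⁻¹ = v := by
        have hsz : s⁻¹ * z * s = z := by
          have := h.sz
          calc s⁻¹ * z * s = s⁻¹ * (s * z * s⁻¹) * s := by rw [this]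
            _ = z := by group
        calc s * x * s⁻¹ * z * (s * x * s⁻¹)⁻¹ = s * (x * (s⁻¹ * z * s) * x⁻¹) * s⁻¹ := by group
          _ = v := by rw [hsz, h.xz]
      rwa [e] at h1
    have hvQ' : v ∈ cj s Q := h.mem' h.z1Q
    have hvD : v ∉ Q ⊓ cj s Q := h.s_notMem h.z1D
    have hvB : v ∈ Q ⊔ cj s Q := (le_sup_right : cj s Q ≤ _) hvQ'
    have hvnQ : v ∉ Q := fun hh => hvD ⟨hh, hvQ'⟩
    have hvv : v⁻¹ = v := inv_eq_of_mul_eq_one_left (h.sq' hvQ')
    have hvz : v * z * v⁻¹ = z := h.act_D hvB h.zD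
    have hvz1 : v * z₁ * v⁻¹ = z₁ * z := h.actB hvB hvnQ h.z1Q h.z1D
    have hvzz1 : v * (z₁ * z) * v⁻¹ = z₁ := by
      calc v * (z₁ * z) * v⁻¹ = (v * z₁ * v⁻¹) * (v * z * v⁻¹) := by group
        _ = z₁ := by rw [hvz1, hvz, mul_assoc, h.zz, mul_one]
    obtain ⟨w, hw⟩ : ∃ w : G, w = v * x * v⁻¹ * x⁻¹ := ⟨_, rfl⟩
    have hwW : w ∈ W := by
      rw [hw]
      have h1 := conjW hxN (inv_mem hvW)
      have e : v * x * v⁻¹ * x⁻¹ = v * (x * v⁻¹ * x⁻¹) := by group
      rw [e]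
      exact mul_mem hvW h1
    have hxiz := h.xiz
    have hxiz1 := h.xiz1
    have hviz : v⁻¹ * z * v = z := by
      calc v⁻¹ * z * v = v⁻¹ * (v * z * v⁻¹) * v := by rw [hvz]
        _ = z := by group
    have hvizz1 : v⁻¹ * (z₁ * z) * v = z₁ := by
      rw [← hvz1]; group
    have hwz : w * z * w⁻¹ = z₁ := by
      calc w * z * w⁻¹ = v * (x * (v⁻¹ * (x⁻¹ * z * x) * v) * x⁻¹) * v⁻¹ := by rw [hw]; group
        _ = z₁ := by rw [hxiz, hvizz1, h.xz1, hvzz1]
    have hwz1 : w * z₁ * w⁻¹ = z₁ * z := by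
      calc w * z₁ * w⁻¹ = v * (x * (v⁻¹ * (x⁻¹ * z₁ * x) * v) * x⁻¹) * v⁻¹ := by rw [hw]; group
        _ = z₁ * z := by rw [hxiz1, hviz, h.xz, hvz1]
    have hw3 : w ^ 3 * z = z * w ^ 3 := by
      have e3 : w ^ 3 = w * w * w := by rw [pow_succ, pow_two]
      have : w ^ 3 * z * (w ^ 3)⁻¹ = z := by
        calc w ^ 3 * z * (w ^ 3)⁻¹ = w * (w * (w * z * w⁻¹) * w⁻¹) * w⁻¹ := by rw [e3]; group
          _ = w * (z₁ * z) * w⁻¹ := by rw [hwz, hwz1]
          _ = (w * z₁ * w⁻¹) * (w * z * w⁻¹) := by group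
          _ = z₁ * z * z₁ := by rw [hwz1, hwz]
          _ = z := by rw [mul_assoc, h.zz1, ← mul_assoc, h.z1z1, one_mul]
      exact mul_inv_eq_iff_eq_mul.1 this
    obtain ⟨k, hk⟩ := hW2 ⟨w, hwW⟩
    have hk' : w ^ 2 ^ k = 1 := congrArg Subtype.val hk
    have hcop : Nat.Coprime 3 (orderOf w) := by
      refine Nat.Coprime.coprime_dvd_right (orderOf_dvd_of_pow_eq_one hk') ?_
      exact Nat.Coprime.pow_right k (by norm_num)
    obtain ⟨m, hm⟩ := exists_pow_eq_self_of_coprime hcop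
    have h5 : w * z = z * w := by
      have := ((show Commute (w ^ 3) z from hw3).pow_left m).eq
      rwa [hm] at this
    rw [h5, mul_inv_cancel_right] at hwz
    exact h.z1_ne hwz.symm
  -- `V ∩ W = 1`
  have hz1W : z₁ ∉ W := by
    intro hh
    apply hzW
    have := conjW (inv_mem hxN) hh
    rw [inv_inv] at this
    rwa [h.xiz1] at this
  have hzz1W : z₁ * z ∉ W := by
    intro hh
    apply hzW
    have := conjW hxN hh
    rwa [h.xzz1] at this
  -- (ii)
  have hP : ∀ p ∈ W, p ∈ normalizer (Q : Set G) → p * z = z * p ∧ p * z₁ = z₁ * p ∧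
      p * x = x * p := by
    intro p hpW hpQ
    have hzN : z ∈ N := hBN ((le_sup_left : Q ≤ _) h.zQ)
    have hz1N : z₁ ∈ N := hBN ((le_sup_left : Q ≤ _) h.z1Q)
    have comW : ∀ n ∈ N, p * n * p⁻¹ * n⁻¹ ∈ W := by
      intro n hn
      have h1 := conjW hn (inv_mem hpW)
      have e : p * n * p⁻¹ * n⁻¹ = p * (n * p⁻¹ * n⁻¹) := by group
      rw [e]
      exact mul_mem hpW h1
    have hziz : z⁻¹ = z := h.inv_eq h.zQ
    have hz1iz1 : z₁⁻¹ = z₁ := h.inv_eq h.z1Q
    have c1 : p * z * p⁻¹ = z := by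
      have h1 := comW z hzN
      rw [hziz] at h1
      rcases h.conjz p hpQ with h2 | h2 | h2
      · exact h2
      · exfalso
        rw [h2] at h1
        exact hzz1W h1
      · exfalso
        rw [h2, mul_assoc, h.zz, mul_one] at h1
        exact hz1W h1
    have c2 : p * z₁ * p⁻¹ = z₁ := by
      have h1 := comW z₁ hz1N
      rw [hz1iz1] at h1
      rcases h.conjz1 p hpQ with h2 | h2 | h2
      · exfalso
        rw [h2, h.zz1] at h1
        exact hzz1W h1
      · exact h2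
      · exfalso
        rw [h2, mul_assoc, h.zz1, ← mul_assoc, h.z1z1, one_mul] at h1
        exact hzW h1
    have c1' : p * z = z * p := mul_inv_eq_iff_eq_mul.1 c1
    have c2' : p * z₁ = z₁ * p := mul_inv_eq_iff_eq_mul.1 c2
    refine ⟨c1', c2', ?_⟩
    -- `y = [p, x]` centralises `Q`
    obtain ⟨y, hy⟩ : ∃ y : G, y = p * x * p⁻¹ * x⁻¹ := ⟨_, rfl⟩
    have hxiz := h.xiz
    have hxiz1 := h.xiz1
    have pz : p⁻¹ * z * p = z := by
      calc p⁻¹ * z * p = p⁻¹ * (z * p) := by group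
        _ = p⁻¹ * (p * z) := by rw [c1']
        _ = z := by group
    have pz1 : p⁻¹ * z₁ * p = z₁ := by
      calc p⁻¹ * z₁ * p = p⁻¹ * (z₁ * p) := by group
        _ = p⁻¹ * (p * z₁) := by rw [c2']
        _ = z₁ := by group
    have yz : y * z = z * y := by
      refine mul_inv_eq_iff_eq_mul.1 ?_
      calc y * z * y⁻¹ = p * (x * (p⁻¹ * (x⁻¹ * z * x) * p) * x⁻¹) * p⁻¹ := by rw [hy]; group
        _ = p * (x * ((p⁻¹ * z₁ * p) * (p⁻¹ * z * p)) * x⁻¹) * p⁻¹ := by rw [hxiz]; group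
        _ = z := by rw [pz1, pz, h.xzz1, c1]
    have yz1 : y * z₁ = z₁ * y := by
      refine mul_inv_eq_iff_eq_mul.1 ?_
      calc y * z₁ * y⁻¹ = p * (x * (p⁻¹ * (x⁻¹ * z₁ * x) * p) * x⁻¹) * p⁻¹ := by rw [hy]; group
        _ = z₁ := by rw [hxiz1, pz, h.xz, c2]
    have yR : ∀ r ∈ R, y * r = r * y := by
      intro r hr
      refine mul_inv_eq_iff_eq_mul.1 ?_
      have h1 : x⁻¹ * r * x = r := by
        calc x⁻¹ * r * x = x⁻¹ * (r * x) := by group
          _ = x⁻¹ * (x * r) := by rw [h.xR r hr]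
          _ = r := by group
      have h2 : p⁻¹ * r * p ∈ R := by
        have := h.conjR p⁻¹ (inv_mem hpQ) r hr
        rwa [inv_inv] at this
      have h3 : x * (p⁻¹ * r * p) * x⁻¹ = p⁻¹ * r * p := by
        rw [h.xR _ h2, mul_inv_cancel_right]
      calc y * r * y⁻¹ = p * (x * (p⁻¹ * (x⁻¹ * r * x) * p) * x⁻¹) * p⁻¹ := by rw [hy]; group
        _ = r := by rw [h1, h3]; group
    have hyQ : y ∈ Q := by
      refine h.centQ hc fun q hq => ?_
      have key : ∀ v ∈ Q, y * v = v * y → q * v ∈ R → y * q = q * y := by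
        intro v hv hcv hqv
        have h1 := yR _ hqv
        have e : q = (q * v) * v := by rw [mul_assoc, h.sq v hv, mul_one]
        calc y * q = (y * (q * v)) * v := by rw [mul_assoc, ← e]
          _ = (q * v) * (y * v) := by rw [h1]; group
          _ = ((q * v) * v) * y := by rw [hcv]; group
          _ = q * y := by rw [← e]
      rcases h.dec q hq with h1 | h1 | h1 | h1
      · exact yR q h1
      · exact key z h.zQ yz h1
      · exact key z₁ h.z1Q yz1 h1
      · exact key (z₁ * z) (mul_mem h.z1Q h.zQ)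
          ((show Commute y z₁ from yz1).mul_right (show Commute y z from yz)).eq h1
    have hyW : y ∈ W := hy ▸ comW x hxN
    -- `y ∈ R`
    have hyR : y ∈ R := by
      have key : ∀ v : G, v ∈ N → v ∈ Q → y * v ∈ R → x * v * x⁻¹ * v⁻¹ ∈ W := by
        intro v hvN hv hyv
        -- `[x, v] = [x, y]` up to the centralised part
        have h1 := h.xR _ hyv
        have h2 : x * (y * v) * x⁻¹ = y * v := by rw [h1, mul_inv_cancel_right]
        have h3 := conjW hxN hyW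
        have h4 : x * v * x⁻¹ * v⁻¹ = (x * y * x⁻¹)⁻¹ * y := by
          have e : (x * y * x⁻¹) * (x * v * x⁻¹) = y * v := by rw [← h2]; group
          have e2 : x * v * x⁻¹ = (x * y * x⁻¹)⁻¹ * (y * v) := by rw [← e]; group
          rw [e2]; group
        rw [h4]
        exact mul_mem (inv_mem h3) hyW
      rcases h.dec y hyQ with h1 | h1 | h1 | h1
      · exact h1
      · exfalso
        have := key z hzN h.zQ h1
        rw [h.xz, hziz] at this
        exact hzz1W this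
      · exfalso
        have := key z₁ hz1N h.z1Q h1
        rw [h.xz1, hz1iz1, mul_assoc, h.zz1, ← mul_assoc, h.z1z1, one_mul] at this
        exact hzW this
      · exfalso
        have := key (z₁ * z) (mul_mem hz1N hzN) (mul_mem h.z1Q h.zQ) h1
        rw [h.xzz1, mul_inv_rev, hziz, hz1iz1, ← mul_assoc, h.zz, one_mul] at this
        exact hz1W this
    have hyx := h.xR y hyR
    have h6 : p * x * p⁻¹ = y * x := by rw [hy]; group
    have h7 : (y * x) ^ 3 = 1 := by
      rw [← h6]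
      have e3 : (p * x * p⁻¹) ^ 3 = p * (x * x * x) * p⁻¹ := by rw [pow_succ, pow_two]; group
      have e4 : x * x * x = 1 := by rw [← h.x3, pow_succ, pow_two]
      rw [e3, e4]; group
    have h8 : y ^ 3 = 1 := by
      have := (show Commute y x from hyx.symm).mul_pow 3
      rw [h7, h.x3, mul_one] at this
      exact this.symm
    have h9 : y = 1 := by
      have h10 := h.sq y hyQ
      have e3 : y ^ 3 = y * y * y := by rw [pow_succ, pow_two]
      rw [e3, h10, one_mul] at h8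
      exact h8
    rw [h9, one_mul] at h6
    exact mul_inv_eq_iff_eq_mul.1 h6
  -- `B ∩ W ≤ R`
  have hBW : ∀ y ∈ Q ⊔ cj s Q, y ∈ W → y ∈ R := by
    intro y hyB hyW
    obtain ⟨-, h2, h3⟩ := hP y hyW (h.TN (h.BT hyB))
    exact h.mem_R (h.mem_Q_of_comm hyB h.z1Q h.z1D h2) h3.symm
  have hQW : ∀ y ∈ Q ⊔ cj s Q, y ∈ W → y ∈ E := by
    intro y hyB hyW
    refine ⟨hBW y hyB hyW, mem_cj.2 ?_⟩
    refine hBW _ ?_ (sW hyW)
    -- `s` normalises `B`
    obtain ⟨q, hq, r, hr, rfl⟩ := h.exists_mul hyB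
    have e : s⁻¹ * (q * r) * s = (s⁻¹ * q * s) * (s⁻¹ * r * s) := by group
    rw [e]
    exact mul_mem ((le_sup_right : cj s Q ≤ _) (h.swap'' hq)) ((le_sup_left : Q ≤ _) (mem_cj.1 hr))
  -- (iii)
  have hCB : ∀ c ∈ W, c ∈ normalizer ((Q ⊔ cj s Q : Subgroup G) : Set G) →
      c ∈ normalizer (Q : Set G) := by
    intro c hcW hcB
    refine mem_norm_of_forall fun q hq => ?_
    have hqB : q ∈ Q ⊔ cj s Q := (le_sup_left : Q ≤ _) hq
    have h1 : c * q * c⁻¹ * q⁻¹ ∈ Q ⊔ cj s Q :=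
      mul_mem ((mem_normalizer_iff.1 hcB q).1 hqB) (inv_mem hqB)
    have h2 : c * q * c⁻¹ * q⁻¹ ∈ W := by
      have := conjW (hBN hqB) (inv_mem hcW)
      have e : c * q * c⁻¹ * q⁻¹ = c * (q * c⁻¹ * q⁻¹) := by group
      rw [e]
      exact mul_mem hcW this
    have h3 := h.RQ (hBW _ h1 h2)
    have h4 := mul_mem h3 hq
    rwa [inv_mul_cancel_right] at h4
  -- (iv), (v)
  have hWB : W ≤ normalizer ((Q ⊔ cj s Q : Subgroup G) : Set G) := by
    set C : Subgroup G := W ⊓ normalizer ((Q ⊔ cj s Q : Subgroup G) : Set G) with hC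
    set X : Subgroup G := (Q ⊔ cj s Q) ⊔ C with hX
    set U : Subgroup G := (Q ⊔ cj s Q) ⊔ W with hU
    have hU2 : IsPGroup 2 U :=
      IsPGroup.to_sup_of_normal_right' (h.two.to_le h.BT) hW2 (hBN.trans hNW)
    have hXU : X ≤ U := sup_le_sup_left inf_le_left _
    have hX2 : IsPGroup 2 X := hU2.to_le hXU
    have hXN : X ≤ normalizer (Q : Set G) :=
      sup_le (h.BT.trans h.TN) fun c hc => hCB c hc.1 hc.2
    by_cases hlt : X = U
    · intro w hw
      have h1 : w ∈ X := hlt ▸ (le_sup_right : W ≤ U) hw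
      obtain ⟨c, hcC, β, hβ, he⟩ := Cfsg.Agent.OddOrderLocal.RankBasics.exists_mul_of_mem_sup
        (show C ≤ normalizer ((Q ⊔ cj s Q : Subgroup G) : Set G) from inf_le_right)
        (show w ∈ C ⊔ (Q ⊔ cj s Q) by rw [sup_comm]; exact h1)
      have h2 : β ∈ W := by
        have : β = c⁻¹ * w := by rw [← he]; group
        rw [this]
        exact mul_mem (inv_mem hcC.1) hw
      rw [← he]
      exact mul_mem hcC.2 (le_normalizer hβ)
    · exfalso
      obtain ⟨y, hyU, hyN, hyX, -⟩ := Cfsg.Agent.MinSimple.Choice97.exists_normalizing hU2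
        (lt_of_le_of_ne hXU hlt)
      obtain ⟨β, hβ, w, hw, rfl⟩ := Cfsg.Agent.OddOrderLocal.RankBasics.exists_mul_of_mem_sup
        (hBN.trans hNW) hyU
      have hβX : β ∈ X := (le_sup_left : Q ⊔ cj s Q ≤ X) hβ
      have hwN : w ∈ normalizer (X : Set G) := by
        have h1 := mul_mem (inv_mem (le_normalizer hβX)) hyN
        rwa [inv_mul_cancel_left] at h1
      have hwX : w ∉ X := fun hh => hyX (mul_mem hβX hh)
      apply hwX
      refine (le_sup_right : C ≤ X) ⟨hw, mem_normalizer_iff_cj.2 ?_⟩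
      refine h.weak hX2 hXN le_sup_left ?_
      have h1 := cj_mono w (le_sup_left : Q ⊔ cj s Q ≤ X)
      rwa [cj_eq_of_mem_normalizer hwN] at h1
  -- the contradiction
  have hxC : x ∈ W := by
    refine hself ⟨hxN, mem_centralizer_iff.2 fun w hw => ?_⟩
    exact (hP w hw (hCB w hw (hWB hw))).2.2
  obtain ⟨k, hk⟩ := hW2 ⟨x, hxC⟩
  have hk' : x ^ 2 ^ k = 1 := congrArg Subtype.val hk
  have h1 : orderOf x ∣ Nat.gcd 3 (2 ^ k) :=
    Nat.dvd_gcd (orderOf_dvd_of_pow_eq_one h.x3) (orderOf_dvd_of_pow_eq_one hk')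
  have h2 : Nat.gcd 3 (2 ^ k) = 1 := Nat.Coprime.pow_right k (by norm_num)
  rw [h2, Nat.dvd_one, orderOf_eq_one_iff] at h1
  have h3 := h.xz
  rw [h1] at h3
  exact h.z1_ne (by rw [← h3]; group)

end Blk

end Cfsg.Agent.Omega.SQ1.Two
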