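import Cfsg.Agent.Omega.SQ1.TwoEnd

/-!
# The unique maximal 2-local case, one block, `q = 2`: from the pushing up theorem to `Hyp`

`Push T B Q Y s`: the output of the pushing up theorem for one block and `q = 2`.
-/

set_option autoImplicit false

namespace Cfsg.Agent.Omega.SQ1.Two

open Subgroup Cfsg Cfsg.Agent.ZN Cfsg.Agent.ZN.ChoiceBase Cfsg.Agent.ZN.ChoiceSit
open Cfsg.Agent.MinSimple.CaseOneAP (mul_mem_of_relIndex comm_of_sq)

universe u

variable {G : Type u} [Group G]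

/-- The output of the pushing up theorem (one block, `q = 2`): `Q = Q*`, `Y ≤ Z(Q)` elementary abelian,
`C_T(Y) ≤ Q`, `|B : Q| = 2`, `J(T) ≤ B`, `s` normalises `T` and `B`, `Y` and `Y ^ s` do not commute. -/
structure Push (T B Q Y : Subgroup G) (s : G) : Prop where
  syl : Syl T (normalizer (Q : Set G))
  QB : Q ≤ B
  BT : B ≤ T
  YQ : Y ≤ Q
  Ysq : ∀ y ∈ Y, y * y = 1
  YcQ : ∀ y ∈ Y, ∀ q ∈ Q, y * q = q * y
  cent : ∀ t ∈ T, (∀ y ∈ Y, t * y = y * t) → t ∈ Q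
  sT : s ∈ normalizer (T : Set G)
  sB : s ∈ normalizer (B : Set G)
  ss : s * s ∈ T
  J : jj T ≤ B
  idx : Q.relIndex B = 2
  nc : ∃ u ∈ Y, ∃ v ∈ Y, u * (s * v * s⁻¹) ≠ (s * v * s⁻¹) * u
  core : ∀ R : Subgroup G, R ≤ Q → normalizer (Q : Set G) ≤ normalizer (R : Set G) →
    s ∈ normalizer (R : Set G) → R = ⊥

namespace Push

variable {T B Q Y : Subgroup G} {s : G}

theorem conjB (h : Push T B Q Y s) {b : G} (hb : b ∈ B) : s * b * s⁻¹ ∈ B := (mem_normalizer_iff.1 h.sB b).1 hb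

theorem conjB' (h : Push T B Q Y s) {b : G} (hb : b ∈ B) : s⁻¹ * b * s ∈ B := by
  have := (mem_normalizer_iff.1 (inv_mem h.sB) b).1 hb
  rwa [inv_inv] at this

theorem two (h : Push T B Q Y s) : IsPGroup 2 T := h.syl.2.1

/-- Elements of `Q` have square one. -/
theorem sq [Finite G] (h : Push T B Q Y s) {q : G} (hq : q ∈ Q) : q * q = 1 := by
  obtain ⟨v, hv, u, hu, hne⟩ := h.nc
  have hvQ : v ∈ Q := h.YQ hv
  have huQ : u ∈ Q := h.YQ hu
  have hvv : v * v = 1 := h.Ysq v hv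
  have huu : u * u = 1 := h.Ysq u hu
  -- `v ∉ Q ^ s`, `u ^ s ∉ Q`
  have hv' : s⁻¹ * v * s ∉ Q := by
    intro hh
    apply hne
    have h1 := h.YcQ u hu _ hh
    calc v * (s * u * s⁻¹) = s * ((s⁻¹ * v * s) * u) * s⁻¹ := by group
      _ = s * (u * (s⁻¹ * v * s)) * s⁻¹ := by rw [h1]
      _ = s * u * s⁻¹ * v := by group
  have hu' : s * u * s⁻¹ ∉ Q := fun hh => hne (h.YcQ v hv _ hh)
  set R : Subgroup G := closure {x | ∃ q ∈ Q, x = q * q} with hR
  have hRQ : R ≤ Q := by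
    rw [hR, closure_le]
    rintro _ ⟨q, hq, rfl⟩
    exact mul_mem hq hq
  -- squares of `Q` are squares of `Q ^ s`
  have h1 : ∀ q ∈ Q, ∃ p ∈ Q, q * q = s * (p * p) * s⁻¹ := by
    intro q hq
    by_cases hqt : s⁻¹ * q * s ∈ Q
    · exact ⟨_, hqt, by group⟩
    · have h2 : (s⁻¹ * q * s) * (s⁻¹ * v * s) ∈ Q :=
        mul_mem_of_relIndex h.idx (h.conjB' (h.QB hq)) (h.conjB' (h.QB hvQ)) hqt hv'
      refine ⟨_, h2, ?_⟩
      have h3 := h.YcQ v hv q hq
      calc q * q = q * (v * v) * q := by rw [hvv, mul_one]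
        _ = (q * v) * (v * q) := by group
        _ = (q * v) * (q * v) := by rw [h3]
        _ = _ := by group
  have h2 : ∀ q ∈ Q, ∃ p ∈ Q, s * (q * q) * s⁻¹ = p * p := by
    intro q hq
    by_cases hqt : s * q * s⁻¹ ∈ Q
    · exact ⟨_, hqt, by group⟩
    · have h2 : (s * q * s⁻¹) * (s * u * s⁻¹) ∈ Q :=
        mul_mem_of_relIndex h.idx (h.conjB (h.QB hq)) (h.conjB (h.QB huQ)) hqt hu'
      refine ⟨_, h2, ?_⟩
      have h3 := h.YcQ u hu q hq
      calc s * (q * q) * s⁻¹ = s * (q * (u * u) * q) * s⁻¹ := by rw [huu, mul_one]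
        _ = s * ((q * u) * (u * q)) * s⁻¹ := by group
        _ = s * ((q * u) * (q * u)) * s⁻¹ := by rw [h3]
        _ = _ := by group
  have hLR : normalizer (Q : Set G) ≤ normalizer (R : Set G) := by
    intro l hl
    refine mem_norm_of_forall ?_
    have : R ≤ R.comap (MulAut.conj l).toMonoidHom := by
      conv_lhs => rw [hR]
      rw [closure_le]
      rintro _ ⟨q, hq, rfl⟩
      change l * (q * q) * l⁻¹ ∈ R
      rw [hR]
      exact subset_closure ⟨l * q * l⁻¹, (mem_normalizer_iff.1 hl q).1 hq, by group⟩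
    exact fun r hr => this hr
  have htR : s ∈ normalizer (R : Set G) := by
    refine mem_norm_of_forall ?_
    have : R ≤ R.comap (MulAut.conj s).toMonoidHom := by
      conv_lhs => rw [hR]
      rw [closure_le]
      rintro _ ⟨q, hq, rfl⟩
      change s * (q * q) * s⁻¹ ∈ R
      obtain ⟨p, hp, hqp⟩ := h2 q hq
      rw [hqp, hR]
      exact subset_closure ⟨p, hp, rfl⟩
    exact fun r hr => this hr
  have hbot : R = ⊥ := h.core R hRQ hLR htR
  have : q * q ∈ R := by rw [hR]; exact subset_closure ⟨q, hq, rfl⟩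
  rwa [hbot, mem_bot] at this

theorem cjs_le (h : Push T B Q Y s) : cj s Q ≤ B := by
  rintro _ ⟨q, hq, rfl⟩
  exact h.conjB (h.QB hq)

/-- `|Q : Q ∩ Q ^ s| = 2`. -/
theorem idx' [Finite G] (h : Push T B Q Y s) : (Q ⊓ cj s Q).relIndex Q = 2 := by
  obtain ⟨v, hv, u, hu, hne⟩ := h.nc
  have hv' : v ∉ cj s Q := by
    intro hh
    rw [mem_cj] at hh
    apply hne
    have h1 := h.YcQ u hu _ hh
    calc v * (s * u * s⁻¹) = s * ((s⁻¹ * v * s) * u) * s⁻¹ := by group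
      _ = s * (u * (s⁻¹ * v * s)) * s⁻¹ := by rw [h1]
      _ = s * u * s⁻¹ * v := by group
  have hmul : ∀ a ∈ Q, ∀ b ∈ Q, a ∉ cj s Q → b ∉ cj s Q → a * b ∈ cj s Q := by
    intro a ha b hb ha' hb'
    rw [mem_cj] at ha' hb' ⊢
    have := mul_mem_of_relIndex h.idx (h.conjB' (h.QB ha)) (h.conjB' (h.QB hb)) ha' hb'
    have e : s⁻¹ * a * s * (s⁻¹ * b * s) = s⁻¹ * (a * b) * s := by group
    rwa [e] at this
  have hvQ := h.YQ hv
  rw [relIndex_eq_two_iff_exists_notMem_and]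
  refine ⟨v, hvQ, fun hh => hv' hh.2, fun x hx => ?_⟩
  by_cases hxs : x ∈ cj s Q
  · exact Or.inr ⟨hx, hxs⟩
  · exact Or.inl ⟨mul_mem hx hvQ, hmul x hx v hvQ hxs hv'⟩

theorem hyp0 [Finite G] (h : Push T B Q Y s) : Hyp0 T Q s where
  syl := h.syl
  QT := h.QB.trans h.BT
  sq := fun q hq => h.sq hq
  cent := fun t ht hc => h.cent t ht fun y hy => hc y (h.YQ hy)
  sT := h.sT
  ss := h.ss
  idx := h.idx'

theorem B_eq [Finite G] (h : Push T B Q Y s) : B = Q ⊔ cj s Q := by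
  refine le_antisymm (fun b hb => ?_) (sup_le h.QB h.cjs_le)
  obtain ⟨v, hv, u, hu, hne⟩ := h.nc
  have hu' : s * u * s⁻¹ ∉ Q := fun hh => hne (h.YcQ v hv _ hh)
  have huQ' : s * u * s⁻¹ ∈ cj s Q := h.hyp0.mem' (h.YQ hu)
  by_cases hbQ : b ∈ Q
  · exact (le_sup_left : Q ≤ _) hbQ
  · have h1 := mul_mem_of_relIndex h.idx hb (h.cjs_le huQ') hbQ hu'
    have e : b = (b * (s * u * s⁻¹)) * (s * u * s⁻¹)⁻¹ := by group
    rw [e]
    exact mul_mem ((le_sup_left : Q ≤ _) h1) (inv_mem ((le_sup_right : cj s Q ≤ _) huQ'))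

theorem isEA {A : Subgroup G} (hA : ∀ a ∈ A, a * a = 1) : IsElementaryAbelian 2 A := by
  refine ⟨⟨⟨fun x y => Subtype.ext ?_⟩⟩, fun a ha => by rw [pow_two]; exact hA a ha⟩
  exact comm_of_sq hA x.2 y.2

theorem hyp [Finite G] (h : Push T B Q Y s) : Hyp T Q s where
  toHyp0 := h.hyp0
  jt := by
    intro A hAT hA2 hc
    have key : ∀ C : Subgroup G, C ∈ AA T → C ≤ Q ⊔ cj s Q ∧ Nat.card C ≤ Nat.card Q := by
      intro C hC
      have h1 : C ≤ Q ⊔ cj s Q := by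
        rw [← h.B_eq]
        exact (le_jj hC).trans h.J
      refine ⟨h1, ?_⟩
      have hC2 : ∀ a ∈ C, a * a = 1 := fun a ha => by
        have := hC.1.2 a ha
        rwa [pow_two] at this
      rcases h.hyp0.le_or_le h1 hC2 with h2 | h2
      · exact card_le_of_le h2
      · exact (card_le_of_le h2).trans (card_cj s Q).le
    obtain ⟨C, hC⟩ := AA_nonempty T
    have hAA : A ∈ AA T := by
      rw [mem_AA_iff]
      refine ⟨isEA hA2, hAT, ?_⟩
      rw [mm_eq hC]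
      exact (key C hC).2.trans hc
    exact (key A hAA).1

/-- **SQ1, one block, `q = 2`**: from the pushing up theorem to the end. -/
theorem main [Finite G] (hc : IsCharacteristicTwoType G) (S : Sylow 2 G) (h : Push T B Q Y s)
    (hTS : T ≤ S) (hsS : s ∈ S) (hmove : ¬ normalizer (Q : Set G) ≤ normalizer (B : Set G)) :
    PRankLE 2 2 G ∨ ∃ N : Subgroup G, N.Normal ∧ N.index = 2 := by
  refine Two.main hc S h.hyp hTS hsS ?_
  rwa [← h.B_eq]

end Push

end Cfsg.Agent.Omega.SQ1.Two
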