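import Cfsg.Agent.Omega.SQ1.TwoWeak

/-!
# The unique maximal 2-local case, one block, `q = 2`: the transvection group

`Frame T Q s a b z`: `a ∈ Q \ D`, `b ∈ Q ^ s \ D`, `z = [a, b]`.
-/

set_option autoImplicit false

namespace Cfsg.Agent.Omega.SQ1.Two

open Subgroup Cfsg Cfsg.Agent.ZN Cfsg.Agent.ZN.ChoiceBase Cfsg.Agent.ZN.ChoiceSit
open Cfsg.Agent.MinSimple.CaseOneAP (mul_mem_of_relIndex comm_of_sq)

universe u

variable {G : Type u} [Group G]

structure Frame (T Q : Subgroup G) (s a b z : G) : Prop extends Hyp T Q s where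
  aQ : a ∈ Q
  aD : a ∉ Q ⊓ cj s Q
  bQ : b ∈ cj s Q
  bD : b ∉ Q ⊓ cj s Q
  hz : a * b * a * b = z

theorem Hyp.exists_frame {T Q : Subgroup G} {s : G} (h : Hyp T Q s) :
    ∃ a b z : G, Frame T Q s a b z := by
  obtain ⟨a, ha, ha'⟩ := h.exists_a
  exact ⟨a, s * a * s⁻¹, _, ⟨h, ha, ha', h.mem' ha, h.s_notMem ha', rfl⟩⟩

namespace Frame

variable {T Q : Subgroup G} {s a b z : G}

theorem zD (h : Frame T Q s a b z) : z ∈ Q ⊓ cj s Q := h.hz ▸ h.z_mem h.aQ h.bQ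

theorem zQ (h : Frame T Q s a b z) : z ∈ Q := h.zD.1

theorem zz (h : Frame T Q s a b z) : z * z = 1 := h.sq z h.zQ

theorem z1 (h : Frame T Q s a b z) : z ≠ 1 := by
  intro hz
  apply h.ncomm h.aQ h.aD h.bQ h.bD
  have h1 := h.hz
  rw [hz] at h1
  have e1 : a⁻¹ = a := h.inv_eq h.aQ
  have e2 : b⁻¹ = b := inv_eq_of_mul_eq_one_left (h.sq' h.bQ)
  have h2 : a * b = (a * b)⁻¹ := by
    refine eq_inv_of_mul_eq_one_left ?_
    rw [← h1]; group
  rw [mul_inv_rev, e1, e2] at h2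
  exact h2.symm

theorem zeq (h : Frame T Q s a b z) {a' b' : G} (ha : a' ∈ Q) (ha1 : a' ∉ Q ⊓ cj s Q)
    (hb : b' ∈ cj s Q) (hb1 : b' ∉ Q ⊓ cj s Q) : a' * b' * a' * b' = z := by
  rw [← h.hz]
  exact h.z_eq h.aQ h.aD h.bQ h.bD ha ha1 hb hb1

theorem actB (h : Frame T Q s a b z) {x q : G} (hx : x ∈ Q ⊔ cj s Q) (hxQ : x ∉ Q) (hq : q ∈ Q)
    (hqD : q ∉ Q ⊓ cj s Q) : x * q * x⁻¹ = q * z := by
  rw [h.act h.aQ h.aD h.bQ h.bD hx hxQ hq hqD, h.hz]

theorem Bz (h : Frame T Q s a b z) {x : G} (hx : x ∈ Q ⊔ cj s Q) : x * z = z * x := h.D_comm hx h.zD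

theorem bB (h : Frame T Q s a b z) : b ∈ Q ⊔ cj s Q := (le_sup_right : cj s Q ≤ _) h.bQ

theorem bnQ (h : Frame T Q s a b z) : b ∉ Q := fun hb => h.bD ⟨hb, h.bQ⟩

theorem actb (h : Frame T Q s a b z) {q : G} (hq : q ∈ Q) (hqD : q ∉ Q ⊓ cj s Q) :
    b * q * b⁻¹ = q * z := h.actB h.bB h.bnQ hq hqD

theorem bb (h : Frame T Q s a b z) : b * b = 1 := h.sq' h.bQ

/-- An element normalising `Q` and `Q ^ s`, or interchanging them, centralises `z`. -/
theorem z_fix (h : Frame T Q s a b z) {x : G} (hD : ∀ y, x * y * x⁻¹ ∈ Q ⊓ cj s Q → y ∈ Q ⊓ cj s Q)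
    (h12 : (∀ y ∈ Q, x * y * x⁻¹ ∈ Q) ∧ (∀ y ∈ cj s Q, x * y * x⁻¹ ∈ cj s Q) ∨
      (∀ y ∈ Q, x * y * x⁻¹ ∈ cj s Q) ∧ (∀ y ∈ cj s Q, x * y * x⁻¹ ∈ Q)) : x * z * x⁻¹ = z := by
  have e : x * z * x⁻¹ = (x * a * x⁻¹) * (x * b * x⁻¹) * (x * a * x⁻¹) * (x * b * x⁻¹) := by
    rw [← h.hz]; group
  have ha := fun hh => h.aD (hD a hh)
  have hb := fun hh => h.bD (hD b hh)
  rcases h12 with ⟨h1, h2⟩ | ⟨h1, h2⟩
  · rw [e]
    exact h.zeq (h1 a h.aQ) ha (h2 b h.bQ) hb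
  · have h3 := h.zeq (h2 b h.bQ) hb (h1 a h.aQ) ha
    have e1 : (x * a * x⁻¹)⁻¹ = x * a * x⁻¹ := by
      rw [mul_inv_rev, mul_inv_rev, inv_inv, h.inv_eq h.aQ]; group
    have e2 : (x * b * x⁻¹)⁻¹ = x * b * x⁻¹ := by
      rw [mul_inv_rev, mul_inv_rev, inv_inv, inv_eq_of_mul_eq_one_left h.bb]; group
    have h4 := congrArg (fun y => y⁻¹) h3
    simp only [mul_inv_rev, e1, e2] at h4
    rw [e, h.toHyp.inv_eq h.zQ] at *
    rw [← h4]
    group

theorem sz (h : Frame T Q s a b z) : s * z * s⁻¹ = z := by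
  refine h.z_fix (fun y hy => ?_) (Or.inr ⟨fun y hy => h.mem' hy, fun y hy => h.swap' hy⟩)
  by_contra hn
  exact h.s_notMem hn hy

theorem Tz (h : Frame T Q s a b z) {t : G} (ht : t ∈ T) : t * z * t⁻¹ = z := by
  have h1 := h.TN ht
  have h2 := h.TN' ht
  refine h.z_fix (fun y hy => ⟨?_, ?_⟩) (Or.inl ⟨fun y hy => (mem_normalizer_iff.1 h1 y).1 hy,
    fun y hy => (mem_normalizer_iff.1 h2 y).1 hy⟩)
  · exact (mem_normalizer_iff.1 h1 y).2 hy.1
  · exact (mem_normalizer_iff.1 h2 y).2 hy.2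

/-- An element of `N_G(Q)` normalising `B` normalises `Q ^ s`. -/
theorem norm_Q' [Finite G] (h : Frame T Q s a b z) {g : G} (hg : g ∈ normalizer (Q : Set G))
    (hB : cj g (Q ⊔ cj s Q) = Q ⊔ cj s Q) : g ∈ normalizer ((cj s Q : Subgroup G) : Set G) :=
  mem_normalizer_iff_cj.2 (h.cj_Q'_eq hg hB)

theorem norm_D [Finite G] (h : Frame T Q s a b z) {g : G} (hg : g ∈ normalizer (Q : Set G))
    (hB : cj g (Q ⊔ cj s Q) = Q ⊔ cj s Q) (x : G) : g * x * g⁻¹ ∈ Q ⊓ cj s Q ↔ x ∈ Q ⊓ cj s Q := by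
  rw [mem_inf, mem_inf, ← mem_normalizer_iff.1 hg x, ← mem_normalizer_iff.1 (h.norm_Q' hg hB) x]

theorem fix_z [Finite G] (h : Frame T Q s a b z) {g : G} (hg : g ∈ normalizer (Q : Set G))
    (hB : cj g (Q ⊔ cj s Q) = Q ⊔ cj s Q) : g * z * g⁻¹ = z := by
  refine h.z_fix (fun y hy => (h.norm_D hg hB y).1 hy) (Or.inl ⟨fun y hy => ?_, fun y hy => ?_⟩)
  · exact (mem_normalizer_iff.1 hg y).1 hy
  · exact (mem_normalizer_iff.1 (h.norm_Q' hg hB) y).1 hy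

/-- Elements of `N_G(Q)` centralising `w` and acting on `Q` modulo `⟨w⟩` trivially. -/
def stab (h : Hyp T Q s) (w : G) (hw : w * w = 1) : Subgroup G where
  carrier := {x | x ∈ normalizer (Q : Set G) ∧ x * w = w * x ∧
    ∀ q ∈ Q, x * q * x⁻¹ = q ∨ x * q * x⁻¹ = q * w}
  one_mem' := ⟨one_mem _, by rw [one_mul, mul_one], fun q _ => Or.inl (by group)⟩
  mul_mem' := by
    rintro x y ⟨hx1, hx2, hx3⟩ ⟨hy1, hy2, hy3⟩
    refine ⟨mul_mem hx1 hy1, ?_, fun q hq => ?_⟩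
    · rw [mul_assoc, hy2, ← mul_assoc, hx2, mul_assoc]
    · have hwx : x * w * x⁻¹ = w := by rw [hx2, mul_inv_cancel_right]
      have e : x * y * q * (x * y)⁻¹ = x * (y * q * y⁻¹) * x⁻¹ := by group
      rw [e]
      rcases hy3 q hq with h1 | h1
      · rw [h1]; exact hx3 q hq
      · rw [h1]
        have e2 : x * (q * w) * x⁻¹ = (x * q * x⁻¹) * (x * w * x⁻¹) := by group
        rw [e2, hwx]
        rcases hx3 q hq with h2 | h2
        · right; rw [h2]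
        · left; rw [h2, mul_assoc, hw, mul_one]
  inv_mem' := by
    rintro x ⟨hx1, hx2, hx3⟩
    refine ⟨inv_mem hx1, ?_, fun q hq => ?_⟩
    · calc x⁻¹ * w = x⁻¹ * (w * x) * x⁻¹ := by group
        _ = x⁻¹ * (x * w) * x⁻¹ := by rw [hx2]
        _ = w * x⁻¹ := by group
    · rw [inv_inv]
      have hq' := h.conj' hx1 hq
      rcases hx3 _ hq' with h1 | h1
      · left
        have e : x * (x⁻¹ * q * x) * x⁻¹ = q := by group
        rw [e] at h1
        exact h1.symm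
      · right
        have e : x * (x⁻¹ * q * x) * x⁻¹ = q := by group
        rw [e] at h1
        calc x⁻¹ * q * x = x⁻¹ * q * x * (w * w) := by rw [hw, mul_one]
          _ = (x⁻¹ * q * x * w) * w := by group
          _ = q * w := by rw [← h1]

theorem isPGroup_stab [Finite G] (hc : IsCharacteristicTwoType G) (h : Hyp T Q s) {w : G}
    (hw : w * w = 1) : IsPGroup 2 (stab h w hw) := by
  rintro ⟨x, hx1, hx2, hx3⟩
  have hwx : x * w * x⁻¹ = w := by rw [hx2, mul_inv_cancel_right]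
  have h1 : x * x ∈ Q := by
    refine h.centQ hc fun q hq => ?_
    have h2 : (x * x) * q * (x * x)⁻¹ = q := by
      have e : x * x * q * (x * x)⁻¹ = x * (x * q * x⁻¹) * x⁻¹ := by group
      rw [e]
      rcases hx3 q hq with h3 | h3
      · rw [h3, h3]
      · rw [h3]
        have e2 : x * (q * w) * x⁻¹ = (x * q * x⁻¹) * (x * w * x⁻¹) := by group
        rw [e2, hwx, h3, mul_assoc, hw, mul_one]
    exact mul_inv_eq_iff_eq_mul.1 h2
  refine ⟨2, Subtype.ext ?_⟩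
  rw [Subgroup.coe_pow, Subgroup.coe_one]
  have := h.sq _ h1
  change x ^ 2 ^ 2 = 1
  rw [← this]
  norm_num [pow_succ, mul_assoc]

/-- If `z ^ g ∈ D` then `g` normalises `B`. -/
theorem cj_eq_of_mem [Finite G] (hc : IsCharacteristicTwoType G) (h : Frame T Q s a b z) {g : G}
    (hg : g ∈ normalizer (Q : Set G)) (hzg : g * z * g⁻¹ ∈ Q ⊓ cj s Q) :
    cj g (Q ⊔ cj s Q) = Q ⊔ cj s Q := by
  have hp : Fact (Nat.Prime 2) := ⟨Nat.prime_two⟩
  set w := g * z * g⁻¹ with hw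
  have hww : w * w = 1 := h.sq w hzg.1
  set A := stab h.toHyp w hww with hA
  have hBN : Q ⊔ cj s Q ≤ normalizer (Q : Set G) := h.BT.trans h.TN
  -- `B` normalises `A`
  have hBA : Q ⊔ cj s Q ≤ normalizer (A : Set G) := by
    have key : ∀ y ∈ Q ⊔ cj s Q, ∀ x ∈ A, y * x * y⁻¹ ∈ A := by
      rintro y hy x ⟨hx1, hx2, hx3⟩
      have hyw : y * w = w * y := h.D_comm hy hzg
      have hyw' : y⁻¹ * w = w * y⁻¹ := by
        calc y⁻¹ * w = y⁻¹ * (w * y) * y⁻¹ := by group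
          _ = y⁻¹ * (y * w) * y⁻¹ := by rw [hyw]
          _ = w * y⁻¹ := by group
      refine ⟨mul_mem (mul_mem (hBN hy) hx1) (inv_mem (hBN hy)), ?_, fun q hq => ?_⟩
      · calc y * x * y⁻¹ * w = y * x * (y⁻¹ * w) := by group
          _ = y * (x * w) * y⁻¹ := by rw [hyw']; group
          _ = (y * w) * x * y⁻¹ := by rw [hx2]; group
          _ = w * (y * x * y⁻¹) := by rw [hyw]; group
      · have hq' := h.conj' (hBN hy) hq
        have e : y * x * y⁻¹ * q * (y * x * y⁻¹)⁻¹ = y * (x * (y⁻¹ * q * y) * x⁻¹) * y⁻¹ := by group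
        rw [e]
        rcases hx3 _ hq' with h1 | h1
        · left; rw [h1]; group
        · right
          rw [h1]
          calc y * (y⁻¹ * q * y * w) * y⁻¹ = q * (y * w) * y⁻¹ := by group
            _ = q * w := by rw [hyw]; group
    intro y hy
    rw [mem_normalizer_iff]
    intro x
    refine ⟨fun hx => key y hy x hx, fun hx => ?_⟩
    have := key y⁻¹ (inv_mem hy) _ hx
    have e : y⁻¹ * (y * x * y⁻¹) * y⁻¹⁻¹ = x := by group
    rwa [e] at this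
  have hP : IsPGroup 2 (A ⊔ (Q ⊔ cj s Q) : Subgroup G) := by
    rw [sup_comm]
    exact IsPGroup.to_sup_of_normal_right' (h.two.to_le h.BT) (isPGroup_stab hc h.toHyp hww) hBA
  refine h.weak hP (sup_le (fun x hx => hx.1) hBN) le_sup_right ?_
  refine le_trans ?_ le_sup_left
  -- `B ^ g ≤ A`
  intro x hx
  rw [mem_cj] at hx
  have hxN : x ∈ normalizer (Q : Set G) := by
    have h1 := mul_mem (mul_mem hg (hBN hx)) (inv_mem hg)
    have e : g * (g⁻¹ * x * g) * g⁻¹ = x := by group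
    rwa [e] at h1
  refine ⟨hxN, ?_, fun q hq => ?_⟩
  · have h1 := h.Bz hx
    calc x * w = g * ((g⁻¹ * x * g) * z) * g⁻¹ := by rw [hw]; group
      _ = g * (z * (g⁻¹ * x * g)) * g⁻¹ := by rw [h1]
      _ = w * x := by rw [hw]; group
  · have hq' := h.conj' hg hq
    have e : x * q * x⁻¹ = g * ((g⁻¹ * x * g) * (g⁻¹ * q * g) * (g⁻¹ * x * g)⁻¹) * g⁻¹ := by group
    by_cases hqD : g⁻¹ * q * g ∈ Q ⊓ cj s Q
    · left; rw [e, h.act_D hx hqD]; group
    · by_cases hxQ : g⁻¹ * x * g ∈ Q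
      · left; rw [e, h.comm hxQ hq']; group
      · right; rw [e, h.actB hx hxQ hq' hqD, hw]; group

/-- If `z ∈ D ^ g` then `g` normalises `B`. -/
theorem cj_eq_of_mem' [Finite G] (hc : IsCharacteristicTwoType G) (h : Frame T Q s a b z) {g : G}
    (hg : g ∈ normalizer (Q : Set G)) (hzg : g⁻¹ * z * g ∈ Q ⊓ cj s Q) :
    cj g (Q ⊔ cj s Q) = Q ⊔ cj s Q := by
  have h1 := h.cj_eq_of_mem hc (inv_mem hg) (by rwa [inv_inv])
  have h2 := congrArg (cj g) h1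
  rw [cj_cj_inv] at h2
  exact h2.symm

end Frame

end Cfsg.Agent.Omega.SQ1.Two
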