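import Cfsg.Agent.Omega.SQ1.TwoBase

/-!
# The unique maximal 2-local case, one block, `q = 2`: weak closure and transvections
-/

set_option autoImplicit false

namespace Cfsg.Agent.Omega.SQ1.Two

open Subgroup Cfsg Cfsg.Agent.ZN Cfsg.Agent.ZN.ChoiceBase Cfsg.Agent.ZN.ChoiceSit
open Cfsg.Agent.MinSimple.CaseOneAP (mul_mem_of_relIndex comm_of_sq)

universe u

variable {G : Type u} [Group G]

namespace Hyp0

variable {T Q : Subgroup G} {s : G}

theorem BT (h : Hyp0 T Q s) : Q ⊔ cj s Q ≤ T := sup_le h.QT h.Q'T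

/-- Decomposition of the elements of `B`. -/
theorem exists_mul (h : Hyp0 T Q s) {x : G} (hx : x ∈ Q ⊔ cj s Q) :
    ∃ q ∈ Q, ∃ r ∈ cj s Q, q * r = x :=
  Cfsg.Agent.OddOrderLocal.RankBasics.exists_mul_of_mem_sup (h.QT.trans h.TN') hx

/-- An element of `B \ Q` is a product of an element of `Q` and an element of `Q ^ s \ D`. -/
theorem exists_mul' (h : Hyp0 T Q s) {x : G} (hx : x ∈ Q ⊔ cj s Q) (hxQ : x ∉ Q) :
    ∃ q ∈ Q, ∃ r ∈ cj s Q, r ∉ Q ⊓ cj s Q ∧ q * r = x := by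
  obtain ⟨q, hq, r, hr, rfl⟩ := h.exists_mul hx
  exact ⟨q, hq, r, hr, fun hh => hxQ (mul_mem hq hh.1), rfl⟩

/-- Elements of `D` are centralised by `B`. -/
theorem D_comm (h : Hyp0 T Q s) {x d : G} (hx : x ∈ Q ⊔ cj s Q) (hd : d ∈ Q ⊓ cj s Q) :
    x * d = d * x := by
  obtain ⟨q, hq, r, hr, rfl⟩ := h.exists_mul hx
  have h1 : q * d = d * q := h.comm hq hd.1
  have h2 : r * d = d * r := h.comm' hr hd.2
  rw [mul_assoc, h2, ← mul_assoc, h1, mul_assoc]

/-- The action of an element of `B \ Q` on `Q \ D`. -/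
theorem act (h : Hyp0 T Q s) {a b x q : G} (ha : a ∈ Q) (ha1 : a ∉ Q ⊓ cj s Q) (hb : b ∈ cj s Q)
    (hb1 : b ∉ Q ⊓ cj s Q) (hx : x ∈ Q ⊔ cj s Q) (hxQ : x ∉ Q) (hq : q ∈ Q) (hqD : q ∉ Q ⊓ cj s Q) :
    x * q * x⁻¹ = q * (a * b * a * b) := by
  obtain ⟨y, hy, r, hr, hr1, rfl⟩ := h.exists_mul' hx hxQ
  have h1 := h.z_eq ha ha1 hb hb1 hq hqD hr hr1
  have hrr := h.sq' hr
  have er : r⁻¹ = r := inv_eq_of_mul_eq_one_left hrr
  have ey : y⁻¹ = y := h.inv_eq hy
  have hz := h.z_mem ha hb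
  have hqq := h.sq q hq
  have h2 : r * q * r = q * (a * b * a * b) := by
    rw [← h1]
    calc r * q * r = (q * q) * r * q * r := by rw [hqq, one_mul]
      _ = q * (q * r * q * r) := by group
  have h3 : y * (q * (a * b * a * b)) = q * (a * b * a * b) * y :=
    h.comm hy (mul_mem hq hz.1)
  rw [mul_inv_rev, er, ey]
  calc y * r * q * (r * y) = y * (r * q * r) * y := by group
    _ = q * (a * b * a * b) * (y * y) := by rw [h2, h3]; group
    _ = q * (a * b * a * b) := by rw [h.sq y hy, mul_one]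

theorem act_D (h : Hyp0 T Q s) {x q : G} (hx : x ∈ Q ⊔ cj s Q) (hq : q ∈ Q ⊓ cj s Q) :
    x * q * x⁻¹ = q := by rw [h.D_comm hx hq, mul_inv_cancel_right]

/-- Elements of `B` commuting with an element of `Q \ D` lie in `Q`. -/
theorem mem_Q_of_comm (h : Hyp0 T Q s) {x q : G} (hx : x ∈ Q ⊔ cj s Q) (hq : q ∈ Q)
    (hqD : q ∉ Q ⊓ cj s Q) (hc : x * q = q * x) : x ∈ Q :=
  h.cent_of (h.BT hx) hq hqD (fun _ hd => h.D_comm hx hd) hc

theorem isPGroup_Q (h : Hyp0 T Q s) : IsPGroup 2 Q := h.two.to_le h.QT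

/-- The elementary abelian subgroups of `B` lie in `Q` or in `Q ^ s`. -/
theorem le_or_le (h : Hyp0 T Q s) {A : Subgroup G} (hAB : A ≤ Q ⊔ cj s Q)
    (hA2 : ∀ a ∈ A, a * a = 1) : A ≤ Q ∨ A ≤ cj s Q := by
  by_cases hAQ : A ≤ Q
  · exact Or.inl hAQ
  · right
    obtain ⟨x, hxA, hxQ⟩ := SetLike.not_le_iff_exists.1 hAQ
    have hD : ∀ y ∈ A, y ∈ Q → y ∈ cj s Q := by
      intro y hyA hyQ
      by_contra hyn
      exact hxQ (h.mem_Q_of_comm (hAB hxA) hyQ (fun hh => hyn hh.2) (comm_of_sq hA2 hxA hyA))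
    intro y hyA
    by_cases hyQ : y ∈ Q
    · exact hD y hyA hyQ
    · obtain ⟨q, hq, r, hr, hr1, rfl⟩ := h.exists_mul' (hAB hyA) hyQ
      have h1 := hA2 _ hyA
      have h2 : q ∈ Q ⊓ cj s Q := by
        by_contra hqn
        apply h.ncomm hq hqn hr hr1
        have e1 : r⁻¹ = r := inv_eq_of_mul_eq_one_left (h.sq' hr)
        have e2 : q⁻¹ = q := h.inv_eq hq
        have h3 : q * r = (q * r)⁻¹ := eq_inv_of_mul_eq_one_left h1
        rw [mul_inv_rev, e1, e2] at h3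
        exact h3.symm
      exact mul_mem h2.2 hr

end Hyp0

namespace Hyp

variable {T Q : Subgroup G} {s : G}

/-- The elementary abelian subgroups of `T` of order `≥ |Q|`. -/
theorem eq_or_eq [Finite G] (h : Hyp T Q s) {A : Subgroup G} (hA : A ≤ T) (hA2 : ∀ a ∈ A, a * a = 1)
    (hc : Nat.card Q ≤ Nat.card A) : A = Q ∨ A = cj s Q := by
  rcases h.le_or_le (h.jt A hA hA2 hc) hA2 with h1 | h1
  · exact Or.inl (eq_of_le_of_card_ge h1 hc)
  · exact Or.inr (eq_of_le_of_card_ge h1 (by rw [card_cj]; exact hc))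

/-- Conjugates of `Q` in `T`. -/
theorem cj_Q [Finite G] (h : Hyp T Q s) {g : G} (hg : cj g Q ≤ T) : cj g Q = Q ∨ cj g Q = cj s Q := by
  refine h.eq_or_eq hg ?_ (card_cj g Q).ge
  intro a ha
  rw [mem_cj] at ha
  have := h.sq _ ha
  calc a * a = g * ((g⁻¹ * a * g) * (g⁻¹ * a * g)) * g⁻¹ := by group
    _ = 1 := by rw [this]; group

theorem cj_Q' [Finite G] (h : Hyp T Q s) {g : G} (hg : cj g (cj s Q) ≤ T) :
    cj g (cj s Q) = Q ∨ cj g (cj s Q) = cj s Q := by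
  rw [cj_cj] at hg ⊢
  exact h.cj_Q hg

theorem ne (h : Hyp T Q s) : Q ≠ cj s Q := by
  intro he
  obtain ⟨a, ha, ha'⟩ := h.exists_a
  exact ha' ⟨ha, he ▸ ha⟩

theorem cj_sup (g : G) (H K : Subgroup G) : cj g (H ⊔ K) = cj g H ⊔ cj g K := Subgroup.map_sup _ _ _

/-- `B` is weakly closed in `T`. -/
theorem cj_B [Finite G] (h : Hyp T Q s) {g : G} (hg : cj g (Q ⊔ cj s Q) ≤ T) :
    cj g (Q ⊔ cj s Q) = Q ⊔ cj s Q := by
  rw [cj_sup] at hg
  have h1 := h.cj_Q (le_sup_left.trans hg)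
  have h2 := h.cj_Q' (le_sup_right.trans hg)
  have h3 : cj g (Q ⊔ cj s Q) ≤ Q ⊔ cj s Q := by
    rw [cj_sup]
    refine sup_le ?_ ?_
    · rcases h1 with h1 | h1
      · rw [h1]; exact le_sup_left
      · rw [h1]; exact le_sup_right
    · rcases h2 with h2 | h2
      · rw [h2]; exact le_sup_left
      · rw [h2]; exact le_sup_right
  exact eq_of_le_of_card_ge h3 (card_cj g _).ge

/-- A conjugate of `B` lying with `B` in a 2-subgroup of `N_G(Q)` is equal to `B`. -/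
theorem weak [Finite G] (h : Hyp T Q s) {P : Subgroup G} (hP : IsPGroup 2 P)
    (hPN : P ≤ normalizer (Q : Set G)) (hB : Q ⊔ cj s Q ≤ P) {g : G} (hg : cj g (Q ⊔ cj s Q) ≤ P) :
    cj g (Q ⊔ cj s Q) = Q ⊔ cj s Q := by
  obtain ⟨S, hS, hPS⟩ := exists_syl hP hPN
  obtain ⟨x, -, hx⟩ := syl_conj hS h.syl
  have h1 : cj x (Q ⊔ cj s Q) ≤ T := (cj_mono x (hB.trans hPS)).trans hx.le
  have h2 : cj x (cj g (Q ⊔ cj s Q)) ≤ T := (cj_mono x (hg.trans hPS)).trans hx.le
  have h3 := h.cj_B h1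
  rw [cj_cj] at h2
  have h4 := h.cj_B h2
  rw [← cj_cj] at h4
  have h5 := congrArg (cj x⁻¹) (h4.trans h3.symm)
  rwa [cj_inv_cj, cj_inv_cj] at h5

/-- If `g ∈ N_G(Q)` normalises `B`, it normalises `Q ^ s` and `D`. -/
theorem cj_Q'_eq [Finite G] (h : Hyp T Q s) {g : G} (hg : g ∈ normalizer (Q : Set G))
    (hB : cj g (Q ⊔ cj s Q) = Q ⊔ cj s Q) : cj g (cj s Q) = cj s Q := by
  have h1 : cj g (cj s Q) ≤ T := (cj_mono g le_sup_right).trans (hB.le.trans h.BT)
  rcases h.cj_Q' h1 with h2 | h2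
  · exfalso
    apply h.ne
    have h3 := cj_eq_of_mem_normalizer (inv_mem hg)
    have h4 := congrArg (cj g⁻¹) h2
    rw [cj_inv_cj, h3] at h4
    exact h4.symm
  · exact h2

/-- `C_{N_G(Q)}(Q) ≤ Q`. -/
theorem centQ [Finite G] (hc : IsCharacteristicTwoType G) (h : Hyp T Q s) {x : G}
    (hx : ∀ q ∈ Q, x * q = q * x) : x ∈ Q := by
  have hp : Fact (Nat.Prime 2) := ⟨Nat.prime_two⟩
  obtain ⟨a, ha, ha'⟩ := h.exists_a
  have hQ1 : Q ≠ ⊥ := by
    intro h0
    rw [h0, mem_bot] at ha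
    rw [ha] at ha'
    exact ha' (one_mem _)
  have hloc : IsTwoLocal (normalizer (Q : Set G)) := ⟨Q, h.isPGroup_Q, hQ1, rfl⟩
  set N := normalizer (Q : Set G) with hN
  set W := o2 N with hW
  have hWT : W ≤ T := o2_le_syl h.syl
  have hQW : Q ≤ W := le_o2 h.isPGroup_Q le_normalizer le_rfl
  have hself := self_cent hc hloc
  -- `C` is a 2-group
  have hC2 : IsPGroup 2 (centralizer (Q : Set G)) := by
    intro ⟨y, hy⟩
    obtain ⟨k, m, hm, hkm⟩ := Nat.exists_eq_two_pow_mul_odd (orderOf_pos y).ne'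
    set w := y ^ 2 ^ k with hw
    have hwo : orderOf w = m := by
      rw [hw, orderOf_pow' y (pow_ne_zero k two_ne_zero), hkm,
        Nat.gcd_eq_right (Dvd.intro m rfl), Nat.mul_div_cancel_left m (pow_pos two_pos k)]
    have hwC : w ∈ centralizer (Q : Set G) := pow_mem hy _
    have hwN : zpowers w ≤ N := (zpowers_le.2 (centralizer_le_normalizer _ hwC))
    have hWnil : Group.IsNilpotent W := (h.two.to_le hWT).isNilpotent
    have h1 : zpowers w ≤ centralizer (W : Set G) := by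
      refine S1442.result W (zpowers w) hWnil (hwN.trans (le_normalizer_o2 N)) ?_ ?_
      · rw [Nat.card_zpowers, hwo]
        obtain ⟨j, hj⟩ := IsPGroup.iff_card.1 (h.two.to_le hWT)
        rw [hj]
        exact Nat.Coprime.pow_right j (Nat.coprime_two_right.2 hm)
      · have hsub : Q ≤ W ⊓ centralizer (zpowers w : Set G) := by
          refine le_inf hQW ?_
          intro q hq
          rw [mem_centralizer_iff]
          intro v hv
          obtain ⟨n, rfl⟩ := mem_zpowers_iff.1 hv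
          have : Commute w q := (mem_centralizer_iff.1 hwC q hq).symm
          exact (this.zpow_left n).eq
        rintro v ⟨hvW, hvC⟩
        have hvQ : v ∈ Q := by
          refine h.cent v (hWT hvW) fun q hq => ?_
          exact (mem_centralizer_iff.1 hvC q (hsub hq)).symm
        exact hsub hvQ
    have h2 : w ∈ W := hself ⟨hwN (mem_zpowers w), h1 (mem_zpowers w)⟩
    obtain ⟨j, hj⟩ := (h.two.to_le hWT) ⟨w, h2⟩
    have hj' : w ^ 2 ^ j = 1 := congrArg Subtype.val hj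
    refine ⟨k + j, Subtype.ext ?_⟩
    rw [Subgroup.coe_pow, Subgroup.coe_one]
    change y ^ 2 ^ (k + j) = 1
    rw [pow_add, pow_mul, ← hw, hj']
  have hxC : x ∈ centralizer (Q : Set G) := mem_centralizer_iff.2 fun q hq => (hx q hq).symm
  have hCW : centralizer (Q : Set G) ≤ W := by
    refine le_o2 hC2 (centralizer_le_normalizer _) ?_
    intro g hg
    rw [mem_normalizer_iff_cj, cj_centralizer, cj_eq_of_mem_normalizer hg]
  exact h.cent x (hWT (hCW hxC)) hx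

end Hyp

end Cfsg.Agent.Omega.SQ1.Two
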